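import Groth.Prelude.Def_CAlg
import Mathlib.RingTheory.Nakayama
import Mathlib.RingTheory.Noetherian.Basic

set_option autoImplicit false
universe u v

namespace Groth.Agent.H34

open LocCoh RingTheory.Sequence
open scoped Pointwise

variable {R : Type u} [CommRing R]

lemma idealDepth_of_smul_top_eq_top (I : Ideal R) (M : Type v) [AddCommGroup M] [Module R M]
    (h : I • (⊤ : Submodule R M) = ⊤) : idealDepth I M = ⊤ := by
  classical
  unfold idealDepth
  rw [if_pos h]

lemma le_idealDepth_of_isWeaklyRegular (I : Ideal R) (M : Type v) [AddCommGroup M] [Module R M]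
    (rs : List R) (h1 : IsWeaklyRegular M rs) (h2 : ∀ r ∈ rs, r ∈ I) :
    (rs.length : ℕ∞) ≤ idealDepth I M := by
  classical
  unfold idealDepth
  split_ifs with h
  · exact le_top
  · exact le_iSup₂_of_le rs ⟨h1, h2⟩ le_rfl

lemma one_le_idealDepth_of_regular (I : Ideal R) (M : Type v) [AddCommGroup M] [Module R M]
    (r : R) (hr : r ∈ I) (hreg : IsSMulRegular M r) : 1 ≤ idealDepth I M := by
  have := le_idealDepth_of_isWeaklyRegular I M [r]
    ((isWeaklyRegular_singleton_iff M r).mpr hreg) (by simpa using hr)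
  simpa using this

lemma two_le_idealDepth_of_regular (I : Ideal R) (M : Type v) [AddCommGroup M] [Module R M]
    (r₁ r₂ : R) (hr₁ : r₁ ∈ I) (hr₂ : r₂ ∈ I) (h1 : IsSMulRegular M r₁)
    (h2 : IsSMulRegular (QuotSMulTop r₁ M) r₂) : 2 ≤ idealDepth I M := by
  have hw : IsWeaklyRegular M [r₁, r₂] := by
    rw [isWeaklyRegular_cons_iff]
    exact ⟨h1, (isWeaklyRegular_singleton_iff _ r₂).mpr h2⟩
  have := le_idealDepth_of_isWeaklyRegular I M [r₁, r₂] hw (by
    intro r hr
    simp only [List.mem_cons, List.not_mem_nil, or_false] at hr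
    rcases hr with rfl | rfl
    · exact hr₁
    · exact hr₂)
  simpa using this

lemma exists_isWeaklyRegular_of_le_idealDepth (I : Ideal R) (M : Type v) [AddCommGroup M]
    [Module R M] (hne : I • (⊤ : Submodule R M) ≠ ⊤) (n : ℕ) (hn : (n : ℕ∞) ≤ idealDepth I M) :
    ∃ rs : List R, IsWeaklyRegular M rs ∧ (∀ r ∈ rs, r ∈ I) ∧ n ≤ rs.length := by
  classical
  unfold idealDepth at hn
  rw [if_neg hne] at hn
  by_contra hcon
  push Not at hcon
  have hle : (⨆ (rs : List R) (_ : IsWeaklyRegular M rs ∧ ∀ r ∈ rs, r ∈ I), (rs.length : ℕ∞)) ≤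
      ((n - 1 : ℕ) : ℕ∞) := by
    refine iSup₂_le fun rs hrs => ?_
    have := hcon rs hrs.1 hrs.2
    exact_mod_cast Nat.le_sub_one_of_lt this
  have hn0 : n ≠ 0 := by
    rintro rfl
    exact absurd (hcon [] (IsWeaklyRegular.nil R M) (by simp)) (by simp)
  have h3 : (n : ℕ∞) ≤ ((n - 1 : ℕ) : ℕ∞) := hn.trans hle
  have h4 : n ≤ n - 1 := by exact_mod_cast h3
  omega

lemma exists_regular_of_one_le_idealDepth (I : Ideal R) (M : Type v) [AddCommGroup M]
    [Module R M] (hne : I • (⊤ : Submodule R M) ≠ ⊤) (h : 1 ≤ idealDepth I M) :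
    ∃ r ∈ I, IsSMulRegular M r := by
  obtain ⟨rs, hw, hI, hlen⟩ := exists_isWeaklyRegular_of_le_idealDepth I M hne 1 (by simpa using h)
  match rs, hw, hI, hlen with
  | [], _, _, hlen => simp at hlen
  | r :: rs, hw, hI, _ =>
    rw [isWeaklyRegular_cons_iff] at hw
    exact ⟨r, hI r (by simp), hw.1⟩

lemma exists_regular_of_two_le_idealDepth (I : Ideal R) (M : Type v) [AddCommGroup M]
    [Module R M] (hne : I • (⊤ : Submodule R M) ≠ ⊤) (h : 2 ≤ idealDepth I M) :
    ∃ r₁ ∈ I, ∃ r₂ ∈ I, IsSMulRegular M r₁ ∧ IsSMulRegular (QuotSMulTop r₁ M) r₂ := by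
  obtain ⟨rs, hw, hI, hlen⟩ := exists_isWeaklyRegular_of_le_idealDepth I M hne 2 (by simpa using h)
  match rs, hw, hI, hlen with
  | [], _, _, hlen => simp at hlen
  | [_], _, _, hlen => simp at hlen
  | r₁ :: r₂ :: rs, hw, hI, _ =>
    rw [isWeaklyRegular_cons_iff, isWeaklyRegular_cons_iff] at hw
    exact ⟨r₁, hI r₁ (by simp), r₂, hI r₂ (by simp), hw.1, hw.2.1⟩

section Hom

variable (M : Type*) (N : Type*) [AddCommGroup M] [Module R M] [AddCommGroup N] [Module R N]

lemma isSMulRegular_linearMap (x : R) (hx : IsSMulRegular N x) :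
    IsSMulRegular (M →ₗ[R] N) x := by
  rw [isSMulRegular_iff_right_eq_zero_of_smul]
  intro φ hφ
  ext m
  have := LinearMap.congr_fun hφ m
  simp only [LinearMap.smul_apply, LinearMap.zero_apply] at this
  exact hx.right_eq_zero_of_smul this

lemma mem_smul_top_iff (x : R) (n : N) :
    n ∈ x • (⊤ : Submodule R N) ↔ ∃ n', x • n' = n := by
  rw [Submodule.mem_smul_pointwise_iff_exists]
  simp

lemma isSMulRegular_quotSMulTop_linearMap (x y : R) (hx : IsSMulRegular N x)
    (hy : IsSMulRegular (QuotSMulTop x N) y) :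
    IsSMulRegular (QuotSMulTop x (M →ₗ[R] N)) y := by
  rw [isSMulRegular_iff_right_eq_zero_of_smul]
  intro a ha
  obtain ⟨φ, rfl⟩ := Submodule.Quotient.mk_surjective _ a
  rw [← Submodule.Quotient.mk_smul, Submodule.Quotient.mk_eq_zero, mem_smul_top_iff] at ha
  obtain ⟨ψ, hψ⟩ := ha
  have hmem : ∀ m : M, ∃ n : N, x • n = φ m := by
    intro m
    have h1 : y • (Submodule.Quotient.mk (φ m) : QuotSMulTop x N) = 0 := by
      rw [← Submodule.Quotient.mk_smul, Submodule.Quotient.mk_eq_zero, mem_smul_top_iff]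
      refine ⟨ψ m, ?_⟩
      have := LinearMap.congr_fun hψ m
      simpa using this
    have h2 := hy.right_eq_zero_of_smul h1
    rw [Submodule.Quotient.mk_eq_zero, mem_smul_top_iff] at h2
    exact h2
  choose θ hθ using hmem
  let Θ : M →ₗ[R] N :=
    { toFun := θ
      map_add' := by
        intro a b
        apply hx
        simp only [smul_add, hθ, map_add]
      map_smul' := by
        intro c a
        apply hx
        simp only [RingHom.id_apply]
        rw [smul_comm, hθ, hθ, map_smul] }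
  rw [Submodule.Quotient.mk_eq_zero, mem_smul_top_iff]
  refine ⟨Θ, ?_⟩
  ext m
  exact hθ m

end Hom

end Groth.Agent.H34
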