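import Groth.Agent.H34.Depth
import Mathlib.RingTheory.Support
import Mathlib.RingTheory.KrullDimension.Module
import Mathlib.RingTheory.KrullDimension.Field
import Mathlib.RingTheory.Localization.AtPrime.Basic
import Mathlib.RingTheory.Ideal.AssociatedPrime.Basic
import Mathlib.Algebra.Module.Torsion.Free

set_option autoImplicit false
universe u v

namespace Groth.Agent.H34

open LocCoh RingTheory.Sequence
open scoped Pointwise

section Local

variable {S : Type u} [CommRing S] [IsLocalRing S] {N : Type v} [AddCommGroup N] [Module S N]

/-- Nakayama: for a nontrivial finite module over a local ring, `𝔪 N ≠ N`. -/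
lemma maximalIdeal_smul_top_ne_top [Module.Finite S N] [Nontrivial N] :
    IsLocalRing.maximalIdeal S • (⊤ : Submodule S N) ≠ ⊤ := by
  intro h
  have hbot : (⊤ : Submodule S N) = ⊥ :=
    Submodule.eq_bot_of_le_smul_of_le_jacobson_bot (IsLocalRing.maximalIdeal S) ⊤
      Module.Finite.fg_top h.ge (IsLocalRing.maximalIdeal_le_jacobson _)
  exact top_ne_bot hbot

/-- If a nonzero element of a finite module over a local ring is killed by the maximal ideal,
then the depth is zero (i.e. not `≥ 1`). -/
lemma not_one_le_depth_of_killed [Module.Finite S N] (y : N) (hy : y ≠ 0)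
    (hkill : ∀ a ∈ IsLocalRing.maximalIdeal S, a • y = 0) : ¬ 1 ≤ depth S N := by
  intro h
  have : Nontrivial N := ⟨⟨y, 0, hy⟩⟩
  obtain ⟨a, ha, hreg⟩ := exists_regular_of_one_le_idealDepth _ N
    (maximalIdeal_smul_top_ne_top (S := S) (N := N)) h
  exact hy (hreg.right_eq_zero_of_smul (hkill a ha))

end Local

section Congr

variable {R : Type u} [CommRing R] {M N : Type*} [AddCommGroup M] [Module R M]
  [AddCommGroup N] [Module R N]

lemma smul_top_eq_top_congr (e : M ≃ₗ[R] N) (I : Ideal R) :
    I • (⊤ : Submodule R M) = ⊤ ↔ I • (⊤ : Submodule R N) = ⊤ := by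
  constructor
  · intro h
    have := congrArg (Submodule.map e.toLinearMap) h
    rwa [Submodule.map_smul'', Submodule.map_top, LinearMap.range_eq_top.mpr e.surjective] at this
  · intro h
    have := congrArg (Submodule.map e.symm.toLinearMap) h
    rwa [Submodule.map_smul'', Submodule.map_top,
      LinearMap.range_eq_top.mpr e.symm.surjective] at this

lemma idealDepth_congr (e : M ≃ₗ[R] N) (I : Ideal R) : idealDepth I M = idealDepth I N := by
  classical
  unfold idealDepth
  simp only [smul_top_eq_top_congr e I, e.isWeaklyRegular_congr]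

end Congr

end Groth.Agent.H34
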