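import Mathlib.Algebra.Module.FinitePresentation
import Mathlib.RingTheory.LocalProperties.Exactness
import Mathlib.LinearAlgebra.Dual.Lemmas
import Mathlib.RingTheory.Localization.AtPrime.Basic

set_option autoImplicit false
universe u v

namespace Groth.Agent.H34

section DualLoc

variable {R : Type*} [CommRing R] (S : Submonoid R) (A : Type*) [CommRing A] [Algebra R A]
  [IsLocalization S A]
variable {M M' : Type*} [AddCommGroup M] [Module R M] [AddCommGroup M'] [Module R M'] [Module A M']
  [IsScalarTower R A M'] (f : M →ₗ[R] M') [IsLocalizedModule S f]

/-- The localization map on duals `M^∨ → (S⁻¹M)^∨`. -/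
noncomputable def dualLoc : Module.Dual R M →ₗ[R] Module.Dual A M' :=
  IsLocalizedModule.mapExtendScalars S f (Algebra.linearMap R A) A

instance dualLoc_isLocalizedModule [Module.FinitePresentation R M] :
    IsLocalizedModule S (dualLoc S A f) :=
  Module.FinitePresentation.isLocalizedModule_mapExtendScalars S f (Algebra.linearMap R A) A

lemma dualLoc_apply (φ : Module.Dual R M) (m : M) :
    dualLoc S A f φ (f m) = algebraMap R A (φ m) := by
  simp [dualLoc]

/-- The evaluation maps commute with localization. -/
lemma dualLoc_dualLoc_eval [Module.FinitePresentation R M] (m : M) :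
    dualLoc S A (dualLoc S A f) (Module.Dual.eval R M m) = Module.Dual.eval A M' (f m) := by
  apply LinearMap.restrictScalars_injective R
  apply IsLocalizedModule.linearMap_ext S (dualLoc S A f) (Algebra.linearMap R A)
  ext φ
  simp only [LinearMap.coe_comp, LinearMap.coe_restrictScalars, Function.comp_apply]
  rw [dualLoc_apply, Module.Dual.eval_apply, Module.Dual.eval_apply, dualLoc_apply]

/-- `Dual.eval` of the localization is the localization of `Dual.eval`. -/
lemma eval_eq_map [Module.FinitePresentation R M] [Module.FinitePresentation R (Module.Dual R M)] :
    (Module.Dual.eval A M').restrictScalars R =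
      IsLocalizedModule.map S f (dualLoc S A (dualLoc S A f)) (Module.Dual.eval R M) := by
  apply IsLocalizedModule.linearMap_ext S f (dualLoc S A (dualLoc S A f))
  rw [IsLocalizedModule.map_comp]
  ext m : 1
  simp only [LinearMap.coe_comp, LinearMap.coe_restrictScalars, Function.comp_apply]
  rw [dualLoc_dualLoc_eval]

include S f in
/-- Reflexivity passes to localizations (for finitely presented modules with finitely presented
dual). -/
lemma isReflexive_of_isLocalizedModule [Module.FinitePresentation R M]
    [Module.FinitePresentation R (Module.Dual R M)] [Module.IsReflexive R M] :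
    Module.IsReflexive A M' := by
  constructor
  have h := eval_eq_map S A f
  have hb : Function.Bijective (Module.Dual.eval R M) := Module.bijective_dual_eval R M
  have h1 : Function.Bijective
      (IsLocalizedModule.map S f (dualLoc S A (dualLoc S A f)) (Module.Dual.eval R M)) :=
    ⟨IsLocalizedModule.map_injective S f _ _ hb.1, IsLocalizedModule.map_surjective S f _ _ hb.2⟩
  rw [← h] at h1
  exact h1

end DualLoc

section Maximal

variable (R : Type u) [CommRing R] [IsNoetherianRing R] (M : Type v) [AddCommGroup M] [Module R M]
  [Module.Finite R M]

lemma isReflexive_localization_atPrime [Module.IsReflexive R M] (p : Ideal R) [p.IsPrime] :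
    Module.IsReflexive (Localization.AtPrime p) (LocalizedModule p.primeCompl M) := by
  have : Module.FinitePresentation R M := Module.finitePresentation_of_finite R M
  have : Module.FinitePresentation R (Module.Dual R M) := Module.finitePresentation_of_finite R _
  exact isReflexive_of_isLocalizedModule p.primeCompl (Localization.AtPrime p)
    (LocalizedModule.mkLinearMap p.primeCompl M)

lemma isReflexive_of_localized_maximal
    (H : ∀ (m : Ideal R) [m.IsMaximal],
      Module.IsReflexive (Localization.AtPrime m) (LocalizedModule m.primeCompl M)) :
    Module.IsReflexive R M := by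
  have : Module.FinitePresentation R M := Module.finitePresentation_of_finite R M
  have : Module.FinitePresentation R (Module.Dual R M) := Module.finitePresentation_of_finite R _
  constructor
  refine bijective_of_isLocalized_maximal
    (fun P _ => LocalizedModule P.primeCompl M)
    (fun P _ => LocalizedModule.mkLinearMap P.primeCompl M)
    (fun P _ => Module.Dual (Localization.AtPrime P)
      (Module.Dual (Localization.AtPrime P) (LocalizedModule P.primeCompl M)))
    (fun P _ => dualLoc P.primeCompl (Localization.AtPrime P)
      (dualLoc P.primeCompl (Localization.AtPrime P) (LocalizedModule.mkLinearMap P.primeCompl M)))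
    (Module.Dual.eval R M) ?_
  intro P hP
  rw [← eval_eq_map]
  exact (H P).bijective_dual_eval'

end Maximal

end Groth.Agent.H34
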