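import Groth.Agent.H34.Sk
import Groth.Agent.H34.HomLoc
import Mathlib.RingTheory.Localization.Module
import Mathlib.RingTheory.Localization.Finiteness

set_option autoImplicit false
set_option linter.unusedSectionVars false
universe u v

namespace Groth.Agent.H34

open LocCoh RingTheory.Sequence
open scoped Pointwise

section LocalHom

variable {A : Type u} [CommRing A] [IsLocalRing A] [IsNoetherianRing A]
  (M N : Type*) [AddCommGroup M] [Module A M] [Module.Finite A M]
  [AddCommGroup N] [Module A N] [Module.Finite A N]

lemma one_le_depth_hom (h : 1 ≤ depth A N) : 1 ≤ depth A (M →ₗ[A] N) := by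
  by_cases hN : Subsingleton N
  · have : Subsingleton (M →ₗ[A] N) := ⟨fun a b => LinearMap.ext fun x => Subsingleton.elim _ _⟩
    unfold depth
    rw [idealDepth_of_smul_top_eq_top _ _ (Subsingleton.elim _ _)]
    exact le_top
  rw [not_subsingleton_iff_nontrivial] at hN
  obtain ⟨a, ha, hreg⟩ := exists_regular_of_one_le_idealDepth _ N
    (maximalIdeal_smul_top_ne_top (S := A) (N := N)) h
  exact one_le_idealDepth_of_regular _ _ a ha (isSMulRegular_linearMap M N a hreg)

lemma two_le_depth_hom (h : 2 ≤ depth A N) : 2 ≤ depth A (M →ₗ[A] N) := by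
  by_cases hN : Subsingleton N
  · have : Subsingleton (M →ₗ[A] N) := ⟨fun a b => LinearMap.ext fun x => Subsingleton.elim _ _⟩
    unfold depth
    rw [idealDepth_of_smul_top_eq_top _ _ (Subsingleton.elim _ _)]
    exact le_top
  rw [not_subsingleton_iff_nontrivial] at hN
  obtain ⟨a, ha, b, hb, hreg, hreg2⟩ := exists_regular_of_two_le_idealDepth _ N
    (maximalIdeal_smul_top_ne_top (S := A) (N := N)) h
  exact two_le_idealDepth_of_regular _ _ a b ha hb (isSMulRegular_linearMap M N a hreg)
    (isSMulRegular_quotSMulTop_linearMap M N a b hreg hreg2)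

lemma min_two_depth_le_depth_hom : min 2 (depth A N) ≤ depth A (M →ₗ[A] N) := by
  by_cases h2 : 2 ≤ depth A N
  · rw [min_eq_left h2]
    exact two_le_depth_hom M N h2
  · by_cases h1 : 1 ≤ depth A N
    · refine (min_le_right _ _).trans ?_
      have hd : depth A N = 1 := by
        apply le_antisymm _ h1
        rw [not_le] at h2
        exact Order.le_of_lt_add_one (by simpa [one_add_one_eq_two] using h2)
      rw [hd]
      exact one_le_depth_hom M N h1
    · have hd : depth A N = 0 := by
        rw [not_le] at h1
        exact Order.lt_one_iff.mp h1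
      rw [hd]
      simp

lemma supportDim_hom_le : Module.supportDim A (M →ₗ[A] N) ≤ Module.supportDim A N := by
  have : IsNoetherian A N := isNoetherian_of_isNoetherianRing_of_finite A N
  have : Module.Finite A (M →ₗ[A] N) := inferInstance
  have hsub : Module.support A (M →ₗ[A] N) ⊆ Module.support A N := by
    intro p hp
    rw [Module.support_eq_zeroLocus] at hp ⊢
    refine PrimeSpectrum.zeroLocus_anti_mono ?_ hp
    intro a ha
    rw [SetLike.mem_coe, Module.mem_annihilator] at ha ⊢
    intro φ
    ext m
    simp [ha (φ m)]
  unfold Module.supportDim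
  exact Order.krullDim_le_of_strictMono (fun p => (⟨p.1, hsub p.2⟩ : Module.support A N))
    (fun a b h => h)

end LocalHom

section Global

variable {R : Type u} [CommRing R]

lemma hasSk_congr {M N : Type*} [AddCommGroup M] [Module R M] [AddCommGroup N] [Module R N]
    (e : M ≃ₗ[R] N) (k : ℕ) (h : HasSk k R M) : HasSk k R N := by
  intro p hp
  let e' : LocalizedModule p.primeCompl M ≃ₗ[Localization.AtPrime p]
      LocalizedModule p.primeCompl N :=
    IsLocalizedModule.mapEquiv p.primeCompl (LocalizedModule.mkLinearMap p.primeCompl M)
      (LocalizedModule.mkLinearMap p.primeCompl N) (Localization.AtPrime p) e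
  have h1 := h p
  rw [Module.supportDim_eq_of_equiv e'] at h1
  unfold depth at h1 ⊢
  rw [idealDepth_congr e'] at h1
  exact h1

lemma hasSk_hom [IsNoetherianRing R] (M N : Type*) [AddCommGroup M] [Module R M]
    [Module.Finite R M] [AddCommGroup N] [Module R N] [Module.Finite R N] (k : ℕ) (hk : k ≤ 2)
    (h : HasSk k R N) : HasSk k R (M →ₗ[R] N) := by
  intro p hp
  have : Module.FinitePresentation R M := Module.finitePresentation_of_finite R M
  let e0 := Module.FinitePresentation.linearEquivMapExtendScalars p.primeCompl (M := M) (N := N)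
  let e : LocalizedModule p.primeCompl (M →ₗ[R] N) ≃ₗ[Localization.AtPrime p]
      (LocalizedModule p.primeCompl M →ₗ[Localization.AtPrime p] LocalizedModule p.primeCompl N) :=
    e0.extendScalarsOfIsLocalization p.primeCompl (Localization.AtPrime p)
  rw [Module.supportDim_eq_of_equiv e]
  unfold depth
  rw [idealDepth_congr e]
  have h1 := h p
  have h2 := supportDim_hom_le (A := Localization.AtPrime p) (LocalizedModule p.primeCompl M)
    (LocalizedModule p.primeCompl N)
  have h3 := min_two_depth_le_depth_hom (A := Localization.AtPrime p)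
    (LocalizedModule p.primeCompl M) (LocalizedModule p.primeCompl N)
  have h4 : min (k : WithBot ℕ∞) (Module.supportDim (Localization.AtPrime p)
      (LocalizedModule p.primeCompl M →ₗ[Localization.AtPrime p]
        LocalizedModule p.primeCompl N)) ≤
      ((min 2 (depth (Localization.AtPrime p) (LocalizedModule p.primeCompl N)) : ℕ∞) :
        WithBot ℕ∞) := by
    rw [WithBot.coe_min]
    apply le_min
    · refine (min_le_left _ _).trans ?_
      exact_mod_cast hk
    · exact (min_le_min le_rfl h2).trans h1
  exact h4.trans (WithBot.coe_le_coe.mpr h3)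

end Global

end Groth.Agent.H34
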