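import Mathlib.Algebra.Module.FinitePresentation
import Mathlib.RingTheory.Support
import Mathlib.RingTheory.Ideal.MinimalPrime.Localization
import Mathlib.RingTheory.Localization.AtPrime.Basic
import Mathlib.RingTheory.Finiteness.Ideal
import Mathlib.RingTheory.Localization.Module

set_option autoImplicit false
universe u v

namespace Groth.Agent.H34

section Local

variable (B : Type u) [CommRing B] [IsLocalRing B] (M : Type v) [AddCommGroup M] [Module B M]

/-- A nonzero finite module over a local ring has a presentation by `n+1` generators such that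
the first coordinate of every relation lies in the maximal ideal. -/
lemma exists_surjective_ker_coord_mem [Module.Finite B M] [Nontrivial M] :
    ∃ (n : ℕ) (f : (Fin (n + 1) → B) →ₗ[B] M), Function.Surjective f ∧
      ∀ k ∈ LinearMap.ker f, k 0 ∈ IsLocalRing.maximalIdeal B := by
  classical
  have hex : ∃ n : ℕ, ∃ f : (Fin n → B) →ₗ[B] M, Function.Surjective f :=
    Module.Finite.exists_fin' B M
  obtain ⟨n0, ⟨f, hf⟩, hmin⟩ : ∃ n0, (∃ f : (Fin n0 → B) →ₗ[B] M, Function.Surjective f) ∧
      ∀ m < n0, ¬ ∃ f : (Fin m → B) →ₗ[B] M, Function.Surjective f :=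
    ⟨Nat.find hex, Nat.find_spec hex, fun m hm => Nat.find_min hex hm⟩
  rcases n0 with _ | n
  · exfalso
    obtain ⟨m, hm⟩ := exists_ne (0 : M)
    obtain ⟨v, rfl⟩ := hf m
    apply hm
    rw [Subsingleton.elim v 0, map_zero]
  · refine ⟨n, f, hf, ?_⟩
    intro k hk
    by_contra hunit
    rw [IsLocalRing.mem_maximalIdeal, mem_nonunits_iff, not_not] at hunit
    obtain ⟨u, hu⟩ := hunit
    apply hmin n (Nat.lt_succ_self n)
    -- new surjection
    let f' : (Fin n → B) →ₗ[B] M := Fintype.linearCombination B (fun j : Fin n => f (Pi.single j.succ 1))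
    refine ⟨f', ?_⟩
    intro m
    obtain ⟨v, rfl⟩ := hf m
    let v' : Fin (n + 1) → B := v - (v 0 * ↑u⁻¹) • k
    have hv'0 : v' 0 = 0 := by
      simp only [v', Pi.sub_apply, Pi.smul_apply, smul_eq_mul, ← hu]
      rw [mul_assoc, Units.inv_mul, mul_one, sub_self]
    have hfv' : f v' = f v := by
      simp only [v', map_sub, map_smul, LinearMap.mem_ker.mp hk, smul_zero, sub_zero]
    refine ⟨fun j => v' j.succ, ?_⟩
    rw [← hfv', LinearMap.pi_apply_eq_sum_univ f v', Fin.sum_univ_succ, hv'0, zero_smul, zero_add,
      Fintype.linearCombination_apply]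
    refine Finset.sum_congr rfl fun i _ => ?_
    congr 2
    ext j
    simp [Pi.single_apply, eq_comm]

/-- Key local lemma: over a local ring, a nonzero finitely presented module admits a nonzero map to
any module containing a nonzero element on which every element of the maximal ideal acts
nilpotently. -/
lemma exists_linearMap_ne_zero_of_nilpotent [Module.FinitePresentation B M] [Nontrivial M]
    (N : Type*) [AddCommGroup N] [Module B N] (y : N) (hy : y ≠ 0)
    (hnil : ∀ a ∈ IsLocalRing.maximalIdeal B, ∃ m : ℕ, a ^ m • y = 0) :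
    ∃ φ : M →ₗ[B] N, φ ≠ 0 := by
  classical
  obtain ⟨n, f, hf, hcoord⟩ := exists_surjective_ker_coord_mem B M
  have hfg : (LinearMap.ker f).FG := Module.FinitePresentation.fg_ker f hf
  obtain ⟨G, hG⟩ := hfg
  -- the ideal of first coordinates of the generators of the kernel
  let S : Finset B := G.image (fun g => g 0)
  let J : Ideal B := Ideal.span (S : Set B)
  let Iy : Ideal B := (Submodule.span B {y}).annihilator
  have hJrad : J ≤ Iy.radical := by
    rw [Ideal.span_le]
    intro a ha
    simp only [S, Finset.coe_image, Set.mem_image, Finset.mem_coe] at ha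
    obtain ⟨g, hg, rfl⟩ := ha
    have hgk : g ∈ LinearMap.ker f := by
      rw [← hG]
      exact Submodule.subset_span hg
    obtain ⟨m, hm⟩ := hnil _ (hcoord g hgk)
    refine ⟨m, ?_⟩
    rw [Submodule.mem_annihilator_span_singleton]
    exact hm
  have hJfg : J.FG := ⟨S, rfl⟩
  have hex : ∃ m : ℕ, J ^ m ≤ Iy := Ideal.exists_pow_le_of_le_radical_of_fg hJrad hJfg
  obtain ⟨m0, hm0, hmin⟩ : ∃ m0, J ^ m0 ≤ Iy ∧ ∀ m < m0, ¬ J ^ m ≤ Iy :=
    ⟨Nat.find hex, Nat.find_spec hex, fun m hm => Nat.find_min hex hm⟩
  rcases m0 with _ | m1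
  · exfalso
    apply hy
    have h1 : (1 : B) ∈ Iy := hm0 (by simp)
    rw [Submodule.mem_annihilator_span_singleton] at h1
    simpa using h1
  have hnot := hmin m1 (Nat.lt_succ_self m1)
  rw [SetLike.not_le_iff_exists] at hnot
  obtain ⟨c, hcJ, hcy⟩ := hnot
  rw [Submodule.mem_annihilator_span_singleton] at hcy
  -- z = c • y is killed by J
  have hJz : ∀ j ∈ J, j • c • y = 0 := by
    intro j hj
    have h1 : j * c ∈ J ^ (m1 + 1) := by
      rw [pow_succ']
      exact Ideal.mul_mem_mul hj hcJ
    have h2 := hm0 h1
    rw [Submodule.mem_annihilator_span_singleton] at h2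
    rw [← mul_smul]
    exact h2
  let ψ : (Fin (n + 1) → B) →ₗ[B] N :=
    (LinearMap.toSpanSingleton B N (c • y)).comp (LinearMap.proj 0)
  have hker : LinearMap.ker f ≤ LinearMap.ker ψ := by
    rw [← hG, Submodule.span_le]
    intro g hg
    simp only [SetLike.mem_coe, LinearMap.mem_ker, ψ, LinearMap.comp_apply, LinearMap.proj_apply,
      LinearMap.toSpanSingleton_apply]
    apply hJz
    apply Ideal.subset_span
    simp only [S, Finset.coe_image, Set.mem_image, Finset.mem_coe]
    exact ⟨g, hg, rfl⟩
  let φ : M →ₗ[B] N :=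
    (Submodule.liftQ (LinearMap.ker f) ψ hker).comp
      (LinearMap.quotKerEquivOfSurjective f hf).symm.toLinearMap
  have hφ : ∀ v, φ (f v) = ψ v := by
    intro v
    have h1 : (LinearMap.quotKerEquivOfSurjective f hf).symm (f v) =
        Submodule.Quotient.mk v := by
      rw [LinearEquiv.symm_apply_eq]
      rfl
    simp only [φ, LinearMap.comp_apply, LinearEquiv.coe_coe, h1, Submodule.liftQ_apply]
  refine ⟨φ, ?_⟩
  intro h0
  have h1 := hφ (Pi.single 0 1)
  rw [h0] at h1
  simp only [LinearMap.zero_apply, ψ, LinearMap.comp_apply, LinearMap.proj_apply,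
    Pi.single_eq_same, LinearMap.toSpanSingleton_apply, one_smul] at h1
  exact hcy h1.symm

end Local

section Global

theorem nontrivial_linearMap_of_support_subset (A : Type u) [CommRing A] (M : Type v)
    [AddCommGroup M] [Module A M] [Module.FinitePresentation A M] (N : Type v) [AddCommGroup N]
    [Module A N] [Nontrivial N] (h : Module.support A N ⊆ Module.support A M) :
    Nontrivial (M →ₗ[A] N) := by
  classical
  obtain ⟨x, hx⟩ := exists_ne (0 : N)
  let I : Ideal A := (Submodule.span A {x}).annihilator
  have hmemI : ∀ a : A, a ∈ I ↔ a • x = 0 := fun a => Submodule.mem_annihilator_span_singleton x a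
  have hI : I ≠ ⊤ := by
    intro htop
    apply hx
    have : (1 : A) ∈ I := by rw [htop]; trivial
    simpa using (hmemI 1).mp this
  obtain ⟨⟨p, hp⟩⟩ := Ideal.nonempty_minimalPrimes hI
  have hpp : p.IsPrime := hp.1.1
  have hIp : I ≤ p := hp.1.2
  have hsuppN : (⟨p, hpp⟩ : PrimeSpectrum A) ∈ Module.support A N := by
    rw [Module.mem_support_iff_exists_annihilator]
    exact ⟨x, hIp⟩
  have hsuppM := h hsuppN
  rw [Module.mem_support_iff] at hsuppM
  change Nontrivial (LocalizedModule p.primeCompl M) at hsuppM
  let y : LocalizedModule p.primeCompl N := LocalizedModule.mk x 1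
  have hy : y ≠ 0 := by
    intro h0
    change LocalizedModule.mk x 1 = 0 at h0
    rw [IsLocalizedModule.mk_eq_mk', IsLocalizedModule.mk'_eq_zero'] at h0
    obtain ⟨s, hs⟩ := h0
    exact s.2 (hIp ((hmemI s).mpr hs))
  have hann : I.map (algebraMap A (Localization.AtPrime p)) ≤
      (Submodule.span (Localization.AtPrime p) {y}).annihilator := by
    rw [Ideal.map_le_iff_le_comap]
    intro i hi
    rw [Ideal.mem_comap, Submodule.mem_annihilator_span_singleton, algebraMap_smul]
    simp only [y, LocalizedModule.smul'_mk, (hmemI i).mp hi]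
    exact LocalizedModule.zero_mk _
  have hnil : ∀ a ∈ IsLocalRing.maximalIdeal (Localization.AtPrime p), ∃ m : ℕ, a ^ m • y = 0 := by
    intro a ha
    rw [← Localization.AtPrime.map_eq_maximalIdeal,
      ← IsLocalization.AtPrime.radical_map_of_mem_minimalPrimes (Localization.AtPrime p) p I hp] at ha
    obtain ⟨m, hm⟩ := ha
    refine ⟨m, ?_⟩
    have := hann hm
    rwa [Submodule.mem_annihilator_span_singleton] at this
  obtain ⟨φ, hφ⟩ := exists_linearMap_ne_zero_of_nilpotent (Localization.AtPrime p)
    (LocalizedModule p.primeCompl M) (LocalizedModule p.primeCompl N) y hy hnil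
  by_contra hcon
  rw [not_nontrivial_iff_subsingleton] at hcon
  have hsub : Subsingleton (LocalizedModule p.primeCompl (M →ₗ[A] N)) := by
    refine ⟨fun a b => ?_⟩
    induction a using LocalizedModule.induction_on with
    | h m s =>
      induction b using LocalizedModule.induction_on with
      | h m' s' =>
        rw [Subsingleton.elim m 0, Subsingleton.elim m' 0, LocalizedModule.zero_mk,
          LocalizedModule.zero_mk]
  let e0 := Module.FinitePresentation.linearEquivMapExtendScalars p.primeCompl (M := M) (N := N)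
  apply hφ
  apply e0.symm.injective
  exact Subsingleton.elim _ _

end Global

end Groth.Agent.H34
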