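import Mathlib

set_option autoImplicit false
set_option backward.isDefEq.respectTransparency.types false
set_option maxHeartbeats 4000000
set_option synthInstance.maxHeartbeats 400000
universe u

namespace Groth.Agent.H34.BCh

open AlgebraicGeometry CategoryTheory Scheme.Modules

variable {X Y Z U V W : Scheme.{u}}

/-- the square iso `η_* f_* ≅ φ_* ξ_*` -/
noncomputable def sq (f : X ⟶ Y) (ξ : X ⟶ U) (η : Y ⟶ V) (φ : U ⟶ V) (h₁ : f ≫ η = ξ ≫ φ) :
    pushforward f ⋙ pushforward η ≅ pushforward ξ ⋙ pushforward φ :=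
  pushforwardComp f η ≪≫ pushforwardCongr h₁ ≪≫ (pushforwardComp ξ φ).symm

/-- coherence of the pushforward isomorphisms -/
lemma coh (f : X ⟶ Y) (g : Y ⟶ Z)
    (ξ : X ⟶ U) (η : Y ⟶ V) (ζ : Z ⟶ W) (φ : U ⟶ V) (ψ : V ⟶ W)
    (h₁ : f ≫ η = ξ ≫ φ) (h₂ : g ≫ ζ = η ≫ ψ) (hw : (f ≫ g) ≫ ζ = ξ ≫ (φ ≫ ψ)) (Q : X.Modules) :
    (pushforward ζ).map ((pushforwardComp f g).hom.app Q) ≫ (sq (f ≫ g) ξ ζ (φ ≫ ψ) hw).hom.app Q ≫
      (pushforwardComp φ ψ).inv.app ((pushforward ξ).obj Q) =
    (sq g η ζ ψ h₂).hom.app ((pushforward f).obj Q) ≫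
      (pushforward ψ).map ((sq f ξ η φ h₁).hom.app Q) := by
  ext U
  simp [sq]
  change AddCommGrpCat.Hom.hom (Q.presheaf.map _) _ =
    AddCommGrpCat.Hom.hom (Q.presheaf.map _ ≫ Q.presheaf.map _) _
  rw [← Functor.map_comp]
  congr 3

set_option maxHeartbeats 800000 in
/-- horizontal pasting of base change maps -/
theorem main (f : X ⟶ Y) (g : Y ⟶ Z)
    (ξ : X ⟶ U) (η : Y ⟶ V) (ζ : Z ⟶ W) (φ : U ⟶ V) (ψ : V ⟶ W)
    (h₁ : f ≫ η = ξ ≫ φ) (h₂ : g ≫ ζ = η ≫ ψ) (hw : (f ≫ g) ≫ ζ = ξ ≫ (φ ≫ ψ)) (L : Z.Modules) :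
    (pullbackComp φ ψ).hom.app ((pushforward ζ).obj L) ≫
        (((pullbackPushforwardAdjunction (φ ≫ ψ)).homEquiv ((pushforward ζ).obj L)
            ((pushforward ξ).obj ((pullback (f ≫ g)).obj L))).symm
          ((pushforward ζ).map ((pullbackPushforwardAdjunction (f ≫ g)).unit.app L) ≫
            (sq (f ≫ g) ξ ζ (φ ≫ ψ) hw).hom.app ((pullback (f ≫ g)).obj L))) =
      (pullback φ).map (((pullbackPushforwardAdjunction ψ).homEquiv ((pushforward ζ).obj L)
            ((pushforward η).obj ((pullback g).obj L))).symm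
          ((pushforward ζ).map ((pullbackPushforwardAdjunction g).unit.app L) ≫
            (sq g η ζ ψ h₂).hom.app ((pullback g).obj L))) ≫
        (((pullbackPushforwardAdjunction φ).homEquiv ((pushforward η).obj ((pullback g).obj L))
            ((pushforward ξ).obj ((pullback f).obj ((pullback g).obj L)))).symm
          ((pushforward η).map ((pullbackPushforwardAdjunction f).unit.app ((pullback g).obj L)) ≫
            (sq f ξ η φ h₁).hom.app ((pullback f).obj ((pullback g).obj L)))) ≫
        (pushforward ξ).map ((pullbackComp f g).hom.app L) := by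
  -- notation
  let aφ := pullbackPushforwardAdjunction φ
  let aψ := pullbackPushforwardAdjunction ψ
  let aφψ := pullbackPushforwardAdjunction (φ ≫ ψ)
  let af := pullbackPushforwardAdjunction f
  let ag := pullbackPushforwardAdjunction g
  let afg := pullbackPushforwardAdjunction (f ≫ g)
  let A := aψ.comp aφ
  let B := ag.comp af
  let N := (pushforward ζ).obj L
  let M := (pullback g).obj L
  let P := (pushforward ξ).obj ((pullback (f ≫ g)).obj L)
  let c : (pullback f).obj M ⟶ (pullback (f ≫ g)).obj L := (pullbackComp f g).hom.app L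
  let cR := pushforwardComp φ ψ
  let cL := pullbackComp φ ψ
  let β₀ : N ⟶ (pushforward (φ ≫ ψ)).obj P :=
    (pushforward ζ).map (afg.unit.app L) ≫ (sq (f ≫ g) ξ ζ (φ ≫ ψ) hw).hom.app _
  let β₂ : N ⟶ (pushforward ψ).obj ((pushforward η).obj M) :=
    (pushforward ζ).map (ag.unit.app L) ≫ (sq g η ζ ψ h₂).hom.app M
  let β₁ : (pushforward η).obj M ⟶ (pushforward φ).obj ((pushforward ξ).obj ((pullback f).obj M)) :=
    (pushforward η).map (af.unit.app M) ≫ (sq f ξ η φ h₁).hom.app ((pullback f).obj M)
  -- the two transposes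
  let β₀' : N ⟶ (pushforward ψ).obj ((pushforward φ).obj P) := β₀ ≫ cR.inv.app P
  let rhs' : N ⟶ (pushforward ψ).obj ((pushforward φ).obj P) :=
    β₂ ≫ (pushforward ψ).map (β₁ ≫ (pushforward φ).map ((pushforward ξ).map c))
  -- Step L
  have hL : cL.hom.app N ≫ (aφψ.homEquiv N P).symm β₀ =
      (pullback φ).map ((pullback ψ).map β₀') ≫ A.counit.app P := by
    have hβ : β₀ = β₀' ≫ cR.hom.app P := by
      simp only [β₀', Category.assoc, Iso.inv_hom_id_app, Category.comp_id]
    have hC1 := conjugateEquiv_counit A aφψ cL.inv P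
    rw [conjugateEquiv_pullbackComp_inv] at hC1
    rw [Adjunction.homEquiv_counit, hβ, Functor.map_comp, Category.assoc]
    erw [hC1]
    have hnat := cL.hom.naturality β₀'
    rw [← Category.assoc, ← Category.assoc, ← hnat, Category.assoc, Category.assoc]
    erw [Iso.hom_inv_id_app_assoc]
    rfl
  -- Step R
  have hR : (pullback φ).map ((aψ.homEquiv N ((pushforward η).obj M)).symm β₂) ≫
        ((aφ.homEquiv ((pushforward η).obj M) ((pushforward ξ).obj ((pullback f).obj M))).symm β₁) ≫
        (pushforward ξ).map c =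
      (pullback φ).map ((pullback ψ).map rhs') ≫ A.counit.app P := by
    rw [Adjunction.homEquiv_counit, Adjunction.homEquiv_counit]
    have hAc : A.counit.app P = (pullback φ).map (aψ.counit.app ((pushforward φ).obj P)) ≫
        aφ.counit.app P := Adjunction.comp_counit_app _ _ _
    rw [hAc]
    have n1 := aφ.counit.naturality ((pushforward ξ).map c)
    have n2 := aψ.counit.naturality (β₁ ≫ (pushforward φ).map ((pushforward ξ).map c))
    dsimp at n1 n2
    simp only [rhs', Functor.map_comp, Category.assoc]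
    congr 1
    rw [← n1]
    have e1 : (pullback φ).map ((pullback ψ).map ((pushforward ψ).map β₁)) ≫
        (pullback φ).map ((pullback ψ).map ((pushforward ψ).map
          ((pushforward φ).map ((pushforward ξ).map c)))) ≫
        (pullback φ).map (aψ.counit.app ((pushforward φ).obj P)) =
        (pullback φ).map (aψ.counit.app ((pushforward η).obj M)) ≫ (pullback φ).map β₁ ≫
          (pullback φ).map ((pushforward φ).map ((pushforward ξ).map c)) := by
      rw [← Functor.map_comp, ← Functor.map_comp, ← Functor.map_comp, ← Functor.map_comp]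
      congr 1
      rw [← Category.assoc, ← Functor.map_comp, ← Functor.map_comp]
      exact n2
    have e2 := congrArg (· ≫ aφ.counit.app P) e1
    simp only [Category.assoc] at e2
    exact e2.symm
  -- Step M
  have hM : β₀' = rhs' := by
    let Q := (pullback f).obj M
    have hU : afg.unit.app L = ag.unit.app L ≫ (pushforward g).map (af.unit.app M) ≫
        (pushforwardComp f g).hom.app Q ≫ (pushforward (f ≫ g)).map c := by
      have h := unit_conjugateEquiv B afg (pullbackComp f g).inv L
      rw [conjugateEquiv_pullbackComp_inv] at h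
      have hB : B.unit.app L = ag.unit.app L ≫ (pushforward g).map (af.unit.app M) :=
        Adjunction.comp_unit_app _ _ _
      have h' := congrArg (· ≫ (pushforward (f ≫ g)).map c) h
      simp only [Category.assoc] at h'
      have hc : (pushforward (f ≫ g)).map ((pullbackComp f g).inv.app L) ≫
          (pushforward (f ≫ g)).map c = 𝟙 _ := by
        rw [← Functor.map_comp]
        simp only [c, Iso.inv_hom_id_app, CategoryTheory.Functor.map_id]
      rw [hc] at h'
      have h'' := h'.trans (Category.comp_id _)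
      rw [← h'', hB, Category.assoc]
      rfl
    have nσ := (sq (f ≫ g) ξ ζ (φ ≫ ψ) hw).hom.naturality c
    have ncR := cR.inv.naturality ((pushforward ξ).map c)
    have nσ₂ := (sq g η ζ ψ h₂).hom.naturality (af.unit.app M)
    have hcoh := coh f g ξ η ζ φ ψ h₁ h₂ hw Q
    dsimp at nσ ncR nσ₂
    simp only [β₀', rhs', β₀, β₁, β₂, hU, Functor.map_comp, Category.assoc]
    congr 1
    rw [← reassoc_of% nσ₂]
    congr 1
    rw [reassoc_of% nσ, ncR, reassoc_of% hcoh]
  have hmid : (pullback φ).map ((pullback ψ).map β₀') ≫ A.counit.app P =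
      (pullback φ).map ((pullback ψ).map rhs') ≫ A.counit.app P := by rw [hM]
  exact hL.trans (hmid.trans hR.symm)

end Groth.Agent.H34.BCh
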