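import Mathlib.CategoryTheory.Triangulated.Functor
import Mathlib.CategoryTheory.Triangulated.Triangulated

/-!
# Dévissage for full faithfulness of a triangulated functor

For a triangulated functor `G : C ⥤ D`, we define predicates `Inj G K L`, `Surj G K L`
(injectivity / surjectivity of `G` on `Hom(K, L)`), prove their invariance under
isomorphisms and shifts, the four lemmas along distinguished triangles in each variable,
and the dévissage theorem `fullyFaithful_of_generators`.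
-/

open CategoryTheory Limits Pretriangulated

set_option linter.unusedSectionVars false

namespace Groth.Agent.H34.BijHom

universe v₁ v₂ u₁ u₂

variable {C : Type u₁} {D : Type u₂} [Category.{v₁} C] [Category.{v₂} D]
  [Preadditive C] [HasZeroObject C] [HasShift C ℤ] [∀ n : ℤ, (shiftFunctor C n).Additive]
  [Pretriangulated C]
  [Preadditive D] [HasZeroObject D] [HasShift D ℤ] [∀ n : ℤ, (shiftFunctor D n).Additive]
  [Pretriangulated D]
  (G : C ⥤ D)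

/-- `G` is injective on `Hom(K, L)` (stated additively). -/
def Inj (K L : C) : Prop := ∀ f : K ⟶ L, G.map f = 0 → f = 0

/-- `G` is surjective on `Hom(K, L)`. -/
def Surj (K L : C) : Prop := ∀ θ : G.obj K ⟶ G.obj L, ∃ f : K ⟶ L, G.map f = θ

/-- `G` is bijective on `Hom(K, L)`. -/
def Bij (K L : C) : Prop := Inj G K L ∧ Surj G K L

variable {G}

section iso

variable [G.PreservesZeroMorphisms]

lemma Inj.of_iso {K K' L L' : C} (eK : K ≅ K') (eL : L ≅ L') (h : Inj G K L) :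
    Inj G K' L' := by
  intro f hf
  have h1 : eK.hom ≫ f ≫ eL.inv = 0 := by
    apply h
    rw [G.map_comp, G.map_comp, hf, zero_comp, comp_zero]
  have h2 : f = eK.inv ≫ (eK.hom ≫ f ≫ eL.inv) ≫ eL.hom := by simp
  rw [h2, h1, zero_comp, comp_zero]

omit [G.PreservesZeroMorphisms] in
lemma Surj.of_iso {K K' L L' : C} (eK : K ≅ K') (eL : L ≅ L') (h : Surj G K L) :
    Surj G K' L' := by
  intro θ
  obtain ⟨f, hf⟩ := h (G.map eK.hom ≫ θ ≫ G.map eL.inv)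
  refine ⟨eK.inv ≫ f ≫ eL.hom, ?_⟩
  rw [G.map_comp, G.map_comp, hf]
  simp only [Category.assoc, ← G.map_comp, Iso.inv_hom_id, G.map_id, Category.comp_id]
  rw [← G.map_comp_assoc, Iso.inv_hom_id, G.map_id, Category.id_comp]

lemma Bij.of_iso {K K' L L' : C} (eK : K ≅ K') (eL : L ≅ L') (h : Bij G K L) :
    Bij G K' L' :=
  ⟨h.1.of_iso eK eL, h.2.of_iso eK eL⟩

end iso

section shift

variable [G.CommShift ℤ]

lemma map_shift_eq {K L : C} (f : K ⟶ L) (n : ℤ) :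
    G.map (f⟦n⟧') = (G.commShiftIso n).hom.app K ≫ (G.map f)⟦n⟧' ≫
      (G.commShiftIso n).inv.app L := by
  rw [← G.commShiftIso_hom_naturality_assoc f n, Iso.hom_inv_id_app]
  exact (Category.comp_id _).symm

lemma Inj.shift {K L : C} (n : ℤ) (h : Inj G K L) : Inj G (K⟦n⟧) (L⟦n⟧) := by
  intro f hf
  obtain ⟨f0, rfl⟩ := (shiftFunctor C n).map_surjective f
  rw [map_shift_eq] at hf
  have h1 : (G.map f0)⟦n⟧' = 0 := by
    have := congrArg (fun x => (G.commShiftIso n).inv.app K ≫ x ≫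
      (G.commShiftIso n).hom.app L) hf
    simpa using this
  have h2 : G.map f0 = 0 := by
    apply (shiftFunctor D n).map_injective
    rw [h1, Functor.map_zero]
  rw [h f0 h2, Functor.map_zero]

lemma Surj.shift {K L : C} (n : ℤ) (h : Surj G K L) : Surj G (K⟦n⟧) (L⟦n⟧) := by
  intro θ
  obtain ⟨θ0, hθ0⟩ := (shiftFunctor D n).map_surjective
    ((G.commShiftIso n).inv.app K ≫ θ ≫ (G.commShiftIso n).hom.app L)
  obtain ⟨f0, rfl⟩ := h θ0
  refine ⟨f0⟦n⟧', ?_⟩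
  rw [map_shift_eq, hθ0]
  simp

lemma Bij.shift {K L : C} (n : ℤ) (h : Bij G K L) : Bij G (K⟦n⟧) (L⟦n⟧) :=
  ⟨h.1.shift n, h.2.shift n⟩

end shift

section four

variable [G.CommShift ℤ] [G.IsTriangulated]

/-- The morphism `T.obj₃⟦-1⟧ ⟶ T.obj₁` of the inverse rotation of `T`. -/
def invMor (T : Triangle C) : T.obj₃⟦(-1 : ℤ)⟧ ⟶ T.obj₁ := T.invRotate.mor₁

lemma invMor_comp (T : Triangle C) (hT : T ∈ distTriang C) : invMor T ≫ T.mor₁ = 0 :=
  comp_distTriang_mor_zero₁₂ _ (inv_rot_of_distTriang _ hT)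

lemma exact_co_inv (T : Triangle C) (hT : T ∈ distTriang C) {X : C} (f : X ⟶ T.obj₁)
    (hf : f ≫ T.mor₁ = 0) : ∃ g : X ⟶ T.obj₃⟦(-1 : ℤ)⟧, f = g ≫ invMor T :=
  Triangle.coyoneda_exact₂ _ (inv_rot_of_distTriang _ hT) f hf

variable (G) in
lemma exact_co_inv_G (T : Triangle C) (hT : T ∈ distTriang C) {X : D} (f : X ⟶ G.obj T.obj₁)
    (hf : f ≫ G.map T.mor₁ = 0) :
    ∃ g : X ⟶ G.obj (T.obj₃⟦(-1 : ℤ)⟧), f = g ≫ G.map (invMor T) :=
  Triangle.coyoneda_exact₂ _ (G.map_distinguished _ (inv_rot_of_distTriang _ hT)) f hf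

lemma exact_yo_inv (T : Triangle C) (hT : T ∈ distTriang C) {X : C} (f : T.obj₁ ⟶ X)
    (hf : invMor T ≫ f = 0) : ∃ g : T.obj₂ ⟶ X, f = T.mor₁ ≫ g :=
  Triangle.yoneda_exact₂ _ (inv_rot_of_distTriang _ hT) f hf

variable (G) in
lemma exact_co_G (T : Triangle C) (hT : T ∈ distTriang C) {X : D} (f : X ⟶ G.obj T.obj₂)
    (hf : f ≫ G.map T.mor₂ = 0) : ∃ g : X ⟶ G.obj T.obj₁, f = g ≫ G.map T.mor₁ :=
  Triangle.coyoneda_exact₂ _ (G.map_distinguished _ hT) f hf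

variable (G) in
lemma exact_yo_G (T : Triangle C) (hT : T ∈ distTriang C) {X : D} (f : G.obj T.obj₂ ⟶ X)
    (hf : G.map T.mor₁ ≫ f = 0) : ∃ g : G.obj T.obj₃ ⟶ X, f = G.map T.mor₂ ≫ g :=
  Triangle.yoneda_exact₂ _ (G.map_distinguished _ hT) f hf

variable (G) in
lemma exact_yo_rot_G (T : Triangle C) (hT : T ∈ distTriang C) {X : D} (f : G.obj T.obj₃ ⟶ X)
    (hf : G.map T.mor₂ ≫ f = 0) :
    ∃ g : G.obj (T.obj₁⟦(1 : ℤ)⟧) ⟶ X, f = G.map T.mor₃ ≫ g :=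
  Triangle.yoneda_exact₂ _ (G.map_distinguished _ (rot_of_distTriang _ hT)) f hf

variable (G) in
lemma exact_yo_rot2_G (T : Triangle C) (hT : T ∈ distTriang C) {X : D}
    (f : G.obj (T.obj₁⟦(1 : ℤ)⟧) ⟶ X) (hf : G.map T.mor₃ ≫ f = 0) :
    ∃ g : G.obj (T.obj₂⟦(1 : ℤ)⟧) ⟶ X, f = G.map (T.mor₁⟦(1 : ℤ)⟧') ≫ g := by
  obtain ⟨(g : G.obj (T.obj₂⟦(1 : ℤ)⟧) ⟶ X), hg⟩ := Triangle.yoneda_exact₂ _
    (G.map_distinguished _ (rot_of_distTriang _ (rot_of_distTriang _ hT))) f hf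
  refine ⟨-g, ?_⟩
  have hg' : f = G.map (-(T.mor₁⟦(1 : ℤ)⟧')) ≫ g := hg
  rw [hg', G.map_neg, Preadditive.neg_comp, Preadditive.comp_neg]

/-- Four lemma (surjectivity), covariant variable. -/
lemma Surj.mid_right (T : Triangle C) (hT : T ∈ distTriang C) (K : C)
    (h1 : Surj G K T.obj₁) (h3 : Surj G K T.obj₃) (h1' : Inj G K (T.obj₁⟦(1 : ℤ)⟧)) :
    Surj G K T.obj₂ := by
  intro θ
  obtain ⟨φ3, hφ3⟩ := h3 (θ ≫ G.map T.mor₂)
  have hz : φ3 ≫ T.mor₃ = 0 := by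
    apply h1'
    rw [G.map_comp, hφ3, Category.assoc, ← G.map_comp, comp_distTriang_mor_zero₂₃ _ hT,
      G.map_zero, comp_zero]
  obtain ⟨φ2, rfl⟩ := Triangle.coyoneda_exact₃ T hT φ3 hz
  have hz2 : (θ - G.map φ2) ≫ G.map T.mor₂ = 0 := by
    rw [Preadditive.sub_comp, ← G.map_comp, hφ3, sub_self]
  obtain ⟨ψ, hψ⟩ := exact_co_G G T hT _ hz2
  obtain ⟨φ1, rfl⟩ := h1 ψ
  refine ⟨φ2 + φ1 ≫ T.mor₁, ?_⟩
  rw [G.map_add, G.map_comp, ← hψ]
  abel

/-- Four lemma (injectivity), covariant variable. -/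
lemma Inj.mid_right (T : Triangle C) (hT : T ∈ distTriang C) (K : C)
    (h1 : Inj G K T.obj₁) (h3 : Inj G K T.obj₃) (h3' : Surj G K (T.obj₃⟦(-1 : ℤ)⟧)) :
    Inj G K T.obj₂ := by
  intro φ hφ
  have hz : φ ≫ T.mor₂ = 0 := by
    apply h3
    rw [G.map_comp, hφ, zero_comp]
  obtain ⟨φ1, rfl⟩ := Triangle.coyoneda_exact₂ T hT φ hz
  have hz2 : G.map φ1 ≫ G.map T.mor₁ = 0 := by
    rw [← G.map_comp]
    exact hφ
  obtain ⟨ψ, hψ⟩ := exact_co_inv_G G T hT _ hz2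
  obtain ⟨χ, rfl⟩ := h3' ψ
  have h4 : φ1 - χ ≫ invMor T = 0 := by
    apply h1
    rw [G.map_sub, G.map_comp, hψ, sub_self]
  have h5 : φ1 = χ ≫ invMor T := sub_eq_zero.1 h4
  rw [h5, Category.assoc, invMor_comp T hT, comp_zero]

/-- Four lemma (surjectivity), contravariant variable. -/
lemma Surj.mid_left (T : Triangle C) (hT : T ∈ distTriang C) (L : C)
    (h1 : Surj G T.obj₁ L) (h3 : Surj G T.obj₃ L) (h3' : Inj G (T.obj₃⟦(-1 : ℤ)⟧) L) :
    Surj G T.obj₂ L := by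
  intro θ
  obtain ⟨φ1, hφ1⟩ := h1 (G.map T.mor₁ ≫ θ)
  have hz : invMor T ≫ φ1 = 0 := by
    apply h3'
    rw [G.map_comp, hφ1, ← G.map_comp_assoc, invMor_comp T hT, G.map_zero, zero_comp]
  obtain ⟨φ2, hφ2⟩ := exact_yo_inv T hT φ1 hz
  have hz2 : G.map T.mor₁ ≫ (θ - G.map φ2) = 0 := by
    rw [Preadditive.comp_sub, ← G.map_comp, ← hφ2, hφ1, sub_self]
  obtain ⟨ψ, hψ⟩ := exact_yo_G G T hT _ hz2
  obtain ⟨φ3, rfl⟩ := h3 ψ
  refine ⟨φ2 + T.mor₂ ≫ φ3, ?_⟩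
  rw [G.map_add, G.map_comp, ← hψ]
  abel

/-- Four lemma (injectivity), contravariant variable. -/
lemma Inj.mid_left (T : Triangle C) (hT : T ∈ distTriang C) (L : C)
    (h1 : Inj G T.obj₁ L) (h3 : Inj G T.obj₃ L) (h1' : Surj G (T.obj₁⟦(1 : ℤ)⟧) L) :
    Inj G T.obj₂ L := by
  intro φ hφ
  have hz : T.mor₁ ≫ φ = 0 := by
    apply h1
    rw [G.map_comp, hφ, comp_zero]
  obtain ⟨φ3, rfl⟩ := Triangle.yoneda_exact₂ T hT φ hz
  have hz2 : G.map T.mor₂ ≫ G.map φ3 = 0 := by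
    rw [← G.map_comp]
    exact hφ
  obtain ⟨ψ, hψ⟩ := exact_yo_rot_G G T hT _ hz2
  obtain ⟨χ, rfl⟩ := h1' ψ
  have h4 : φ3 - T.mor₃ ≫ χ = 0 := by
    apply h3
    rw [G.map_sub, G.map_comp, hψ, sub_self]
  have h5 : φ3 = T.mor₃ ≫ χ := sub_eq_zero.1 h4
  rw [h5, ← Category.assoc, comp_distTriang_mor_zero₂₃ _ hT, zero_comp]

end four

section devissage

variable [G.CommShift ℤ] [G.IsTriangulated]

variable (G) in
/-- **Dévissage**: if a shift-stable class `S` of objects generates `C` (in the sense that any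
property closed under isomorphisms and "two out of three" (middle term) in distinguished
triangles which contains `S` holds for all objects) and `G` is bijective on `Hom(X, Y)` for
`X, Y` in `S`, then `G` is bijective on all `Hom` sets. -/
theorem bij_of_generators (S : C → Prop)
    (hS_shift : ∀ X, S X → ∀ n : ℤ, S (X⟦n⟧))
    (hgen : ∀ Q : C → Prop, (∀ X Y, (X ≅ Y) → Q X → Q Y) → (∀ X, S X → Q X) →
      (∀ T ∈ distTriang C, Q T.obj₁ → Q T.obj₃ → Q T.obj₂) → ∀ X, Q X)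
    (hbij : ∀ X Y, S X → S Y → Bij G X Y) :
    ∀ K L, Bij G K L := by
  have step1 : ∀ L, ∀ X, S X → Bij G X L := by
    apply hgen
    · intro L L' e h X hX
      exact (h X hX).of_iso (Iso.refl X) e
    · intro L hL X hX
      exact hbij X L hX hL
    · intro T hT h1 h3 X hX
      refine ⟨Inj.mid_right T hT X (h1 X hX).1 (h3 X hX).1 ?_,
        Surj.mid_right T hT X (h1 X hX).2 (h3 X hX).2 ?_⟩
      · exact ((h3 (X⟦(1 : ℤ)⟧) (hS_shift X hX 1)).2.shift (-1)).of_iso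
          (shiftShiftNeg X (1 : ℤ)) (Iso.refl _)
      · exact ((h1 (X⟦(-1 : ℤ)⟧) (hS_shift X hX (-1))).1.shift 1).of_iso
          (shiftNegShift X (1 : ℤ)) (Iso.refl _)
  have step2 : ∀ K, ∀ L, Bij G K L := by
    apply hgen
    · intro K K' e h L
      exact (h L).of_iso e (Iso.refl L)
    · intro K hK L
      exact step1 L K hK
    · intro T hT h1 h3 L
      refine ⟨Inj.mid_left T hT L (h1 L).1 (h3 L).1 ?_,
        Surj.mid_left T hT L (h1 L).2 (h3 L).2 ?_⟩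
      · exact ((h1 (L⟦(-1 : ℤ)⟧)).2.shift 1).of_iso (Iso.refl _) (shiftNegShift L (1 : ℤ))
      · exact ((h3 (L⟦(1 : ℤ)⟧)).1.shift (-1)).of_iso (Iso.refl _) (shiftShiftNeg L (1 : ℤ))
  exact step2

variable (G) in
lemma full_faithful_of_bij (h : ∀ K L, Bij G K L) : G.Full ∧ G.Faithful := by
  refine ⟨⟨fun {K L} θ => (h K L).2 θ⟩, ⟨fun {K L} f g hfg => ?_⟩⟩
  have : f - g = 0 := (h K L).1 _ (by rw [G.map_sub, hfg, sub_self])
  exact sub_eq_zero.1 this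

end devissage

end Groth.Agent.H34.BijHom
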