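import Mathlib.Algebra.Homology.DerivedCategory.TStructure
import Mathlib.CategoryTheory.Triangulated.TStructure.TruncLTGE
import Mathlib.CategoryTheory.Triangulated.Subcategory
import Groth.Prelude.Def_W4stkfunctorsequivSib

/-!
# `D^b(A)` is generated by the shifts of objects of `A`

* `lift_distinguished`: lifting distinguished triangles to a full triangulated subcategory.
* `bounded_generated`: a property of objects of `D^b(A)` which is closed under isomorphisms,
  holds for all `M[n]` with `M : A`, and satisfies "two out of three (middle term)" for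
  distinguished triangles, holds for all objects.
-/

universe w v u

open CategoryTheory Limits Pretriangulated Triangulated ZeroObject

set_option linter.unusedSectionVars false

namespace Groth.Agent.H34.BoundedGen

section lift

variable {C : Type*} [Category C] [Preadditive C] [HasZeroObject C] [HasShift C ℤ]
  [∀ n : ℤ, (shiftFunctor C n).Additive] [Pretriangulated C]
  (P : ObjectProperty C) [P.IsTriangulated]

lemma lift_distinguished {X1 X2 X3 : P.FullSubcategory} (f : X1 ⟶ X2) (g : X2 ⟶ X3)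
    (δ : X3.obj ⟶ X1.obj⟦(1 : ℤ)⟧)
    (hT : Triangle.mk f.hom g.hom δ ∈ distTriang C) :
    ∃ h : X3 ⟶ X1⟦(1 : ℤ)⟧, Triangle.mk f g h ∈ distTriang P.FullSubcategory := by
  refine ⟨ObjectProperty.homMk (δ ≫ (P.ι.commShiftIso (1 : ℤ)).inv.app X1), ?_⟩
  change P.ι.mapTriangle.obj _ ∈ distTriang C
  refine isomorphic_distinguished _ hT _
    (Triangle.isoMk _ _ (Iso.refl _) (Iso.refl _) (Iso.refl _) ?_ ?_ ?_)
  · change f.hom ≫ 𝟙 _ = 𝟙 _ ≫ f.hom
    simp
  · change g.hom ≫ 𝟙 _ = 𝟙 _ ≫ g.hom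
    simp
  · change ((δ ≫ (P.ι.commShiftIso (1 : ℤ)).inv.app X1) ≫ (P.ι.commShiftIso (1 : ℤ)).hom.app X1) ≫
      (𝟙 _)⟦(1 : ℤ)⟧' = 𝟙 _ ≫ δ
    simp

lemma ext₂_of_distinguished (Q : P.FullSubcategory → Prop)
    (hext : ∀ T ∈ distTriang P.FullSubcategory, Q T.obj₁ → Q T.obj₃ → Q T.obj₂)
    (T : Triangle C) (hT : T ∈ distTriang C) (h1 : P T.obj₁) (h2 : P T.obj₂) (h3 : P T.obj₃)
    (q1 : Q ⟨T.obj₁, h1⟩) (q3 : Q ⟨T.obj₃, h3⟩) : Q ⟨T.obj₂, h2⟩ := by
  obtain ⟨h, hh⟩ := lift_distinguished P (X1 := ⟨T.obj₁, h1⟩) (X2 := ⟨T.obj₂, h2⟩)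
    (X3 := ⟨T.obj₃, h3⟩) (ObjectProperty.homMk T.mor₁) (ObjectProperty.homMk T.mor₂) T.mor₃ hT
  exact hext _ hh q1 q3

lemma isZero_of_isZero_obj (K : P.FullSubcategory) (hK : IsZero K.obj) : IsZero K := by
  rw [IsZero.iff_id_eq_zero]
  ext
  exact hK.eq_of_src _ _

end lift

variable {A : Type u} [Category.{v} A] [Abelian A] [HasDerivedCategory.{w} A]

open DerivedCategory

/-- The isomorphism in `D(A)` between the image of `M[n]` (shift taken in `D^b(A)`) and the
single complex `M` in degree `-n`. -/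
noncomputable def singleBShiftIso (M : A) (n m : ℤ) (h : n + m = 0) :
    (((DEquiv.singleB A).obj M)⟦n⟧).obj ≅ (singleFunctor A m).obj M :=
  ((DerivedCategory.Bounded.ι (C := A)).commShiftIso n).app ((DEquiv.singleB A).obj M) ≪≫
    ((singleFunctors A).shiftIso n m 0 h).app M

lemma isZero_singleB_zero : IsZero (((DEquiv.singleB A).obj (0 : A))⟦(0 : ℤ)⟧) := by
  apply isZero_of_isZero_obj
  refine IsZero.of_iso ?_ (singleBShiftIso (0 : A) 0 0 (by simp))
  exact (singleFunctor A 0).map_isZero (isZero_zero A)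

theorem bounded_generated (Q : DerivedCategory.Bounded A → Prop)
    (hiso : ∀ X Y, (X ≅ Y) → Q X → Q Y)
    (hsingle : ∀ (M : A) (n : ℤ), Q (((DEquiv.singleB A).obj M)⟦n⟧))
    (hext : ∀ T ∈ distTriang (DerivedCategory.Bounded A), Q T.obj₁ → Q T.obj₃ → Q T.obj₂) :
    ∀ K, Q K := by
  have hzero : ∀ (X : DerivedCategory A) (h : TStructure.t.bounded X), IsZero X → Q ⟨X, h⟩ := by
    intro X h hX
    refine hiso _ _ ?_ (hsingle 0 0)
    exact (isZero_singleB_zero (A := A)).iso (isZero_of_isZero_obj _ ⟨X, h⟩ hX)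
  have key : ∀ (d : ℕ) (X : DerivedCategory A) (a b : ℤ), X.IsGE a → X.IsLE b →
      b - a < d → ∀ h : TStructure.t.bounded X, Q ⟨X, h⟩ := by
    intro d
    induction d with
    | zero =>
      intro X a b _ _ hd h
      exact hzero X h (TStructure.t.isZero X b a (by omega))
    | succ d ih =>
      intro X a b _ _ hd h
      by_cases hab : b < a
      · exact hzero X h (TStructure.t.isZero X b a hab)
      · have hT := TStructure.t.triangleLTGE_distinguished b X
        have i1 : ((TStructure.t.truncLT b).obj X).IsGE a := inferInstance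
        have i1' : ((TStructure.t.truncLT b).obj X).IsLE (b - 1) := inferInstance
        have i3 : ((TStructure.t.truncGE b).obj X).IsGE b := inferInstance
        have i3' : ((TStructure.t.truncGE b).obj X).IsLE b := inferInstance
        have h1 : TStructure.t.bounded ((TStructure.t.truncLT b).obj X) := ⟨⟨a, i1⟩, ⟨b - 1, i1'⟩⟩
        have h3 : TStructure.t.bounded ((TStructure.t.truncGE b).obj X) := ⟨⟨b, i3⟩, ⟨b, i3'⟩⟩
        have q1 : Q ⟨(TStructure.t.truncLT b).obj X, h1⟩ :=
          ih _ a (b - 1) i1 i1' (by omega) h1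
        have q3 : Q ⟨(TStructure.t.truncGE b).obj X, h3⟩ := by
          obtain ⟨H, ⟨e⟩⟩ := exists_iso_singleFunctor_obj_of_isGE_of_isLE
            ((TStructure.t.truncGE b).obj X) b
          refine hiso _ _ ?_ (hsingle H (-b))
          exact ObjectProperty.isoMk _ (singleBShiftIso H (-b) b (by omega) ≪≫ e.symm)
        exact ext₂_of_distinguished _ Q hext _ hT h1 h h3 q1 q3
  intro K
  obtain ⟨⟨a, ha⟩, ⟨b, hb⟩⟩ := K.property
  exact key (b - a + 1).toNat K.obj a b ha hb (by omega) K.property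

end Groth.Agent.H34.BoundedGen
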