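import Groth.Agent.H34.KanCompact
import Groth.Agent.S0473
import Mathlib.CategoryTheory.Linear.Yoneda
import Mathlib.CategoryTheory.Linear.LinearFunctor
import Mathlib.Algebra.Module.Shrink
import Mathlib.LinearAlgebra.Dual.Lemmas
import Mathlib.CategoryTheory.Triangulated.Yoneda
import Mathlib.CategoryTheory.Triangulated.Opposite.Functor
import Mathlib.CategoryTheory.Preadditive.Yoneda.Limits
import Mathlib.CategoryTheory.Limits.Preserves.Opposites
import Mathlib.Algebra.Category.ModuleCat.Abelian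

/-!
# Representability of finite cohomological functors on compact objects (Bondal–Van den Bergh)

Let `D` be a compactly generated `k`-linear triangulated category and `H : Dcᵒᵖ ⥤ ModuleCat k`
a cohomological functor on compact objects with finite-dimensional values. We extend the dual
`Hs` of `H` to all of `D` by left Kan extension (`KanCompact.G`), dualize again to get a
cohomological functor `Φ` on `D` taking coproducts to products, apply Brown representability
(helper5's `S0473`), and identify the representing object on compact objects using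
finite-dimensionality (double duals).
-/

universe w v u

set_option linter.unusedSectionVars false

open CategoryTheory Limits Pretriangulated ZeroObject Opposite

namespace Groth.Agent.H34.BvdB

open Groth.Agent.H5.Compact Groth.Agent.H34.KanCompact

section LinAlg

variable {k : Type w} [Field k]

/-- Over a field, a linear map `y` whose kernel contains that of `f` factors through `f`. -/
lemma exists_comp_eq_of_ker_le {V W U : Type*} [AddCommGroup V] [Module k V]
    [AddCommGroup W] [Module k W] [AddCommGroup U] [Module k U]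
    (f : V →ₗ[k] W) (y : V →ₗ[k] U) (h : LinearMap.ker f ≤ LinearMap.ker y) :
    ∃ x : W →ₗ[k] U, x ∘ₗ f = y := by
  let y₀ : (V ⧸ LinearMap.ker f) →ₗ[k] U := (LinearMap.ker f).liftQ y h
  let e := f.quotKerEquivRange
  let y₁ : LinearMap.range f →ₗ[k] U := y₀ ∘ₗ e.symm.toLinearMap
  obtain ⟨x, hx⟩ := LinearMap.exists_extend y₁
  refine ⟨x, ?_⟩
  ext v
  have h1 : x (f v) = y₁ ⟨f v, LinearMap.mem_range_self f v⟩ := by
    rw [← hx]; rfl
  rw [LinearMap.comp_apply, h1]
  change y₀ (e.symm ⟨f v, _⟩) = y v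
  rw [LinearMap.quotKerEquivRange_symm_apply_image]
  rfl

/-- The same in `ModuleCat`. -/
lemma exists_comp_eq {A B U : ModuleCat.{v} k} (f : A ⟶ B) (y : A ⟶ U)
    (h : ∀ a : A, f a = 0 → y a = 0) : ∃ x : B ⟶ U, f ≫ x = y := by
  obtain ⟨x, hx⟩ := exists_comp_eq_of_ker_le f.hom y.hom (fun a ha => h a ha)
  exact ⟨ModuleCat.ofHom x, by ext a; exact congr($hx a)⟩

end LinAlg


section Main

variable {k : Type w} [Field k] [Small.{v} k]
  {D : Type u} [Category.{v} D] [Preadditive D] [HasZeroObject D] [HasShift D ℤ]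
  [∀ n : ℤ, (shiftFunctor D n).Additive] [Pretriangulated D] [HasCoproducts.{v} D]

variable (k) in
/-- The dualizing object: a one-dimensional vector space in the right universe. -/
noncomputable abbrev kk : ModuleCat.{v} k := ModuleCat.of k (Shrink.{v} k)

variable (k) in
/-- The duality functor `V ↦ Hom(V, k)`. -/
noncomputable abbrev dual : (ModuleCat.{v} k)ᵒᵖ ⥤ ModuleCat.{v} k :=
  (linearYoneda k (ModuleCat.{v} k)).obj (kk k)

variable (H : (Dc D)ᵒᵖ ⥤ ModuleCat.{v} k)

/-- The dual of `H`, covariant on compact objects. -/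
noncomputable def Hs : Dc D ⥤ ModuleCat.{v} k := H.rightOp ⋙ dual k

instance [H.Additive] : (Hs H).Additive := by
  unfold Hs
  infer_instance

lemma Hs_map_apply {C' C : Dc D} (u : C' ⟶ C) (l : (Hs H).obj C') :
    (Hs H).map u l = H.map u.op ≫ (show H.obj (op C') ⟶ kk k from l) := rfl

/-- The cohomological hypothesis on `H` (as in the statement of `S6709`). -/
def HCoh : Prop :=
  ∀ T ∈ distTriang D, ∀ (h₁ : CohDer.IsCompactObject T.obj₁)
      (h₂ : CohDer.IsCompactObject T.obj₂) (h₃ : CohDer.IsCompactObject T.obj₃)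
      (y : H.obj (op ⟨T.obj₂, h₂⟩)),
      H.map (ObjectProperty.homMk T.mor₁ : (⟨T.obj₁, h₁⟩ : ObjectProperty.FullSubcategory
          (fun K : D => CohDer.IsCompactObject K)) ⟶ ⟨T.obj₂, h₂⟩).op y = 0 →
        ∃ z : H.obj (op ⟨T.obj₃, h₃⟩),
          H.map (ObjectProperty.homMk T.mor₂ : (⟨T.obj₂, h₂⟩ : ObjectProperty.FullSubcategory
            (fun K : D => CohDer.IsCompactObject K)) ⟶ ⟨T.obj₃, h₃⟩).op z = y

lemma hsExact (hcoh : HCoh H) : HsExact (Hs H) := by
  intro T hT h₁ h₂ h₃ y hy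
  let f : H.obj (op (⟨T.obj₂, h₂⟩ : Dc D)) ⟶ H.obj (op (⟨T.obj₁, h₁⟩ : Dc D)) :=
    H.map (ObjectProperty.homMk T.mor₁ : (⟨T.obj₁, h₁⟩ : Dc D) ⟶ ⟨T.obj₂, h₂⟩).op
  let g : H.obj (op (⟨T.obj₃, h₃⟩ : Dc D)) ⟶ H.obj (op (⟨T.obj₂, h₂⟩ : Dc D)) :=
    H.map (ObjectProperty.homMk T.mor₂ : (⟨T.obj₂, h₂⟩ : Dc D) ⟶ ⟨T.obj₃, h₃⟩).op
  let y' : H.obj (op (⟨T.obj₂, h₂⟩ : Dc D)) ⟶ kk k := y
  have hy' : g ≫ y' = 0 := hy
  obtain ⟨x, hx⟩ := exists_comp_eq f y' (fun a ha => by
    obtain ⟨z, rfl⟩ := hcoh T hT h₁ h₂ h₃ a ha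
    exact congr($hy' z))
  exact ⟨x, hx⟩


variable [EssentiallySmall.{v} (Dc D)]

/-- The cohomological functor on `D` extending `H`. -/
noncomputable def Φ : Dᵒᵖ ⥤ AddCommGrpCat.{v} :=
  (G (Hs H)).op ⋙ preadditiveYoneda.obj (kk k)

variable [H.Additive]

instance : (G (Hs H)).op.PreservesZeroMorphisms where
  map_zero X Y := by
    change ((G (Hs H)).map (0 : Y.unop ⟶ X.unop)).op = 0
    rw [Functor.map_zero]
    rfl

instance : (Φ H).PreservesZeroMorphisms := by
  unfold Φ
  infer_instance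

open Pretriangulated.Opposite in
theorem Φ_isHomological (hcoh : HCoh H) : (Φ H).IsHomological where
  exact T hT := by
    rw [ShortComplex.ab_exact_iff]
    intro (x₂ : (G (Hs H)).obj T.obj₂.unop ⟶ kk k)
      (hx₂ : (G (Hs H)).map T.mor₂.unop ≫ x₂ = 0)
    have hT' := unop_distinguished T hT
    obtain ⟨x₁, hx₁⟩ := exists_comp_eq ((G (Hs H)).map T.mor₁.unop) x₂ (fun a ha => by
      obtain ⟨b, rfl⟩ := G_exact (hsExact H hcoh) _ hT' a ha
      exact congr($hx₂ b))
    exact ⟨x₁, hx₁⟩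

instance (κ : Type v) : PreservesLimitsOfShape (Discrete κ) (Φ H) := by
  have : PreservesColimitsOfShape (Discrete κ)ᵒᵖ (G (Hs H)) :=
    preservesColimitsOfShape_of_equiv (Discrete.opposite κ).symm (G (Hs H))
  have : PreservesLimitsOfShape (Discrete κ) (G (Hs H)).op := preservesLimitsOfShape_op _ _
  unfold Φ
  infer_instance


theorem exists_repr [IsTriangulated D] (hD : CohDer.IsCompactlyGenerated D) (hcoh : HCoh H) :
    ∃ (Y : D) (ξ : (G (Hs H)).obj Y ⟶ kk k), ∀ Z : D,
      Function.Bijective (fun f : Z ⟶ Y => (G (Hs H)).map f ≫ ξ) := by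
  have := Φ_isHomological H hcoh
  have hrep := Groth.Agent.S0473.result hD (Φ H)
  let r := (Φ H ⋙ forget AddCommGrpCat.{v}).representableBy
  refine ⟨(Φ H ⋙ forget _).reprX, r.homEquiv (𝟙 _), fun Z => ?_⟩
  have h : (fun f : Z ⟶ (Φ H ⋙ forget _).reprX => (G (Hs H)).map f ≫ r.homEquiv (𝟙 _)) =
      r.homEquiv := by
    funext f
    have h1 := r.homEquiv_comp f (𝟙 _)
    rw [Category.comp_id] at h1
    rw [h1]
    rfl
  rw [h]
  exact r.homEquiv.bijective

section Final

variable [Linear k D] (Y : D) (ξ : (G (Hs H)).obj Y ⟶ kk k)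
  (hξ : ∀ Z : D, Function.Bijective (fun f : Z ⟶ Y => (G (Hs H)).map f ≫ ξ))
  (hlin : ∀ (X X' : Dc D) (r : k) (f : X ⟶ X'), H.map (r • f).op = r • H.map f.op)

include hlin in
lemma Hs_map_smul_id (C : Dc D) (r : k) : (Hs H).map (r • 𝟙 C) = r • 𝟙 _ := by
  apply ModuleCat.hom_ext
  apply LinearMap.ext
  intro (l : H.obj (op C) ⟶ kk k)
  change H.map (r • 𝟙 C).op ≫ l = r • l
  rw [hlin, op_id, H.map_id, Linear.smul_comp, Category.id_comp]

/-- The pairing map `Hom(C, Y) ⟶ H(C)**`. -/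
noncomputable def β (C : Dc D) : (C.obj ⟶ Y) →ₗ[k] ((Hs H).obj C ⟶ kk k) where
  toFun g := clsHom (Hs H) C g ≫ ξ
  map_add' g g' := by rw [clsHom_add, Preadditive.add_comp]
  map_smul' r g := by
    have h1 : r • g = (r • 𝟙 C : C ⟶ C).hom ≫ g := by
      change r • g = (r • 𝟙 C.obj) ≫ g
      rw [Linear.smul_comp, Category.id_comp]
    rw [h1, ← map_clsHom, Category.assoc, Hs_map_smul_id H hlin, Linear.smul_comp,
      Category.id_comp]
    rfl


include hξ in
lemma β_bijective (C : Dc D) : Function.Bijective (β H Y ξ hlin C) := by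
  let e : (Hs H).obj C ≅ (G (Hs H)).obj C.obj := asIso (clsHom (Hs H) C (𝟙 C.obj))
  have h1 : (β H Y ξ hlin C : (C.obj ⟶ Y) → ((Hs H).obj C ⟶ kk k)) =
      (fun φ : (G (Hs H)).obj C.obj ⟶ kk k => e.hom ≫ φ) ∘
        (fun g : C.obj ⟶ Y => (G (Hs H)).map g ≫ ξ) := by
    funext g
    change clsHom (Hs H) C g ≫ ξ = clsHom (Hs H) C (𝟙 C.obj) ≫ (G (Hs H)).map g ≫ ξ
    rw [← Category.assoc, clsHom_map, Category.id_comp]
  rw [h1]
  refine Function.Bijective.comp ⟨fun a b h => (cancel_epi e.hom).1 h, fun φ => ⟨e.inv ≫ φ, ?_⟩⟩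
    (hξ C.obj)
  change e.hom ≫ e.inv ≫ φ = φ
  rw [Iso.hom_inv_id_assoc]

/-- The evaluation map `H(C) ⟶ H(C)**`. -/
noncomputable def ev (C : Dc D) : H.obj (op C) →ₗ[k] ((Hs H).obj C ⟶ kk k) where
  toFun h := ModuleCat.ofHom
    { toFun := fun (l : H.obj (op C) ⟶ kk k) => l.hom h
      map_add' := fun l l' => rfl
      map_smul' := fun r l => rfl }
  map_add' h h' := by
    apply ModuleCat.hom_ext
    apply LinearMap.ext
    intro (l : H.obj (op C) ⟶ kk k)
    exact map_add l.hom h h'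
  map_smul' r h := by
    apply ModuleCat.hom_ext
    apply LinearMap.ext
    intro (l : H.obj (op C) ⟶ kk k)
    exact map_smul l.hom r h

lemma ev_apply (C : Dc D) (h : H.obj (op C)) (l : H.obj (op C) ⟶ kk k) :
    (ev H C h).hom l = l.hom h := rfl


lemma ev_bijective (C : Dc D) [Module.Finite k (H.obj (op C))] :
    Function.Bijective (ev H C) := by
  let e : Shrink.{v} k ≃ₗ[k] k := Shrink.linearEquiv k k
  let E₁ : (H.obj (op C) ⟶ kk k) ≃ₗ[k] Module.Dual k (H.obj (op C)) :=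
    ModuleCat.homLinearEquiv (S := k) ≪≫ₗ
      LinearEquiv.arrowCongr (LinearEquiv.refl k (H.obj (op C))) e
  let E : ((Hs H).obj C ⟶ kk k) ≃ₗ[k] Module.Dual k (Module.Dual k (H.obj (op C))) :=
    ModuleCat.homLinearEquiv (S := k) ≪≫ₗ LinearEquiv.arrowCongr E₁ e
  have h : ∀ x, E (ev H C x) = Module.Dual.eval k (H.obj (op C)) x := by
    intro x
    apply LinearMap.ext
    intro φ
    change e ((ev H C x).hom (E₁.symm φ)) = φ x
    rw [ev_apply]
    change e (e.symm (φ x)) = φ x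
    rw [LinearEquiv.apply_symm_apply]
  have hb : Function.Bijective (Module.Dual.eval k (H.obj (op C))) :=
    Module.bijective_dual_eval k _
  have h2 : (ev H C : _ → _) = E.symm ∘ Module.Dual.eval k (H.obj (op C)) := by
    funext x
    rw [Function.comp_apply, ← h, LinearEquiv.symm_apply_apply]
  rw [h2]
  exact E.symm.bijective.comp hb


/-- The linear equivalence `H(C) ≃ Hom(C, Y)`. -/
noncomputable def Θ (C : Dc D) [Module.Finite k (H.obj (op C))] :
    H.obj (op C) ≃ₗ[k] (C.obj ⟶ Y) :=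
  (LinearEquiv.ofBijective (ev H C) (ev_bijective H C)).trans
    (LinearEquiv.ofBijective (β H Y ξ hlin C) (β_bijective H Y ξ hξ hlin C)).symm

lemma β_Θ (C : Dc D) [Module.Finite k (H.obj (op C))] (h : H.obj (op C)) :
    β H Y ξ hlin C (Θ H Y ξ hξ hlin C h) = ev H C h := by
  unfold Θ
  rw [LinearEquiv.trans_apply]
  exact LinearEquiv.apply_symm_apply
    (LinearEquiv.ofBijective (β H Y ξ hlin C) (β_bijective H Y ξ hξ hlin C)) _

lemma Θ_naturality {C' C : Dc D} [Module.Finite k (H.obj (op C))]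
    [Module.Finite k (H.obj (op C'))] (u : C' ⟶ C) (h : H.obj (op C)) :
    Θ H Y ξ hξ hlin C' (H.map u.op h) = u.hom ≫ Θ H Y ξ hξ hlin C h := by
  apply (β_bijective H Y ξ hξ hlin C').1
  rw [β_Θ]
  change ev H C' (H.map u.op h) = clsHom (Hs H) C' (u.hom ≫ Θ H Y ξ hξ hlin C h) ≫ ξ
  rw [← map_clsHom, Category.assoc]
  have h1 : clsHom (Hs H) C (Θ H Y ξ hξ hlin C h) ≫ ξ = ev H C h := β_Θ H Y ξ hξ hlin C h
  rw [h1]
  apply ModuleCat.hom_ext
  apply LinearMap.ext
  intro (l : H.obj (op C') ⟶ kk k)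
  rfl

end Final

/-- The main theorem in the case where `k` is `v`-small. -/
theorem main_small [IsTriangulated D] [Linear k D] (hD : CohDer.IsCompactlyGenerated D)
    (hlin : ∀ (X X' : Dc D) (r : k) (f : X ⟶ X'), H.map (r • f).op = r • H.map f.op)
    (hcoh : HCoh H) (hfin : ∀ X, Module.Finite k (H.obj X)) :
    ∃ Y : D, Nonempty (H ≅ (ιc D).op ⋙ (linearYoneda k D).obj Y) := by
  obtain ⟨Y, ξ, hξ⟩ := exists_repr H hD hcoh
  have hfin' : ∀ C : Dc D, Module.Finite k (H.obj (op C)) := fun C => hfin _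
  refine ⟨Y, ⟨NatIso.ofComponents (fun X => (Θ H Y ξ hξ hlin X.unop).toModuleIso) ?_⟩⟩
  intro X X' f
  ext h
  exact Θ_naturality H Y ξ hξ hlin f.unop h

end Main

end Groth.Agent.H34.BvdB
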