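import Groth.Agent.H34.FCCov
import Mathlib.CategoryTheory.Sites.Over

universe u

open CategoryTheory Opposite Limits

namespace Groth.Agent.H34.FCYoneda

variable {C : Type u} [SmallCategory C] (J : GrothendieckTopology C) (X : C)

open FormalCoproduct

theorem isLocallySurjective_Fexp_to_subsingleton (K0 : FormalCoproduct.{u} (Over X))
    (h : Sieve.ofArrows (fun i => (K0.obj i).left) (fun i => (K0.obj i).hom) ∈ J X)
    {P₀ : (Over X)ᵒᵖ ⥤ Type u} (hP : ∀ T, Subsingleton (P₀.obj T))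
    (φ : Fexp.obj K0 ⟶ P₀) : Presheaf.IsLocallySurjective (J.over X) φ := by
  constructor
  intro T s
  rw [GrothendieckTopology.mem_over_iff]
  refine J.superset_covering ?_ (J.pullback_stable T.hom h)
  intro W g' hg'
  rw [Sieve.pullback_apply, Sieve.mem_ofArrows_iff] at hg'
  obtain ⟨i, a, ha⟩ := hg'
  rw [Sieve.overEquiv_iff]
  let T' : Over X := Over.mk (g' ≫ T.hom)
  let b : T' ⟶ K0.obj i := Over.homMk a ha.symm
  refine ⟨(Hom.fromIncl i b : (incl (Over X)).obj T' ⟶ K0), ?_⟩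
  exact (hP _).elim _ _

theorem isLocallySurjective_yoneda_to_subsingleton (K0 : FormalCoproduct.{u} (Over X))
    (h : Sieve.ofArrows (fun i => (K0.obj i).left) (fun i => (K0.obj i).hom) ∈ J X)
    {P₀ : (Over X)ᵒᵖ ⥤ Type u} (hP : ∀ T, Subsingleton (P₀.obj T))
    (φ : (FormalCoproduct.yoneda (C := Over X)).obj K0 ⟶ P₀) :
    Presheaf.IsLocallySurjective (J.over X) φ := by
  have := isLocallySurjective_Fexp_to_subsingleton J X K0 h hP (natIso.inv.app K0 ≫ φ)
  have e : φ = natIso.hom.app K0 ≫ (natIso.inv.app K0 ≫ φ) := by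
    rw [Iso.hom_inv_id_app_assoc]
  rw [e]
  infer_instance

end Groth.Agent.H34.FCYoneda
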