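import Groth.Agent.H34.HomInj

universe v u

open CategoryTheory Simplicial Opposite SimplexCategory AlgebraicTopology Limits

namespace Groth.Agent.H34.HomInj

variable {𝒜 : Type u} [Category.{v} 𝒜] [Abelian 𝒜] (W : SimplicialObject 𝒜) (I : 𝒜)

/-- the chain complex of `W` -/
noncomputable abbrev AW : ChainComplex 𝒜 ℕ := (alternatingFaceMapComplex 𝒜).obj W

/-- the projection `W_0 ⟶ H_0` -/
noncomputable def π₀ : W.obj (op ⦋0⦌) ⟶ (AW W).homology 0 :=
  (AW W).pOpcycles 0 ≫ (ChainComplex.isoHomologyι₀ (AW W)).inv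

instance : Epi (π₀ W) := by
  unfold π₀
  infer_instance

lemma d_π₀ : (AW W).d 1 0 ≫ π₀ W = 0 := by
  unfold π₀
  rw [← Category.assoc, HomologicalComplex.d_pOpcycles, zero_comp]

/-- the map `Hom(H_0, I) ⟶ Hom(W_0, I)` -/
noncomputable def Θ : AddCommGrpCat.of ((AW W).homology 0 ⟶ I) ⟶ (homCx W I).X 0 :=
  (preadditiveYoneda.obj I).map (π₀ W).op

lemma Θ_apply (g : (AW W).homology 0 ⟶ I) : (Θ W I) g = π₀ W ≫ g := rfl

lemma Θ_d : Θ W I ≫ (homCx W I).d 0 1 = 0 := by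
  apply ConcreteCategory.hom_ext
  intro g
  change ((homCx W I).d 0 1) ((Θ W I) g) = 0
  rw [Θ_apply]
  have := homCx_d_apply W I 0 (π₀ W ≫ g)
  refine this.trans ?_
  rw [← Category.assoc, d_π₀, zero_comp]
  rfl

/-- the short complex `Hom(H_0, I) → Hom(W_0, I) → Hom(W_1, I)` -/
noncomputable abbrev scΘ : ShortComplex AddCommGrpCat.{v} :=
  ShortComplex.mk (Θ W I) ((homCx W I).d 0 1) (Θ_d W I)

lemma scΘ_exact : (scΘ W I).Exact := by
  rw [ShortComplex.ab_exact_iff]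
  intro w hw
  have hw' : (AW W).d 1 0 ≫ w = 0 := (homCx_d_apply W I 0 w).symm.trans hw
  refine ⟨(ChainComplex.isoHomologyι₀ (AW W)).hom ≫
    (AW W).descOpcycles w 1 (by simp) hw', ?_⟩
  change π₀ W ≫ _ = w
  unfold π₀
  rw [Category.assoc, Iso.inv_hom_id_assoc, HomologicalComplex.p_descOpcycles]

instance : Mono (Θ W I) := by
  rw [AddCommGrpCat.mono_iff_injective]
  intro g g' h
  have h' : π₀ W ≫ g = π₀ W ≫ g' := h
  exact (cancel_epi _).1 h'

/-- `H^0(Hom(W_•, I)) ≅ Hom(H_0(W), I)` -/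
theorem nonempty_homologyZero_iso :
    Nonempty ((homCx W I).homology 0 ≅ AddCommGrpCat.of ((AW W).homology 0 ⟶ I)) := by
  obtain ⟨hlim⟩ := (ShortComplex.exact_and_mono_f_iff_f_is_kernel (scΘ W I)).1
    ⟨scΘ_exact W I, inferInstance⟩
  have hlim2 := (homCx W I).cyclesIsKernel 0 1 (by simp)
  exact ⟨(CochainComplex.isoHomologyπ₀ (homCx W I)).symm ≪≫
    IsLimit.conePointUniqueUpToIso hlim2 hlim⟩

end Groth.Agent.H34.HomInj
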