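import Groth.Agent.H34.HyperCosk

universe v v' u u'

open CategoryTheory CategoryTheory.Limits Opposite SimplexCategory Simplicial

namespace Groth.Agent.H34.HyperCosk

variable {E : Type u} [Category.{v} E] {E' : Type u'} [Category.{v'} E']
  (G : E ⥤ E') [PreservesFiniteLimits G] (n : ℕ) [HasFiniteLimits E]
  [∀ (F : (SimplexCategory.Truncated n)ᵒᵖ ⥤ E),
    (SimplexCategory.Truncated.inclusion n).op.HasRightKanExtension F]
  [∀ (F : (SimplexCategory.Truncated n)ᵒᵖ ⥤ E'),
    (SimplexCategory.Truncated.inclusion n).op.HasRightKanExtension F]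

set_option backward.defeqAttrib.useBackward true in
/-- A finite-limit preserving functor commutes with coskeleta, compatibly with units. -/
theorem exists_iso_unit (K : SimplicialObject E) :
    ∃ θ : ((SimplicialObject.cosk n).obj K) ⋙ G ≅
        (SimplicialObject.cosk n).obj (((SimplicialObject.whiskering E E').obj G).obj K),
      Functor.whiskerRight ((SimplicialObject.coskAdj n).unit.app K) G ≫ θ.hom =
        (SimplicialObject.coskAdj n).unit.app (((SimplicialObject.whiskering E E').obj G).obj K) := by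
  let KG : SimplicialObject E' := ((SimplicialObject.whiskering E E').obj G).obj K
  let tX := (SimplicialObject.truncation n).obj K
  let cX := (SimplicialObject.cosk n).obj K
  let εX : Lop n ⋙ cX ⟶ tX := (SimplicialObject.coskAdj n).counit.app tX
  have hX : cX.IsRightKanExtension εX := inferInstance
  let tY := (SimplicialObject.truncation n).obj KG
  let cY := (SimplicialObject.cosk n).obj KG
  let εY : Lop n ⋙ cY ⟶ tY := (SimplicialObject.coskAdj n).counit.app tY
  have hY : cY.IsRightKanExtension εY := inferInstance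
  let αX : Lop n ⋙ (cX ⋙ G) ⟶ tY :=
    (Functor.associator _ _ _).inv ≫ Functor.whiskerRight εX G
  have hX' : (cX ⋙ G).IsRightKanExtension αX :=
    Functor.PreservesRightKanExtension.preserves (G := G) cX εX
  let φ : cX ⋙ G ⟶ cY := cY.liftOfIsRightKanExtension εY (cX ⋙ G) αX
  have hφ : Functor.whiskerLeft (Lop n) φ ≫ εY = αX :=
    Functor.liftOfIsRightKanExtension_fac cY εY (cX ⋙ G) αX
  have hiso : IsIso φ := isIso_of_isRightKanExtension αX εY φ (𝟙 tY) (by rw [hφ]; simp)
  refine ⟨asIso φ, ?_⟩
  apply Functor.hom_ext_of_isRightKanExtension cY εY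
  have h1 : Functor.whiskerLeft (Lop n) ((SimplicialObject.coskAdj n).unit.app K) ≫ εX =
      𝟙 (Lop n ⋙ K) := (SimplicialObject.coskAdj n).left_triangle_components K
  have h2 : Functor.whiskerLeft (Lop n) ((SimplicialObject.coskAdj n).unit.app KG) ≫ εY =
      𝟙 (Lop n ⋙ KG) := (SimplicialObject.coskAdj n).left_triangle_components KG
  have key : Functor.whiskerLeft (Lop n)
      (Functor.whiskerRight ((SimplicialObject.coskAdj n).unit.app K) G) ≫ αX =
      𝟙 tY := by
    apply NatTrans.ext
    funext Δ
    let a : K.obj ((Lop n).obj Δ) ⟶ cX.obj ((Lop n).obj Δ) :=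
      ((SimplicialObject.coskAdj n).unit.app K).app ((Lop n).obj Δ)
    let b : cX.obj ((Lop n).obj Δ) ⟶ K.obj ((Lop n).obj Δ) := εX.app Δ
    have h1Δ : a ≫ b = 𝟙 _ := NatTrans.congr_app h1 Δ
    have : G.map a ≫ G.map b = 𝟙 _ := by
      rw [← G.map_comp, h1Δ, G.map_id]
    change G.map a ≫ (𝟙 _ ≫ G.map b) = 𝟙 _
    rw [Category.id_comp]
    exact this
  rw [asIso_hom, Functor.whiskerLeft_comp, Category.assoc, hφ]
  exact key.trans h2.symm

end Groth.Agent.H34.HyperCosk
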