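import Groth.Agent.H34.CechInj
import Groth.Agent.H34.HomInj2
import Groth.Agent.H34.HyperCosk2
import Groth.Agent.H34.FCCov2

universe u

open CategoryTheory Simplicial Opposite SimplexCategory AlgebraicTopology Limits

namespace Groth.Agent.H34.HyperDict

open HyperSect HyperTower

variable {D : Type u} [SmallCategory D] (J : GrothendieckTopology D)
  (F' : Sheaf J AddCommGrpCat.{u})

theorem bijective_evx_P₀ (T₀ : D) (hT₀ : IsTerminal T₀) :
    Function.Bijective (evx J F' (P₀ (C := D)) (T := op T₀) PUnit.unit) := by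
  let R : Dᵒᵖ ⥤ Type u := F'.obj ⋙ forget AddCommGrpCat.{u}
  let ev₀ : (P₀ (C := D) ⟶ R) → R.obj (op T₀) := fun ψ => ψ.app (op T₀) PUnit.unit
  have key : (evx J F' (P₀ (C := D)) (T := op T₀) PUnit.unit : _ → _) =
      ev₀ ∘ ((adjΦ J).homEquiv _ F') := by
    funext φ
    exact (homEquiv_app J F' _ φ _).symm
  rw [key]
  refine Function.Bijective.comp ⟨?_, ?_⟩ ((adjΦ J).homEquiv _ F').bijective
  · intro ψ ψ' h
    ext V ⟨⟩
    have h1 := congrArg (fun (t : (P₀ (C := D)).obj (op T₀) ⟶ R.obj V) => t PUnit.unit)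
      (ψ.naturality (hT₀.from V.unop).op)
    have h2 := congrArg (fun (t : (P₀ (C := D)).obj (op T₀) ⟶ R.obj V) => t PUnit.unit)
      (ψ'.naturality (hT₀.from V.unop).op)
    refine h1.trans (Eq.trans ?_ h2.symm)
    exact congrArg (fun t => R.map (hT₀.from V.unop).op t) h
  · intro r
    refine ⟨{ app := fun V => ↾(fun _ => R.map (hT₀.from V.unop).op r)
              naturality := ?_ }, ?_⟩
    · intro V V' g
      ext ⟨⟩
      change R.map (hT₀.from V'.unop).op r = R.map g (R.map (hT₀.from V.unop).op r)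
      have : (hT₀.from V'.unop).op = (hT₀.from V.unop).op ≫ g := by
        rw [← Quiver.Hom.op_unop g, ← op_comp]
        congr 1
        exact hT₀.hom_ext _ _
      rw [this, R.map_comp]
      rfl
    · change R.map (hT₀.from T₀).op r = r
      have : hT₀.from T₀ = 𝟙 T₀ := hT₀.hom_ext _ _
      rw [this, op_id, R.map_id]
      rfl

/-- `Hom(Z^#, F') ≅ F'(T₀)` for a terminal object `T₀` -/
noncomputable def homΦP₀Iso (T₀ : D) (hT₀ : IsTerminal T₀) :
    AddCommGrpCat.of ((Φ J).obj (P₀ (C := D)) ⟶ F') ≅ F'.obj.obj (op T₀) :=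
  (AddEquiv.ofBijective (evx J F' (P₀ (C := D)) (T := op T₀) PUnit.unit)
    (bijective_evx_P₀ J F' T₀ hT₀)).toAddCommGrpIso

theorem nonempty_cechH0_iso (K : SimplicialObject (FormalCoproduct.{u} D))
    (T₀ : D) (hT₀ : IsTerminal T₀)
    (h0 : ∀ φ : (((SimplicialObject.whiskering _ _).obj
      (FormalCoproduct.yoneda (C := D))).obj K).obj (op ⦋0⦌) ⟶ P₀ (C := D),
      Presheaf.IsLocallySurjective J φ)
    (hY : ∀ m : ℕ, Presheaf.IsLocallySurjective J
      (((SimplicialObject.coskAdj m).unit.app (((SimplicialObject.whiskering _ _).obj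
        (FormalCoproduct.yoneda (C := D))).obj K)).app (op ⦋m + 1⦌))) :
    Nonempty (((FormalCoproduct.cochainComplexFunctor K).obj F'.obj).homology 0 ≅
      F'.obj.obj (op T₀)) := by
  let Y := ((SimplicialObject.whiskering _ _).obj (FormalCoproduct.yoneda (C := D))).obj K
  have e1 := HomologicalComplex.homologyMapIso (cechIso J F' K) 0
  obtain ⟨e2⟩ := HomInj.nonempty_homologyZero_iso (WK J K) F'
  obtain ⟨e3⟩ := nonempty_homology_iso_cP J Y h0 hY 0
  have e4 := homologyZeroCP (C := D) J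
  have e34 : (HomInj.AW (WK J K)).homology 0 ≅ (Φ J).obj (P₀ (C := D)) := e3 ≪≫ e4
  have e5 : AddCommGrpCat.of ((Φ J).obj (P₀ (C := D)) ⟶ F') ≅
      AddCommGrpCat.of ((HomInj.AW (WK J K)).homology 0 ⟶ F') :=
    (preadditiveYoneda.obj F').mapIso e34.op
  exact ⟨e1.symm ≪≫ e2 ≪≫ e5.symm ≪≫ homΦP₀Iso J F' T₀ hT₀⟩

section Over

variable {C : Type u} [SmallCategory C] [HasPullbacks C] (J₀ : GrothendieckTopology C) (X : C)
  (K : SimplicialObject (FormalCoproduct.{u} (Over X)))
  [∀ (n : ℕ) (F : (SimplexCategory.Truncated n)ᵒᵖ ⥤ FormalCoproduct.{u} (Over X)),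
      (SimplexCategory.Truncated.inclusion n).op.HasRightKanExtension F]

/-- the presheaf-level hypercovering conditions for a hypercovering of `X` -/
theorem hyp_of_isHypercovering (hK : Hyper.IsHypercovering J₀ X K) :
    (∀ φ : (((SimplicialObject.whiskering _ _).obj
      (FormalCoproduct.yoneda (C := Over X))).obj K).obj (op ⦋0⦌) ⟶ P₀ (C := Over X),
      Presheaf.IsLocallySurjective (J₀.over X) φ) ∧
    (∀ m : ℕ, Presheaf.IsLocallySurjective (J₀.over X)
      (((SimplicialObject.coskAdj m).unit.app (((SimplicialObject.whiskering _ _).obj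
        (FormalCoproduct.yoneda (C := Over X))).obj K)).app (op ⦋m + 1⦌))) := by
  have : HasFiniteLimits (FormalCoproduct.{u} (Over X)) :=
    hasFiniteLimits_of_hasTerminal_and_pullbacks
  let F := FormalCoproduct.yoneda (C := Over X)
  constructor
  · intro φ
    exact FCYoneda.isLocallySurjective_yoneda_to_subsingleton J₀ X
      (K.obj (op ⦋0⦌)) hK.1 (fun T => inferInstanceAs (Subsingleton PUnit)) φ
  · intro m
    obtain ⟨θ, hθ⟩ := HyperCosk.exists_iso_unit F m K
    have e := congrArg (fun t => NatTrans.app t (op ⦋m + 1⦌)) hθ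
    rw [← e]
    have := FCYoneda.isLocallySurjective_yoneda_map (J₀.over X) _ (hK.2 m)
    rw [NatTrans.comp_app]
    exact Presheaf.isLocallySurjective_comp (J₀.over X) (F.map _) (θ.hom.app _)

end Over

end Groth.Agent.H34.HyperDict
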