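import Groth.Agent.H34.CechH0
import Mathlib.CategoryTheory.Limits.ConcreteCategory.Basic

universe u

open CategoryTheory Simplicial Opposite SimplexCategory AlgebraicTopology Limits

namespace Groth.Agent.H34.HyperDict

open HyperSect HyperTower

variable {D : Type u} [SmallCategory D] (J : GrothendieckTopology D)
  (F' : Sheaf J AddCommGrpCat.{u})

/-- the cone with apex `Hom(Z^#, F')` over `F'` -/
noncomputable def homCone : Cone F'.obj where
  pt := AddCommGrpCat.of ((Φ J).obj (P₀ (C := D)) ⟶ F')
  π :=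
    { app := fun V => AddCommGrpCat.ofHom (evx J F' (P₀ (C := D)) (T := V) PUnit.unit)
      naturality := by
        intro V V' g
        apply ConcreteCategory.hom_ext
        intro φ
        have := evx_map J F' (P₀ (C := D)) g PUnit.unit φ
        exact this }

/-- the comparison map to global sections -/
noncomputable def Λ : AddCommGrpCat.of ((Φ J).obj (P₀ (C := D)) ⟶ F') ⟶ limit F'.obj :=
  limit.lift F'.obj (homCone J F')

lemma Λ_π (V : Dᵒᵖ) (φ : (Φ J).obj (P₀ (C := D)) ⟶ F') :
    (limit.π F'.obj V) ((Λ J F') φ) = evx J F' (P₀ (C := D)) (T := V) PUnit.unit φ := by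
  have := limit.lift_π (homCone J F') V
  exact congrArg (fun t => (ConcreteCategory.hom t) φ) this

theorem bijective_Λ : Function.Bijective (Λ J F') := by
  constructor
  · intro φ φ' h
    apply ((adjΦ J).homEquiv _ F').injective
    ext V ⟨⟩
    refine (homEquiv_app J F' _ φ (T := V) PUnit.unit).trans
      (Eq.trans ?_ (homEquiv_app J F' _ φ' (T := V) PUnit.unit).symm)
    rw [← Λ_π, ← Λ_π, h]
  · intro x
    let R : Dᵒᵖ ⥤ Type u := F'.obj ⋙ forget AddCommGrpCat.{u}
    let ψ : P₀ (C := D) ⟶ R :=
      { app := fun V => ↾(fun _ => (limit.π F'.obj V) x)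
        naturality := by
          intro V V' g
          ext ⟨⟩
          have := limit.w F'.obj g
          exact (congrArg (fun t => (ConcreteCategory.hom t) x) this).symm }
    refine ⟨((adjΦ J).homEquiv _ F').symm ψ, ?_⟩
    apply Concrete.limit_ext
    intro V
    rw [Λ_π, ← homEquiv_app, Equiv.apply_symm_apply]
    rfl

instance : IsIso (Λ J F') := by
  rw [ConcreteCategory.isIso_iff_bijective]
  exact bijective_Λ J F'

theorem nonempty_cechH0_iso_limit (K : SimplicialObject (FormalCoproduct.{u} D))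
    (h0 : ∀ φ : (((SimplicialObject.whiskering _ _).obj
      (FormalCoproduct.yoneda (C := D))).obj K).obj (op ⦋0⦌) ⟶ P₀ (C := D),
      Presheaf.IsLocallySurjective J φ)
    (hY : ∀ m : ℕ, Presheaf.IsLocallySurjective J
      (((SimplicialObject.coskAdj m).unit.app (((SimplicialObject.whiskering _ _).obj
        (FormalCoproduct.yoneda (C := D))).obj K)).app (op ⦋m + 1⦌))) :
    Nonempty (((FormalCoproduct.cochainComplexFunctor K).obj F'.obj).homology 0 ≅
      limit F'.obj) := by
  let Y := ((SimplicialObject.whiskering _ _).obj (FormalCoproduct.yoneda (C := D))).obj K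
  have e1 := HomologicalComplex.homologyMapIso (cechIso J F' K) 0
  obtain ⟨e2⟩ := HomInj.nonempty_homologyZero_iso (WK J K) F'
  obtain ⟨e3⟩ := nonempty_homology_iso_cP J Y h0 hY 0
  have e4 := homologyZeroCP (C := D) J
  have e34 : (HomInj.AW (WK J K)).homology 0 ≅ (Φ J).obj (P₀ (C := D)) := e3 ≪≫ e4
  have e5 : AddCommGrpCat.of ((Φ J).obj (P₀ (C := D)) ⟶ F') ≅
      AddCommGrpCat.of ((HomInj.AW (WK J K)).homology 0 ⟶ F') :=
    (preadditiveYoneda.obj F').mapIso e34.op
  exact ⟨e1.symm ≪≫ e2 ≪≫ e5.symm ≪≫ asIso (Λ J F')⟩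

end Groth.Agent.H34.HyperDict
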