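import Mathlib.AlgebraicTopology.CechNerve
import Mathlib.AlgebraicTopology.SimplicialObject.Homotopy

/-!
# Homotopies between maps into a Čech nerve

Two morphisms of simplicial objects `F G : Z ⟶ f.cechNerve` which agree after composing with the
augmentation are simplicially homotopic:
`h_i (z) = (F(z)_0, …, F(z)_i, G(z)_i, …, G(z)_n)`.
-/

set_option autoImplicit false
set_option linter.unnecessarySeqFocus false
set_option linter.unusedTactic false
set_option linter.unreachableTactic false
universe v u

open CategoryTheory CategoryTheory.Limits Simplicial Opposite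

namespace Groth.Agent.H34

lemma succAbove_val {n : ℕ} (p : Fin (n + 1)) (i : Fin n) :
    (p.succAbove i : ℕ) = if (i : ℕ) < p then (i : ℕ) else i + 1 := by
  unfold Fin.succAbove
  simp only [Fin.lt_def, Fin.val_castSucc]
  split_ifs <;> simp

lemma predAbove_val {n : ℕ} (p : Fin n) (i : Fin (n + 1)) :
    (p.predAbove i : ℕ) = if (p : ℕ) < i then (i : ℕ) - 1 else i := by
  unfold Fin.predAbove
  simp only [Fin.lt_def, Fin.val_castSucc]
  split_ifs <;> simp

section

variable {C : Type u} [Category.{v} C] (f : Arrow C)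
  [∀ n : ℕ, HasWidePullback.{0} f.right (fun _ : Fin (n + 1) => f.left) fun _ => f.hom]

@[reassoc]
lemma cech_δ_π {n : ℕ} (i : Fin (n + 2)) (k : Fin (n + 1)) :
    f.cechNerve.δ i ≫ WidePullback.π (fun _ : Fin (n + 1) => f.hom) k =
      WidePullback.π (fun _ : Fin (n + 1 + 1) => f.hom) (i.succAbove k) :=
  WidePullback.lift_π _ _ _ _ _

@[reassoc]
lemma cech_σ_π {n : ℕ} (i : Fin (n + 1)) (k : Fin (n + 2)) :
    f.cechNerve.σ i ≫ WidePullback.π (fun _ : Fin (n + 1 + 1) => f.hom) k =
      WidePullback.π (fun _ : Fin (n + 1) => f.hom) (i.predAbove k) :=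
  WidePullback.lift_π _ _ _ _ _

@[reassoc]
lemma cech_δ_base {n : ℕ} (i : Fin (n + 2)) :
    f.cechNerve.δ i ≫ WidePullback.base (fun _ : Fin (n + 1) => f.hom) =
      WidePullback.base (fun _ : Fin (n + 1 + 1) => f.hom) :=
  WidePullback.lift_base _ _ _ _

@[reassoc]
lemma cech_σ_base {n : ℕ} (i : Fin (n + 1)) :
    f.cechNerve.σ i ≫ WidePullback.base (fun _ : Fin (n + 1 + 1) => f.hom) =
      WidePullback.base (fun _ : Fin (n + 1) => f.hom) :=
  WidePullback.lift_base _ _ _ _

variable {f} {Z : SimplicialObject C} (F G : Z ⟶ f.cechNerve)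
  (hFG : ∀ n : ℕ, F.app (op ⦋n⦌) ≫ WidePullback.base (fun _ : Fin (n + 1) => f.hom) =
    G.app (op ⦋n⦌) ≫ WidePullback.base (fun _ : Fin (n + 1) => f.hom))

/-- The components of the homotopy. -/
noncomputable def hh {n : ℕ} (i : Fin (n + 1)) : Z _⦋n⦌ ⟶ f.cechNerve _⦋n + 1⦌ :=
  WidePullback.lift (F.app (op ⦋n⦌) ≫ WidePullback.base (fun _ : Fin (n + 1) => f.hom))
    (fun k : Fin (n + 1 + 1) => if k ≤ i.castSucc then
      F.app (op ⦋n⦌) ≫ WidePullback.π (fun _ : Fin (n + 1) => f.hom) (i.predAbove k) else
      G.app (op ⦋n⦌) ≫ WidePullback.π (fun _ : Fin (n + 1) => f.hom) (i.predAbove k))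
    (by
      intro k
      split_ifs
      · rw [Category.assoc, WidePullback.π_arrow]
      · rw [Category.assoc, WidePullback.π_arrow, hFG])

lemma hh_π_of_le {n : ℕ} (i : Fin (n + 1)) (k : Fin (n + 2)) (hk : k ≤ i.castSucc) :
    hh F G hFG i ≫ WidePullback.π (fun _ : Fin (n + 1 + 1) => f.hom) k =
      F.app (op ⦋n⦌) ≫ WidePullback.π (fun _ : Fin (n + 1) => f.hom) (i.predAbove k) := by
  unfold hh
  rw [WidePullback.lift_π, if_pos hk]

lemma hh_π_of_gt {n : ℕ} (i : Fin (n + 1)) (k : Fin (n + 2)) (hk : i.castSucc < k) :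
    hh F G hFG i ≫ WidePullback.π (fun _ : Fin (n + 1 + 1) => f.hom) k =
      G.app (op ⦋n⦌) ≫ WidePullback.π (fun _ : Fin (n + 1) => f.hom) (i.predAbove k) := by
  unfold hh
  rw [WidePullback.lift_π, if_neg (not_le.mpr hk)]

lemma hh_base {n : ℕ} (i : Fin (n + 1)) :
    hh F G hFG i ≫ WidePullback.base (fun _ : Fin (n + 1 + 1) => f.hom) =
      F.app (op ⦋n⦌) ≫ WidePullback.base (fun _ : Fin (n + 1) => f.hom) := by
  unfold hh
  rw [WidePullback.lift_base]

/-- Tactic for the `Fin` arithmetic in the simplicial identities below. -/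
macro "fin_omega" : tactic => `(tactic|
  (simp only [Fin.ext_iff, Fin.le_def, Fin.lt_def, succAbove_val, predAbove_val, Fin.val_succ,
    Fin.val_castSucc, Fin.val_last, Fin.val_zero, not_le, not_lt] at * <;>
   split_ifs at * <;> omega))

/-- Two maps into a Čech nerve which agree over the base are simplicially homotopic. -/
noncomputable def cechHomotopy : SimplicialObject.Homotopy F G where
  h i := hh F G hFG i
  h_zero_comp_δ_zero n := by
    apply WidePullback.hom_ext
    · intro k
      rw [Category.assoc, cech_δ_π, hh_π_of_gt F G hFG _ _ (by fin_omega)]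
      congr 2 <;> fin_omega
    · rw [Category.assoc, cech_δ_base, hh_base, hFG]
  h_last_comp_δ_last n := by
    apply WidePullback.hom_ext
    · intro k
      rw [Category.assoc, cech_δ_π, hh_π_of_le F G hFG _ _ (by fin_omega)]
      congr 2 <;> fin_omega
    · rw [Category.assoc, cech_δ_base, hh_base]
  h_succ_comp_δ_castSucc_of_lt {n} i j hij := by
    apply WidePullback.hom_ext
    · intro k
      rw [Category.assoc, Category.assoc, cech_δ_π]
      by_cases hk : k ≤ j.castSucc
      · rw [hh_π_of_le F G hFG j k hk, hh_π_of_le F G hFG _ _ (by fin_omega),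
          SimplicialObject.δ_naturality_assoc, cech_δ_π]
        congr 2 <;> fin_omega
      · rw [hh_π_of_gt F G hFG j k (not_le.mp hk), hh_π_of_gt F G hFG _ _ (by fin_omega),
          SimplicialObject.δ_naturality_assoc, cech_δ_π]
        congr 2 <;> fin_omega
    · rw [Category.assoc, Category.assoc, cech_δ_base, hh_base, hh_base,
        SimplicialObject.δ_naturality_assoc, cech_δ_base]
  h_succ_comp_δ_castSucc_succ {n} j := by
    apply WidePullback.hom_ext
    · intro k
      rw [Category.assoc, Category.assoc, cech_δ_π]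
      by_cases hk : k ≤ j.castSucc
      · rw [hh_π_of_le F G hFG _ _ (by fin_omega), hh_π_of_le F G hFG _ _ (by fin_omega)]
        congr 2 <;> fin_omega
      · rw [hh_π_of_gt F G hFG _ _ (by fin_omega), hh_π_of_gt F G hFG _ _ (by fin_omega)]
        congr 2 <;> fin_omega
    · rw [Category.assoc, Category.assoc, cech_δ_base, hh_base, hh_base]
  h_castSucc_comp_δ_succ_of_lt {n} i j hji := by
    apply WidePullback.hom_ext
    · intro k
      rw [Category.assoc, Category.assoc, cech_δ_π]
      by_cases hk : k ≤ j.castSucc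
      · rw [hh_π_of_le F G hFG j k hk, hh_π_of_le F G hFG _ _ (by fin_omega),
          SimplicialObject.δ_naturality_assoc, cech_δ_π]
        congr 2 <;> fin_omega
      · rw [hh_π_of_gt F G hFG j k (not_le.mp hk), hh_π_of_gt F G hFG _ _ (by fin_omega),
          SimplicialObject.δ_naturality_assoc, cech_δ_π]
        congr 2 <;> fin_omega
    · rw [Category.assoc, Category.assoc, cech_δ_base, hh_base, hh_base,
        SimplicialObject.δ_naturality_assoc, cech_δ_base]
  h_comp_σ_castSucc_of_le {n} i j hij := by
    apply WidePullback.hom_ext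
    · intro k
      rw [Category.assoc, Category.assoc, cech_σ_π]
      by_cases hk : k ≤ j.succ.castSucc
      · rw [hh_π_of_le F G hFG j.succ k hk, hh_π_of_le F G hFG _ _ (by fin_omega),
          SimplicialObject.σ_naturality_assoc, cech_σ_π]
        congr 2 <;> fin_omega
      · rw [hh_π_of_gt F G hFG j.succ k (not_le.mp hk), hh_π_of_gt F G hFG _ _ (by fin_omega),
          SimplicialObject.σ_naturality_assoc, cech_σ_π]
        congr 2 <;> fin_omega
    · rw [Category.assoc, Category.assoc, cech_σ_base, hh_base, hh_base,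
        SimplicialObject.σ_naturality_assoc, cech_σ_base]
  h_comp_σ_succ_of_lt {n} i j hji := by
    apply WidePullback.hom_ext
    · intro k
      rw [Category.assoc, Category.assoc, cech_σ_π]
      by_cases hk : k ≤ j.castSucc.castSucc
      · rw [hh_π_of_le F G hFG j.castSucc k hk, hh_π_of_le F G hFG _ _ (by fin_omega),
          SimplicialObject.σ_naturality_assoc, cech_σ_π]
        congr 2 <;> fin_omega
      · rw [hh_π_of_gt F G hFG j.castSucc k (not_le.mp hk),
          hh_π_of_gt F G hFG _ _ (by fin_omega),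
          SimplicialObject.σ_naturality_assoc, cech_σ_π]
        congr 2 <;> fin_omega
    · rw [Category.assoc, Category.assoc, cech_σ_base, hh_base, hh_base,
        SimplicialObject.σ_naturality_assoc, cech_σ_base]

end

end Groth.Agent.H34
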