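import Mathlib.AlgebraicTopology.AlternatingFaceMapComplex
import Mathlib.CategoryTheory.Preadditive.Yoneda.Basic
import Mathlib.CategoryTheory.Preadditive.Injective.Basic
import Mathlib.Algebra.Homology.ShortComplex.Ab
import Mathlib.Algebra.Homology.ShortComplex.Exact
import Mathlib.Algebra.Homology.ShortComplex.HomologicalComplex
import Mathlib.CategoryTheory.Abelian.Injective.Basic

universe v u

open CategoryTheory Simplicial Opposite SimplexCategory AlgebraicTopology Limits

namespace Groth.Agent.H34.HomInj

variable {𝒜 : Type u} [Category.{v} 𝒜] [Abelian 𝒜] (W : SimplicialObject 𝒜) (I : 𝒜)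

/-- the cosimplicial abelian group `n ↦ Hom(W_n, I)` -/
abbrev homCosimp : CosimplicialObject AddCommGrpCat.{v} := W.rightOp ⋙ preadditiveYoneda.obj I

/-- the cochain complex `Hom(W_•, I)` -/
noncomputable abbrev homCx : CochainComplex AddCommGrpCat.{v} ℕ :=
  (alternatingCofaceMapComplex AddCommGrpCat.{v}).obj (homCosimp W I)

lemma objD_eq (p : ℕ) : AlternatingCofaceMapComplex.objD (homCosimp W I) p =
    (preadditiveYoneda.obj I).map (AlternatingFaceMapComplex.objD W p).op := by
  simp only [AlternatingCofaceMapComplex.objD, AlternatingFaceMapComplex.objD, op_sum, op_zsmul,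
    Functor.map_sum, Functor.map_zsmul]
  rfl

lemma homCx_d_apply (p : ℕ) (w : W.obj (op ⦋p⦌) ⟶ I) :
    ((homCx W I).d p (p + 1)) w = ((alternatingFaceMapComplex 𝒜).obj W).d (p + 1) p ≫ w := by
  have h1 : (homCx W I).d p (p + 1) = AlternatingCofaceMapComplex.objD (homCosimp W I) p := by
    exact CochainComplex.of_d (V := AddCommGrpCat.{v}) (α := ℕ)
      (fun n => (homCosimp W I).obj ⦋n⦌) (AlternatingCofaceMapComplex.objD (homCosimp W I)) p
  have h2 : ((alternatingFaceMapComplex 𝒜).obj W).d (p + 1) p =
      AlternatingFaceMapComplex.objD W p := alternatingFaceMapComplex_obj_d W p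
  rw [h1, h2, objD_eq]
  rfl

theorem exactAt_homCx [Injective I] (p : ℕ)
    (h : ((alternatingFaceMapComplex 𝒜).obj W).ExactAt (p + 1)) :
    (homCx W I).ExactAt (p + 1) := by
  rw [HomologicalComplex.exactAt_iff' _ p (p + 1) (p + 2) (by simp) (by simp)]
  rw [ShortComplex.ab_exact_iff]
  intro z hz
  rw [HomologicalComplex.exactAt_iff' _ (p + 2) (p + 1) p (by simp) (by simp)] at h
  have hz' : ((alternatingFaceMapComplex 𝒜).obj W).d (p + 2) (p + 1) ≫ z = 0 := by
    have := homCx_d_apply W I (p + 1) z
    exact this.symm.trans hz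
  refine ⟨h.descToInjective z hz', ?_⟩
  have := homCx_d_apply W I p (h.descToInjective z hz')
  refine this.trans ?_
  exact h.comp_descToInjective z hz'

end Groth.Agent.H34.HomInj
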