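import Groth.Agent.H34.HyperDict
import Groth.Agent.H34.HomInj

universe u

open CategoryTheory Simplicial Opposite SimplexCategory AlgebraicTopology Limits

namespace Groth.Agent.H34.HyperDict

open HyperSect HyperTower

variable {D : Type u} [SmallCategory D] (J : GrothendieckTopology D)
  (I' : Sheaf J AddCommGrpCat.{u}) (K : SimplicialObject (FormalCoproduct.{u} D))

/-- the simplicial abelian sheaf `Z[F(K)]^#` -/
noncomputable abbrev WK : SimplicialObject (Sheaf J AddCommGrpCat.{u}) :=
  ((SimplicialObject.whiskering _ _).obj (FormalCoproduct.yoneda (C := D) ⋙ Φ J)).obj K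

/-- the Čech complex is the Hom complex out of `Z[F(K)]^#` -/
noncomputable def cechIso : HomInj.homCx (WK J K) I' ≅
    (FormalCoproduct.cochainComplexFunctor K).obj I'.obj :=
  (alternatingCofaceMapComplex AddCommGrpCat.{u}).mapIso
    (Functor.isoWhiskerLeft K.rightOp (asIso (τ J I')))

theorem isZero_cech_homology [Injective I'] (p : ℕ)
    (h : IsZero (((alternatingFaceMapComplex _).obj (WK J K)).homology (p + 1))) :
    IsZero (((FormalCoproduct.cochainComplexFunctor K).obj I'.obj).homology (p + 1)) := by
  rw [← HomologicalComplex.exactAt_iff_isZero_homology] at h ⊢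
  exact (HomInj.exactAt_homCx (WK J K) I' p h).of_iso (cechIso J I' K)

end Groth.Agent.H34.HyperDict
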