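import Groth.Agent.H43.DeltaCompare
import Mathlib.Algebra.Homology.HomologySequence
import Mathlib.Algebra.Homology.GrothendieckAbelian
import Mathlib.Algebra.Category.Grp.AB
import Mathlib.CategoryTheory.Abelian.GrothendieckCategory.EnoughInjectives

set_option autoImplicit false
universe u v
open CategoryTheory Limits HomologicalComplex

namespace Groth.Agent.H34.CechSS

section Path

variable {A : Type u} [Category.{v} A] [Abelian A] (I : CochainComplex A ℕ)

/-- the path complex `P^n = I^n ⊞ I^{n+1}`, `d (a, b) = (b, 0)` -/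
noncomputable abbrev pathCx : CochainComplex A ℕ :=
  CochainComplex.of (fun n => I.X n ⊞ I.X (n + 1)) (fun n => biprod.snd ≫ biprod.inl)
    (fun n => by simp)

lemma pathCx_d (n : ℕ) : (pathCx I).d n (n + 1) =
    (biprod.snd ≫ biprod.inl : I.X n ⊞ I.X (n + 1) ⟶ I.X (n + 1) ⊞ I.X (n + 1 + 1)) :=
  CochainComplex.of_d (fun n => I.X n ⊞ I.X (n + 1)) (fun _ => biprod.snd ≫ biprod.inl) n

/-- the inclusion `a ↦ (a, da)` -/
noncomputable def pathι : I ⟶ pathCx I :=
  CochainComplex.ofHom (fun n => (biprod.lift (𝟙 _) (I.d n (n + 1)) : I.X n ⟶ I.X n ⊞ I.X (n + 1)))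
    (fun n => by
      rw [pathCx_d]
      apply biprod.hom_ext
      · simp
      · simp)

lemma pathι_f (n : ℕ) : (pathι I).f n =
    (biprod.lift (𝟙 _) (I.d n (n + 1)) : I.X n ⟶ I.X n ⊞ I.X (n + 1)) := rfl

instance : Mono (pathι I) := by
  have : ∀ n, Mono ((pathι I).f n) := fun n => by
    have : (pathι I).f n ≫ (biprod.fst : I.X n ⊞ I.X (n + 1) ⟶ I.X n) = 𝟙 _ := by
      rw [pathι_f]
      simp
    exact mono_of_mono_fac this
  exact HomologicalComplex.mono_of_mono_f _ this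

lemma exact_snd_inl (X0 X1 X2 X3 : A) :
    (ShortComplex.mk (biprod.snd ≫ biprod.inl : X0 ⊞ X1 ⟶ X1 ⊞ X2)
      (biprod.snd ≫ biprod.inl : X1 ⊞ X2 ⟶ X2 ⊞ X3) (by simp)).Exact := by
  rw [ShortComplex.exact_iff_exact_up_to_refinements]
  intro T x hx
  dsimp at x hx
  have h1 : x ≫ (biprod.snd : X1 ⊞ X2 ⟶ X2) = 0 := by
    have := hx =≫ (biprod.fst : X2 ⊞ X3 ⟶ X2)
    simpa using this
  refine ⟨T, 𝟙 T, inferInstance, x ≫ (biprod.fst ≫ biprod.inr : X1 ⊞ X2 ⟶ X0 ⊞ X1), ?_⟩
  dsimp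
  rw [Category.id_comp]
  apply biprod.hom_ext
  · simp
  · simp [h1]

lemma pathCx_exactAt (n : ℕ) : (pathCx I).ExactAt (n + 1) := by
  rw [HomologicalComplex.exactAt_iff' _ n (n + 1) (n + 2) (by simp) (by simp)]
  let e : (pathCx I).sc' n (n + 1) (n + 2) ≅
      ShortComplex.mk (biprod.snd ≫ biprod.inl : I.X n ⊞ I.X (n + 1) ⟶ I.X (n + 1) ⊞ I.X (n + 2))
      (biprod.snd ≫ biprod.inl : I.X (n + 1) ⊞ I.X (n + 2) ⟶ I.X (n + 2) ⊞ I.X (n + 3))
      (by simp) :=
    ShortComplex.isoMk (Iso.refl _) (Iso.refl _) (Iso.refl _)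
      ((Category.id_comp _).trans ((pathCx_d I n).symm.trans (Category.comp_id _).symm))
      ((Category.id_comp _).trans ((pathCx_d I (n + 1)).symm.trans (Category.comp_id _).symm))
  exact (ShortComplex.exact_iff_of_iso e).2
    (exact_snd_inl (I.X n) (I.X (n + 1)) (I.X (n + 2)) (I.X (n + 3)))

lemma isZero_homology_of_injective [Injective I] (n : ℕ) : IsZero (I.homology (n + 1)) := by
  let r : pathCx I ⟶ I := Injective.factorThru (𝟙 I) (pathι I)
  have hr : pathι I ≫ r = 𝟙 I := Injective.comp_factorThru _ _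
  have hz : IsZero ((pathCx I).homology (n + 1)) :=
    (HomologicalComplex.exactAt_iff_isZero_homology _ _).1 (pathCx_exactAt I n)
  rw [IsZero.iff_id_eq_zero, ← homologyMap_id, ← hr, homologyMap_comp]
  rw [hz.eq_of_tgt (homologyMap (pathι I) (n + 1)) 0, zero_comp]

end Path


/-- cochain complexes of abelian groups in degrees `≥ 0` -/
abbrev BB := CochainComplex AddCommGrpCat.{u} ℕ

/-- `H^n` on `BB` -/
noncomputable abbrev Hn (n : ℕ) : BB.{u} ⥤ AddCommGrpCat.{u} :=
  homologyFunctor AddCommGrpCat.{u} (ComplexShape.up ℕ) n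

section Mono

variable {K L : BB.{u}} (φ : K ⟶ L)

lemma mono_homologyMap_zero [Mono φ] : Mono (homologyMap φ 0) := by
  have h1 : Mono (φ.f 0) := inferInstance
  have h2 : Mono (cyclesMap φ 0) := by
    have : Mono (cyclesMap φ 0 ≫ L.iCycles 0) := by
      rw [cyclesMap_i]
      infer_instance
    exact mono_of_mono (cyclesMap φ 0) (L.iCycles 0)
  have h3 : homologyMap φ 0 =
      K.isoHomologyπ₀.inv ≫ cyclesMap φ 0 ≫ L.isoHomologyπ₀.hom := by
    rw [← cancel_mono L.isoHomologyπ₀.inv, Category.assoc, Category.assoc, Iso.hom_inv_id,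
      Category.comp_id]
    exact CochainComplex.isoHomologyπ₀_inv_naturality φ
  rw [h3]
  infer_instance

end Mono

instance : PreservesFiniteLimits (Hn.{u} 0) := by
  rw [Functor.preservesFiniteLimits_iff_forall_exact_map_and_mono]
  intro S hS
  refine ⟨hS.homology_exact₂ 0, ?_⟩
  have : Mono S.f := hS.mono_f
  exact mono_homologyMap_zero S.f


/-- `H^•` is an effaceable δ-functor on `BB` extending `H⁰` -/
noncomputable def deltaData : Groth.Agent.H43.DeltaCompare.DeltaData (Hn.{u} 0) where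
  G := Hn.{u}
  δ _ hS n := hS.δ n (n + 1) rfl
  w₃ _ hS n := hS.comp_δ n (n + 1) rfl
  w₁ _ hS n := hS.δ_comp n (n + 1) rfl
  exact₃ _ hS n := hS.homology_exact₃ n (n + 1) rfl
  exact₁ _ hS n := hS.homology_exact₁ n (n + 1) rfl
  isZero I _ n := isZero_homology_of_injective I n
  ε := Iso.refl _

/-- the right derived functors of `H⁰` on `BB` are the `H^n` (objectwise) -/
theorem nonempty_rightDerived_iso (K : BB.{u}) (n : ℕ) :
    Nonempty (((Hn.{u} 0).rightDerived n).obj K ≅ K.homology n) := by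
  obtain ⟨e⟩ := deltaData.{u}.nonempty_iso n K
  exact ⟨e.symm⟩

end Groth.Agent.H34.CechSS
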