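import Groth.Agent.H34.CechSS1
import Groth.Agent.H43.CohPresheafRD
import Mathlib.CategoryTheory.Sites.SheafCohomology.Cech

set_option autoImplicit false
universe u
open CategoryTheory Limits HomologicalComplex Opposite

namespace Groth.Agent.H34.CechSS

variable {C : Type u} [SmallCategory C] (K : SimplicialObject (FormalCoproduct.{u} C))

/-- the Čech complex functor of `K` -/
noncomputable abbrev CK : (Cᵒᵖ ⥤ AddCommGrpCat.{u}) ⥤ BB.{u} :=
  FormalCoproduct.cochainComplexFunctor K

lemma CK_map_f {P Q : Cᵒᵖ ⥤ AddCommGrpCat.{u}} (α : P ⟶ Q) (n : ℕ) :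
    ((CK K).map α).f n = Limits.Pi.map (fun i => α.app (op ((K.obj (op (SimplexCategory.mk n))).obj i))) := by
  rfl

instance : (CK K).Additive where
  map_add {P Q α β} := by
    ext n : 1
    rw [HomologicalComplex.add_f_apply, CK_map_f, CK_map_f, CK_map_f]
    apply Limits.Pi.hom_ext
    intro i
    simp only [Limits.Pi.map_π, NatTrans.app_add, Preadditive.comp_add]
    erw [Preadditive.add_comp]
    erw [Limits.Pi.map_π, Limits.Pi.map_π]

end Groth.Agent.H34.CechSS

namespace Groth.Agent.H34.CechSS

section PiExact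

variable {I : Type u} (X1 X2 X3 : I → AddCommGrpCat.{u}) (f : ∀ i, X1 i ⟶ X2 i)
  (g : ∀ i, X2 i ⟶ X3 i) (w : ∀ i, f i ≫ g i = 0)

/-- the short complex of functors on `Discrete I` -/
noncomputable abbrev discSC : ShortComplex (Discrete I ⥤ AddCommGrpCat.{u}) :=
  ShortComplex.mk (Discrete.natTrans (fun i => f i.as) : Discrete.functor X1 ⟶ Discrete.functor X2)
    (Discrete.natTrans (fun i => g i.as) : Discrete.functor X2 ⟶ Discrete.functor X3)
    (by
      apply NatTrans.ext
      funext ⟨i⟩
      exact w i)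

lemma discSC_shortExact (h : ∀ i, (ShortComplex.mk (f i) (g i) (w i)).ShortExact) :
    (discSC X1 X2 X3 f g w).ShortExact := by
  have hm : Mono (discSC X1 X2 X3 f g w).f := by
    have : ∀ j, Mono ((discSC X1 X2 X3 f g w).f.app j) := fun j => (h j.as).mono_f
    exact NatTrans.mono_of_mono_app _
  have he : Epi (discSC X1 X2 X3 f g w).g := by
    have : ∀ j, Epi ((discSC X1 X2 X3 f g w).g.app j) := fun j => (h j.as).epi_g
    exact NatTrans.epi_of_epi_app _
  refine ⟨?_⟩
  rw [Groth.Agent.H43.CohPresheafRD.functor_exact_iff]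
  intro j
  exact (h j.as).exact

lemma shortExact_pi (h : ∀ i, (ShortComplex.mk (f i) (g i) (w i)).ShortExact) :
    (ShortComplex.mk (Limits.Pi.map f) (Limits.Pi.map g)
      (by
        rw [Limits.Pi.map_comp_map]
        apply Limits.Pi.hom_ext
        intro i
        simp [w])).ShortExact :=
  (discSC_shortExact X1 X2 X3 f g w h).map_of_exact (lim : (Discrete I ⥤ AddCommGrpCat.{u}) ⥤ _)

end PiExact

end Groth.Agent.H34.CechSS

namespace Groth.Agent.H34.CechSS

variable {C : Type u} [SmallCategory C] (K : SimplicialObject (FormalCoproduct.{u} C))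

lemma CK_shortExact (S : ShortComplex (Cᵒᵖ ⥤ AddCommGrpCat.{u})) (hS : S.ShortExact) :
    (S.map (CK K)).ShortExact := by
  apply HomologicalComplex.shortExact_of_degreewise_shortExact
  intro n
  exact shortExact_pi _ _ _ _ _ _ (fun i => hS.map_of_exact
    ((evaluation _ _).obj (op ((K.obj (op (SimplexCategory.mk n))).obj i))))

lemma CK_exact : PreservesFiniteLimits (CK K) ∧ PreservesFiniteColimits (CK K) := by
  have h := (CK K).exact_tfae.out 0 3
  exact h.1 (CK_shortExact K)

instance : PreservesFiniteLimits (CK K) := (CK_exact K).1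

instance : PreservesFiniteColimits (CK K) := (CK_exact K).2

end Groth.Agent.H34.CechSS
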