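import Groth.Agent.H34.CoskLegs
import Mathlib.AlgebraicTopology.SimplicialObject.Coskeletal

universe v u

open CategoryTheory CategoryTheory.Limits Opposite SimplexCategory Simplicial

namespace Groth.Agent.H34.CoskHtpy

variable {E : Type u} [Category.{v} E] [HasFiniteLimits E] (n : ℕ)
  [∀ (F : (SimplexCategory.Truncated n)ᵒᵖ ⥤ E),
    (SimplexCategory.Truncated.inclusion n).op.HasRightKanExtension F]

variable (X : SimplicialObject E)

/-- the unit followed by the counit component is the identity -/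
lemma unit_εapp (Δ : SimplexCategory) (hΔ : Δ.len ≤ n) :
    ((SimplicialObject.coskAdj n).unit.app X).app (op Δ) ≫ εapp (X := X) Δ hΔ =
      𝟙 (X.obj (op Δ)) := by
  exact (L n).ranCounit_app_app_ranAdjunction_unit_app_app X (op ⟨Δ, hΔ⟩)

/-- the unit followed by a leg is the corresponding structure map -/
lemma unit_leg {Δ Γ : SimplexCategory} (ψ : Δ ⟶ Γ) (hΔ : Δ.len ≤ n) :
    ((SimplicialObject.coskAdj n).unit.app X).app (op Γ) ≫ leg (X := X) ψ hΔ = X.map ψ.op := by
  unfold leg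
  have h := ((SimplicialObject.coskAdj n).unit.app X).naturality ψ.op
  calc ((SimplicialObject.coskAdj n).unit.app X).app (op Γ) ≫ (cX n X).map ψ.op ≫ εapp Δ hΔ
      = (X.map ψ.op ≫ ((SimplicialObject.coskAdj n).unit.app X).app (op Δ)) ≫ εapp Δ hΔ := by
        rw [← Category.assoc]
        exact congrArg (· ≫ εapp Δ hΔ) h.symm
    _ = X.map ψ.op := by
        rw [Category.assoc, unit_εapp]
        exact Category.comp_id _

section Zero

variable [∀ (F : (SimplexCategory.Truncated 0)ᵒᵖ ⥤ E),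
    (SimplexCategory.Truncated.inclusion 0).op.HasRightKanExtension F]

lemma len_zero : (⦋0⦌ : SimplexCategory).len ≤ 0 := le_rfl

/-- the comparison map `(cosk_0 X)_1 ⟶ X_0 × X_0` -/
noncomputable def p01 : (cX 0 X).obj (op ⦋1⦌) ⟶ X.obj (op ⦋0⦌) ⨯ X.obj (op ⦋0⦌) :=
  prod.lift (leg (δ 1) len_zero) (leg (δ 0) len_zero)

lemma unit_p01 : ((SimplicialObject.coskAdj 0).unit.app X).app (op ⦋1⦌) ≫ p01 X =
    prod.lift (X.δ 1) (X.δ 0) := by
  unfold p01
  apply Limits.prod.hom_ext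
  · rw [Category.assoc, prod.lift_fst, prod.lift_fst, unit_leg]
    rfl
  · rw [Category.assoc, prod.lift_snd, prod.lift_snd, unit_leg]
    rfl

/-- the projection selected by a vertex of `⦋1⦌` -/
noncomputable def pick01 (i : Fin 2) : X.obj (op ⦋0⦌) ⨯ X.obj (op ⦋0⦌) ⟶ X.obj (op ⦋0⦌) :=
  if i = 0 then prod.fst else prod.snd

lemma subsingleton_of_len {Δ : SimplexCategory} (hΔ : Δ.len ≤ 0) :
    Subsingleton (Fin (Δ.len + 1)) := by
  have : Δ.len = 0 := by omega
  rw [this]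
  exact inferInstanceAs (Subsingleton (Fin 1))

lemma eq_const_of_len {Δ Γ : SimplexCategory} (hΔ : Δ.len ≤ 0) (ψ : Δ ⟶ Γ) :
    ψ = SimplexCategory.const Δ Γ (ψ.toOrderHom 0) := by
  have := subsingleton_of_len hΔ
  ext x : 3
  rw [SimplexCategory.const_apply]
  congr 1
  exact Subsingleton.elim _ _

/-- the family defining the section -/
noncomputable def fam01 : Fam X 0 (X.obj (op ⦋0⦌) ⨯ X.obj (op ⦋0⦌)) ⦋1⦌ where
  φ Δ _ ψ := pick01 X (ψ.toOrderHom 0) ≫ X.map (SimplexCategory.const Δ ⦋0⦌ 0).op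
  compat Δ Δ' hΔ hΔ' κ ψ := by
    have := subsingleton_of_len hΔ
    have h1 : (κ ≫ ψ).toOrderHom 0 = ψ.toOrderHom 0 := by
      change ψ.toOrderHom (κ.toOrderHom 0) = ψ.toOrderHom 0
      congr 1
      exact Subsingleton.elim _ _
    have h2 : κ ≫ SimplexCategory.const Δ ⦋0⦌ 0 = SimplexCategory.const Δ' ⦋0⦌ 0 :=
      SimplexCategory.eq_const_to_zero _
    rw [Category.assoc, ← Functor.map_comp, ← op_comp, h2, h1]

/-- the section of `p01` -/
noncomputable def s01 : X.obj (op ⦋0⦌) ⨯ X.obj (op ⦋0⦌) ⟶ (cX 0 X).obj (op ⦋1⦌) :=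
  (fam01 X).lift

lemma s01_p01 : s01 X ≫ p01 X = 𝟙 _ := by
  unfold s01 p01
  apply Limits.prod.hom_ext
  · rw [Category.assoc, prod.lift_fst, Fam.lift_leg, Category.id_comp]
    change pick01 X ((δ (1 : Fin 2)).toOrderHom 0) ≫ X.map (SimplexCategory.const ⦋0⦌ ⦋0⦌ 0).op = _
    rw [SimplexCategory.const_eq_id]
    have : (δ (1 : Fin 2)).toOrderHom 0 = 0 := by decide
    rw [this]
    simp [pick01]
  · rw [Category.assoc, prod.lift_snd, Fam.lift_leg, Category.id_comp]
    change pick01 X ((δ (0 : Fin 2)).toOrderHom 0) ≫ X.map (SimplexCategory.const ⦋0⦌ ⦋0⦌ 0).op = _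
    rw [SimplexCategory.const_eq_id]
    have : (δ (0 : Fin 2)).toOrderHom 0 = 1 := by decide
    rw [this]
    simp [pick01]

lemma p01_s01 : p01 X ≫ s01 X = 𝟙 _ := by
  apply hom_ext
  intro Δ hΔ ψ
  unfold s01
  rw [Category.assoc, Fam.lift_leg, Category.id_comp]
  change p01 X ≫ pick01 X (ψ.toOrderHom 0) ≫ X.map (SimplexCategory.const Δ ⦋0⦌ 0).op = _
  have hψ := eq_const_of_len hΔ ψ
  rw [SimplexCategory.const_fac_thru_zero] at hψ
  obtain h | h : ψ.toOrderHom 0 = 0 ∨ ψ.toOrderHom 0 = 1 := by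
    generalize ψ.toOrderHom 0 = i
    fin_cases i <;> simp
  · rw [h] at hψ ⊢
    rw [← SimplexCategory.δ_one_eq_const] at hψ
    have : p01 X ≫ pick01 X 0 = leg (δ 1) len_zero := by
      unfold p01
      simp only [pick01, if_true]
      exact prod.lift_fst _ _
    rw [← Category.assoc, this, leg_map _ _ len_zero hΔ, ← hψ]
  · rw [h] at hψ ⊢
    rw [← SimplexCategory.δ_zero_eq_const] at hψ
    have : p01 X ≫ pick01 X 1 = leg (δ 0) len_zero := by
      unfold p01
      simp only [pick01, Fin.isValue, one_ne_zero, if_false]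
      exact prod.lift_snd _ _
    rw [← Category.assoc, this, leg_map _ _ len_zero hΔ, ← hψ]

instance : IsIso (p01 X) := ⟨s01 X, p01_s01 X, s01_p01 X⟩

end Zero

end Groth.Agent.H34.CoskHtpy
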