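import Groth.Agent.H34.FCYoneda
import Groth.Prelude.Def_Hyper

universe u

open CategoryTheory Opposite Limits

namespace Groth.Agent.H34.FCYoneda

variable {D : Type u} [SmallCategory D] (J : GrothendieckTopology D)

open FormalCoproduct

theorem isLocallySurjective_Fexp_map {K L : FormalCoproduct.{u} D} (f : K ⟶ L)
    (hf : Hyper.IsSRCovering J f) : Presheaf.IsLocallySurjective J (Fexp.map f) := by
  constructor
  intro T s
  let s' : (incl D).obj T ⟶ L := s
  let j := s'.f PUnit.unit
  let ψ : T ⟶ L.obj j := s'.φ PUnit.unit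
  refine J.superset_covering ?_ (J.pullback_stable ψ (hf j))
  intro T' g hg
  rw [Sieve.pullback_apply, Sieve.mem_ofArrows_iff] at hg
  obtain ⟨⟨i, hi⟩, h, hh⟩ := hg
  refine ⟨(Hom.fromIncl i h : (incl D).obj T' ⟶ K), ?_⟩
  change (Hom.fromIncl i h : (incl D).obj T' ⟶ K) ≫ f = (incl D).map g ≫ s'
  refine FormalCoproduct.hom_ext ?_ ?_
  · funext x
    exact hi
  · intro x
    dsimp at hh ⊢
    simp only [Category.assoc]
    exact hh.symm

theorem isLocallySurjective_yoneda_map {K L : FormalCoproduct.{u} D} (f : K ⟶ L)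
    (hf : Hyper.IsSRCovering J f) :
    Presheaf.IsLocallySurjective J ((FormalCoproduct.yoneda (C := D)).map f) := by
  have := isLocallySurjective_Fexp_map J f hf
  have e : (FormalCoproduct.yoneda (C := D)).map f =
      (natIso.hom.app K ≫ Fexp.map f) ≫ natIso.inv.app L := by
    rw [← natIso.hom.naturality f, Category.assoc, Iso.hom_inv_id_app, Category.comp_id]
  rw [e]
  infer_instance

end Groth.Agent.H34.FCYoneda
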