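import Mathlib.CategoryTheory.Limits.FormalCoproducts.Basic
import Mathlib.CategoryTheory.Limits.Shapes.BinaryProducts

universe w v u

open CategoryTheory Limits

namespace Groth.Agent.H34.FCProd

variable {C : Type u} [Category.{v} C] [HasBinaryProducts C]

open FormalCoproduct

/-- the binary product of formal coproducts -/
noncomputable def prodObj (X Y : FormalCoproduct.{w} C) : FormalCoproduct.{w} C :=
  ⟨X.I × Y.I, fun p => X.obj p.1 ⨯ Y.obj p.2⟩

/-- first projection -/
noncomputable def prodFst (X Y : FormalCoproduct.{w} C) : prodObj X Y ⟶ X :=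
  ⟨Prod.fst, fun _ => prod.fst⟩

/-- second projection -/
noncomputable def prodSnd (X Y : FormalCoproduct.{w} C) : prodObj X Y ⟶ Y :=
  ⟨Prod.snd, fun _ => prod.snd⟩

/-- the lift -/
noncomputable def prodLift {T X Y : FormalCoproduct.{w} C} (a : T ⟶ X) (b : T ⟶ Y) :
    T ⟶ prodObj X Y :=
  ⟨fun t => (a.f t, b.f t), fun t => prod.lift (a.φ t) (b.φ t)⟩

lemma prodLift_fst {T X Y : FormalCoproduct.{w} C} (a : T ⟶ X) (b : T ⟶ Y) :
    prodLift a b ≫ prodFst X Y = a := by
  refine FormalCoproduct.hom_ext rfl (fun t => ?_)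
  simp only [prodLift, prodFst, category_comp_φ, eqToHom_refl, Category.comp_id]
  exact prod.lift_fst _ _

lemma prodLift_snd {T X Y : FormalCoproduct.{w} C} (a : T ⟶ X) (b : T ⟶ Y) :
    prodLift a b ≫ prodSnd X Y = b := by
  refine FormalCoproduct.hom_ext rfl (fun t => ?_)
  simp only [prodLift, prodSnd, category_comp_φ, eqToHom_refl, Category.comp_id]
  exact prod.lift_snd _ _

lemma prodLift_eta {T X Y : FormalCoproduct.{w} C} (m : T ⟶ prodObj X Y) :
    prodLift (m ≫ prodFst X Y) (m ≫ prodSnd X Y) = m := by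
  have hf : (prodLift (m ≫ prodFst X Y) (m ≫ prodSnd X Y)).f = m.f := rfl
  refine FormalCoproduct.hom_ext hf (fun t => ?_)
  refine (Category.comp_id _).trans ?_
  apply Limits.prod.hom_ext
  · exact (prod.lift_fst _ _)
  · exact (prod.lift_snd _ _)

/-- the limit property -/
noncomputable def isLimitProd (X Y : FormalCoproduct.{w} C) :
    IsLimit (BinaryFan.mk (prodFst X Y) (prodSnd X Y)) :=
  BinaryFan.isLimitMk (fun s => prodLift s.fst s.snd)
    (fun s => prodLift_fst _ _) (fun s => prodLift_snd _ _)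
    (fun s m h1 h2 => by
      rw [← prodLift_eta m]
      congr 1)

instance : HasBinaryProducts (FormalCoproduct.{w} C) :=
  @hasBinaryProducts_of_hasLimit_pair _ _ (fun {X Y} => ⟨⟨⟨_, isLimitProd X Y⟩⟩⟩)

end Groth.Agent.H34.FCProd
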