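import Mathlib.CategoryTheory.Limits.Constructions.FiniteProductsOfBinaryProducts
import Mathlib.CategoryTheory.Limits.Constructions.LimitsOfProductsAndEqualizers
import Mathlib.CategoryTheory.Limits.Constructions.Equalizers
import Mathlib.CategoryTheory.FinCategory.Basic

universe w v u

open CategoryTheory Limits

namespace Groth.Agent.H34.NonemptyLim

variable {E : Type u} [Category.{v} E] [HasBinaryProducts E]

theorem hasProduct_fin_succ : ∀ (n : ℕ) (f : Fin (n + 1) → E), HasProduct f
  | 0 => fun f => by
    have : Nonempty (Fin (0 + 1)) := ⟨0⟩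
    have : Subsingleton (Fin (0 + 1)) := inferInstanceAs (Subsingleton (Fin 1))
    exact hasProduct_unique f
  | n + 1 => fun f =>
    haveI := hasProduct_fin_succ n
    HasLimit.mk ⟨_, extendFanIsLimit f (limit.isLimit _) (limit.isLimit _)⟩

theorem hasProduct_of_finite_nonempty {ι : Type w} [Finite ι] [Nonempty ι] (f : ι → E) :
    HasProduct f := by
  obtain ⟨n, ⟨e⟩⟩ := Finite.exists_equiv_fin ι
  cases n with
  | zero => exact (IsEmpty.false (e (Classical.arbitrary ι))).elim
  | succ n =>
    have := hasProduct_fin_succ n (f ∘ e.symm)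
    exact hasProduct_of_equiv_of_iso (f ∘ e.symm) f e (fun j => eqToIso (by simp))

variable [HasEqualizers E]

theorem hasLimit_of_finite_nonempty {J : Type w} [SmallCategory J] [FinCategory J] [Nonempty J]
    (F : J ⥤ E) : HasLimit F := by
  have : Nonempty (Σ p : J × J, p.1 ⟶ p.2) :=
    ⟨⟨(Classical.arbitrary J, Classical.arbitrary J), 𝟙 _⟩⟩
  have := hasProduct_of_finite_nonempty F.obj
  have := hasProduct_of_finite_nonempty (fun f : Σ p : J × J, p.1 ⟶ p.2 => F.obj f.1.2)
  exact hasLimit_of_equalizer_and_product F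

end Groth.Agent.H34.NonemptyLim
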