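import Groth.Agent.H34.HyperTower
import Groth.Agent.H34.HyperCosk3
import Groth.Agent.H34.FCCov
import Groth.Agent.H34.FCProd
import Groth.Agent.H34.NonemptyLim
import Groth.Agent.H34.CoskProd
import Mathlib.CategoryTheory.Sites.ConstantSheaf

universe u

open CategoryTheory Simplicial Opposite SimplexCategory AlgebraicTopology Limits

namespace Groth.Agent.H34.HyperSite

open HyperSect HyperTower

variable {C : Type u} [SmallCategory C] [HasPullbacks C] [HasBinaryProducts C]
  (J : GrothendieckTopology C)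

instance : HasEqualizers (FormalCoproduct.{u} C) :=
  hasEqualizers_of_hasPullbacks_and_binary_products

instance (n : ℕ) (c : SimplexCategoryᵒᵖ) :
    Nonempty (StructuredArrow c (HyperCosk.Lop n)) :=
  ⟨StructuredArrow.mk (Y := op ⟨⦋0⦌, Nat.zero_le n⟩)
    (show c ⟶ (HyperCosk.Lop n).obj (op ⟨⦋0⦌, Nat.zero_le n⟩) from
      (SimplexCategory.const ⦋0⦌ c.unop 0).op)⟩

instance (n : ℕ) (T : (SimplexCategory.Truncated n)ᵒᵖ ⥤ FormalCoproduct.{u} C) :
    (HyperCosk.Lop n).HasPointwiseRightKanExtension T := fun c => by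
  have := finCategoryStructuredArrow c (HyperCosk.Lop n)
  exact NonemptyLim.hasLimit_of_finite_nonempty _

instance (n : ℕ) (T : (SimplexCategory.Truncated n)ᵒᵖ ⥤ FormalCoproduct.{u} C) :
    (FormalCoproduct.yoneda (C := C)).PreservesRightKanExtension T (HyperCosk.Lop n) := by
  have : PreservesLimitsOfSize.{0, 0} (FormalCoproduct.yoneda (C := C)) :=
    preservesSmallestLimits_of_preservesLimits.{u, u} _
  infer_instance

variable (K : SimplicialObject (FormalCoproduct.{u} C))
  [∀ (n : ℕ) (F : (SimplexCategory.Truncated n)ᵒᵖ ⥤ FormalCoproduct.{u} C),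
      (SimplexCategory.Truncated.inclusion n).op.HasRightKanExtension F]

/-- the presheaf-level hypercovering conditions for a Verdier hypercovering -/
theorem hyp_of_isHypercoveringSite (hK : Hyper.IsHypercoveringSite J K) :
    (∀ φ : (((SimplicialObject.whiskering _ _).obj
      (FormalCoproduct.yoneda (C := C))).obj K).obj (op ⦋0⦌) ⟶ P₀ (C := C),
      Presheaf.IsLocallySurjective J φ) ∧
    (∀ m : ℕ, Presheaf.IsLocallySurjective J
      (((SimplicialObject.coskAdj m).unit.app (((SimplicialObject.whiskering _ _).obj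
        (FormalCoproduct.yoneda (C := C))).obj K)).app (op ⦋m + 1⦌))) := by
  let F := FormalCoproduct.yoneda (C := C)
  let Y : SimplicialObject (Cᵒᵖ ⥤ Type u) := ((SimplicialObject.whiskering _ _).obj F).obj K
  obtain ⟨h1, h2, h3⟩ := hK
  constructor
  · intro φ
    let t : ⊤_ (Cᵒᵖ ⥤ Type u) ⟶ P₀ (C := C) :=
      { app := fun V => ↾(fun _ => PUnit.unit) }
    have ht : Presheaf.IsLocallySurjective J t := by
      apply Presheaf.isLocallySurjective_of_surjective
      intro V b
      exact ⟨(terminal.from (P₀ (C := C))).app V PUnit.unit, rfl⟩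
    have e : φ = terminal.from _ ≫ t := P₀_hom_ext _ _
    rw [e]
    have : Presheaf.IsLocallySurjective J (terminal.from (Y.obj (op ⦋0⦌))) := h1
    exact Presheaf.isLocallySurjective_comp J (terminal.from (Y.obj (op ⦋0⦌))) t
  · intro m
    cases m with
    | zero =>
      have h := CoskHtpy.unit_p01 Y
      have e : ((SimplicialObject.coskAdj 0).unit.app Y).app (op ⦋1⦌) =
          prod.lift (Y.δ 1) (Y.δ 0) ≫ inv (CoskHtpy.p01 Y) := by
        rw [← h, Category.assoc, IsIso.hom_inv_id, Category.comp_id]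
      rw [e]
      have : Presheaf.IsLocallySurjective J (prod.lift (Y.δ 1) (Y.δ 0)) := h2
      infer_instance
    | succ m =>
      obtain ⟨θ, hθ⟩ := HyperCosk.exists_iso_unit' F (m + 1) K
      have e := congrArg (fun t => NatTrans.app t (op ⦋m + 1 + 1⦌)) hθ
      rw [← e]
      have := h3 (m + 1) (by omega)
      rw [NatTrans.comp_app]
      exact Presheaf.isLocallySurjective_comp J (F.map _) (θ.hom.app _)

/-- `Z[pt] ≅ Z` -/
noncomputable def freePUnitIso :
    AddCommGrpCat.free.{u}.obj PUnit.{u + 1} ≅ AddCommGrpCat.of (ULift.{u} ℤ) :=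
  ((FreeAbelianGroup.uniqueEquiv PUnit.{u + 1}).trans AddEquiv.ulift.symm).toAddCommGrpIso

theorem freeChainCx_acyclic (hK : Hyper.IsHypercoveringSite J K) :
    (∀ n : ℕ, IsZero ((Hyper.freeChainCx J K).homology (n + 1))) ∧
    Nonempty ((Hyper.freeChainCx J K).homology 0 ≅
      (constantSheaf J AddCommGrpCat.{u}).obj (AddCommGrpCat.of (ULift.{u} ℤ))) := by
  obtain ⟨h0, hY⟩ := hyp_of_isHypercoveringSite J K hK
  obtain ⟨h1, ⟨e⟩⟩ := homology_of_hypercover J _ h0 hY
  exact ⟨h1, ⟨e ≪≫ (constantSheaf J AddCommGrpCat.{u}).mapIso freePUnitIso⟩⟩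

end Groth.Agent.H34.HyperSite
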