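import Groth.Agent.H34.CechSS2
import Groth.Agent.H34.CechInj
import Groth.Agent.H34.HomInj2
import Groth.Agent.H34.HyperSite

set_option autoImplicit false
universe u v
open CategoryTheory Limits HomologicalComplex Opposite AlgebraicTopology Simplicial SimplexCategory

namespace Groth.Agent.H34.CechSS

section General

variable {𝒜 : Type u} [Category.{v} 𝒜] [Abelian 𝒜] (W : SimplicialObject 𝒜)

/-- the functor `I ↦ Hom(W_•, I)` to cosimplicial abelian groups -/
noncomputable abbrev HWcos : 𝒜 ⥤ CosimplicialObject AddCommGrpCat.{v} :=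
  preadditiveYoneda ⋙ (Functor.whiskeringLeft _ _ _).obj W.rightOp

/-- the functor `I ↦ Hom(W_•, I)` to cochain complexes -/
noncomputable abbrev HW : 𝒜 ⥤ CochainComplex AddCommGrpCat.{v} ℕ :=
  HWcos W ⋙ alternatingCofaceMapComplex AddCommGrpCat.{v}

lemma HW_obj (I : 𝒜) : (HW W).obj I = HomInj.homCx W I := rfl

lemma HW_map_f_apply {I I' : 𝒜} (ψ : I ⟶ I') (n : ℕ) (w : W.obj (op ⦋n⦌) ⟶ I) :
    (((HW W).map ψ).f n) w = w ≫ ψ := rfl

end General

end Groth.Agent.H34.CechSS

namespace Groth.Agent.H34.CechSS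

section NatIsoOfMono

variable {𝒞 : Type*} [Category 𝒞] {𝒟 : Type*} [Category 𝒟] {G₁ G₂ H : 𝒞 ⥤ 𝒟}

/-- isomorphisms compatible with natural maps to a common target through monomorphisms
are natural -/
def natIsoOfMono (a : G₁ ⟶ H) (b : G₂ ⟶ H) [∀ X, Mono (b.app X)]
    (e : ∀ X, G₁.obj X ≅ G₂.obj X) (he : ∀ X, (e X).hom ≫ b.app X = a.app X) : G₁ ≅ G₂ :=
  NatIso.ofComponents e (fun {X Y} f => by
    rw [← cancel_mono (b.app Y), Category.assoc, Category.assoc, he, b.naturality,
      reassoc_of% (he X), a.naturality])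

end NatIsoOfMono

section ZeroToX

variable {A : Type u} [Category.{v} A] [Abelian A]

/-- `H⁰(K) ⟶ K⁰`, naturally -/
noncomputable def zeroToX :
    homologyFunctor A (ComplexShape.up ℕ) 0 ⟶ HomologicalComplex.eval A (ComplexShape.up ℕ) 0 where
  app K := (CochainComplex.isoHomologyπ₀ K).inv ≫ K.iCycles 0
  naturality {K L} φ := by
    change homologyMap φ 0 ≫ (CochainComplex.isoHomologyπ₀ L).inv ≫ L.iCycles 0 =
      ((CochainComplex.isoHomologyπ₀ K).inv ≫ K.iCycles 0) ≫ φ.f 0
    rw [← Category.assoc, CochainComplex.isoHomologyπ₀_inv_naturality, Category.assoc,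
      Category.assoc, cyclesMap_i]

end ZeroToX

section General

variable {𝒜 : Type u} [Category.{v} 𝒜] [Abelian 𝒜] (W : SimplicialObject 𝒜)

/-- precomposition with `W_0 ⟶ H_0(W)`, naturally -/
noncomputable def ΘNat : preadditiveCoyoneda.obj (op ((HomInj.AW W).homology 0)) ⟶
    HW W ⋙ HomologicalComplex.eval _ _ 0 where
  app I := HomInj.Θ W I
  naturality {I I'} ψ := by
    apply ConcreteCategory.hom_ext
    intro g
    change HomInj.π₀ W ≫ (g ≫ ψ) = (HomInj.π₀ W ≫ g) ≫ ψ
    rw [Category.assoc]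

instance (I : 𝒜) : Mono ((ΘNat W).app I) := by
  change Mono (HomInj.Θ W I)
  infer_instance

/-- the objectwise isomorphism `H⁰(Hom(W_•, I)) ≅ Hom(H_0(W), I)` -/
noncomputable def homologyZeroIso (I : 𝒜) :
    (HomInj.homCx W I).homology 0 ≅ AddCommGrpCat.of ((HomInj.AW W).homology 0 ⟶ I) :=
  (CochainComplex.isoHomologyπ₀ (HomInj.homCx W I)).symm ≪≫
    IsLimit.conePointUniqueUpToIso ((HomInj.homCx W I).cyclesIsKernel 0 1 (by simp))
      ((ShortComplex.exact_and_mono_f_iff_f_is_kernel (HomInj.scΘ W I)).1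
        ⟨HomInj.scΘ_exact W I, inferInstance⟩).some

lemma homologyZeroIso_hom_Θ (I : 𝒜) :
    (homologyZeroIso W I).hom ≫ HomInj.Θ W I =
      (CochainComplex.isoHomologyπ₀ (HomInj.homCx W I)).inv ≫ (HomInj.homCx W I).iCycles 0 := by
  dsimp only [homologyZeroIso, Iso.trans_hom, Iso.symm_hom]
  rw [Category.assoc]
  congr 1
  exact IsLimit.conePointUniqueUpToIso_hom_comp _ _ WalkingParallelPair.zero

/-- `H⁰(Hom(W_•, -)) ≅ Hom(H_0(W), -)` -/
noncomputable def homologyZeroNatIso :
    HW W ⋙ homologyFunctor AddCommGrpCat.{v} (ComplexShape.up ℕ) 0 ≅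
      preadditiveCoyoneda.obj (op ((HomInj.AW W).homology 0)) :=
  natIsoOfMono (Functor.whiskerLeft (HW W) zeroToX) (ΘNat W) (fun I => homologyZeroIso W I)
    (fun I => homologyZeroIso_hom_Θ W I)

end General

end Groth.Agent.H34.CechSS

namespace Groth.Agent.H34.CechSS

open HyperDict HyperTower

section Cech

variable {D : Type u} [SmallCategory D] (J : GrothendieckTopology D)
  (K : SimplicialObject (FormalCoproduct.{u} D))

lemma τ_naturality_right {I' I'' : Sheaf J AddCommGrpCat.{u}} (ψ : I' ⟶ I'')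
    (X' : FormalCoproduct.{u} D) :
    (preadditiveYoneda.map ψ).app (op ((Φ J).obj ((FormalCoproduct.yoneda (C := D)).obj X'))) ≫
        τapp J I'' X' =
      τapp J I' X' ≫ Limits.Pi.map (fun i => ψ.hom.app (op (X'.obj i))) := by
  apply Limits.Pi.hom_ext
  intro i
  apply ConcreteCategory.hom_ext
  intro φ
  have h1 : (ConcreteCategory.hom ((preadditiveYoneda.map ψ).app
      (op ((Φ J).obj ((FormalCoproduct.yoneda (C := D)).obj X'))) ≫ τapp J I'' X' ≫
      Pi.π (fun i : X'.I => I''.obj.obj (op (X'.obj i))) i)) φ =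
      evx J I'' _ (xel X' i) (φ ≫ ψ) := τapp_π J I'' X' i _
  have hπ : Limits.Pi.map (fun i => ψ.hom.app (op (X'.obj i))) ≫
      Pi.π (fun i : X'.I => I''.obj.obj (op (X'.obj i))) i =
      Pi.π (fun i : X'.I => I'.obj.obj (op (X'.obj i))) i ≫ ψ.hom.app (op (X'.obj i)) :=
    Limits.Pi.map_π _ i
  have h2 : (ConcreteCategory.hom (τapp J I' X' ≫
      Limits.Pi.map (fun i => ψ.hom.app (op (X'.obj i))) ≫
      Pi.π (fun i : X'.I => I''.obj.obj (op (X'.obj i))) i)) φ =
      ψ.hom.app (op (X'.obj i)) (evx J I' _ (xel X' i) φ) := by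
    have h3 := τapp_π J I' X' i φ
    have h4 := congrArg (fun t => (ConcreteCategory.hom (ψ.hom.app (op (X'.obj i)))) t) h3
    refine Eq.trans ?_ h4
    exact congrArg (fun t => (ConcreteCategory.hom (τapp J I' X' ≫ t)) φ) hπ
  exact h1.trans h2.symm

/-- the Čech cosimplicial group is `Hom(Z[F(K)]^#, -)`, naturally -/
noncomputable def cosNatIso : HWcos (WK J K) ≅
    sheafToPresheaf J AddCommGrpCat.{u} ⋙ FormalCoproduct.cosimplicialObjectFunctor K :=
  NatIso.ofComponents (fun I' => Functor.isoWhiskerLeft K.rightOp (asIso (τ J I')))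
    (fun {I' I''} ψ => by
      apply NatTrans.ext
      funext n
      exact τ_naturality_right J ψ (K.obj (op n)))

/-- the Čech complex is `Hom(Z[F(K)]^#, -)`, naturally -/
noncomputable def cechNatIso : HW (WK J K) ≅ sheafToPresheaf J AddCommGrpCat.{u} ⋙ CK K :=
  Functor.isoWhiskerRight (cosNatIso J K) (alternatingCofaceMapComplex AddCommGrpCat.{u})

end Cech

end Groth.Agent.H34.CechSS
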