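import Groth.Agent.H34.CechSS3
import Groth.Agent.H30.GrothSSExt
import Groth.Agent.H31.PostDerived
import Groth.Agent.S0940

set_option autoImplicit false
universe u
open CategoryTheory Limits HomologicalComplex Opposite AlgebraicTopology Simplicial SimplexCategory

namespace Groth.Agent.H34.CechSS

open HyperDict HyperTower Groth.Agent.H43.CohPresheafRD Groth.Agent.H30

variable {C : Type u} [SmallCategory C] (J : GrothendieckTopology C)
  (K : SimplicialObject (FormalCoproduct.{u} C))

/-- the Čech complex functor on presheaves seen as sheaves for the trivial topology -/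
noncomputable abbrev Gp : Sheaf (⊥ : GrothendieckTopology C) AddCommGrpCat.{u} ⥤ BB.{u} :=
  sheafToPresheaf _ _ ⋙ CK K

/-- the Čech complex functor on sheaves -/
noncomputable abbrev TT : Sheaf J AddCommGrpCat.{u} ⥤ BB.{u} := T J ⋙ Gp K

example : (Gp K).Additive := inferInstance
example : PreservesFiniteLimits (Gp K) := inferInstance
example : PreservesFiniteColimits (Gp K) := inferInstance
example : (TT J K).Additive := inferInstance

/-- `TT` is the Čech complex functor -/
noncomputable def TTIso : TT J K ≅ sheafToPresheaf J AddCommGrpCat.{u} ⋙ CK K :=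
  NatIso.ofComponents (fun _ => Iso.refl _) (fun {_ _} f =>
    (Category.comp_id ((CK K).map f.hom)).trans (Category.id_comp ((CK K).map f.hom)).symm)

end Groth.Agent.H34.CechSS

namespace Groth.Agent.H34.CechSS

open HyperDict HyperTower Groth.Agent.H30

variable {C : Type u} [SmallCategory C] (J : GrothendieckTopology C)
  (K : SimplicialObject (FormalCoproduct.{u} C))

/-- the constant sheaf `ℤ` -/
noncomputable abbrev NN : Sheaf J AddCommGrpCat.{u} :=
  (constantSheaf J AddCommGrpCat.{u}).obj (AddCommGrpCat.of (ULift.{u} ℤ))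

section

variable [HasEqualizers C] [HasPullbacks C] [HasBinaryProducts C]
  [∀ (n : ℕ) (F : (SimplexCategory.Truncated n)ᵒᵖ ⥤ Limits.FormalCoproduct.{u} C),
      (SimplexCategory.Truncated.inclusion n).op.HasRightKanExtension F]

/-- `H⁰` of the Čech complex of a sheaf is `Hom(ℤ, -)`, for a hypercovering -/
noncomputable def abutIso (hK : Hyper.IsHypercoveringSite J K) :
    TT J K ⋙ Hn.{u} 0 ≅ ExtDerived.homF (NN J) :=
  Functor.isoWhiskerRight (TTIso J K ≪≫ (cechNatIso J K).symm) (Hn.{u} 0) ≪≫
    homologyZeroNatIso (WK J K) ≪≫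
    preadditiveCoyoneda.mapIso ((HyperSite.freeChainCx_acyclic J K hK).2.some.symm.op)

lemma hT (hK : Hyper.IsHypercoveringSite J K) (Q : Sheaf J AddCommGrpCat.{u}) [Injective Q]
    (q : ℕ) (hq : 0 < q) : IsZero (((Hn.{u} 0).rightDerived q).obj ((TT J K).obj Q)) := by
  obtain ⟨j, rfl⟩ : ∃ j, q = j + 1 := ⟨q - 1, by lia⟩
  obtain ⟨e⟩ := Groth.Agent.H34.CechSS.nonempty_rightDerived_iso ((TT J K).obj Q) (j + 1)
  exact IsZero.of_iso ((Groth.Agent.S0940.result J K hK Q).1 j) e

omit [HasEqualizers C] [HasPullbacks C] [HasBinaryProducts C]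
  [∀ (n : ℕ) (F : (SimplexCategory.Truncated n)ᵒᵖ ⥤ Limits.FormalCoproduct.{u} C),
      (SimplexCategory.Truncated.inclusion n).op.HasRightKanExtension F] in
lemma hE2 (F : Sheaf J AddCommGrpCat.{u}) (p q : ℕ) :
    Nonempty (((Hn.{u} 0).rightDerived p).obj (((TT J K).rightDerived q).obj F) ≅
      (Hyper.cechCxSite K (Sheaf.cohomologyPresheaf F q)).homology p) := by
  let e1 := Groth.Agent.H31.PostDerived.postIsoApp (Groth.Agent.H43.CohPresheafRD.T J) (Gp K) q F
  obtain ⟨e2⟩ := Groth.Agent.H43.CohPresheafRD.nonempty_rightDerived_iso J F q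
  let e3 : ((TT J K).rightDerived q).obj F ≅
      Hyper.cechCxSite K (Sheaf.cohomologyPresheaf F q) := e1 ≪≫ (Gp K).mapIso e2
  obtain ⟨e4⟩ := Groth.Agent.H34.CechSS.nonempty_rightDerived_iso
    (((TT J K).rightDerived q).obj F) p
  exact ⟨e4 ≪≫ (homologyFunctor _ _ p).mapIso e3⟩

end

end Groth.Agent.H34.CechSS
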