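import Mathlib.Algebra.Homology.ShortComplex.HomologicalComplex
import Mathlib.Algebra.Homology.QuasiIso

open CategoryTheory Limits

namespace Groth.Agent.H34.LowDeg

variable {𝒜 : Type*} [Category 𝒜] [Abelian 𝒜]

/-- a chain map which is an isomorphism in degrees `≤ i + 1` induces an isomorphism on `H_i` -/
theorem isIso_homologyMap_of_isIso_le {A B : ChainComplex 𝒜 ℕ} (φ : A ⟶ B) (i : ℕ)
    (h : ∀ k ≤ i + 1, IsIso (φ.f k)) : IsIso (HomologicalComplex.homologyMap φ i) := by
  have h1 : IsIso (φ.f ((ComplexShape.down ℕ).prev i)) := by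
    apply h
    rw [ChainComplex.prev]
  have h2 : IsIso (φ.f i) := h i (by omega)
  have h3 : IsIso (φ.f ((ComplexShape.down ℕ).next i)) := by
    apply h
    cases i with
    | zero => rw [ChainComplex.next_nat_zero]; omega
    | succ j => rw [ChainComplex.next_nat_succ]; omega
  have : IsIso ((HomologicalComplex.shortComplexFunctor 𝒜 (ComplexShape.down ℕ) i).map φ) := by
    have e1 : IsIso ((HomologicalComplex.shortComplexFunctor 𝒜 (ComplexShape.down ℕ) i).map φ).τ₁ :=
      h1
    have e2 : IsIso ((HomologicalComplex.shortComplexFunctor 𝒜 (ComplexShape.down ℕ) i).map φ).τ₂ :=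
      h2
    have e3 : IsIso ((HomologicalComplex.shortComplexFunctor 𝒜 (ComplexShape.down ℕ) i).map φ).τ₃ :=
      h3
    exact ShortComplex.isIso_of_isIso _
  exact ShortComplex.isIso_homologyMap_of_iso
    ((HomologicalComplex.shortComplexFunctor 𝒜 (ComplexShape.down ℕ) i).map φ)

end Groth.Agent.H34.LowDeg
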