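import Mathlib.AlgebraicTopology.SimplicialObject.Coskeletal
import Mathlib.AlgebraicTopology.SimplexCategory.Truncated
import Mathlib.CategoryTheory.FinCategory.Basic
import Mathlib.CategoryTheory.Limits.Shapes.FiniteLimits
import Mathlib.CategoryTheory.Functor.KanExtension.Pointwise
import Mathlib.CategoryTheory.Comma.StructuredArrow.Basic
import Mathlib.Data.Finite.Sigma

/-!
# Finiteness of the comma categories of truncated simplex categories

In a category with finite limits, right Kan extensions along the inclusions of truncated
simplex categories exist and are pointwise.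
-/

set_option autoImplicit false
universe v u

open CategoryTheory CategoryTheory.Limits Opposite

namespace Groth.Agent.H34

section Generic

variable {C D : Type} [SmallCategory C] [SmallCategory D]

lemma finite_structuredArrow [Finite C] [∀ a b : D, Finite (a ⟶ b)] (X : D) (F : C ⥤ D) :
    Finite (StructuredArrow X F) := by
  let φ : StructuredArrow X F → Σ c : C, (X ⟶ F.obj c) := fun f => ⟨f.right, f.hom⟩
  have hφ : Function.Injective φ := by
    intro f g h
    rw [StructuredArrow.eq_mk f, StructuredArrow.eq_mk g]
    obtain ⟨l, r, hom⟩ := f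
    obtain ⟨l', r', hom'⟩ := g
    simp only [φ, Sigma.mk.injEq] at h
    obtain ⟨h1, h2⟩ := h
    subst h1
    rw [heq_iff_eq] at h2
    subst h2
    rfl
  exact Finite.of_injective φ hφ

lemma finite_structuredArrow_hom [∀ a b : C, Finite (a ⟶ b)] (X : D) (F : C ⥤ D)
    (f g : StructuredArrow X F) : Finite (f ⟶ g) :=
  Finite.of_injective (fun φ => φ.right) (fun a b h => StructuredArrow.hom_ext a b h)

/-- The comma category `StructuredArrow X F` is finite when `C` is finite with finite hom-sets and
`D` has finite hom-sets. -/
@[reducible] noncomputable def finCategoryStructuredArrow [Finite C] [∀ a b : C, Finite (a ⟶ b)]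
    [∀ a b : D, Finite (a ⟶ b)] (X : D) (F : C ⥤ D) : FinCategory (StructuredArrow X F) :=
  have := finite_structuredArrow X F
  have := finite_structuredArrow_hom X F
  { fintypeObj := Fintype.ofFinite _
    fintypeHom := fun _ _ => Fintype.ofFinite _ }

end Generic

section Truncated

instance (a : ℕ) : Finite (SimplexCategory.Truncated a) := by
  let φ : SimplexCategory.Truncated a → Fin (a + 1) := fun x => ⟨x.obj.len, Nat.lt_succ_of_le x.2⟩
  have hφ : Function.Injective φ := by
    rintro ⟨⟨x⟩, hx⟩ ⟨⟨y⟩, hy⟩ h
    simp only [φ, Fin.mk.injEq] at h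
    subst h
    rfl
  exact Finite.of_injective φ hφ

instance (a : ℕ) (x y : SimplexCategory.Truncated a) : Finite (x ⟶ y) :=
  Finite.of_injective (fun f => f.hom) (fun _ _ h => ObjectProperty.hom_ext _ h)

instance (a : ℕ) : Finite (SimplexCategory.Truncated a)ᵒᵖ :=
  Finite.of_injective (fun x => x.unop) (fun _ _ h => Opposite.unop_injective h)

instance (a : ℕ) (x y : (SimplexCategory.Truncated a)ᵒᵖ) : Finite (x ⟶ y) :=
  Finite.of_injective (fun f => f.unop) (fun _ _ h => Quiver.Hom.unop_inj h)

instance (x y : SimplexCategoryᵒᵖ) : Finite (x ⟶ y) :=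
  Finite.of_injective (fun f => f.unop) (fun _ _ h => Quiver.Hom.unop_inj h)

variable {C : Type u} [Category.{v} C] [HasFiniteLimits C]

instance hasLimitsOfShape_structuredArrow_inclusion (a : ℕ) (X : SimplexCategoryᵒᵖ) :
    HasLimitsOfShape (StructuredArrow X (SimplexCategory.Truncated.inclusion a).op) C :=
  have := finCategoryStructuredArrow X (SimplexCategory.Truncated.inclusion a).op
  hasLimitsOfShape_of_hasFiniteLimits C _

instance hasLimitsOfShape_structuredArrow_incl (a b : ℕ) (h : a ≤ b)
    (X : (SimplexCategory.Truncated b)ᵒᵖ) :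
    HasLimitsOfShape (StructuredArrow X (SimplexCategory.Truncated.incl a b h).op) C :=
  have := finCategoryStructuredArrow X (SimplexCategory.Truncated.incl a b h).op
  hasLimitsOfShape_of_hasFiniteLimits C _

example (a : ℕ) (F : (SimplexCategory.Truncated a)ᵒᵖ ⥤ C) :
    (SimplexCategory.Truncated.inclusion a).op.HasPointwiseRightKanExtension F :=
  inferInstance

example (a b : ℕ) (h : a ≤ b) (F : (SimplexCategory.Truncated a)ᵒᵖ ⥤ C) :
    (SimplexCategory.Truncated.incl a b h).op.HasPointwiseRightKanExtension F :=
  inferInstance

end Truncated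

end Groth.Agent.H34
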