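import Groth.Agent.H34.HyperSh2
import Groth.Agent.H34.LowDeg
import Groth.Agent.S6811
import Mathlib.AlgebraicTopology.ExtraDegeneracy
import Mathlib.Algebra.Homology.SingleHomology

universe u

open CategoryTheory Simplicial Opposite SimplexCategory AlgebraicTopology Limits

namespace Groth.Agent.H34.HyperTower

open HyperSect HyperSh

variable {C : Type u} [SmallCategory C] (J : GrothendieckTopology C)

/-- free abelian sheaf functor -/
noncomputable abbrev Φ : (Cᵒᵖ ⥤ Type u) ⥤ Sheaf J AddCommGrpCat.{u} :=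
  Zp (C := C) ⋙ presheafToSheaf J AddCommGrpCat.{u}

/-- the chain complex functor -/
noncomputable abbrev Ψ : SimplicialObject (Cᵒᵖ ⥤ Type u) ⥤ ChainComplex (Sheaf J AddCommGrpCat.{u}) ℕ :=
  (SimplicialObject.whiskering _ _).obj (Φ J) ⋙ alternatingFaceMapComplex _

section CoskMap

variable {E : Type*} [Category E] (n : ℕ)
  [∀ (F : (SimplexCategory.Truncated n)ᵒᵖ ⥤ E),
    (SimplexCategory.Truncated.inclusion n).op.HasRightKanExtension F]
  [∀ (F : (SimplexCategory.Truncated n)ᵒᵖ ⥤ E),
    (SimplexCategory.Truncated.inclusion n).op.HasPointwiseRightKanExtension F]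

lemma cosk_map_app {A B : SimplicialObject E} (f : A ⟶ B) (k : ℕ) (hk : k ≤ n) :
    haveI := isIso_unit_app_app n A k hk
    ((SimplicialObject.cosk n).map f).app (op ⦋k⦌) =
      inv (((SimplicialObject.coskAdj n).unit.app A).app (op ⦋k⦌)) ≫ f.app (op ⦋k⦌) ≫
        ((SimplicialObject.coskAdj n).unit.app B).app (op ⦋k⦌) := by
  have := isIso_unit_app_app n A k hk
  rw [IsIso.eq_inv_comp]
  have := (SimplicialObject.coskAdj n).unit.naturality f
  simp only [Functor.id_map] at this
  rw [← NatTrans.comp_app, ← NatTrans.comp_app, this]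

end CoskMap

section Tower

variable (Y : SimplicialObject (Cᵒᵖ ⥤ Type u))

/-- `Ψ` applied to the unit `Y ⟶ cosk_n Y` is an isomorphism on `H_i` for `i + 1 ≤ n`. -/
lemma isIso_homologyMap_unit (n i : ℕ) (hi : i + 1 ≤ n) :
    IsIso (HomologicalComplex.homologyMap
      ((Ψ J).map ((SimplicialObject.coskAdj n).unit.app Y)) i) := by
  apply LowDeg.isIso_homologyMap_of_isIso_le
  intro k hk
  have := isIso_unit_app_app n Y k (by omega)
  exact inferInstanceAs (IsIso ((Φ J).map (((SimplicialObject.coskAdj n).unit.app Y).app (op ⦋k⦌))))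

/-- the transition map `cosk_{m+1} Y ⟶ cosk_{m+1} (cosk_m Y)` -/
noncomputable abbrev ρ (m : ℕ) : (SimplicialObject.cosk (m + 1)).obj Y ⟶
    (SimplicialObject.cosk (m + 1)).obj ((SimplicialObject.cosk m).obj Y) :=
  (SimplicialObject.cosk (m + 1)).map ((SimplicialObject.coskAdj m).unit.app Y)

lemma quasiIso_ρ (m : ℕ)
    (hm : Presheaf.IsLocallySurjective J
      (((SimplicialObject.coskAdj m).unit.app Y).app (op ⦋m + 1⦌))) :
    QuasiIso ((Ψ J).map (ρ Y m)) := by
  apply quasiIso_main J (ρ Y m) (m + 1)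
  · intro k hk
    rw [cosk_map_app (m + 1) _ k hk.le]
    have := isIso_unit_app_app m Y k (by omega)
    have := isIso_unit_app_app (m + 1) ((SimplicialObject.cosk m).obj Y) k hk.le
    infer_instance
  · rw [cosk_map_app (m + 1) _ (m + 1) le_rfl]
    have := isIso_unit_app_app (m + 1) ((SimplicialObject.cosk m).obj Y) (m + 1) le_rfl
    infer_instance
  · exact (SimplicialObject.coskAdj (m + 1)).isIso_unit_app_of_iso (Iso.refl _)
  · exact (SimplicialObject.coskAdj (m + 1)).isIso_unit_app_of_iso (Iso.refl _)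

lemma isIso_unit_cosk (m : ℕ) :
    IsIso ((SimplicialObject.coskAdj (m + 1)).unit.app ((SimplicialObject.cosk m).obj Y)) := by
  have h : ((SimplicialObject.cosk m).obj Y).IsCoskeletal m := by
    rw [SimplicialObject.isCoskeletal_iff_isIso]
    exact (SimplicialObject.coskAdj m).isIso_unit_app_of_iso (Iso.refl _)
  have := Groth.Agent.S6811.result ((SimplicialObject.cosk m).obj Y) (Nat.le_succ m)
  exact (SimplicialObject.isCoskeletal_iff_isIso _ _).1 this

/-- homology of the coskeleta is independent of the level -/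
lemma nonempty_homology_cosk_iso
    (hY : ∀ m : ℕ, Presheaf.IsLocallySurjective J
      (((SimplicialObject.coskAdj m).unit.app Y).app (op ⦋m + 1⦌))) (i m : ℕ) :
    Nonempty (((Ψ J).obj ((SimplicialObject.cosk m).obj Y)).homology i ≅
      ((Ψ J).obj ((SimplicialObject.cosk 0).obj Y)).homology i) := by
  induction m with
  | zero => exact ⟨Iso.refl _⟩
  | succ m ih =>
    obtain ⟨e⟩ := ih
    have h1 := quasiIso_ρ J Y m (hY m)
    have h2 := isIso_unit_cosk Y m
    have h1' : IsIso (HomologicalComplex.homologyMap ((Ψ J).map (ρ Y m)) i) := by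
      rw [← quasiIsoAt_iff_isIso_homologyMap]
      exact h1.quasiIsoAt i
    have h2' : IsIso ((Ψ J).map
        ((SimplicialObject.coskAdj (m + 1)).unit.app ((SimplicialObject.cosk m).obj Y))) :=
      inferInstance
    have h2'' : IsIso (HomologicalComplex.homologyMap ((Ψ J).map
        ((SimplicialObject.coskAdj (m + 1)).unit.app ((SimplicialObject.cosk m).obj Y))) i) :=
      inferInstance
    exact ⟨asIso (HomologicalComplex.homologyMap ((Ψ J).map (ρ Y m)) i) ≪≫
      (asIso (HomologicalComplex.homologyMap ((Ψ J).map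
        ((SimplicialObject.coskAdj (m + 1)).unit.app ((SimplicialObject.cosk m).obj Y))) i)).symm ≪≫ e⟩

end Tower

section Base

variable (Y : SimplicialObject (Cᵒᵖ ⥤ Type u))

/-- the terminal presheaf -/
abbrev P₀ : Cᵒᵖ ⥤ Type u := (Functor.const Cᵒᵖ).obj PUnit.{u + 1}

/-- the constant simplicial presheaf at the terminal presheaf -/
abbrev cP : SimplicialObject (Cᵒᵖ ⥤ Type u) := (SimplicialObject.const _).obj (P₀ (C := C))

lemma P₀_hom_ext {F : Cᵒᵖ ⥤ Type u} (a b : F ⟶ P₀ (C := C)) : a = b := by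
  ext V x
  rfl

lemma cP_hom_ext {X : SimplicialObject (Cᵒᵖ ⥤ Type u)} (a b : X ⟶ cP (C := C)) : a = b := by
  apply NatTrans.ext
  funext Δ
  exact P₀_hom_ext _ _

/-- the unique map to the terminal simplicial presheaf -/
def toCP (X : SimplicialObject (Cᵒᵖ ⥤ Type u)) : X ⟶ cP (C := C) where
  app Δ := { app := fun V => ↾(fun _ => PUnit.unit) }

lemma isIso_unit_cP : IsIso ((SimplicialObject.coskAdj 0).unit.app (cP (C := C))) := by
  let η := (SimplicialObject.coskAdj 0).unit.app (cP (C := C))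
  refine ⟨toCP _, cP_hom_ext _ _, ?_⟩
  apply ((SimplicialObject.coskAdj 0).homEquiv _ _).symm.injective
  apply NatTrans.ext
  funext Δ
  exact P₀_hom_ext _ _

lemma quasiIso_toCP
    (h0 : ∀ φ : Y.obj (op ⦋0⦌) ⟶ P₀ (C := C), Presheaf.IsLocallySurjective J φ) :
    QuasiIso ((Ψ J).map (toCP ((SimplicialObject.cosk 0).obj Y))) := by
  apply quasiIso_main J (toCP ((SimplicialObject.cosk 0).obj Y)) 0
  · intro k hk
    omega
  · have := isIso_unit_app_app 0 Y 0 le_rfl
    have h := h0 (((SimplicialObject.coskAdj 0).unit.app Y).app (op ⦋0⦌) ≫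
      (toCP ((SimplicialObject.cosk 0).obj Y)).app (op ⦋0⦌))
    have e : (toCP ((SimplicialObject.cosk 0).obj Y)).app (op ⦋0⦌) =
        inv (((SimplicialObject.coskAdj 0).unit.app Y).app (op ⦋0⦌)) ≫
          (((SimplicialObject.coskAdj 0).unit.app Y).app (op ⦋0⦌) ≫
      (toCP ((SimplicialObject.cosk 0).obj Y)).app (op ⦋0⦌)) := by
      rw [IsIso.inv_hom_id_assoc]
    rw [e]
    infer_instance
  · exact (SimplicialObject.coskAdj 0).isIso_unit_app_of_iso (Iso.refl _)
  · exact isIso_unit_cP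

end Base

section Const

open SimplicialObject.Augmented in
/-- the homotopy equivalence computing the homology of the constant simplicial sheaf -/
noncomputable def heCP : HomotopyEquiv ((Ψ J).obj (cP (C := C)))
    ((ChainComplex.single₀ _).obj ((Φ J).obj (P₀ (C := C)))) :=
  ((ExtraDegeneracy.const (P₀ (C := C))).map (Φ J)).homotopyEquiv

lemma isZero_homology_cP (i : ℕ) : IsZero (((Ψ J).obj (cP (C := C))).homology (i + 1)) := by
  refine IsZero.of_iso ?_ ((heCP J).toHomologyIso (i + 1))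
  exact HomologicalComplex.isZero_single_obj_homology _ _ _ _ (by omega)

/-- `H_0` of the constant simplicial sheaf -/
noncomputable def homologyZeroCP :
    ((Ψ J).obj (cP (C := C))).homology 0 ≅ (Φ J).obj (P₀ (C := C)) :=
  (heCP J).toHomologyIso 0 ≪≫ HomologicalComplex.singleObjHomologySelfIso _ _ _

/-- `Z[*]` is the constant presheaf `Z` -/
def ZpP₀Iso : (Zp (C := C)).obj (P₀ (C := C)) ≅
    (Functor.const Cᵒᵖ).obj (AddCommGrpCat.free.{u}.obj PUnit.{u + 1}) :=
  NatIso.ofComponents (fun _ => Iso.refl _) (by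
    intro V W f
    simp only [Iso.refl_hom, Category.comp_id, Category.id_comp, Functor.const_obj_map]
    exact AddCommGrpCat.free.map_id _)

end Const

section Main

variable (Y : SimplicialObject (Cᵒᵖ ⥤ Type u))

lemma nonempty_homology_iso_cP
    (h0 : ∀ φ : Y.obj (op ⦋0⦌) ⟶ P₀ (C := C), Presheaf.IsLocallySurjective J φ)
    (hY : ∀ m : ℕ, Presheaf.IsLocallySurjective J
      (((SimplicialObject.coskAdj m).unit.app Y).app (op ⦋m + 1⦌))) (i : ℕ) :
    Nonempty (((Ψ J).obj Y).homology i ≅ ((Ψ J).obj (cP (C := C))).homology i) := by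
  have h1 := isIso_homologyMap_unit J Y (i + 1) i le_rfl
  obtain ⟨e2⟩ := nonempty_homology_cosk_iso J Y hY i (i + 1)
  have h3 := quasiIso_toCP J Y h0
  have h3' : IsIso (HomologicalComplex.homologyMap
      ((Ψ J).map (toCP ((SimplicialObject.cosk 0).obj Y))) i) := by
    rw [← quasiIsoAt_iff_isIso_homologyMap]
    exact h3.quasiIsoAt i
  exact ⟨asIso (HomologicalComplex.homologyMap
      ((Ψ J).map ((SimplicialObject.coskAdj (i + 1)).unit.app Y)) i) ≪≫ e2 ≪≫
    asIso (HomologicalComplex.homologyMap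
      ((Ψ J).map (toCP ((SimplicialObject.cosk 0).obj Y))) i)⟩

/-- **Acyclicity of hypercoverings** (presheaf form). -/
theorem homology_of_hypercover
    (h0 : ∀ φ : Y.obj (op ⦋0⦌) ⟶ P₀ (C := C), Presheaf.IsLocallySurjective J φ)
    (hY : ∀ m : ℕ, Presheaf.IsLocallySurjective J
      (((SimplicialObject.coskAdj m).unit.app Y).app (op ⦋m + 1⦌))) :
    (∀ i : ℕ, IsZero (((Ψ J).obj Y).homology (i + 1))) ∧
    Nonempty (((Ψ J).obj Y).homology 0 ≅
      (presheafToSheaf J AddCommGrpCat.{u}).obj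
        ((Functor.const Cᵒᵖ).obj (AddCommGrpCat.free.{u}.obj PUnit.{u + 1}))) := by
  constructor
  · intro i
    obtain ⟨e⟩ := nonempty_homology_iso_cP J Y h0 hY (i + 1)
    exact IsZero.of_iso (isZero_homology_cP J i) e
  · obtain ⟨e⟩ := nonempty_homology_iso_cP J Y h0 hY 0
    exact ⟨e ≪≫ homologyZeroCP J ≪≫ (presheafToSheaf J AddCommGrpCat.{u}).mapIso ZpP₀Iso⟩

end Main

end Groth.Agent.H34.HyperTower
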