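import Groth.Agent.H34.CechSS4
import Groth.Agent.H30.Degenerate
import Groth.Agent.H30.DerivedComp
import Groth.Agent.S0895
import Groth.Agent.S0482

set_option autoImplicit false
universe u
open CategoryTheory Limits HomologicalComplex Opposite AlgebraicTopology Simplicial SimplexCategory

namespace Groth.Agent.H34.CechSS

open HyperDict HyperTower Groth.Agent.H30

section AbutGen

variable {C : Type u} [SmallCategory C] (J : GrothendieckTopology C)
  (K : SimplicialObject (FormalCoproduct.{u} C))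

/-- `H⁰` of the Čech complex of a sheaf is `Hom(ℤ, -)`, given `H_0(Z[K]^#) ≅ ℤ` -/
noncomputable def abutIso' (e₀ : (HomInj.AW (WK J K)).homology 0 ≅ NN J) :
    TT J K ⋙ Hn.{u} 0 ≅ ExtDerived.homF (NN J) :=
  Functor.isoWhiskerRight (TTIso J K ≪≫ (cechNatIso J K).symm) (Hn.{u} 0) ≪≫
    homologyZeroNatIso (WK J K) ≪≫ preadditiveCoyoneda.mapIso e₀.symm.op

end AbutGen

section Over

variable {C : Type u} [SmallCategory C] (J : GrothendieckTopology C) (X : C)
  (K : SimplicialObject (FormalCoproduct.{u} (Over X)))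

/-- the Čech complex functor of `K` on presheaves on `C` (seen as sheaves for the trivial topology) -/
noncomputable abbrev Gx : Sheaf (⊥ : GrothendieckTopology C) AddCommGrpCat.{u} ⥤ BB.{u} :=
  sheafToPresheaf _ _ ⋙ (Functor.whiskeringLeft _ _ _).obj (Over.forget X).op ⋙ CK K

/-- the Čech complex functor of `K` on sheaves on `C` -/
noncomputable abbrev Tx : Sheaf J AddCommGrpCat.{u} ⥤ BB.{u} :=
  Groth.Agent.H43.CohPresheafRD.T J ⋙ Gx X K

example : (Gx X K).Additive := inferInstance
example : PreservesFiniteLimits (Gx X K) := inferInstance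
example : PreservesFiniteColimits (Gx X K) := inferInstance
example : PreservesFiniteLimits (Tx J X K) := inferInstance

lemma Tx_obj (F : Sheaf J AddCommGrpCat.{u}) : (Tx J X K).obj F = Hyper.cechCx X K F.obj := rfl

/-- `Tx` factors through restriction to `C/X` -/
noncomputable def TxIso : Tx J X K ≅ OverShriek.restr J X ⋙ TT (J.over X) K :=
  NatIso.ofComponents (fun _ => Iso.refl _) (fun {_ _} f =>
    (Category.comp_id ((Tx J X K).map f)).trans (Category.id_comp ((Tx J X K).map f)).symm)

end Over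

end Groth.Agent.H34.CechSS

namespace Groth.Agent.H34.CechSS

open HyperDict HyperTower Groth.Agent.H30

section OverMain

variable {C : Type u} [SmallCategory C] [HasPullbacks C] (J : GrothendieckTopology C) (X : C)
  (K : SimplicialObject (FormalCoproduct.{u} (Over X)))
  [∀ (n : ℕ) (F : (SimplexCategory.Truncated n)ᵒᵖ ⥤ Limits.FormalCoproduct.{u} (Over X)),
      (SimplexCategory.Truncated.inclusion n).op.HasRightKanExtension F]

lemma hTx (hK : Hyper.IsHypercovering J X K) (Q : Sheaf J AddCommGrpCat.{u}) [Injective Q]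
    (q : ℕ) (hq : 0 < q) : IsZero (((Hn.{u} 0).rightDerived q).obj ((Tx J X K).obj Q)) := by
  obtain ⟨j, rfl⟩ : ∃ j, q = j + 1 := ⟨q - 1, by lia⟩
  obtain ⟨e⟩ := Groth.Agent.H34.CechSS.nonempty_rightDerived_iso ((Tx J X K).obj Q) (j + 1)
  exact IsZero.of_iso (Groth.Agent.S0895.result J X K hK Q j) e

omit [HasPullbacks C]
  [∀ (n : ℕ) (F : (SimplexCategory.Truncated n)ᵒᵖ ⥤ Limits.FormalCoproduct.{u} (Over X)),
      (SimplexCategory.Truncated.inclusion n).op.HasRightKanExtension F] in
/-- `R^q` of the Čech complex functor is the Čech complex of the cohomology presheaf -/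
lemma nonempty_rightDerived_Tx_iso (F : Sheaf J AddCommGrpCat.{u}) (q : ℕ) :
    Nonempty (((Tx J X K).rightDerived q).obj F ≅
      Hyper.cechCx X K (Sheaf.cohomologyPresheaf F q)) := by
  let e1 := Groth.Agent.H31.PostDerived.postIsoApp (Groth.Agent.H43.CohPresheafRD.T J) (Gx X K) q F
  obtain ⟨e2⟩ := Groth.Agent.H43.CohPresheafRD.nonempty_rightDerived_iso J F q
  exact ⟨e1 ≪≫ (Gx X K).mapIso e2⟩

/-- the abutment -/
lemma nonempty_abut_iso (hK : Hyper.IsHypercovering J X K) (F : Sheaf J AddCommGrpCat.{u})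
    (n : ℕ) :
    Nonempty (((Tx J X K ⋙ Hn.{u} 0).rightDerived n).obj F ≅
      AddCommGrpCat.of (Sheaf.H.{u} (F.over X) n)) := by
  let e₀ : (HomInj.AW (WK (J.over X) K)).homology 0 ≅ NN (J.over X) :=
    (Groth.Agent.S6505.result J X K hK).2.some ≪≫
      (constantSheaf (J.over X) AddCommGrpCat.{u}).mapIso HyperSite.freePUnitIso
  let a : Tx J X K ⋙ Hn.{u} 0 ≅ OverShriek.restr J X ⋙ ExtDerived.homF (NN (J.over X)) :=
    Functor.isoWhiskerRight (TxIso J X K) (Hn.{u} 0) ≪≫
      Functor.isoWhiskerLeft (OverShriek.restr J X) (abutIso' (J.over X) K e₀)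
  let b := DerivedComp.rightDerivedCompIso (OverShriek.restr J X)
    (fun Q _ => OverShriek.injective_restr J X Q) (ExtDerived.homF (NN (J.over X))) n
  let _ : HasDerivedCategory.{u + 1} (Sheaf (J.over X) AddCommGrpCat.{u}) :=
    HasDerivedCategory.standard _
  let _ : HasDerivedCategory.{u + 1} AddCommGrpCat.{u} := HasDerivedCategory.standard _
  obtain ⟨e⟩ := ExtDerived.nonempty_iso_rightDerived (NN (J.over X)) n
    ((OverShriek.restr J X).obj F)
  exact ⟨(GrothSSExt.rightDerivedIsoOfIso a n).app F ≪≫ b.app F ≪≫ e.symm⟩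

end OverMain

end Groth.Agent.H34.CechSS
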