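import Groth.Agent.H34.TotQis
set_option autoImplicit false

/-!
# Total complexes: quasi-isomorphisms in the second direction (helper34)
-/

open CategoryTheory Limits HomologicalComplex ComplexShape

namespace Groth.Agent.H34.CechTotA

universe v u
variable {A : Type u} [Category.{v} A] [Abelian A]

variable {K L : HomologicalComplex₂ A (up ℤ) (up ℤ)}
  [K.HasTotal (up ℤ)] [L.HasTotal (up ℤ)] (φ : K ⟶ L)

/-- the flipped morphism -/
abbrev flipMap : K.flip ⟶ L.flip := (HomologicalComplex₂.flipFunctor A (up ℤ) (up ℤ)).map φ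

/-- naturality of the flip isomorphism of total complexes -/
lemma totalFlipIso_naturality :
    HomologicalComplex₂.total.map (flipMap φ) (up ℤ) ≫ (L.totalFlipIso (up ℤ)).hom =
    (K.totalFlipIso (up ℤ)).hom ≫ HomologicalComplex₂.total.map φ (up ℤ) := by
  ext n : 1
  apply HomologicalComplex₂.total.hom_ext
  intro q p h
  simp
  refine (Linear.comp_units_smul _ _ _).trans ?_
  refine Eq.trans ?_ (Linear.units_smul_comp _ _ _).symm
  congr 1
  exact (HomologicalComplex₂.ιTotal_map (K := K) (L := L) φ (up ℤ) p q n _).symm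

/-- If every column `φ.f p` of a morphism of bounded below double complexes is a
quasi-isomorphism, then the induced map on total complexes is a quasi-isomorphism. -/
theorem quasiIso_total_map_of_cols (a b : ℤ)
    (hK : ∀ p q : ℤ, p < a ∨ q < b → IsZero ((K.X p).X q))
    (hL : ∀ p q : ℤ, p < a ∨ q < b → IsZero ((L.X p).X q))
    (hφ : ∀ p : ℤ, QuasiIso (φ.f p)) :
    QuasiIso (HomologicalComplex₂.total.map φ (up ℤ)) := by
  have hrow : TotQis.RowQI (flipMap φ) := by
    intro q i j k l hij hjk hkl W x y hx hxy
    exact TotQis.elemQI_of_quasiIso (φ.f q) i j k l hij hjk hkl x y hx hxy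
  have h1 : QuasiIso (HomologicalComplex₂.total.map (flipMap φ) (up ℤ)) :=
    TotQis.quasiIso_of_elemQI _ (TotQis.elemQI_total (flipMap φ) hrow b a
      (fun p q h => hK q p h.symm) (fun p q h => hL q p h.symm))
  have h2 : QuasiIso (HomologicalComplex₂.total.map (flipMap φ) (up ℤ) ≫
      (L.totalFlipIso (up ℤ)).hom) := inferInstance
  rw [totalFlipIso_naturality] at h2
  exact (quasiIso_iff_comp_left (K.totalFlipIso (up ℤ)).hom _).1 h2

end Groth.Agent.H34.CechTotA
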