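import Groth.Agent.H34.CechTotA
import Groth.Agent.Lead.Coh.Leray
import Groth.Agent.H30.LerayB
import Groth.Prelude.Def_CechTot
import Groth.Agent.H34.CechSS2
set_option autoImplicit false

/-!
# The Čech double complex of a bounded below complex of sheaves acyclic on a cover (helper34)
-/

open CategoryTheory Limits HomologicalComplex ComplexShape Opposite TopologicalSpace

namespace Groth.Agent.H34.CechTotB

universe v u

section Extend

variable {C : Type*} [Category C] [Abelian C] {ι ι' : Type*} {c : ComplexShape ι}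
  {c' : ComplexShape ι'} (e : c.Embedding c')

/-- extension by zero preserves short exact sequences of complexes -/
lemma shortExact_map_extendFunctor (S : ShortComplex (HomologicalComplex C c))
    (hS : S.ShortExact) : (S.map (e.extendFunctor C)).ShortExact := by
  apply HomologicalComplex.shortExact_of_degreewise_shortExact
  intro i'
  by_cases h : ∃ i, e.f i = i'
  · obtain ⟨i, rfl⟩ := h
    have h1 : (S.map (HomologicalComplex.eval C c i)).ShortExact := hS.map_of_exact _
    refine ShortComplex.shortExact_of_iso (ShortComplex.isoMk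
      (HomologicalComplex.extendXIso S.X₁ e rfl).symm
      (HomologicalComplex.extendXIso S.X₂ e rfl).symm
      (HomologicalComplex.extendXIso S.X₃ e rfl).symm ?_ ?_) h1
    · change (S.X₁.extendXIso e rfl).inv ≫ (HomologicalComplex.extendMap S.f e).f (e.f i) =
        S.f.f i ≫ (S.X₂.extendXIso e rfl).inv
      rw [HomologicalComplex.extendMap_f S.f e rfl]
      simp
    · change (S.X₂.extendXIso e rfl).inv ≫ (HomologicalComplex.extendMap S.g e).f (e.f i) =
        S.g.f i ≫ (S.X₃.extendXIso e rfl).inv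
      rw [HomologicalComplex.extendMap_f S.g e rfl]
      simp
  · have hz : ∀ K : HomologicalComplex C c, IsZero ((K.extend e).X i') :=
      fun K => HomologicalComplex.isZero_extend_X K e i' (fun i hi => h ⟨i, hi⟩)
    exact { exact := ShortComplex.exact_of_isZero_X₂ _ (hz S.X₂)
            mono_f := ⟨fun _ _ _ => (hz S.X₁).eq_of_tgt _ _⟩
            epi_g := ⟨fun _ _ _ => (hz S.X₃).eq_of_src _ _⟩ }

end Extend

section Cech

open Groth.Agent.Lead.Cech Groth.Agent.Lead.Coh ZeroObject

variable {X : TopCat.{u}} {ι : Type u} (U : ι → Opens X)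

/-- the presheaf-level (extended) Čech complex functor -/
noncomputable abbrev Pc : ((Opens X)ᵒᵖ ⥤ AddCommGrpCat.{u}) ⥤ CochainComplex AddCommGrpCat.{u} ℤ :=
  cechComplexFunctor (A := AddCommGrpCat.{u}) U ⋙
    ComplexShape.embeddingUpNat.extendFunctor AddCommGrpCat.{u}

/-- the sheaf-level (extended) Čech complex functor -/
noncomputable abbrev Fc : CohTop.Ab X ⥤ CochainComplex AddCommGrpCat.{u} ℤ :=
  sheafToPresheaf (Opens.grothendieckTopology X) AddCommGrpCat.{u} ⋙ Pc U

instance : (cechComplexFunctor (A := AddCommGrpCat.{u}) U).Additive :=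
  inferInstanceAs (CechSS.CK (FormalCoproduct.mk _ U).cech).Additive

instance : (Fc U).Additive := by
  dsimp only [Fc, Pc]
  infer_instance

/-- the property of being acyclic on all finite intersections -/
def acycP : ObjectProperty (CohTop.Ab X) := fun F => Acyc U F

lemma acyc_X₃ {S : ShortComplex (CohTop.Ab X)} (hS : S.ShortExact)
    (h₁ : Acyc U S.X₁) (h₂ : Acyc U S.X₂) : Acyc U S.X₃ := by
  intro p σ q x
  obtain ⟨x₂, hx₂⟩ := Abelian.Ext.covariant_sequence_exact₃ _ hS x rfl (h₁ p σ (q + 1) _)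
  rw [← hx₂, h₂ p σ q x₂, Abelian.Ext.zero_comp]

lemma fc_shortExact {S : ShortComplex (CohTop.Ab X)} (hS : S.ShortExact)
    (h₁ : Acyc U S.X₁) : (S.map (Fc U)).ShortExact :=
  shortExact_map_extendFunctor ComplexShape.embeddingUpNat (cechSC U S) (cech_shortExact U hS h₁)

lemma acyc_X₂ {S : ShortComplex (CohTop.Ab X)} (hS : S.ShortExact)
    (h₁ : Acyc U S.X₁) (h₃ : Acyc U S.X₃) : Acyc U S.X₂ := by
  intro p σ q x
  obtain ⟨x₁, hx₁⟩ := Abelian.Ext.covariant_sequence_exact₂ _ hS x (h₃ p σ q _)
  rw [← hx₁, h₁ p σ q x₁, Abelian.Ext.zero_comp]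

lemma acyc_of_injective (I : CohTop.Ab X) [Injective I] : Acyc U I :=
  fun _ _ _ x => Abelian.Ext.eq_zero_of_injective x

lemma acyc_biprod {F G : CohTop.Ab X} (hF : Acyc U F) (hG : Acyc U G) : Acyc U (F ⊞ G) :=
  acyc_X₂ U (ShortComplex.Splitting.ofHasBinaryBiproduct F G).shortExact hF hG

/-- **Leray**: the Čech double complex functor preserves quasi-isomorphisms between bounded
below complexes of sheaves which are acyclic on all finite intersections. -/
theorem quasiIso_fc_map {K L : CochainComplex (CohTop.Ab X) ℤ} (φ : K ⟶ L) [QuasiIso φ]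
    (a b : ℤ) [K.IsStrictlyGE a] [L.IsStrictlyGE b]
    (hK : ∀ n, Acyc U (K.X n)) (hL : ∀ n, Acyc U (L.X n)) :
    QuasiIso (((Fc U).mapHomologicalComplex (ComplexShape.up ℤ)).map φ) :=
  Groth.Agent.H30.Leray.quasiIso_map (Fc U) (acycP U)
    (fun _ hS h₁ h₂ => ⟨acyc_X₃ U hS h₁ h₂, fc_shortExact U hS h₁⟩)
    ⟨0, isZero_zero _, acyc_of_injective U 0⟩
    (fun _ _ hF hG => (acycP U).le_isoClosure _ (acyc_biprod U hF hG))
    φ a b hK hL

/-- the Čech double complex of a complex of sheaves -/
noncomputable abbrev D (K : CochainComplex (CohTop.Ab X) ℤ) :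
    HomologicalComplex₂ AddCommGrpCat.{u} (ComplexShape.up ℤ) (ComplexShape.up ℤ) :=
  ((Fc U).mapHomologicalComplex (ComplexShape.up ℤ)).obj K

lemma D_eq (K : CochainComplex (CohTop.Ab X) ℤ) :
    D U K = CechTot.cech₂ U ((CechTot.presheafCx X).obj K) := rfl

/-- the map of Čech double complexes -/
noncomputable abbrev Dmap {K L : CochainComplex (CohTop.Ab X) ℤ} (φ : K ⟶ L) : D U K ⟶ D U L :=
  ((Fc U).mapHomologicalComplex (ComplexShape.up ℤ)).map φ

lemma isZero_D (K : CochainComplex (CohTop.Ab X) ℤ) (a : ℤ) [K.IsStrictlyGE a] (p q : ℤ)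
    (h : p < a ∨ q < 0) : IsZero (((D U K).X p).X q) := by
  rcases h with h | h
  · have h1 : IsZero (K.X p) := K.isZero_of_isStrictlyGE a p h
    have h2 : IsZero ((Fc U).obj (K.X p)) := (Fc U).map_isZero h1
    exact (HomologicalComplex.eval _ _ q).map_isZero h2
  · exact HomologicalComplex.isZero_extend_X _ _ _ (fun i hi => by
      have : (i : ℤ) = q := hi
      omega)

/-- the total complex map is a quasi-isomorphism -/
theorem quasiIso_total_Dmap {K L : CochainComplex (CohTop.Ab X) ℤ} (φ : K ⟶ L) [QuasiIso φ]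
    (a : ℤ) [K.IsStrictlyGE a] [L.IsStrictlyGE a]
    (hK : ∀ n, Acyc U (K.X n)) (hL : ∀ n, Acyc U (L.X n)) :
    QuasiIso (HomologicalComplex₂.total.map (Dmap U φ) (ComplexShape.up ℤ)) := by
  have := quasiIso_fc_map U φ a a hK hL
  exact TotQis.quasiIso_total_map (Dmap U φ) a 0 (isZero_D U K a) (isZero_D U L a)

end Cech

end Groth.Agent.H34.CechTotB
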