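import Groth.Agent.H34.CechTotB
set_option autoImplicit false

/-!
# The augmentation of the Čech double complex (helper34)
-/

open CategoryTheory Limits HomologicalComplex ComplexShape Opposite TopologicalSpace

namespace Groth.Agent.H34.CechTotC

universe v u

open Groth.Agent.Lead.Cech Groth.Agent.Lead.Coh Groth.Agent.H34.CechTotB

variable {X : TopCat.{u}} {ι : Type u} (U : ι → Opens X)

/-- sections over the union of the family -/
noncomputable abbrev Γs : CohTop.Ab X ⥤ AddCommGrpCat.{u} :=
  sheafToPresheaf (Opens.grothendieckTopology X) AddCommGrpCat.{u} ⋙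
    (evaluation (Opens X)ᵒᵖ AddCommGrpCat.{u}).obj (op (iSup U))

/-- the augmentation as a morphism of `ℕ`-indexed complexes -/
noncomputable def augN (F : CohTop.Ab X) :
    (HomologicalComplex.single AddCommGrpCat.{u} (ComplexShape.up ℕ) 0).obj ((Γs U).obj F) ⟶
      (cechComplexFunctor U).obj F.obj :=
  (CochainComplex.fromSingle₀Equiv _ _).symm ⟨aug U F, aug_d U F⟩

lemma augN_f_zero (F : CohTop.Ab X) :
    (augN U F).f 0 = (HomologicalComplex.singleObjXSelf (ComplexShape.up ℕ) 0 _).hom ≫ aug U F := by
  simp [augN, CochainComplex.fromSingle₀Equiv]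

/-- the augmentation as a natural transformation (`ℕ`-indexed) -/
noncomputable def augNT :
    Γs U ⋙ HomologicalComplex.single AddCommGrpCat.{u} (ComplexShape.up ℕ) 0 ⟶
      sheafToPresheaf (Opens.grothendieckTopology X) AddCommGrpCat.{u} ⋙ cechComplexFunctor U where
  app F := augN U F
  naturality F G φ := by
    apply HomologicalComplex.from_single_hom_ext
    dsimp
    rw [augN_f_zero, augN_f_zero]
    simp
    exact (aug_naturality U φ).symm

/-- the single row complex functor -/
noncomputable abbrev Gs : CohTop.Ab X ⥤ CochainComplex AddCommGrpCat.{u} ℤ :=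
  (Γs U ⋙ HomologicalComplex.single AddCommGrpCat.{u} (ComplexShape.up ℕ) 0) ⋙
    ComplexShape.embeddingUpNat.extendFunctor AddCommGrpCat.{u}

/-- the augmentation `Gs ⟶ Fc` -/
noncomputable def αNT : Gs U ⟶ Fc U :=
  Functor.whiskerRight (augNT U) (ComplexShape.embeddingUpNat.extendFunctor AddCommGrpCat.{u})

/-- the augmentation is a quasi-isomorphism on injective sheaves -/
lemma quasiIso_augN (I : CohTop.Ab X) [Injective I] : QuasiIso (augN U I) := by
  refine ⟨fun n => ?_⟩
  cases n with
  | zero =>
    rw [CochainComplex.quasiIsoAt₀_iff, ShortComplex.quasiIso_iff_of_zeros]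
    · have hf : ((shortComplexFunctor' AddCommGrpCat (up ℕ) 0 0 1).map (augN U I)).τ₂ =
          (HomologicalComplex.singleObjXSelf (ComplexShape.up ℕ) 0 _).hom ≫ aug U I :=
        augN_f_zero U I
      constructor
      · rw [ShortComplex.ab_exact_iff]
        intro x hx
        obtain ⟨s, hs⟩ := exists_aug_eq U I x hx
        refine ⟨(HomologicalComplex.singleObjXSelf (V := AddCommGrpCat.{u}) (ComplexShape.up ℕ) 0
          (I.obj.obj (op (iSup U)))).inv s, ?_⟩
        change ((augN U I).f 0) _ = x
        rw [augN_f_zero]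
        simp
        exact hs
      · rw [hf]
        have : Mono (aug U I) := (AddCommGrpCat.mono_iff_injective _).2 (aug_injective U I)
        exact @mono_comp _ _ _ _ _ _ inferInstance _ this
    all_goals first | rfl | (apply HomologicalComplex.shape; simp)
  | succ n =>
    rw [quasiIsoAt_iff_exactAt]
    · exact exactAt_of_injective U I n
    · apply CochainComplex.exactAt_succ_single_obj


instance : (Gs U).Additive := by
  dsimp only [Gs, Γs]
  infer_instance

/-- the single-row double complex -/
noncomputable abbrev B (K : CochainComplex (CohTop.Ab X) ℤ) :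
    HomologicalComplex₂ AddCommGrpCat.{u} (ComplexShape.up ℤ) (ComplexShape.up ℤ) :=
  ((Gs U).mapHomologicalComplex (ComplexShape.up ℤ)).obj K

/-- the augmentation of double complexes -/
noncomputable abbrev βmap (K : CochainComplex (CohTop.Ab X) ℤ) : B U K ⟶ D U K :=
  (NatTrans.mapHomologicalComplex (αNT U) (ComplexShape.up ℤ)).app K

lemma isZero_B (K : CochainComplex (CohTop.Ab X) ℤ) (a : ℤ) [K.IsStrictlyGE a] (p q : ℤ)
    (h : p < a ∨ q < 0) : IsZero (((B U K).X p).X q) := by
  rcases h with h | h
  · have h1 : IsZero (K.X p) := K.isZero_of_isStrictlyGE a p h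
    have h2 : IsZero ((Gs U).obj (K.X p)) := (Gs U).map_isZero h1
    exact (HomologicalComplex.eval _ _ q).map_isZero h2
  · exact HomologicalComplex.isZero_extend_X _ _ _ (fun i hi => by
      have : (i : ℤ) = q := hi
      omega)

lemma isZero_B_of_ne (K : CochainComplex (CohTop.Ab X) ℤ) (p q : ℤ) (h : q ≠ 0) :
    IsZero (((B U K).X p).X q) := by
  by_cases hq : q < 0
  · exact HomologicalComplex.isZero_extend_X _ _ _ (fun i hi => by
      have : (i : ℤ) = q := hi
      omega)
  · obtain ⟨k, rfl⟩ : ∃ k : ℕ, ((k + 1 : ℕ) : ℤ) = q := ⟨(q - 1).toNat, by omega⟩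
    refine IsZero.of_iso ?_ (HomologicalComplex.extendXIso _ ComplexShape.embeddingUpNat
      (i := k + 1) rfl)
    exact HomologicalComplex.isZero_single_obj_X (ComplexShape.up ℕ) 0 _ _ (by omega)

/-- the augmentation induces a quasi-isomorphism on total complexes, for bounded below
complexes of injective sheaves -/
theorem quasiIso_total_βmap (I : CochainComplex (CohTop.Ab X) ℤ) (a : ℤ) [I.IsStrictlyGE a]
    [∀ n, Injective (I.X n)] :
    QuasiIso (HomologicalComplex₂.total.map (βmap U I) (ComplexShape.up ℤ)) := by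
  refine CechTotA.quasiIso_total_map_of_cols (βmap U I) a 0 (isZero_B U I a) (isZero_D U I a)
    (fun p => ?_)
  have := quasiIso_augN U (I.X p)
  change QuasiIso (HomologicalComplex.extendMap (augN U (I.X p)) ComplexShape.embeddingUpNat)
  infer_instance

/-- the complex of sections over the union -/
noncomputable abbrev M (K : CochainComplex (CohTop.Ab X) ℤ) : CochainComplex AddCommGrpCat.{u} ℤ :=
  (CohCx.sectCx (Opens.grothendieckTopology X) (iSup U)).obj K

lemma h0 : ComplexShape.embeddingUpNat.f 0 = (0 : ℤ) := rfl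

/-- the degree zero term of an extended single complex -/
noncomputable def rowIso (A : AddCommGrpCat.{u}) :
    ((ComplexShape.embeddingUpNat.extendFunctor AddCommGrpCat.{u}).obj
      ((HomologicalComplex.single AddCommGrpCat.{u} (ComplexShape.up ℕ) 0).obj A)).X 0 ≅ A :=
  HomologicalComplex.extendXIso _ ComplexShape.embeddingUpNat h0 ≪≫
    HomologicalComplex.singleObjXSelf (ComplexShape.up ℕ) 0 _

lemma rowIso_naturality {A A' : AddCommGrpCat.{u}} (g : A ⟶ A') :
    ((ComplexShape.embeddingUpNat.extendFunctor AddCommGrpCat.{u}).map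
      ((HomologicalComplex.single AddCommGrpCat.{u} (ComplexShape.up ℕ) 0).map g)).f 0 ≫
        (rowIso A').hom = (rowIso A).hom ≫ g := by
  dsimp only [rowIso, Iso.trans_hom]
  change (HomologicalComplex.extendMap ((HomologicalComplex.single AddCommGrpCat.{u}
    (ComplexShape.up ℕ) 0).map g) ComplexShape.embeddingUpNat).f 0 ≫ _ = _
  rw [HomologicalComplex.extendMap_f _ ComplexShape.embeddingUpNat h0,
    HomologicalComplex.single_map_f_self]
  simp
  rfl

/-- the nonzero entries of the single-row double complex -/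
noncomputable def cIso (K : CochainComplex (CohTop.Ab X) ℤ) (p : ℤ) :
    ((B U K).X p).X 0 ≅ (M U K).X p :=
  rowIso ((Γs U).obj (K.X p))

lemma cIso_d (K : CochainComplex (CohTop.Ab X) ℤ) (p p' : ℤ) :
    ((B U K).d p p').f 0 ≫ (cIso U K p').hom = (cIso U K p).hom ≫ (M U K).d p p' :=
  rowIso_naturality ((Γs U).map (K.d p p'))

lemma π_ι_B (K : CochainComplex (CohTop.Ab X) ℤ) (n : ℤ) :
    TotQis.π (B U K) n 0 n (by omega) ≫ TotQis.ι (B U K) n 0 n (by omega) = 𝟙 _ := by
  apply HomologicalComplex₂.total.hom_ext
  intro p q h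
  have h' : p + q = n := h
  change TotQis.ι (B U K) p q n h' ≫ _ = TotQis.ι (B U K) p q n h' ≫ _
  rw [Category.comp_id]
  by_cases hq : q = 0
  · subst hq
    exact TotQis.ι_π_ι (B U K) n 0 n (by omega) p 0 h' (by omega)
  · exact (isZero_B_of_ne U K p q hq).eq_of_src _ _

/-- the total complex of the single-row double complex -/
noncomputable def totalBIso (K : CochainComplex (CohTop.Ab X) ℤ) :
    (B U K).total (ComplexShape.up ℤ) ≅ M U K :=
  HomologicalComplex.Hom.isoOfComponents
    (fun n =>
      { hom := TotQis.π (B U K) n 0 n (by omega) ≫ (cIso U K n).hom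
        inv := (cIso U K n).inv ≫ TotQis.ι (B U K) n 0 n (by omega)
        hom_inv_id := by
          rw [Category.assoc, Iso.hom_inv_id_assoc, π_ι_B]
        inv_hom_id := by
          rw [Category.assoc, TotQis.ι_π_self_assoc, Iso.inv_hom_id] })
    (fun n n' h => by
      have hn : n + 1 = n' := h
      dsimp only
      rw [Category.assoc, ← cIso_d U K n n', ← Category.assoc, ← Category.assoc,
        TotQis.d_π (B U K) n (-1) n n' 0 n' (by omega) hn (by omega) hn]
      have hz : TotQis.π (B U K) n' (-1) n (by omega) = 0 :=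
        (isZero_B_of_ne U K n' (-1) (by omega)).eq_of_tgt _ _
      rw [hz, zero_comp, smul_zero]
      congr 1
      exact (add_zero _).symm)

/-- the entries of the Čech double complex -/
noncomputable def dIso (K : CochainComplex (CohTop.Ab X) ℤ) (p : ℤ) (k : ℕ) :
    ((D U K).X p).X k ≅ (Groth.Agent.Lead.Cech.K U (K.X p).obj).X k :=
  HomologicalComplex.extendXIso _ ComplexShape.embeddingUpNat rfl

/-- the augmentation from the complex of sections to the total Čech complex -/
noncomputable def augTot (K : CochainComplex (CohTop.Ab X) ℤ) :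
    M U K ⟶ (D U K).total (ComplexShape.up ℤ) :=
  (totalBIso U K).inv ≫ HomologicalComplex₂.total.map (βmap U K) (ComplexShape.up ℤ)

lemma βmap_f_f_zero (K : CochainComplex (CohTop.Ab X) ℤ) (n : ℤ) :
    ((βmap U K).f n).f 0 = (cIso U K n).hom ≫ aug U (K.X n) ≫ (dIso U K n 0).inv := by
  change (HomologicalComplex.extendMap (augN U (K.X n)) ComplexShape.embeddingUpNat).f 0 = _
  rw [HomologicalComplex.extendMap_f _ ComplexShape.embeddingUpNat h0, augN_f_zero]
  simp [cIso, rowIso, dIso]
  rfl

lemma augTot_f (K : CochainComplex (CohTop.Ab X) ℤ) (n : ℤ) :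
    (augTot U K).f n = aug U (K.X n) ≫ (dIso U K n 0).inv ≫ TotQis.ι (D U K) n 0 n (by omega) := by
  dsimp only [augTot, totalBIso]
  rw [HomologicalComplex.comp_f]
  change ((cIso U K n).inv ≫ TotQis.ι (B U K) n 0 n (by omega)) ≫ _ = _
  rw [Category.assoc, HomologicalComplex₂.ιTotal_map, βmap_f_f_zero]
  simp
  rfl

theorem quasiIso_augTot (I : CochainComplex (CohTop.Ab X) ℤ) (a : ℤ) [I.IsStrictlyGE a]
    [∀ n, Injective (I.X n)] : QuasiIso (augTot U I) := by
  have := quasiIso_total_βmap U I a
  dsimp only [augTot]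
  infer_instance

end Groth.Agent.H34.CechTotC
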