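import Groth.Agent.H34.AbComplexElem
import Mathlib.Algebra.Homology.QuasiIso
import Mathlib.GroupTheory.QuotientGroup.Basic
set_option autoImplicit false

/-!
# The class map from cocycles to homology for complexes of abelian groups (helper34)
-/

universe u

open CategoryTheory CategoryTheory.Limits

namespace Groth.Agent.H34.Cls

/-- two surjections with the same kernel have isomorphic targets, compatibly -/
theorem exists_addEquiv_of_ker_eq {B C C' : Type*} [AddCommGroup B] [AddCommGroup C]
    [AddCommGroup C'] (g : B →+ C) (g' : B →+ C') (hg : Function.Surjective g)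
    (hg' : Function.Surjective g') (h : ∀ b, g b = 0 ↔ g' b = 0) :
    ∃ e : C ≃+ C', ∀ b, e (g b) = g' b := by
  have hk : g.ker = g'.ker := by
    ext b
    simp only [AddMonoidHom.mem_ker, h]
  refine ⟨(QuotientAddGroup.quotientKerEquivOfSurjective g hg).symm.trans
    ((QuotientAddGroup.quotientAddEquivOfEq hk).trans
      (QuotientAddGroup.quotientKerEquivOfSurjective g' hg')), fun b => ?_⟩
  have h1 : (QuotientAddGroup.quotientKerEquivOfSurjective g hg).symm (g b) =
      (QuotientAddGroup.mk b : B ⧸ g.ker) := by
    rw [AddEquiv.symm_apply_eq]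
    rfl
  simp only [AddEquiv.trans_apply, h1]
  rfl

variable {ι : Type*} {c : ComplexShape ι} (M : HomologicalComplex AddCommGrpCat.{u} c)

/-- the lift of a cocycle to the cycles object -/
noncomputable def lift (m m'' : ι) (h : c.next m = m'') :
    AddCommGrpCat.of (M.d m m'').hom.ker ⟶ M.cycles m :=
  M.liftCycles (AddCommGrpCat.ofHom (M.d m m'').hom.ker.subtype) m'' h (by
    ext x
    exact x.2)

lemma iCycles_lift (m m'' : ι) (h : c.next m = m'') (x : (M.d m m'').hom.ker) :
    M.iCycles m (lift M m m'' h x) = x.1 := by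
  have := ConcreteCategory.congr_hom (M.liftCycles_i (AddCommGrpCat.ofHom
    (M.d m m'').hom.ker.subtype) m'' h (by ext x; exact x.2)) x
  rwa [ConcreteCategory.comp_apply] at this

/-- the class map from cocycles to homology -/
noncomputable def cls (m m'' : ι) (h : c.next m = m'') : (M.d m m'').hom.ker →+ M.homology m :=
  (lift M m m'' h ≫ M.homologyπ m).hom

lemma cls_apply (m m'' : ι) (h : c.next m = m'') (x : (M.d m m'').hom.ker) :
    cls M m m'' h x = M.homologyπ m (lift M m m'' h x) := rfl

lemma cls_surjective (m m'' : ι) (h : c.next m = m'') : Function.Surjective (cls M m m'' h) := by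
  intro y
  obtain ⟨z, rfl⟩ := homologyπ_surjective M m y
  refine ⟨⟨M.iCycles m z, d_iCycles_apply M m m'' z⟩, ?_⟩
  rw [cls_apply]
  congr 1
  apply iCycles_injective
  rw [iCycles_lift]

lemma cls_eq_zero_iff (m' m m'' : ι) (h' : c.prev m = m') (h : c.next m = m'')
    (x : (M.d m m'').hom.ker) :
    cls M m m'' h x = 0 ↔ ∃ y : M.X m', M.d m' m y = x.1 := by
  constructor
  · intro hx
    obtain ⟨y, hy⟩ := exists_of_homologyπ_eq_zero M m' m h' _ hx
    refine ⟨y, ?_⟩
    rw [← iCycles_toCycles_apply, hy]
    exact iCycles_lift M m m'' h x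
  · rintro ⟨y, hy⟩
    rw [cls_apply]
    have : lift M m m'' h x = M.toCycles m' m y := by
      apply iCycles_injective
      rw [iCycles_lift, iCycles_toCycles_apply, hy]
    rw [this, homologyπ_toCycles_apply]

variable {M}

lemma homologyMap_cls {N : HomologicalComplex AddCommGrpCat.{u} c} (φ : M ⟶ N)
    (m m'' : ι) (h : c.next m = m'') (x : (M.d m m'').hom.ker) :
    HomologicalComplex.homologyMap φ m (cls M m m'' h x) =
      cls N m m'' h ⟨φ.f m x.1, by
        have := ConcreteCategory.congr_hom (φ.comm m m'') x.1
        rw [ConcreteCategory.comp_apply, ConcreteCategory.comp_apply] at this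
        change N.d m m'' (φ.f m x.1) = 0
        rw [this]
        have hx : M.d m m'' x.1 = 0 := x.2
        rw [hx, map_zero]⟩ := by
  rw [cls_apply, cls_apply, homologyMap_homologyπ_apply]
  congr 1
  apply iCycles_injective
  rw [iCycles_cyclesMap_apply, iCycles_lift, iCycles_lift]

end Groth.Agent.H34.Cls
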