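import Groth.Agent.H34.CechTotC
import Groth.Agent.H34.ClsMap
import Groth.Agent.H30.HDSheafify
set_option autoImplicit false

/-!
# Hypercohomology of a K-injective complex of sheaves on a space via sections (helper34)
-/

open CategoryTheory Limits HomologicalComplex ComplexShape Opposite TopologicalSpace DerivedCategory

namespace Groth.Agent.H34.CechTotD

universe u

open Groth.Agent.H30 Groth.Agent.H30.HDSheafify

variable {X : TopCat.{u}} [HasDerivedCategory.{u} (CohTop.Ab X)]

/-- sections of a complex of sheaves over an open -/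
noncomputable abbrev MV (V : Opens X) (I : CochainComplex (CohTop.Ab X) ℤ) :
    CochainComplex AddCommGrpCat.{u} ℤ :=
  (CohCx.sectCx (Opens.grothendieckTopology X) V).obj I

/-- the class map to homology of sections -/
noncomputable abbrev clsV (V : Opens X) (I : CochainComplex (CohTop.Ab X) ℤ) (q : ℤ) :
    ((T I q).g.app (op V)).hom.ker →+ (MV V I).homology q :=
  Cls.cls (MV V I) q ((ComplexShape.up ℤ).next q) rfl

/-- hypercohomology of a K-injective complex via sections -/
theorem exists_hduEquiv (V : Opens X) (I : CochainComplex (CohTop.Ab X) ℤ) [I.IsKInjective]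
    (q : ℤ) :
    ∃ e : CohCx.HDU (Q.obj I) q V ≃+ (MV V I).homology q,
      ∀ x : ((T I q).g.app (op V)).hom.ker, e (c I q (op V) x) = clsV V I q x := by
  refine Cls.exists_addEquiv_of_ker_eq (c I q (op V)) (clsV V I q) (c_surjective I q (op V))
    (Cls.cls_surjective _ _ _ _) (fun b => ?_)
  rw [c_eq_zero_iff]
  exact (Cls.cls_eq_zero_iff (MV V I) ((ComplexShape.up ℤ).prev q) q _ rfl rfl b).symm

end Groth.Agent.H34.CechTotD
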