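import Groth.Agent.H34.CechTotD
set_option autoImplicit false

/-!
# Čech hypercohomology of an acyclic cover computes hypercohomology (helper34)
-/

open CategoryTheory Limits HomologicalComplex ComplexShape Opposite TopologicalSpace DerivedCategory

namespace Groth.Agent.H34.CechTotE

universe u

open Groth.Agent.H30 Groth.Agent.H30.HDSheafify Groth.Agent.Lead.Cech
open Groth.Agent.H34.CechTotB Groth.Agent.H34.CechTotC Groth.Agent.H34.CechTotD

variable {X : TopCat.{u}} [HasDerivedCategory.{u} (CohTop.Ab X)]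

/-- the isomorphism in the derived category attached to a quasi-isomorphism, shifted -/
noncomputable def shiftQIso {K I : CochainComplex (CohTop.Ab X) ℤ} (i : K ⟶ I)
    [QuasiIso i] (n : ℤ) :
    (shiftFunctor (DerivedCategory (CohTop.Ab X)) n).obj (Q.obj K) ≅
      (shiftFunctor (DerivedCategory (CohTop.Ab X)) n).obj (Q.obj I) :=
  have : IsIso (Q.map i) := (DerivedCategory.isIso_Q_map_iff_quasiIso _ i).2 inferInstance
  (shiftFunctor (DerivedCategory (CohTop.Ab X)) n).mapIso (asIso (Q.map i))

/-- hypercohomology along a quasi-isomorphism -/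
noncomputable def hduEquivOfQuasiIso {K I : CochainComplex (CohTop.Ab X) ℤ} (i : K ⟶ I)
    [QuasiIso i] (n : ℤ) (V : Opens X) :
    CohCx.HDU (Q.obj K) n V ≃+ CohCx.HDU (Q.obj I) n V where
  toFun x := x ≫ (shiftQIso i n).hom
  invFun y := y ≫ (shiftQIso i n).inv
  left_inv x := by
    change (x ≫ (shiftQIso i n).hom) ≫ (shiftQIso i n).inv = x
    rw [Category.assoc, Iso.hom_inv_id, Category.comp_id]
  right_inv y := by
    change (y ≫ (shiftQIso i n).inv) ≫ (shiftQIso i n).hom = y
    rw [Category.assoc, Iso.inv_hom_id, Category.comp_id]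
  map_add' x y := Preadditive.add_comp _ _ _ x y _

omit [HasDerivedCategory.{u} (CohTop.Ab X)] in
lemma isStrictlyGE_of_isZero (K : CochainComplex (CohTop.Ab X) ℤ) (a : ℤ)
    (ha : ∀ i : ℤ, i < a → IsZero (K.X i)) : K.IsStrictlyGE a := by
  rw [CochainComplex.isStrictlyGE_iff]
  exact ha

omit [HasDerivedCategory.{u} (CohTop.Ab X)] in
lemma acyc_of_subsingleton {ι : Type u} (U : ι → Opens X) (F : CohTop.Ab X)
    (h : ∀ (p : ℕ) (c : Fin (p + 1) → ι) (q : ℕ),
      Subsingleton (CohTop.HU F (q + 1) (iInf fun k => U (c k)))) : Acyc U F := by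
  intro p σ q x
  have h1 := h p σ q
  rw [← cechOpen_eq_iInf] at h1
  exact @Subsingleton.elim _ h1 x 0

/-- Čech hypercohomology of a cover by acyclic opens is hypercohomology of the union -/
theorem nonempty_hyperH_addEquiv {ι : Type u} (U : ι → Opens X)
    (K : CochainComplex (CohTop.Ab X) ℤ) (a : ℤ) [K.IsStrictlyGE a]
    (hK : ∀ n, Acyc U (K.X n)) (n : ℤ) :
    Nonempty (↑(CechTot.hyperH U ((CechTot.presheafCx X).obj K) n) ≃+
      CohCx.HDU (Q.obj K) n (iSup U)) := by
  obtain ⟨I, i, hqi, hinj, hI⟩ :=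
    CochainComplex.Plus.modelCategoryQuillen.exists_quasiIso_injective K a
  have hKI : I.IsKInjective := CochainComplex.isKInjective_of_injective I a
  obtain ⟨e₂, -⟩ := exists_hduEquiv (iSup U) I n
  have h3 := quasiIso_augTot U I a
  have h4 := quasiIso_total_Dmap U i a hK (fun n => acyc_of_injective U (I.X n))
  let e₃ : (M U I).homology n ≅ ((D U I).total (ComplexShape.up ℤ)).homology n :=
    asIso (HomologicalComplex.homologyMap (augTot U I) n)
  let e₄ : ((D U K).total (ComplexShape.up ℤ)).homology n ≅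
      ((D U I).total (ComplexShape.up ℤ)).homology n :=
    asIso (HomologicalComplex.homologyMap
      (HomologicalComplex₂.total.map (Dmap U i) (ComplexShape.up ℤ)) n)
  exact ⟨((e₄ ≪≫ e₃.symm).addCommGroupIsoToAddEquiv.trans e₂.symm).trans
    (hduEquivOfQuasiIso i n (iSup U)).symm⟩

end Groth.Agent.H34.CechTotE
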