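import Groth.Prelude.Def_ModSite
import Mathlib.Algebra.Category.ModuleCat.ChangeOfRings
import Mathlib.Algebra.Category.ModuleCat.Sheaf.Quasicoherent

/-!
# Modules on a site with the chaotic topology: base-change maps

For a ringed site `(C, J, O)` and a morphism `g : U ⟶ V` we define the base-change map
`bcMap O F g : F(V) ⊗_{O(V)} O(U) ⟶ F(U)` and the natural transformation `bcNat O g`.
When `J = ⊥`, every presheaf of modules is a sheaf, so evaluation preserves colimits, and the
base-change maps of a module with a global presentation are isomorphisms.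
-/

universe u
open CategoryTheory Opposite Limits TensorProduct

namespace Groth.Agent.H34.Chaotic

section General

universe v₁ v₂ u₁ u₂ w w'

variable {A : Type u₁} [Category.{v₁} A] {B : Type u₂} [Category.{v₂} B] {F G : A ⥤ B}
  (β : F ⟶ G)

/-- A natural transformation between functors preserving a colimit is an isomorphism at the
colimit as soon as it is at each object of the diagram. -/
theorem isIso_app_of_isColimit {K : Type w} [Category.{w'} K] {D : K ⥤ A} {c : Cocone D}
    (hc : IsColimit c) [PreservesColimit D F] [PreservesColimit D G]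
    (h : ∀ k, IsIso (β.app (D.obj k))) : IsIso (β.app c.pt) := by
  obtain ⟨e, he⟩ : ∃ e : D ⋙ F ≅ D ⋙ G, ∀ k, e.hom.app k = β.app (D.obj k) :=
    ⟨NatIso.ofComponents (fun k => asIso (β.app (D.obj k))) (fun f => by simp), fun k => rfl⟩
  let iso := (isColimitOfPreserves F hc).coconePointsIsoOfNatIso (isColimitOfPreserves G hc) e
  have : iso.hom = β.app c.pt := by
    apply (isColimitOfPreserves F hc).hom_ext
    intro k
    rw [IsColimit.comp_coconePointsIsoOfNatIso_hom, he]
    simp
  rw [← this]
  infer_instance

/-- Dual version for limits. -/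
theorem isIso_app_of_isLimit {K : Type w} [Category.{w'} K] {D : K ⥤ A} {c : Cone D}
    (hc : IsLimit c) [PreservesLimit D F] [PreservesLimit D G]
    (h : ∀ k, IsIso (β.app (D.obj k))) : IsIso (β.app c.pt) := by
  obtain ⟨e, he⟩ : ∃ e : D ⋙ F ≅ D ⋙ G, ∀ k, e.hom.app k = β.app (D.obj k) :=
    ⟨NatIso.ofComponents (fun k => asIso (β.app (D.obj k))) (fun f => by simp), fun k => rfl⟩
  let iso := (isLimitOfPreserves F hc).conePointsIsoOfNatIso (isLimitOfPreserves G hc) e
  have : iso.hom = β.app c.pt := by
    apply (isLimitOfPreserves G hc).hom_ext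
    intro k
    rw [IsLimit.conePointsIsoOfNatIso_hom_comp, he]
    simp
  rw [← this]
  infer_instance

end General

variable {C : Type u} [SmallCategory C] {J : GrothendieckTopology C}

/-- On a site with the chaotic topology, every presheaf of modules is a sheaf. -/
theorem forget_essSurj (hJ : J = ⊥) (R : Sheaf J RingCat.{u}) :
    (SheafOfModules.forget.{u} R).EssSurj where
  mem_essImage P := by
    subst hJ
    exact ⟨⟨P, Presheaf.isSheaf_bot _⟩, ⟨Iso.refl _⟩⟩

/-- On a site with the chaotic topology, the forgetful functor from sheaves of modules to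
presheaves of modules is an equivalence. -/
theorem forget_isEquivalence (hJ : J = ⊥) (R : Sheaf J RingCat.{u}) :
    (SheafOfModules.forget.{u} R).IsEquivalence := by
  have := forget_essSurj hJ R
  exact { }

variable (O : Sheaf J CommRingCat.{u})

/-- evaluation functor typed over the commutative ring -/
noncomputable def ev (V : C) : ModSite.Mod O ⥤ ModuleCat.{u} (O.obj.obj (op V)) :=
  SheafOfModules.evaluation (ModSite.ringSh O) (op V)

noncomputable instance (V : C) : PreservesLimitsOfSize.{u, u} (ev O V) :=
  SheafOfModules.evaluationPreservesLimitsOfSize _ _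

noncomputable instance (V : C) : PreservesFiniteLimits (ev O V) :=
  SheafOfModules.Finite.evaluationPreservesFiniteLimits _ _

theorem ev_preservesColimits (hJ : J = ⊥) (V : C) :
    PreservesColimitsOfSize.{u, u} (ev O V) := by
  have := forget_isEquivalence hJ (ModSite.ringSh O)
  have h1 : PreservesColimitsOfSize.{u, u} (SheafOfModules.forget.{u} (ModSite.ringSh O)) :=
    inferInstance
  have h2 : PreservesColimitsOfSize.{u, u}
    (PresheafOfModules.evaluation.{u} (ModSite.ringSh O).obj (op V)) :=
      PresheafOfModules.evaluation_preservesColimitsOfSize.{u, u, u, u, u, u} _ _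
  exact (comp_preservesColimits (SheafOfModules.forget.{u} (ModSite.ringSh O))
    (PresheafOfModules.evaluation.{u} (ModSite.ringSh O).obj (op V)) :)

/-- base change map -/
noncomputable def bcMap (F : ModSite.Mod O) {U V : C} (g : U ⟶ V) :
    (ModuleCat.extendScalars (O.obj.map g.op).hom).obj ((ev O V).obj F) ⟶ (ev O U).obj F :=
  ((ModuleCat.extendRestrictScalarsAdj (O.obj.map g.op).hom).homEquiv
      (F.val.obj (op V) : ModuleCat.{u} (O.obj.obj (op V)))
      (F.val.obj (op U) : ModuleCat.{u} (O.obj.obj (op U)))).symm (F.val.map g.op)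

/-- the restriction map, typed over commutative rings -/
noncomputable def resMap (F : ModSite.Mod O) {U V : C} (g : U ⟶ V) :
    (ev O V).obj F ⟶ (ModuleCat.restrictScalars (O.obj.map g.op).hom).obj ((ev O U).obj F) :=
  F.val.map g.op

lemma bcMap_eq (F : ModSite.Mod O) {U V : C} (g : U ⟶ V) :
    bcMap O F g = ((ModuleCat.extendRestrictScalarsAdj (O.obj.map g.op).hom).homEquiv _ _).symm
      (resMap O F g) := rfl

lemma resMap_naturality {F G : ModSite.Mod O} (α : F ⟶ G) {U V : C} (g : U ⟶ V) :
    resMap O F g ≫ (ModuleCat.restrictScalars (O.obj.map g.op).hom).map ((ev O U).map α) =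
      (ev O V).map α ≫ resMap O G g :=
  α.val.naturality g.op

/-- base change natural transformation -/
noncomputable def bcNat {U V : C} (g : U ⟶ V) :
    ev O V ⋙ ModuleCat.extendScalars (O.obj.map g.op).hom ⟶ ev O U where
  app F := bcMap O F g
  naturality F G α := by
    dsimp only [Functor.comp_obj, Functor.comp_map]
    rw [bcMap_eq, bcMap_eq, ← Adjunction.homEquiv_naturality_left_symm,
      ← Adjunction.homEquiv_naturality_right_symm, resMap_naturality]

@[simp] lemma bcNat_app {U V : C} (g : U ⟶ V) (F : ModSite.Mod O) :
    (bcNat O g).app F = bcMap O F g := rfl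

/-- the restriction map as a plain function -/
noncomputable def res (F : ModSite.Mod O) {U V : C} (g : U ⟶ V) (m : (ev O V).obj F) :
    (ev O U).obj F := (resMap O F g).hom m

lemma bcMap_tmul (F : ModSite.Mod O) {U V : C} (g : U ⟶ V) (s : O.obj.obj (op U))
    (m : (ev O V).obj F) :
    (bcMap O F g).hom (s ⊗ₜ m) = s • res O F g m := by
  rfl

/-- elements of the unit module are ring elements -/
def unitEl {V : C} (r : O.obj.obj (op V)) : (ev O V).obj (ModSite.unit O) := r

lemma res_unit {U V : C} (g : U ⟶ V) (r : O.obj.obj (op V)) :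
    res O (ModSite.unit O) g (unitEl O r) = unitEl O ((O.obj.map g.op).hom r) := rfl

lemma smul_unitEl {V : C} (r s : O.obj.obj (op V)) : r • unitEl O s = unitEl O (r * s) := rfl

lemma unitEl_surj {V : C} (x : (ev O V).obj (ModSite.unit O)) : ∃ r, unitEl O r = x := ⟨x, rfl⟩

/-- the ring element underlying an element of the unit module -/
def unitVal {V : C} (x : (ev O V).obj (ModSite.unit O)) : O.obj.obj (op V) := x

lemma unitVal_unitEl {V : C} (r : O.obj.obj (op V)) : unitVal O (unitEl O r) = r := rfl
lemma unitEl_unitVal {V : C} (x : (ev O V).obj (ModSite.unit O)) :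
    unitEl O (unitVal O x) = x := rfl
lemma unitVal_add {V : C} (x y : (ev O V).obj (ModSite.unit O)) :
    unitVal O (x + y) = unitVal O x + unitVal O y := rfl
lemma unitVal_zero {V : C} : unitVal O (0 : (ev O V).obj (ModSite.unit O)) = 0 := rfl
lemma unitVal_smul {V : C} (s : O.obj.obj (op V)) (x : (ev O V).obj (ModSite.unit O)) :
    unitVal O (s • x) = s * unitVal O x := rfl

set_option backward.isDefEq.respectTransparency false in
open ChangeOfRings in
/-- The base change map of the structure sheaf is an isomorphism. -/
theorem isIso_bcMap_unit {U V : C} (g : U ⟶ V) : IsIso (bcMap O (ModSite.unit O) g) := by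
  rw [ConcreteCategory.isIso_iff_bijective]
  let f := (O.obj.map g.op).hom
  have key : ∀ z : (ModuleCat.extendScalars f).obj ((ev O V).obj (ModSite.unit O)),
      z = (unitVal O ((bcMap O (ModSite.unit O) g).hom z)) ⊗ₜ[_, f] (unitEl O 1) := by
    intro z
    induction z using TensorProduct.induction_on with
    | zero =>
      rw [map_zero, unitVal_zero]
      exact (TensorProduct.zero_tmul _ _).symm
    | tmul s m =>
      obtain ⟨r, rfl⟩ := unitEl_surj O m
      erw [bcMap_tmul O (ModSite.unit O) g s (unitEl O r)]
      rw [res_unit, smul_unitEl, unitVal_unitEl]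
      have h1 : unitEl O r = r • unitEl O (1 : O.obj.obj (op V)) := by
        rw [smul_unitEl, mul_one]
      rw [h1]
      refine (TensorProduct.smul_tmul r s (unitEl O 1)).symm.trans ?_
      congr 1
      exact mul_comm (f r) (s : O.obj.obj (op U))
    | add x y hx hy =>
      rw [map_add, unitVal_add]
      refine Eq.trans ?_ (TensorProduct.add_tmul
        (R := O.obj.obj (op V))
        (M := (ModuleCat.restrictScalars f).obj (ModuleCat.of (O.obj.obj (op U)) (O.obj.obj (op U))))
        _ _ _).symm
      exact congrArg₂ (· + ·) hx hy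
  constructor
  · intro z w h
    rw [key z, key w, h]
  · intro x
    refine ⟨(unitVal O x) ⊗ₜ[_, f] (unitEl O 1), ?_⟩
    erw [bcMap_tmul O (ModSite.unit O) g (unitVal O x) (unitEl O 1)]
    rw [res_unit, smul_unitEl, map_one, mul_one, unitEl_unitVal]

section Colim

variable (hJ : J = ⊥)
include hJ

/-- Closure of the iso-locus of the base change maps under colimits (chaotic topology). -/
theorem isIso_bcMap_of_isColimit {U V : C} (g : U ⟶ V) {K : Type u} [Category.{u} K]
    {D : K ⥤ ModSite.Mod O} {c : Cocone D} (hc : IsColimit c)
    (h : ∀ k, IsIso (bcMap O (D.obj k) g)) : IsIso (bcMap O c.pt g) := by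
  have hU := ev_preservesColimits O hJ U
  have hV := ev_preservesColimits O hJ V
  have : PreservesColimitsOfSize.{u, u}
      (ev O V ⋙ ModuleCat.extendScalars (O.obj.map g.op).hom) := comp_preservesColimits _ _
  exact isIso_app_of_isColimit (bcNat O g) hc h

end Colim


section Colim

variable (hJ : J = ⊥)
include hJ

theorem ev_preservesFiniteColimits (V : C) : PreservesFiniteColimits (ev O V) := by
  have := ev_preservesColimits O hJ V
  exact PreservesColimitsOfSize.preservesFiniteColimits _

/-- Closure of the iso-locus of the base change maps under finite colimits. -/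
theorem isIso_bcMap_of_isColimit_fin {U V : C} (g : U ⟶ V) {K : Type} [SmallCategory K]
    [FinCategory K]
    {D : K ⥤ ModSite.Mod O} {c : Cocone D} (hc : IsColimit c)
    (h : ∀ k, IsIso (bcMap O (D.obj k) g)) : IsIso (bcMap O c.pt g) := by
  have hU := ev_preservesFiniteColimits O hJ U
  have hV := ev_preservesFiniteColimits O hJ V
  have : PreservesFiniteColimits
      (ev O V ⋙ ModuleCat.extendScalars (O.obj.map g.op).hom) := comp_preservesFiniteColimits _ _
  exact isIso_app_of_isColimit (bcNat O g) hc h

/-- The base change maps of a free module are isomorphisms. -/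
theorem isIso_bcMap_free {U V : C} (g : U ⟶ V) (I : Type u) :
    IsIso (bcMap O (SheafOfModules.free (R := ModSite.ringSh O) I) g) := by
  have h : ∀ k : Discrete I,
      IsIso (bcMap O ((Discrete.functor (fun _ : I => ModSite.unit O)).obj k) g) :=
    fun _ => isIso_bcMap_unit O g
  have hc : IsColimit (SheafOfModules.freeCofan (R := ModSite.ringSh O) I) :=
    (SheafOfModules.isColimitFreeCofan (R := ModSite.ringSh O) I)
  have := isIso_bcMap_of_isColimit O hJ g hc h
  exact this

/-- The base change maps of a module with a global presentation are isomorphisms. -/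
theorem isIso_bcMap_of_presentation {U V : C} (g : U ⟶ V) {F : ModSite.Mod O}
    (P : F.Presentation) : IsIso (bcMap O F g) := by
  have hc := P.isColimit
  have h : ∀ k : WalkingParallelPair, IsIso (bcMap O
      ((parallelPair ((SheafOfModules.freeHomEquiv _).symm P.relations.s ≫ (kernel.ι _)) 0).obj k)
        g) := by
    rintro (_ | _)
    · exact isIso_bcMap_free O hJ g _
    · exact isIso_bcMap_free O hJ g _
  have := isIso_bcMap_of_isColimit_fin O hJ g hc h
  exact this

end Colim

end Groth.Agent.H34.Chaotic
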