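import Groth.Agent.H34.ChaoticBC

universe u
open CategoryTheory Opposite Limits TensorProduct

namespace Groth.Agent.H34.Chaotic

variable {C : Type u} [SmallCategory C] {J : GrothendieckTopology C}

theorem over_bot (V : C) : (⊥ : GrothendieckTopology C).over V = ⊥ := by
  refine le_antisymm ?_ bot_le
  intro Y S hS
  rw [GrothendieckTopology.mem_over_iff, GrothendieckTopology.bot_covering] at hS
  have : S = ⊤ := (Sieve.overEquiv Y).injective (by rw [hS, map_top])
  rw [this]
  exact GrothendieckTopology.top_mem _ _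

theorem over_eq_bot (hJ : J = ⊥) (V : C) : J.over V = ⊥ := by
  subst hJ; exact over_bot V

variable (O : Sheaf J CommRingCat.{u})

/-- the restriction of a module to the over-site, as a module over `O.over V` -/
noncomputable def overMod (F : ModSite.Mod O) (V : C) : ModSite.Mod (O.over V) := F.over V

theorem isIso_bcMap_over_iff (F : ModSite.Mod O) (V : C) {Y₁ Y₂ : Over V} (h : Y₁ ⟶ Y₂) :
    IsIso (bcMap (O.over V) (overMod O F V) h) ↔ IsIso (bcMap O F h.left) := Iff.rfl


/-- (⇒) A quasi-coherent module on a chaotic site has bijective base change maps. -/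
theorem isIso_bcMap_of_isQuasicoherent (hJ : J = ⊥) (F : ModSite.Mod O)
    (hF : SheafOfModules.IsQuasicoherent (R := ModSite.ringSh O) F) {U V : C} (g : U ⟶ V) :
    IsIso (bcMap O F g) := by
  obtain ⟨⟨q⟩⟩ := hF
  have hV := q.coversTop V
  subst hJ
  rw [GrothendieckTopology.bot_covering] at hV
  have h1 : (Sieve.ofObjects q.X V) (𝟙 V) := by rw [hV]; trivial
  obtain ⟨i, ⟨a⟩⟩ := h1
  have P : (overMod O F (q.X i)).Presentation := q.presentation i
  have := isIso_bcMap_of_presentation (O.over (q.X i)) (over_bot _)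
    (Over.homMk g : Over.mk (g ≫ a) ⟶ Over.mk a) P
  exact (isIso_bcMap_over_iff O F (q.X i) (Over.homMk g : Over.mk (g ≫ a) ⟶ Over.mk a)).1 this

end Groth.Agent.H34.Chaotic
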