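import Groth.Agent.H34.ChaoticQC1
universe u
open CategoryTheory Opposite Limits TensorProduct

namespace Groth.Agent.H34.Chaotic

variable {C : Type u} [SmallCategory C] {J : GrothendieckTopology C}
variable (O : Sheaf J CommRingCat.{u}) {T : C} (hT : IsTerminal T)

/-- the global section attached to an element over the terminal object -/
noncomputable def sectionOf' (M : ModSite.Mod O) (x : M.val.obj (op T)) : M.sections :=
  PresheafOfModules.sectionsMk (M := M.val) (fun X => M.val.map (hT.from X.unop).op x) (by
    intro X Y f
    rw [← PresheafOfModules.map_comp_apply]
    exact PresheafOfModules.congr_map_apply _ (Quiver.Hom.unop_inj (hT.hom_ext _ _)) _)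

/-- the global section attached to an element over the terminal object -/
noncomputable def sectionOf (M : ModSite.Mod O) (x : (ev O T).obj M) : M.sections :=
  sectionOf' O hT M x

lemma sectionOf_val (M : ModSite.Mod O) (x : (ev O T).obj M) (U : C) :
    (sectionOf O hT M x).val (op U) = res O M (hT.from U) x := rfl

/-- the canonical map from the free module on the elements over the terminal object -/
noncomputable def genπ (M : ModSite.Mod O) :
    SheafOfModules.free (R := ModSite.ringSh O) ((ev O T).obj M) ⟶ M :=
  M.freeHomEquiv.symm (sectionOf O hT M)

lemma genπ_ιFree (M : ModSite.Mod O) (x : (ev O T).obj M) :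
    M.unitHomEquiv (SheafOfModules.ιFree x ≫ genπ O hT M) = sectionOf O hT M x :=
  congrFun (M.freeHomEquiv.apply_symm_apply (sectionOf O hT M)) x

/-- the basis element of the free module -/
noncomputable def basisEl (I : Type u) (i : I) (U : C) :
    (ev O U).obj (SheafOfModules.free (R := ModSite.ringSh O) I) :=
  (SheafOfModules.ιFree (R := ModSite.ringSh O) i).val.app (op U) (unitEl O 1)

lemma genπ_basisEl (M : ModSite.Mod O) (x : (ev O T).obj M) (U : C) :
    ((ev O U).map (genπ O hT M)).hom (basisEl O _ x U) = res O M (hT.from U) x := by
  have := congrArg (fun t => t.val (op U)) (genπ_ιFree O hT M x)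
  exact this


set_option backward.isDefEq.respectTransparency false in
/-- If the base change map from the terminal object is surjective, the canonical map from the
free module is surjective on sections. -/
theorem surjective_genπ (M : ModSite.Mod O) (U : C)
    (hs : Function.Surjective (bcMap O M (hT.from U)).hom) :
    Function.Surjective ((ev O U).map (genπ O hT M)).hom := by
  intro y
  obtain ⟨z, rfl⟩ := hs y
  have : (bcMap O M (hT.from U)).hom z ∈
      LinearMap.range ((ev O U).map (genπ O hT M)).hom := by
    induction z using TensorProduct.induction_on with
    | zero => rw [map_zero]; exact Submodule.zero_mem _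
    | tmul s x =>
      erw [bcMap_tmul O M (hT.from U) s x]
      rw [← genπ_basisEl O hT M x U]
      exact Submodule.smul_mem _ _ (LinearMap.mem_range_self _ _)
    | add a b ha hb => rw [map_add]; exact Submodule.add_mem _ ha hb
  exact this

/-- epi from objectwise surjectivity -/
theorem epi_of_surjective_ev {M N : ModSite.Mod O} (φ : M ⟶ N)
    (h : ∀ U : C, Function.Surjective ((ev O U).map φ).hom) : Epi φ := by
  have : Epi ((SheafOfModules.forget _).map φ) :=
    PresheafOfModules.epi_of_surjective (fun X => h X.unop)
  exact Functor.epi_of_epi_map (SheafOfModules.forget _) this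

/-- The generating sections given by all elements over the terminal object. -/
noncomputable def genSections (M : ModSite.Mod O)
    (hs : ∀ U : C, Function.Surjective (bcMap O M (hT.from U)).hom) :
    M.GeneratingSections where
  I := (ev O T).obj M
  s := sectionOf O hT M
  epi := epi_of_surjective_ev O _ (fun U => surjective_genπ O hT M U (hs U))

lemma genSections_π (M : ModSite.Mod O)
    (hs : ∀ U : C, Function.Surjective (bcMap O M (hT.from U)).hom) :
    (genSections O hT M hs).π = genπ O hT M := rfl

end Groth.Agent.H34.Chaotic
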