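import Groth.Agent.H34.ChaoticQC2
import Mathlib.Algebra.Homology.ShortComplex.ModuleCat
universe u
open CategoryTheory Opposite Limits TensorProduct

namespace Groth.Agent.H34.Chaotic

theorem four_chase {A' B' C' A B C : Type*} [Zero C'] [Zero C]
    (f' : A' → B') (g' : B' → C') (f : A → B) (g : B → C) (a : A' → A) (b : B' → B) (c : C' → C)
    (hc0 : c 0 = 0)
    (sq1 : ∀ x, f (a x) = b (f' x)) (sq2 : ∀ x, g (b x) = c (g' x))
    (ex' : ∀ z, g' z = 0 → ∃ w, f' w = z) (gf : ∀ y, g (f y) = 0)
    (finj : Function.Injective f) (bsurj : Function.Surjective b) (cinj : Function.Injective c) :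
    Function.Surjective a := by
  intro y
  obtain ⟨z, hz⟩ := bsurj (f y)
  have h1 : g' z = 0 := cinj (by rw [← sq2, hz, gf, hc0])
  obtain ⟨w, rfl⟩ := ex' z h1
  exact ⟨w, finj (by rw [sq1, hz])⟩

variable {C : Type u} [SmallCategory C] {J : GrothendieckTopology C}
variable (O : Sheaf J CommRingCat.{u})

instance (V : C) : (ev O V).Additive :=
  (inferInstance : (SheafOfModules.forget.{u} (ModSite.ringSh O) ⋙
    PresheafOfModules.evaluation.{u} (ModSite.ringSh O).obj (op V)).Additive)

lemma bcMap_naturality_apply {U V : C} (g : U ⟶ V) {F G : ModSite.Mod O} (α : F ⟶ G)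
    (x : (ModuleCat.extendScalars (O.obj.map g.op).hom).obj ((ev O V).obj F)) :
    ((ev O U).map α).hom ((bcMap O F g).hom x) =
      (bcMap O G g).hom (((ModuleCat.extendScalars (O.obj.map g.op).hom).map ((ev O V).map α)).hom x) := by
  have := (bcNat O g).naturality α
  exact (congrArg (fun φ => φ.hom x) this).symm


variable {T : C} (hT : IsTerminal T)

section Kernel

variable (hJ : J = ⊥)
include hJ

/-- base change maps of the kernel of the canonical presentation are surjective -/
theorem surjective_bcMap_kernel (M : ModSite.Mod O)
    (h : ∀ U : C, IsIso (bcMap O M (hT.from U))) (U : C) :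
    Function.Surjective (bcMap O (kernel (genπ O hT M)) (hT.from U)).hom := by
  have hb : ∀ U : C, Function.Bijective (bcMap O M (hT.from U)).hom := fun U =>
    (ConcreteCategory.isIso_iff_bijective _).1 (h U)
  set π := genπ O hT M with hπ
  let E := ModuleCat.extendScalars (O.obj.map (hT.from U).op).hom
  -- exactness
  have hS₀ := ShortComplex.kernelSequence_exact π
  have hS₁ : ((ShortComplex.kernelSequence π).map (ev O T)).Exact :=
    hS₀.map_of_mono_of_preservesKernel (ev O T) (by change Mono (kernel.ι π); infer_instance) inferInstance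
  have hepi : Epi ((ShortComplex.kernelSequence π).map (ev O T)).g := by
    change Epi ((ev O T).map π)
    rw [ModuleCat.epi_iff_surjective]
    exact surjective_genπ O hT M T (hb T).2
  have hS₂ : (((ShortComplex.kernelSequence π).map (ev O T)).map E).Exact :=
    hS₁.map_of_epi_of_preservesCokernel E hepi inferInstance
  have ex' := (ShortComplex.moduleCat_exact_iff _).1 hS₂
  have hfree := (ConcreteCategory.isIso_iff_bijective _).1
    (isIso_bcMap_free O hJ (hT.from U) ((ev O T).obj M))
  have hmono : Mono ((ev O U).map (kernel.ι π)) := inferInstance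
  refine four_chase (E.map ((ev O T).map (kernel.ι π))).hom (E.map ((ev O T).map π)).hom
    ((ev O U).map (kernel.ι π)).hom ((ev O U).map π).hom _ _ _ (map_zero _) ?_ ?_ ?_ ?_ ?_
    hfree.2 (hb U).1
  · intro x
    exact bcMap_naturality_apply O (hT.from U) (kernel.ι π) x
  · intro x
    exact bcMap_naturality_apply O (hT.from U) π x
  · intro z hz
    exact ex' z hz
  · intro y
    have : (ev O U).map (kernel.ι π) ≫ (ev O U).map π = 0 := by
      rw [← Functor.map_comp, kernel.condition, Functor.map_zero]
    exact congrArg (fun φ => φ.hom y) this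
  · exact (ModuleCat.mono_iff_injective _).1 hmono

/-- (⇐), with a terminal object: a module all of whose base change maps from the terminal
object are isomorphisms has a global presentation. -/
theorem nonempty_presentation (M : ModSite.Mod O)
    (h : ∀ U : C, IsIso (bcMap O M (hT.from U))) : Nonempty M.Presentation := by
  have hs : ∀ U : C, Function.Surjective (bcMap O M (hT.from U)).hom := fun U =>
    ((ConcreteCategory.isIso_iff_bijective _).1 (h U)).2
  exact ⟨{ generators := genSections O hT M hs
           relations := genSections O hT _ (surjective_bcMap_kernel O hT hJ M h) }⟩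

end Kernel

end Groth.Agent.H34.Chaotic
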