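import Groth.Agent.H34.ChaoticQC3
universe u
open CategoryTheory Opposite Limits TensorProduct

namespace Groth.Agent.H34.Chaotic

variable {C : Type u} [SmallCategory C]
variable (O : Sheaf (⊥ : GrothendieckTopology C) CommRingCat.{u})

/-- (⇐) -/
theorem isQuasicoherent_of_isIso_bcMap (F : ModSite.Mod O)
    (h : ∀ (U V : C) (g : U ⟶ V), IsIso (bcMap O F g)) :
    SheafOfModules.IsQuasicoherent (R := ModSite.ringSh O) F := by
  have hP : ∀ V : C, Nonempty (overMod O F V).Presentation := fun V =>
    nonempty_presentation (O.over V) (T := Over.mk (𝟙 V)) Over.mkIdTerminal (over_bot V)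
      (overMod O F V) (fun Y => (isIso_bcMap_over_iff O F V _).2 (h _ _ _))
  have q : SheafOfModules.QuasicoherentData.{u} (R := ModSite.ringSh O) F :=
    { I := C
      X := id
      coversTop := fun x => GrothendieckTopology.covering_of_eq_top _ <| by
        rw [Sieve.ext_iff]
        intro _ f
        simp [Sieve.top_apply]
      presentation := fun V => (hP V).some }
  exact q.isQuasicoherent

/-- The chaotic-topology criterion for quasi-coherence. -/
theorem isQuasicoherent_iff (F : ModSite.Mod O) :
    SheafOfModules.IsQuasicoherent (R := ModSite.ringSh O) F ↔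
      ∀ (U V : C) (g : U ⟶ V), IsIso (bcMap O F g) :=
  ⟨fun h _ _ g => isIso_bcMap_of_isQuasicoherent O rfl F h g,
    isQuasicoherent_of_isIso_bcMap O F⟩

end Groth.Agent.H34.Chaotic
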