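import Groth.Agent.H34.ChaoticQC4
import Mathlib.Algebra.Category.ModuleCat.Descent
import Mathlib.RingTheory.RingHom.Flat
universe u
open CategoryTheory Opposite Limits TensorProduct

namespace Groth.Agent.H34.Chaotic

variable {C : Type u} [SmallCategory C] {J : GrothendieckTopology C}
variable (O : Sheaf J CommRingCat.{u})

section Flat

variable (hJ : J = ⊥)
include hJ

omit hJ in
/-- kernels: if the restriction map is flat, the iso-locus of base change is closed under
finite limits. -/
theorem isIso_bcMap_of_isLimit_fin {U V : C} (g : U ⟶ V) (hg : (O.obj.map g.op).hom.Flat)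
    {K : Type} [SmallCategory K] [FinCategory K]
    {D : K ⥤ ModSite.Mod O} {c : Cone D} (hc : IsLimit c)
    (h : ∀ k, IsIso (bcMap O (D.obj k) g)) : IsIso (bcMap O c.pt g) := by
  have := ModuleCat.preservesFiniteLimits_extendScalars_of_flat hg
  have : PreservesFiniteLimits
      (ev O V ⋙ ModuleCat.extendScalars (O.obj.map g.op).hom) := comp_preservesFiniteLimits _ _
  exact isIso_app_of_isLimit (bcNat O g) hc h

omit hJ in
theorem isIso_bcMap_kernel {U V : C} (g : U ⟶ V) (hg : (O.obj.map g.op).hom.Flat)
    {F G : ModSite.Mod O} (α : F ⟶ G) (hF : IsIso (bcMap O F g)) (hG : IsIso (bcMap O G g)) :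
    IsIso (bcMap O (kernel α) g) := by
  have hc := kernelIsKernel α
  have h : ∀ k : WalkingParallelPair, IsIso (bcMap O ((parallelPair α 0).obj k) g) := by
    rintro (_ | _)
    · exact hF
    · exact hG
  have := isIso_bcMap_of_isLimit_fin O g hg hc h
  exact this

omit hJ in
theorem isIso_bcMap_cokernel (hJ : J = ⊥) {U V : C} (g : U ⟶ V)
    {F G : ModSite.Mod O} (α : F ⟶ G) (hF : IsIso (bcMap O F g)) (hG : IsIso (bcMap O G g)) :
    IsIso (bcMap O (cokernel α) g) := by
  have hc := cokernelIsCokernel α
  have h : ∀ k : WalkingParallelPair, IsIso (bcMap O ((parallelPair α 0).obj k) g) := by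
    rintro (_ | _)
    · exact hF
    · exact hG
  have := isIso_bcMap_of_isColimit_fin O hJ g hc h
  exact this

theorem isIso_bcMap_of_shortExact {U V : C} (g : U ⟶ V) (hg : (O.obj.map g.op).hom.Flat)
    (S : ShortComplex (ModSite.Mod O)) (hS : S.ShortExact)
    (h₁ : IsIso (bcMap O S.X₁ g)) (h₃ : IsIso (bcMap O S.X₃ g)) : IsIso (bcMap O S.X₂ g) := by
  have := ModuleCat.preservesFiniteLimits_extendScalars_of_flat hg
  have hU := ev_preservesFiniteColimits O hJ U
  have hV := ev_preservesFiniteColimits O hJ V
  have : PreservesFiniteLimits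
      (ev O V ⋙ ModuleCat.extendScalars (O.obj.map g.op).hom) := comp_preservesFiniteLimits _ _
  have : PreservesFiniteColimits
      (ev O V ⋙ ModuleCat.extendScalars (O.obj.map g.op).hom) := comp_preservesFiniteColimits _ _
  have e₁ := hS.map_of_exact (ev O V ⋙ ModuleCat.extendScalars (O.obj.map g.op).hom)
  have e₂ := hS.map_of_exact (ev O U)
  exact ShortComplex.isIso₂_of_shortExact_of_isIso₁₃' (S.mapNatTrans (bcNat O g)) e₁ e₂ h₁ h₃

end Flat

/-- Weak Serre property of quasi-coherent modules on a chaotic site with flat restriction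
maps. -/
theorem weakSerre {C : Type u} [SmallCategory C]
    (O : Sheaf (⊥ : GrothendieckTopology C) CommRingCat.{u})
    (hO : ∀ (U V : C) (g : U ⟶ V), (O.obj.map g.op).hom.Flat) :
    (∀ (F G : ModSite.Mod O) (α : F ⟶ G),
        SheafOfModules.IsQuasicoherent (R := ModSite.ringSh O) F →
        SheafOfModules.IsQuasicoherent (R := ModSite.ringSh O) G →
        SheafOfModules.IsQuasicoherent (R := ModSite.ringSh O) (kernel α) ∧
          SheafOfModules.IsQuasicoherent (R := ModSite.ringSh O) (cokernel α)) ∧
    (∀ (S : ShortComplex (ModSite.Mod O)), S.ShortExact →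
        SheafOfModules.IsQuasicoherent (R := ModSite.ringSh O) S.X₁ →
        SheafOfModules.IsQuasicoherent (R := ModSite.ringSh O) S.X₃ →
        SheafOfModules.IsQuasicoherent (R := ModSite.ringSh O) S.X₂) := by
  constructor
  · intro F G α hF hG
    rw [isQuasicoherent_iff] at hF hG
    constructor
    · rw [isQuasicoherent_iff]
      intro U V g
      exact isIso_bcMap_kernel O g (hO U V g) α (hF U V g) (hG U V g)
    · rw [isQuasicoherent_iff]
      intro U V g
      exact isIso_bcMap_cokernel O rfl g α (hF U V g) (hG U V g)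
  · intro S hS h₁ h₃
    rw [isQuasicoherent_iff] at h₁ h₃ ⊢
    intro U V g
    exact isIso_bcMap_of_shortExact O rfl g (hO U V g) S hS (h₁ U V g) (h₃ U V g)

end Groth.Agent.H34.Chaotic
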