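import Groth.Agent.H34.EssSmallEnv
import Groth.Agent.S0984
import Groth.Agent.S1076
import Groth.Agent.H5.HocolimCompact

/-!
# Compact objects of a compactly generated triangulated category form an essentially small category

Neeman's theorem (family version, deduced from helper5's `S0984`, `S1076` and
`H5.HocolimCompact.factor_of_isHocolim`): every compact object lies in the triangulated
envelope of a (nonempty) generating family of compact objects. Consequently the full
subcategory of compact objects is essentially small.
-/

universe v u

open CategoryTheory Limits Pretriangulated ZeroObject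

namespace Groth.Agent.H34.CompactEssSmall

open Groth.Agent.H5.Compact

variable {D : Type u} [Category.{v} D] [Preadditive D] [HasZeroObject D] [HasShift D ℤ]
  [∀ n : ℤ, (shiftFunctor D n).Additive] [Pretriangulated D] [IsTriangulated D]
  [HasCoproducts.{v} D]

theorem compact_le_triangEnvelope {ι : Type v} [Nonempty ι] (E : ι → D)
    (hc : ∀ i, CohDer.IsCompactObject (E i)) (hg : CohDer.Generates E) :
    (compactProp (D := D)) ≤ (ObjectProperty.ofObj E).triangEnvelope := by
  intro X hX
  have hN : HasColimitsOfShape (Discrete ℕ) D :=
    hasColimitsOfShape_of_equivalence (Discrete.equivalence Equiv.ulift.{v, 0})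
  obtain ⟨K, f, i, hL, h0, hstep⟩ := Groth.Agent.S0984.result E hc hg X
  obtain ⟨N, y, hy⟩ := Groth.Agent.H5.HocolimCompact.factor_of_isHocolim K f i hL hX (𝟙 X)
  obtain ⟨s, E', g, h, hE', hgh⟩ := Groth.Agent.S1076.result E hc K f h0 hstep X hX N y
  have hle : ObjectProperty.triangEnvelope (fun Y : D => ∃ i ∈ s, Y = E i) ≤
      (ObjectProperty.ofObj E).triangEnvelope :=
    ObjectProperty.monotone_triangEnvelope (fun Y ⟨i, _, h⟩ => h ▸ ⟨i⟩)
  have hr : Retract X E' := ⟨g, h ≫ i N, by rw [← Category.assoc, hgh, ← hy]⟩
  exact ObjectProperty.prop_of_retract _ hr (hle _ hE')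

theorem essentiallySmall_compactProp (hD : CohDer.IsCompactlyGenerated D) :
    ObjectProperty.EssentiallySmall.{v} (compactProp (D := D)) := by
  obtain ⟨ι, E, hc, hg⟩ := hD
  let E' : Option ι → D := fun o => o.elim 0 E
  have hc' : ∀ o, CohDer.IsCompactObject (E' o) := by
    intro o
    cases o with
    | none => exact compact_of_isZero (isZero_zero D)
    | some i => exact hc i
  have hg' : CohDer.Generates E' := fun K hK => hg K (fun i n f => hK (some i) n f)
  have h1 : ObjectProperty.Small.{v} (ObjectProperty.ofObj E') := inferInstance
  have h2 : ObjectProperty.EssentiallySmall.{v} (ObjectProperty.ofObj E') := inferInstance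
  have h3 : ObjectProperty.EssentiallySmall.{v} (ObjectProperty.ofObj E').triangEnvelope :=
    Groth.Agent.H34.EssSmallEnv.triangEnvelope_essentiallySmall.{v} _
  exact ObjectProperty.EssentiallySmall.of_le (Q := (ObjectProperty.ofObj E').triangEnvelope)
    (compact_le_triangEnvelope E' hc' hg')

theorem essentiallySmall_compact (hD : CohDer.IsCompactlyGenerated D) :
    EssentiallySmall.{v} (compactProp (D := D)).FullSubcategory := by
  have := essentiallySmall_compactProp hD
  infer_instance

end Groth.Agent.H34.CompactEssSmall
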