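import Groth.Agent.H34.EWatts
import Mathlib.CategoryTheory.Sites.ConstantSheaf
import Mathlib.CategoryTheory.Sites.LeftExact
import Mathlib.CategoryTheory.Sites.Abelian
import Mathlib.Algebra.Category.ModuleCat.Colimits
import Mathlib.Algebra.Category.ModuleCat.Limits
import Mathlib.Algebra.Category.ModuleCat.FilteredColimits
import Mathlib.CategoryTheory.Linear.FunctorCategory
import Mathlib.RingTheory.Flat.Tensor

/-!
# Sections of constant sheaves of modules (helper34)

`Gsec J Λ U : M ↦ M̲(U)` is an exact `Λ`-linear functor; hence `M̲(U) ⊗ Q ≅ (M ⊗ Q)̲(U)` for finitely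
presented `Q` (`sections_tensor`) and `M̲(U)` is flat when `M` is flat and `Λ` coherent
(`flat_sections`).
-/

set_option autoImplicit false
universe u

open CategoryTheory CategoryTheory.Limits MonoidalCategory Opposite

namespace Groth.Agent.H34.ConstSec

variable {C : Type u} [SmallCategory C] (J : GrothendieckTopology C) (Λ : Type u) [CommRing Λ] (U : C)

/-- Sections over `U` of the constant sheaf. -/
noncomputable abbrev Gsec : ModuleCat.{u} Λ ⥤ ModuleCat.{u} Λ :=
  constantSheaf J (ModuleCat.{u} Λ) ⋙ (sheafSections J (ModuleCat.{u} Λ)).obj (op U)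

noncomputable instance : PreservesFiniteLimits (constantSheaf J (ModuleCat.{u} Λ)) := by
  unfold constantSheaf
  exact comp_preservesFiniteLimits _ _

noncomputable instance : PreservesFiniteLimits ((sheafSections J (ModuleCat.{u} Λ)).obj (op U)) := by
  change PreservesFiniteLimits (sheafToPresheaf J _ ⋙ (evaluation _ _).obj (op U))
  exact comp_preservesFiniteLimits _ _

noncomputable instance : PreservesFiniteLimits (Gsec J Λ U) := comp_preservesFiniteLimits _ _

instance : ((sheafSections J (ModuleCat.{u} Λ)).obj (op U)).Additive := by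
  change (sheafToPresheaf J _ ⋙ (evaluation _ _).obj (op U)).Additive
  infer_instance

instance : (Gsec J Λ U).Additive := inferInstance

lemma epi_Gsec_map {B D : ModuleCat.{u} Λ} (q : B ⟶ D) [Epi q] : Epi ((Gsec J Λ U).map q) := by
  have hq : Function.Surjective q.hom := (ModuleCat.epi_iff_surjective q).1 inferInstance
  choose σ hσ using hq
  let fo := forget (ModuleCat.{u} Λ)
  let T := constantSheaf J (Type u)
  let SecT := (sheafSections J (Type u)).obj (op U)
  let e' := Functor.isoWhiskerRight (constantCommuteCompose J fo) SecT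
  let σ' : fo.obj D ⟶ fo.obj B := ↾σ
  have hσ' : σ' ≫ fo.map q = 𝟙 _ := by ext d; exact hσ d
  have hsplit : IsSplitEpi (((fo ⋙ T) ⋙ SecT).map q) :=
    ⟨⟨SecT.map (T.map σ'), by
      change SecT.map (T.map σ') ≫ SecT.map (T.map (fo.map q)) = 𝟙 _
      rw [← CategoryTheory.Functor.map_comp, ← CategoryTheory.Functor.map_comp, hσ',
        CategoryTheory.Functor.map_id, CategoryTheory.Functor.map_id]⟩⟩
  have nat := e'.hom.naturality q
  have h1 : ((constantSheaf J (ModuleCat.{u} Λ) ⋙ sheafCompose J fo) ⋙ SecT).map q =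
      e'.hom.app B ≫ ((fo ⋙ T) ⋙ SecT).map q ≫ e'.inv.app D := by
    rw [← Category.assoc, ← nat, Category.assoc, Iso.hom_inv_id_app, Category.comp_id]
  have : Epi (((constantSheaf J (ModuleCat.{u} Λ) ⋙ sheafCompose J fo) ⋙ SecT).map q) := by
    rw [h1]; infer_instance
  exact fo.epi_of_epi_map this

noncomputable instance : PreservesFiniteColimits (Gsec J Λ U) := by
  rw [Functor.preservesFiniteColimits_iff_forall_exact_map_and_epi]
  intro S hS
  have := hS.epi_g
  refine ⟨?_, epi_Gsec_map J Λ U S.g⟩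
  have h : PreservesFiniteLimits (Gsec J Λ U) := inferInstance
  exact ((Functor.preservesFiniteLimits_iff_forall_exact_map_and_mono (Gsec J Λ U)).1 h S hS).1

lemma sheafifyMap_smul (P : Cᵒᵖ ⥤ ModuleCat.{u} Λ) (a : Λ) :
    sheafifyMap J (a • 𝟙 P) = a • 𝟙 (sheafify J P) := by
  apply sheafify_hom_ext _ _ _ ((presheafToSheaf J _).obj P).property
  rw [← toSheafify_naturality, Linear.smul_comp, Linear.comp_smul, Category.id_comp,
    Category.comp_id]

lemma Gsec_map_smul (M : ModuleCat.{u} Λ) (a : Λ) :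
    (Gsec J Λ U).map (a • 𝟙 M) = a • 𝟙 ((Gsec J Λ U).obj M) := by
  have h1 : (Functor.const Cᵒᵖ).map (a • 𝟙 M) = a • 𝟙 ((Functor.const Cᵒᵖ).obj M) := by
    ext; rfl
  change (sheafifyMap J ((Functor.const Cᵒᵖ).map (a • 𝟙 M))).app (op U) = _
  rw [h1, sheafifyMap_smul]
  rfl

open Groth.Agent.H34.EWatts Groth.Agent.H34.FPMod in
/-- The natural isomorphism `M̲(U) ⊗ Q ≅ (M ⊗ Q)̲(U)` for finitely presented `Q`. -/
noncomputable def secTensIso (M : ModuleCat.{u} Λ) :
    F₁ Λ (Gsec J Λ U) M ≅ F₂ Λ (Gsec J Λ U) M :=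
  tensIso Λ (Gsec J Λ U) (Gsec_map_smul J Λ U) M

open Groth.Agent.H34.EWatts Groth.Agent.H34.FPMod in
theorem sections_tensor (M Q : Type u) [AddCommGroup M] [Module Λ M] [AddCommGroup Q] [Module Λ Q]
    [Module.FinitePresentation Λ Q] :
    ∃ e : ModuleCat.of Λ (TensorProduct Λ (((constantSheaf J (ModuleCat.{u} Λ)).obj
          (ModuleCat.of Λ M)).obj.obj (op U)) Q) ≅
        ((constantSheaf J (ModuleCat.{u} Λ)).obj (ModuleCat.of Λ (TensorProduct Λ M Q))).obj.obj (op U),
      ∀ (s : ((constantSheaf J (ModuleCat.{u} Λ)).obj (ModuleCat.of Λ M)).obj.obj (op U)) (q : Q),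
        e.hom.hom (TensorProduct.tmul Λ s q) =
          (((constantSheaf J (ModuleCat.{u} Λ)).map
            (ModuleCat.ofHom ((TensorProduct.mk Λ M Q).flip q))).hom.app (op U)).hom s :=
  ⟨(secTensIso J Λ U (ModuleCat.of Λ M)).app ⟨ModuleCat.of Λ Q, inferInstance⟩,
    fun s q => tensIso_hom_app_tmul Λ (Gsec J Λ U) (Gsec_map_smul J Λ U) (ModuleCat.of Λ M)
      ⟨ModuleCat.of Λ Q, inferInstance⟩ s q⟩

open Groth.Agent.H34.EWatts Groth.Agent.H34.FPMod in
theorem flat_sections (hΛ : ∀ I : Ideal Λ, I.FG → Module.FinitePresentation Λ I)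
    (M : Type u) [AddCommGroup M] [Module Λ M] [Module.Flat Λ M] :
    Module.Flat Λ (((constantSheaf J (ModuleCat.{u} Λ)).obj (ModuleCat.of Λ M)).obj.obj (op U)) := by
  rw [Module.Flat.iff_lTensor_injective]
  intro I hI
  have := hΛ I hI
  let QI : FP Λ := ⟨ModuleCat.of Λ I, (inferInstance : Module.FinitePresentation Λ I)⟩
  let inc : QI ⟶ AA Λ := ObjectProperty.homMk (ModuleCat.ofHom I.subtype)
  let e := secTensIso J Λ U (ModuleCat.of Λ M)
  have nat := e.hom.naturality inc
  have hinj : Function.Injective (LinearMap.lTensor M I.subtype) :=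
    Module.Flat.lTensor_preserves_injective_linearMap _ Subtype.val_injective
  have hm0 : Mono ((ModuleCat.of Λ M) ◁ (ModuleCat.ofHom I.subtype)) :=
    (ModuleCat.mono_iff_injective _).2 hinj
  have hmono : Mono ((F₂ Λ (Gsec J Λ U) (ModuleCat.of Λ M)).map inc) := by
    change Mono ((Gsec J Λ U).map ((ModuleCat.of Λ M) ◁ (ModuleCat.ofHom I.subtype)))
    infer_instance
  have h1 : (F₁ Λ (Gsec J Λ U) (ModuleCat.of Λ M)).map inc =
      e.hom.app QI ≫ (F₂ Λ (Gsec J Λ U) (ModuleCat.of Λ M)).map inc ≫ e.inv.app (AA Λ) := by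
    rw [← Category.assoc, ← nat, Category.assoc, Iso.hom_inv_id_app, Category.comp_id]
  have h2 : Mono ((F₁ Λ (Gsec J Λ U) (ModuleCat.of Λ M)).map inc) := by
    rw [h1]; infer_instance
  exact (ModuleCat.mono_iff_injective _).1 h2

end Groth.Agent.H34.ConstSec
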