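import Mathlib.CategoryTheory.Limits.Constructions.Filtered
import Mathlib.CategoryTheory.Limits.Preserves.Filtered
import Mathlib.CategoryTheory.Limits.Preserves.Finite
import Mathlib.CategoryTheory.Limits.Preserves.Shapes.Products

/-!
# Functors preserving finite coproducts and filtered colimits preserve coproducts (helper34)
-/

set_option autoImplicit false
universe w v₁ v₂ u₁ u₂

open CategoryTheory CategoryTheory.Limits CategoryTheory.Limits.CoproductsFromFiniteFiltered

namespace Groth.Agent.H34.CoprodFiltered

variable {C : Type u₁} [Category.{v₁} C] {D : Type u₂} [Category.{v₂} D]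
  [HasFiniteCoproducts C] (G : C ⥤ D) [PreservesFiniteCoproducts G]
  [PreservesFilteredColimitsOfSize.{w, w} G] {α : Type w}
  [HasColimitsOfShape (Finset (Discrete α)) C] (f : α → C) [HasCoproduct f]

section

variable (s : Cocone (Discrete.functor f ⋙ G))

/-- the family of objects over a finite subset -/
abbrev fS (S : Finset (Discrete α)) : S → C := fun x => (Discrete.functor f).obj x.val

/-- `G` applied to a finite subcoproduct is a coproduct. -/
noncomputable def hS (S : Finset (Discrete α)) :
    IsColimit (Cofan.mk (G.obj (∐ fS f S)) fun j => G.map (Sigma.ι (fS f S) j)) :=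
  isColimitOfHasCoproductOfPreservesColimit G (fS f S)

/-- the map out of `G` of a finite subcoproduct -/
noncomputable def dS (S : Finset (Discrete α)) : G.obj (∐ fS f S) ⟶ s.pt :=
  Cofan.IsColimit.desc (hS G f S) (fun x => s.ι.app x.val)

omit [PreservesFilteredColimitsOfSize.{w, w} G] [HasColimitsOfShape (Finset (Discrete α)) C]
  [HasCoproduct f] in
lemma ι_dS (S : Finset (Discrete α)) (x : S) :
    G.map (Sigma.ι (fS f S) x) ≫ dS G f s S = s.ι.app x.val :=
  Cofan.IsColimit.fac (hS G f S) _ x

/-- transition maps between finite subcoproducts -/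
noncomputable def tr {S S' : Finset (Discrete α)} (h : S ⟶ S') : ∐ fS f S ⟶ ∐ fS f S' :=
  (liftToFinsetObj (Discrete.functor f)).map h

omit [HasCoproduct f] [HasColimitsOfShape (Finset (Discrete α)) C] in
lemma ι_tr {S S' : Finset (Discrete α)} (h : S ⟶ S') (x : S) :
    Sigma.ι (fS f S) x ≫ tr f h = Sigma.ι (fS f S') ⟨x.val, h.down.down x.2⟩ :=
  Sigma.ι_desc _ _

omit [PreservesFilteredColimitsOfSize.{w, w} G] [HasColimitsOfShape (Finset (Discrete α)) C]
  [HasCoproduct f] in
lemma tr_dS {S S' : Finset (Discrete α)} (h : S ⟶ S') :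
    G.map (tr f h) ≫ dS G f s S' = dS G f s S := by
  apply Cofan.IsColimit.hom_ext (hS G f S)
  intro x
  change G.map (Sigma.ι (fS f S) x) ≫ G.map (tr f h) ≫ dS G f s S' =
    G.map (Sigma.ι (fS f S) x) ≫ dS G f s S
  rw [← Category.assoc, ← G.map_comp, ι_tr, ι_dS, ι_dS]

/-- The cocone over the finite subcoproducts induced by `s`. -/
noncomputable def auxCocone : Cocone (liftToFinsetObj (Discrete.functor f) ⋙ G) where
  pt := s.pt
  ι :=
    { app := fun S => dS G f s S
      naturality := fun _ _ h => (tr_dS G f s h).trans (Category.comp_id _).symm }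

end

/-- `G` preserves the filtered colimit of finite subcoproducts. -/
noncomputable def hGc : IsColimit (G.mapCocone (finiteSubcoproductsCocone f)) :=
  haveI : PreservesColimitsOfShape (Finset (Discrete α)) G :=
    PreservesFilteredColimitsOfSize.preserves_filtered_colimits _
  isColimitOfPreserves G (isColimitFiniteSubproductsCocone f)

/-- the map from a finite subcoproduct to the coproduct -/
noncomputable def cS (S : Finset (Discrete α)) : ∐ fS f S ⟶ ∐ f :=
  (finiteSubcoproductsCocone f).ι.app S

omit [PreservesFiniteCoproducts G] [PreservesFilteredColimitsOfSize.{w, w} G]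
  [HasColimitsOfShape (Finset (Discrete α)) C] in
lemma ι_cS (S : Finset (Discrete α)) (x : S) :
    Sigma.ι (fS f S) x ≫ cS f S = Sigma.ι f x.val.as :=
  Sigma.ι_desc _ _

/-- the induced map out of `G (∐ f)` -/
noncomputable def descG (s : Cocone (Discrete.functor f ⋙ G)) : G.obj (∐ f) ⟶ s.pt :=
  (hGc G f).desc (auxCocone G f s)

lemma cS_descG (s : Cocone (Discrete.functor f ⋙ G)) (S : Finset (Discrete α)) :
    G.map (cS f S) ≫ descG G f s = dS G f s S :=
  (hGc G f).fac (auxCocone G f s) S

omit [PreservesFiniteCoproducts G] in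
lemma hom_ext_cS {T : D} (m m' : G.obj (∐ f) ⟶ T)
    (h : ∀ S : Finset (Discrete α), G.map (cS f S) ≫ m = G.map (cS f S) ≫ m') : m = m' :=
  (hGc G f).hom_ext h

lemma ι_descG (s : Cocone (Discrete.functor f ⋙ G)) (a : Discrete α) :
    G.map (Sigma.ι f a.as) ≫ descG G f s = s.ι.app a := by
  have h1 : Sigma.ι f a.as = Sigma.ι (fS f {a}) ⟨a, by simp⟩ ≫ cS f {a} :=
    (ι_cS f {a} ⟨a, by simp⟩).symm
  rw [h1, G.map_comp, Category.assoc, cS_descG]
  exact ι_dS G f s {a} ⟨a, by simp⟩

lemma descG_uniq (s : Cocone (Discrete.functor f ⋙ G)) (m : G.obj (∐ f) ⟶ s.pt)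
    (hm : ∀ a : Discrete α, G.map (Sigma.ι f a.as) ≫ m = s.ι.app a) : m = descG G f s := by
  apply hom_ext_cS G f
  intro S
  rw [cS_descG]
  apply Cofan.IsColimit.hom_ext (hS G f S)
  intro x
  change G.map (Sigma.ι (fS f S) x) ≫ G.map (cS f S) ≫ m =
    G.map (Sigma.ι (fS f S) x) ≫ dS G f s S
  rw [← Category.assoc, ← G.map_comp, ι_cS, ι_dS]
  exact hm x.val

/-- `G` maps the coproduct cofan to a colimit cocone. -/
noncomputable def isColimitMapCofan :
    IsColimit (G.mapCocone (colimit.cocone (Discrete.functor f))) where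
  desc s := descG G f s
  fac s a := ι_descG G f s a
  uniq s m hm := descG_uniq G f s m hm

lemma preservesColimit_functor : PreservesColimit (Discrete.functor f) G :=
  preservesColimit_of_preserves_colimit_cocone (colimit.isColimit _) (isColimitMapCofan G f)

end Groth.Agent.H34.CoprodFiltered

namespace Groth.Agent.H34.CoprodFiltered

variable {C : Type u₁} [Category.{v₁} C] {D : Type u₂} [Category.{v₂} D]
  [HasFiniteCoproducts C] (G : C ⥤ D) [PreservesFiniteCoproducts G]
  [PreservesFilteredColimitsOfSize.{w, w} G] (α : Type w)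
  [HasColimitsOfShape (Finset (Discrete α)) C] [HasColimitsOfShape (Discrete α) C]

/-- A functor preserving finite coproducts and filtered colimits preserves all coproducts. -/
lemma preservesColimitsOfShape_discrete : PreservesColimitsOfShape (Discrete α) G where
  preservesColimit {K} := by
    haveI : PreservesColimit (Discrete.functor (K.obj ∘ Discrete.mk)) G :=
      preservesColimit_functor G (K.obj ∘ Discrete.mk)
    exact preservesColimit_of_iso_diagram G Discrete.natIsoFunctor.symm

end Groth.Agent.H34.CoprodFiltered
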