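import Groth.Agent.H34.CoskLegs

set_option autoImplicit false
set_option linter.unusedSectionVars false
universe v u

open CategoryTheory CategoryTheory.Limits Opposite SimplexCategory Simplicial

namespace Groth.Agent.H34.CoskHtpy

variable {E : Type u} [Category.{v} E] {n : ℕ} {X Y : SimplicialObject E} (f g : X ⟶ Y)

/-- `f` and `g` agree after restriction along a non-surjective map with target of dimension
`≤ n`, if they agree in degrees `< n`. -/
lemma agree (hfg : ∀ p : ℕ, p < n → f.app (op ⦋p⦌) = g.app (op ⦋p⦌))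
    {Δ' Δ : SimplexCategory} (hΔ : Δ.len ≤ n) (κ : Δ' ⟶ Δ)
    (hκ : ¬ Function.Surjective κ.toOrderHom) :
    X.map κ.op ≫ f.app (op Δ') = X.map κ.op ≫ g.app (op Δ') := by
  induction Δ using SimplexCategory.rec with
  | _ k =>
    cases k with
    | zero =>
      exfalso
      apply hκ
      intro y
      refine ⟨0, ?_⟩
      have : Subsingleton (Fin ((⦋0⦌ : SimplexCategory).len + 1)) :=
        (inferInstance : Subsingleton (Fin 1))
      exact Subsingleton.elim _ _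
    | succ k =>
      obtain ⟨i, κ', rfl⟩ := eq_comp_δ_of_not_surjective κ hκ
      have hk : k < n := by
        have : (⦋k + 1⦌ : SimplexCategory).len = k + 1 := rfl
        omega
      rw [op_comp, Functor.map_comp, Category.assoc, Category.assoc, f.naturality, g.naturality,
        hfg k hk]

open Classical in
/-- choice between `f` and `g` -/
noncomputable def pick (P : Prop) : X ⟶ Y := if P then f else g

lemma pick_true {P : Prop} (h : P) : pick f g P = f := if_pos h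
lemma pick_false {P : Prop} (h : ¬ P) : pick f g P = g := if_neg h


section H

variable [HasFiniteLimits E]
  [∀ (F : (SimplexCategory.Truncated n)ᵒᵖ ⥤ E),
    (SimplexCategory.Truncated.inclusion n).op.HasRightKanExtension F]
  (hfg : ∀ p : ℕ, p < n → f.app (op ⦋p⦌) = g.app (op ⦋p⦌))

include hfg in
lemma pick_compat {Δ Δ' ΓM : SimplexCategory} (hΔ : Δ.len ≤ n) (κ : Δ' ⟶ Δ) (ψ : Δ ⟶ ΓM)
    (P : Fin (ΓM.len + 1) → Prop) :
    X.map κ.op ≫ (pick f g (∀ x, P (ψ.toOrderHom x))).app (op Δ') =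
      X.map κ.op ≫ (pick f g (∀ y, P ((κ ≫ ψ).toOrderHom y))).app (op Δ') := by
  by_cases h1 : ∀ x, P (ψ.toOrderHom x)
  · have h2 : ∀ y, P ((κ ≫ ψ).toOrderHom y) := fun y => h1 (κ.toOrderHom y)
    rw [pick_true f g h1, pick_true f g h2]
  · by_cases h2 : ∀ y, P ((κ ≫ ψ).toOrderHom y)
    · rw [pick_false f g h1, pick_true f g h2]
      refine (agree f g hfg hΔ κ ?_).symm
      intro hs
      apply h1
      intro x
      obtain ⟨y, rfl⟩ := hs x
      exact h2 y
    · rw [pick_false f g h1, pick_false f g h2]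

/-- the family defining `H a P` -/
noncomputable def famH {Γm ΓM : SimplexCategory} (a : ΓM ⟶ Γm) (P : Fin (ΓM.len + 1) → Prop) :
    Fam Y n ((cX n X).obj (op Γm)) ΓM where
  φ Δ hΔ ψ := leg (X := X) (ψ ≫ a) hΔ ≫ (pick f g (∀ x, P (ψ.toOrderHom x))).app (op Δ)
  compat Δ Δ' hΔ hΔ' κ ψ := by
    rw [Category.assoc, ← NatTrans.naturality, pick_compat f g hfg hΔ κ ψ P,
      ← Category.assoc, leg_map κ (ψ ≫ a) hΔ hΔ', Category.assoc]

/-- the morphism `H a P : (cosk X)_m ⟶ (cosk Y)_M` -/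
noncomputable def H {Γm ΓM : SimplexCategory} (a : ΓM ⟶ Γm) (P : Fin (ΓM.len + 1) → Prop) :
    (cX n X).obj (op Γm) ⟶ (cX n Y).obj (op ΓM) :=
  (famH f g hfg a P).lift

lemma H_leg {Γm ΓM Δ : SimplexCategory} (a : ΓM ⟶ Γm) (P : Fin (ΓM.len + 1) → Prop)
    (ψ : Δ ⟶ ΓM) (hΔ : Δ.len ≤ n) :
    H f g hfg a P ≫ leg ψ hΔ =
      leg (X := X) (ψ ≫ a) hΔ ≫ (pick f g (∀ x, P (ψ.toOrderHom x))).app (op Δ) :=
  (famH f g hfg a P).lift_leg ψ hΔ

/-- (A) -/
lemma H_map {Γm ΓM ΓM' : SimplexCategory} (a : ΓM ⟶ Γm) (P : Fin (ΓM.len + 1) → Prop)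
    (θ : ΓM' ⟶ ΓM) :
    H f g hfg a P ≫ (cX n Y).map θ.op = H f g hfg (θ ≫ a) (fun y => P (θ.toOrderHom y)) := by
  apply hom_ext
  intro Δ hΔ ψ
  rw [Category.assoc, map_leg, H_leg, H_leg, Category.assoc]
  rfl

/-- (B) -/
lemma map_H {Γm Γm' ΓM : SimplexCategory} (a : ΓM ⟶ Γm) (P : Fin (ΓM.len + 1) → Prop)
    (θ : Γm ⟶ Γm') :
    (cX n X).map θ.op ≫ H f g hfg a P = H f g hfg (a ≫ θ) P := by
  apply hom_ext
  intro Δ hΔ ψ
  rw [Category.assoc, H_leg, H_leg, ← Category.assoc, map_leg, Category.assoc]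

omit hfg in
lemma cosk_map_leg {Γ Δ : SimplexCategory} (ψ : Δ ⟶ Γ) (hΔ : Δ.len ≤ n) :
    ((SimplicialObject.cosk n).map f).app (op Γ) ≫ leg (X := Y) ψ hΔ =
      leg (X := X) ψ hΔ ≫ f.app (op Δ) := by
  unfold leg
  have h1 := NatTrans.congr_app
    ((L n).ranCounit.naturality ((SimplicialObject.truncation n).map f)) (op ⟨Δ, hΔ⟩)
  have h2 : ((SimplicialObject.cosk n).map f).app (op Δ) ≫ εapp (X := Y) Δ hΔ =
      εapp (X := X) Δ hΔ ≫ f.app (op Δ) := h1
  have h3 := ((SimplicialObject.cosk n).map f).naturality ψ.op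
  calc ((SimplicialObject.cosk n).map f).app (op Γ) ≫ (cX n Y).map ψ.op ≫ εapp Δ hΔ
      = ((cX n X).map ψ.op ≫ ((SimplicialObject.cosk n).map f).app (op Δ)) ≫ εapp Δ hΔ := by
        rw [← Category.assoc]; exact congrArg (· ≫ εapp Δ hΔ) h3.symm
    _ = ((cX n X).map ψ.op ≫ εapp Δ hΔ) ≫ f.app (op Δ) := by
        rw [Category.assoc, h2, Category.assoc]

/-- (C) -/
lemma H_id_true {Γ : SimplexCategory} :
    H f g hfg (𝟙 Γ) (fun _ => True) = ((SimplicialObject.cosk n).map f).app (op Γ) := by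
  apply hom_ext
  intro Δ hΔ ψ
  rw [H_leg, cosk_map_leg, Category.comp_id, pick_true f g (fun _ => trivial)]

lemma H_id_false {Γ : SimplexCategory} :
    H f g hfg (𝟙 Γ) (fun _ => False) = ((SimplicialObject.cosk n).map g).app (op Γ) := by
  apply hom_ext
  intro Δ hΔ ψ
  rw [H_leg, cosk_map_leg, Category.comp_id, pick_false f g (fun h => h 0)]

lemma H_congr {Γm ΓM : SimplexCategory} {a a' : ΓM ⟶ Γm} {P P' : Fin (ΓM.len + 1) → Prop}
    (ha : a = a') (hP : ∀ x, P x ↔ P' x) : H f g hfg a P = H f g hfg a' P' := by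
  subst ha
  have : P = P' := funext fun x => propext (hP x)
  rw [this]

end H

end Groth.Agent.H34.CoskHtpy
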