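import Groth.Agent.H34.CoskH

set_option autoImplicit false
set_option linter.unusedSectionVars false
universe v u

open CategoryTheory CategoryTheory.Limits Opposite SimplexCategory Simplicial

namespace Groth.Agent.H34.CoskHtpy

lemma succAbove_val {n : ℕ} (p : Fin (n + 1)) (i : Fin n) :
    (p.succAbove i : ℕ) = if (i : ℕ) < p then (i : ℕ) else i + 1 := by
  unfold Fin.succAbove
  simp only [Fin.lt_def, Fin.val_castSucc]
  split_ifs <;> simp

lemma predAbove_val {n : ℕ} (p : Fin n) (i : Fin (n + 1)) :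
    (p.predAbove i : ℕ) = if (p : ℕ) < i then (i : ℕ) - 1 else i := by
  unfold Fin.predAbove
  simp only [Fin.lt_def, Fin.val_castSucc]
  split_ifs <;> simp

lemma δ_val {m : ℕ} (i : Fin (m + 2)) (x : Fin (m + 1)) :
    (((δ i).toOrderHom x : Fin (m + 2)) : ℕ) = if (x : ℕ) < i then (x : ℕ) else x + 1 :=
  succAbove_val i x

lemma σ_val {m : ℕ} (i : Fin (m + 1)) (x : Fin (m + 2)) :
    (((σ i).toOrderHom x : Fin (m + 1)) : ℕ) = if (i : ℕ) < x then (x : ℕ) - 1 else x :=
  predAbove_val i x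

variable {E : Type u} [Category.{v} E] {n : ℕ} {X Y : SimplicialObject E} (f g : X ⟶ Y)
  [HasFiniteLimits E]
  [∀ (F : (SimplexCategory.Truncated n)ᵒᵖ ⥤ E),
    (SimplexCategory.Truncated.inclusion n).op.HasRightKanExtension F]
  (hfg : ∀ p : ℕ, p < n → f.app (op ⦋p⦌) = g.app (op ⦋p⦌))

/-- the homotopy operators -/
noncomputable def hh {m : ℕ} (i : Fin (m + 1)) :
    (cX n X).obj (op ⦋m⦌) ⟶ (cX n Y).obj (op ⦋m + 1⦌) :=
  H f g hfg (σ i) (fun x : Fin (m + 2) => (x : ℕ) ≤ i)

lemma hh_δ {m : ℕ} (i : Fin (m + 1)) (j : Fin (m + 2)) :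
    hh f g hfg i ≫ (cX n Y).δ j =
      H f g hfg (δ j ≫ σ i) (fun x : Fin (m + 1) => (((δ j).toOrderHom x : Fin (m + 2)) : ℕ) ≤ i) :=
  H_map f g hfg _ _ _

lemma hh_σ {m : ℕ} (i : Fin (m + 1)) (j : Fin (m + 2)) :
    hh f g hfg i ≫ (cX n Y).σ j =
      H f g hfg (σ j ≫ σ i) (fun x : Fin (m + 3) => (((σ j).toOrderHom x : Fin (m + 2)) : ℕ) ≤ i) :=
  H_map f g hfg _ _ _

lemma δ_hh {m : ℕ} (i : Fin (m + 1)) (j : Fin (m + 2)) :
    (cX n X).δ j ≫ hh f g hfg i =
      H f g hfg (σ i ≫ δ j) (fun x : Fin (m + 2) => (x : ℕ) ≤ i) :=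
  map_H f g hfg _ _ _

lemma σ_hh {m : ℕ} (i : Fin (m + 2)) (j : Fin (m + 1)) :
    (cX n X).σ j ≫ hh f g hfg i =
      H f g hfg (σ i ≫ σ j) (fun x : Fin (m + 3) => (x : ℕ) ≤ i) :=
  map_H f g hfg _ _ _


/-- The simplicial homotopy between `cosk_n f` and `cosk_n g`. -/
noncomputable def coskHomotopy :
    SimplicialObject.Homotopy ((SimplicialObject.cosk n).map f)
      ((SimplicialObject.cosk n).map g) where
  h i := hh f g hfg i
  h_zero_comp_δ_zero m := by
    refine (hh_δ f g hfg (0 : Fin (m + 1)) 0).trans ?_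
    rw [← H_id_false f g hfg]
    apply H_congr
    · exact δ_comp_σ_self' rfl
    · intro x
      rw [δ_val]
      simp
  h_last_comp_δ_last m := by
    refine (hh_δ f g hfg (Fin.last m) (Fin.last (m + 1))).trans ?_
    rw [← H_id_true f g hfg]
    apply H_congr
    · exact δ_comp_σ_succ' rfl
    · intro x
      rw [δ_val]
      have : (x : ℕ) < m + 1 := x.isLt
      simp only [Fin.val_last, iff_true]
      split_ifs <;> omega
  h_succ_comp_δ_castSucc_of_lt {m} i j hij := by
    refine (hh_δ f g hfg j.succ i.castSucc).trans (Eq.trans ?_ (δ_hh f g hfg j i).symm)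
    apply H_congr
    · exact δ_comp_σ_of_le hij
    · intro x
      rw [δ_val]
      have h1 : (i : ℕ) ≤ j := by simpa [Fin.le_def] using hij
      simp only [Fin.val_castSucc, Fin.val_succ]
      split_ifs <;> omega
  h_succ_comp_δ_castSucc_succ {m} j := by
    refine (hh_δ f g hfg j.succ j.castSucc.succ).trans
      (Eq.trans ?_ (hh_δ f g hfg j.castSucc j.castSucc.succ).symm)
    apply H_congr
    · rw [δ_comp_σ_self' (Fin.succ_castSucc j), δ_comp_σ_succ' rfl]
    · intro x
      rw [δ_val]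
      simp only [Fin.val_castSucc, Fin.val_succ]
      split_ifs <;> omega
  h_castSucc_comp_δ_succ_of_lt {m} i j hji := by
    refine (hh_δ f g hfg j.castSucc i.succ).trans (Eq.trans ?_ (δ_hh f g hfg j i).symm)
    apply H_congr
    · exact δ_comp_σ_of_gt hji
    · intro x
      rw [δ_val]
      have h1 : (j : ℕ) < i := by simpa [Fin.lt_def] using hji
      simp only [Fin.val_castSucc, Fin.val_succ]
      split_ifs <;> omega
  h_comp_σ_castSucc_of_le {m} i j hij := by
    refine (hh_σ f g hfg j i.castSucc).trans (Eq.trans ?_ (σ_hh f g hfg j.succ i).symm)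
    apply H_congr
    · exact σ_comp_σ hij
    · intro x
      rw [σ_val]
      have h1 : (i : ℕ) ≤ j := hij
      simp only [Fin.val_castSucc, Fin.val_succ]
      split_ifs <;> omega
  h_comp_σ_succ_of_lt {m} i j hji := by
    refine (hh_σ f g hfg j i.succ).trans (Eq.trans ?_ (σ_hh f g hfg j.castSucc i).symm)
    apply H_congr
    · exact (σ_comp_σ hji).symm
    · intro x
      rw [σ_val]
      have h1 : (j : ℕ) ≤ i := hji
      simp only [Fin.val_castSucc, Fin.val_succ]
      split_ifs <;> omega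

end Groth.Agent.H34.CoskHtpy
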