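import Mathlib.AlgebraicTopology.SimplicialObject.Homotopy
import Mathlib.AlgebraicTopology.SimplicialObject.Basic
import Groth.Agent.H34.TruncFinite

set_option autoImplicit false
set_option linter.unusedSectionVars false
universe v u

open CategoryTheory CategoryTheory.Limits Opposite SimplexCategory Simplicial

namespace Groth.Agent.H34.CoskHtpy

variable {E : Type u} [Category.{v} E] [HasFiniteLimits E] (n : ℕ)
  [∀ (F : (SimplexCategory.Truncated n)ᵒᵖ ⥤ E),
    (SimplexCategory.Truncated.inclusion n).op.HasRightKanExtension F]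

/-- the inclusion of the truncated simplex category, opposite -/
abbrev L : (SimplexCategory.Truncated n)ᵒᵖ ⥤ SimplexCategoryᵒᵖ :=
  (SimplexCategory.Truncated.inclusion n).op

variable (X : SimplicialObject E)

/-- the truncation -/
abbrev tX : (SimplexCategory.Truncated n)ᵒᵖ ⥤ E := (SimplicialObject.truncation n).obj X

/-- the coskeleton -/
noncomputable abbrev cX : SimplicialObject E := (L n).ran.obj (tX n X)

lemma cX_eq : cX n X = (SimplicialObject.cosk n).obj X := rfl

/-- the counit -/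
noncomputable abbrev εX : L n ⋙ cX n X ⟶ tX n X := (L n).ranCounit.app (tX n X)

/-- the pointwise limit property of the coskeleton -/
noncomputable def isPointwise :
    (Functor.RightExtension.mk (cX n X) (εX n X)).IsPointwiseRightKanExtension :=
  Functor.isPointwiseRightKanExtensionOfIsRightKanExtension (cX n X) (εX n X)

variable {n X}

/-- components of the counit -/
noncomputable def εapp (Δ : SimplexCategory) (hΔ : Δ.len ≤ n) :
    (cX n X).obj (op Δ) ⟶ X.obj (op Δ) :=
  (εX n X).app (op ⟨Δ, hΔ⟩)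

lemma εapp_naturality {Δ' Δ : SimplexCategory} (κ : Δ' ⟶ Δ) (hΔ : Δ.len ≤ n)
    (hΔ' : Δ'.len ≤ n) :
    (cX n X).map κ.op ≫ εapp Δ' hΔ' = εapp (X := X) Δ hΔ ≫ X.map κ.op :=
  (εX n X).naturality (Truncated.Hom.tr κ hΔ' hΔ).op

/-- the legs of the limit cones -/
noncomputable def leg {Δ Γ : SimplexCategory} (ψ : Δ ⟶ Γ) (hΔ : Δ.len ≤ n) :
    (cX n X).obj (op Γ) ⟶ X.obj (op Δ) :=
  (cX n X).map ψ.op ≫ εapp Δ hΔ

lemma map_leg {Δ Γ Γ' : SimplexCategory} (θ : Γ ⟶ Γ') (ψ : Δ ⟶ Γ) (hΔ : Δ.len ≤ n) :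
    (cX n X).map θ.op ≫ leg ψ hΔ = leg (ψ ≫ θ) hΔ := by
  unfold leg
  rw [← Category.assoc, ← Functor.map_comp, ← op_comp]

lemma leg_map {Δ' Δ Γ : SimplexCategory} (κ : Δ' ⟶ Δ) (ψ : Δ ⟶ Γ) (hΔ : Δ.len ≤ n)
    (hΔ' : Δ'.len ≤ n) :
    leg ψ hΔ ≫ X.map κ.op = leg (X := X) (κ ≫ ψ) hΔ' := by
  unfold leg
  rw [Category.assoc, ← εapp_naturality κ hΔ hΔ', ← Category.assoc, ← Functor.map_comp,
    ← op_comp]

/-- joint monicity of the legs -/
lemma hom_ext {S : E} {Γ : SimplexCategory} (a b : S ⟶ (cX n X).obj (op Γ))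
    (h : ∀ (Δ : SimplexCategory) (hΔ : Δ.len ≤ n) (ψ : Δ ⟶ Γ), a ≫ leg ψ hΔ = b ≫ leg ψ hΔ) :
    a = b := by
  apply (isPointwise n X (op Γ)).hom_ext
  intro g
  exact h g.right.unop.obj g.right.unop.property g.hom.unop


/-- A compatible family of morphisms to the terms of `X` indexed by the simplices of `Γ` of
dimension `≤ n`. -/
structure Fam (X : SimplicialObject E) (n : ℕ) (S : E) (Γ : SimplexCategory) where
  /-- the members of the family -/
  φ : ∀ (Δ : SimplexCategory) (_ : Δ.len ≤ n) (_ : Δ ⟶ Γ), S ⟶ X.obj (op Δ)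
  compat : ∀ (Δ Δ' : SimplexCategory) (hΔ : Δ.len ≤ n) (hΔ' : Δ'.len ≤ n) (κ : Δ' ⟶ Δ)
    (ψ : Δ ⟶ Γ), φ Δ hΔ ψ ≫ X.map κ.op = φ Δ' hΔ' (κ ≫ ψ)

namespace Fam

variable {S : E} {Γ : SimplexCategory} (F : Fam X n S Γ)

/-- the cone of a family -/
noncomputable def cone : Cone (StructuredArrow.proj (op Γ) (L n) ⋙ tX n X) where
  pt := S
  π :=
    { app := fun g => F.φ g.right.unop.obj g.right.unop.property g.hom.unop
      naturality := by
        intro g g' u
        dsimp only [Functor.const_obj_obj, Functor.const_obj_map, Functor.comp_obj,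
          Functor.comp_map, StructuredArrow.proj_obj, StructuredArrow.proj_map]
        refine (Category.id_comp _).trans ?_
        have h1 := F.compat g.right.unop.obj g'.right.unop.obj g.right.unop.property
          g'.right.unop.property u.right.unop.hom g.hom.unop
        have h2 : u.right.unop.hom ≫ g.hom.unop = g'.hom.unop := by
          have := StructuredArrow.w u
          exact congrArg Quiver.Hom.unop this
        rw [h2] at h1
        exact h1.symm }

/-- the lift of a family -/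
noncomputable def lift : S ⟶ (cX n X).obj (op Γ) :=
  (isPointwise n X (op Γ)).lift F.cone

lemma lift_leg {Δ : SimplexCategory} (ψ : Δ ⟶ Γ) (hΔ : Δ.len ≤ n) :
    F.lift ≫ leg ψ hΔ = F.φ Δ hΔ ψ :=
  (isPointwise n X (op Γ)).fac F.cone
    (StructuredArrow.mk (Y := op (⟨Δ, hΔ⟩ : SimplexCategory.Truncated n))
      (show op Γ ⟶ (L n).obj (op ⟨Δ, hΔ⟩) from ψ.op))

end Fam

end Groth.Agent.H34.CoskHtpy
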