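import Mathlib.AlgebraicTopology.SimplicialObject.Basic
import Mathlib.AlgebraicTopology.SimplexCategory.Truncated
import Mathlib.CategoryTheory.Functor.KanExtension.Pointwise

set_option autoImplicit false
open CategoryTheory CategoryTheory.Limits Opposite
universe v u

namespace Groth.Agent.H34.CoskTop

open SimplexCategory Simplicial

/-- If `a ≫ δ i = b ≫ δ j` with `i < j`, then `a` misses `j - 1`. -/
lemma miss_left {m : ℕ} {Δ : SimplexCategory} (a b : Δ ⟶ ⦋m + 1⦌) (i' j' : Fin (m + 2))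
    (hij : i' ≤ j') (h : a ≫ δ i'.castSucc = b ≫ δ j'.succ) (x : Fin (Δ.len + 1)) :
    a.toOrderHom x ≠ j' := by
  intro hx
  have h1 := congrArg (fun f => f.toOrderHom x) h
  simp only [SimplexCategory.comp_toOrderHom, OrderHom.comp_coe, Function.comp_apply] at h1
  rw [hx] at h1
  have h2 : (δ i'.castSucc).toOrderHom j' = j'.succ := by
    simp only [δ, SimplexCategory.mkHom, SimplexCategory.Hom.toOrderHom_mk,
      OrderEmbedding.toOrderHom_coe, Fin.succAboveOrderEmb_apply]
    exact Fin.succAbove_of_le_castSucc _ _ (Fin.castSucc_le_castSucc_iff.2 hij)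
  rw [h2] at h1
  have h3 : (δ j'.succ).toOrderHom (b.toOrderHom x) ≠ j'.succ := by
    simp only [δ, SimplexCategory.mkHom, SimplexCategory.Hom.toOrderHom_mk,
      OrderEmbedding.toOrderHom_coe, Fin.succAboveOrderEmb_apply]
    exact Fin.succAbove_ne _ _
  exact h3 h1.symm

/-- If `a ≫ δ i = b ≫ δ j` with `i < j`, then `b` misses `i`. -/
lemma miss_right {m : ℕ} {Δ : SimplexCategory} (a b : Δ ⟶ ⦋m + 1⦌) (i' j' : Fin (m + 2))
    (hij : i' ≤ j') (h : a ≫ δ i'.castSucc = b ≫ δ j'.succ) (x : Fin (Δ.len + 1)) :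
    b.toOrderHom x ≠ i' := by
  intro hx
  have h1 := congrArg (fun f => f.toOrderHom x) h
  simp only [SimplexCategory.comp_toOrderHom, OrderHom.comp_coe, Function.comp_apply] at h1
  rw [hx] at h1
  have h2 : (δ j'.succ).toOrderHom i' = i'.castSucc := by
    simp only [δ, SimplexCategory.mkHom, SimplexCategory.Hom.toOrderHom_mk,
      OrderEmbedding.toOrderHom_coe, Fin.succAboveOrderEmb_apply]
    exact Fin.succAbove_of_castSucc_lt _ _
      (lt_of_le_of_lt (Fin.castSucc_le_castSucc_iff.2 hij) (Fin.castSucc_lt_succ))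
  rw [h2] at h1
  have h3 : (δ i'.castSucc).toOrderHom (a.toOrderHom x) ≠ i'.castSucc := by
    simp only [δ, SimplexCategory.mkHom, SimplexCategory.Hom.toOrderHom_mk,
      OrderEmbedding.toOrderHom_coe, Fin.succAboveOrderEmb_apply]
    exact Fin.succAbove_ne _ _
  exact h3 h1

/-- Two factorisations through distinct faces come from a common factorisation through a
codimension-two face. -/
lemma exists_common_factor {m : ℕ} {Δ : SimplexCategory} (a b : Δ ⟶ ⦋m + 1⦌) (i' j' : Fin (m + 2))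
    (hij : i' ≤ j') (h : a ≫ δ i'.castSucc = b ≫ δ j'.succ) :
    ∃ c : Δ ⟶ ⦋m⦌, a = c ≫ δ j' ∧ b = c ≫ δ i' := by
  obtain ⟨a', ha'⟩ := eq_comp_δ_of_not_surjective' a j' (miss_left a b i' j' hij h)
  obtain ⟨b', hb'⟩ := eq_comp_δ_of_not_surjective' b i' (miss_right a b i' j' hij h)
  have h1 : a' ≫ δ j' ≫ δ i'.castSucc = b' ≫ δ j' ≫ δ i'.castSucc := by
    calc a' ≫ δ j' ≫ δ i'.castSucc = a ≫ δ i'.castSucc := by rw [ha', Category.assoc]
      _ = b ≫ δ j'.succ := h
      _ = b' ≫ δ i' ≫ δ j'.succ := by rw [hb', Category.assoc]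
      _ = b' ≫ δ j' ≫ δ i'.castSucc := by rw [δ_comp_δ hij]
  have h2 : a' = b' := by
    rw [← Category.assoc, ← Category.assoc] at h1
    exact (cancel_mono _).1 ((cancel_mono _).1 h1)
  exact ⟨a', ha', h2 ▸ hb'⟩

section Setup

variable {C : Type u} [Category.{v} C] (n : ℕ) (U : (SimplexCategory.Truncated (n + 1))ᵒᵖ ⥤ C)

/-- The top object of the `(n+1)`-truncated simplex category, as an object of the opposite. -/
abbrev top1 : (SimplexCategory.Truncated (n + 1))ᵒᵖ :=
  op ⟨⦋n + 1⦌, (SimplexCategory.len_mk (n + 1)).le⟩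

/-- The value of `U` on a morphism to the top object. -/
abbrev um {Δ : SimplexCategory} (hΔ : Δ.len ≤ n + 1) (a : Δ ⟶ ⦋n + 1⦌) :
    U.obj (top1 n) ⟶ U.obj (op ⟨Δ, hΔ⟩) :=
  U.map (Truncated.Hom.tr a hΔ (SimplexCategory.len_mk (n + 1)).le).op

lemma len_n_le : (⦋n⦌ : SimplexCategory).len ≤ n + 1 :=
  (SimplexCategory.len_mk n).trans_le (Nat.le_succ n)

/-- The face relations for a family of morphisms to `U_{n+1}`. -/
def FaceRel {S : C} (g : Fin (n + 3) → (S ⟶ U.obj (top1 n))) : Prop :=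
  ∀ i j : Fin (n + 2), i ≤ j →
    g i.castSucc ≫ um n U (len_n_le n) (δ j) = g j.succ ≫ um n U (len_n_le n) (δ i)

variable {n U}

lemma um_comp {Δ Δ' : SimplexCategory} (hΔ : Δ.len ≤ n + 1) (hΔ' : Δ'.len ≤ n + 1)
    (c : Δ ⟶ Δ') (a : Δ' ⟶ ⦋n + 1⦌) :
    um n U hΔ (c ≫ a) = um n U hΔ' a ≫ U.map (Truncated.Hom.tr c hΔ hΔ').op := by
  unfold um
  rw [← U.map_comp, ← op_comp]
  rfl

lemma leg_indep_lt {S : C} {g : Fin (n + 3) → (S ⟶ U.obj (top1 n))} (hg : FaceRel n U g)
    {Δ : SimplexCategory} (hΔ : Δ.len ≤ n + 1) (a b : Δ ⟶ ⦋n + 1⦌) (i' j' : Fin (n + 2))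
    (hij : i' ≤ j') (h : a ≫ δ i'.castSucc = b ≫ δ j'.succ) :
    g i'.castSucc ≫ um n U hΔ a = g j'.succ ≫ um n U hΔ b := by
  obtain ⟨c, rfl, rfl⟩ := exists_common_factor a b i' j' hij h
  rw [um_comp hΔ (len_n_le n), um_comp hΔ (len_n_le n), ← Category.assoc, ← Category.assoc,
    hg i' j' hij]

lemma leg_indep {S : C} {g : Fin (n + 3) → (S ⟶ U.obj (top1 n))} (hg : FaceRel n U g)
    {Δ : SimplexCategory} (hΔ : Δ.len ≤ n + 1) (a b : Δ ⟶ ⦋n + 1⦌) (i j : Fin (n + 3))
    (h : a ≫ δ i = b ≫ δ j) :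
    g i ≫ um n U hΔ a = g j ≫ um n U hΔ b := by
  have key : ∀ (a b : Δ ⟶ ⦋n + 1⦌) (i j : Fin (n + 3)), i < j → a ≫ δ i = b ≫ δ j →
      g i ≫ um n U hΔ a = g j ≫ um n U hΔ b := by
    intro a b i j hij h
    have hi : i ≠ Fin.last (n + 2) := (lt_of_lt_of_le hij (Fin.le_last j)).ne
    have hj : j ≠ 0 := (lt_of_le_of_lt (Fin.zero_le i) hij).ne'
    obtain ⟨i', rfl⟩ : ∃ i' : Fin (n + 2), i = i'.castSucc := ⟨i.castPred hi, (Fin.castSucc_castPred i hi).symm⟩
    obtain ⟨j', rfl⟩ : ∃ j' : Fin (n + 2), j = j'.succ := ⟨j.pred hj, (Fin.succ_pred j hj).symm⟩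
    have hij' : i' ≤ j' := by
      rw [Fin.lt_def] at hij
      rw [Fin.le_def]
      simp only [Fin.val_castSucc, Fin.val_succ] at hij
      omega
    exact leg_indep_lt hg hΔ a b i' j' hij' h
  rcases lt_trichotomy i j with hij | rfl | hij
  · exact key a b i j hij h
  · rw [(cancel_mono _).1 h]
  · exact (key b a j i hij h.symm).symm

end Setup

section Cone

variable {C : Type u} [Category.{v} C] (n : ℕ) (U : (SimplexCategory.Truncated (n + 1))ᵒᵖ ⥤ C)

/-- The inclusion of truncated simplex categories, on opposites. -/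
abbrev L : (SimplexCategory.Truncated (n + 1))ᵒᵖ ⥤ (SimplexCategory.Truncated (n + 2))ᵒᵖ :=
  (SimplexCategory.Truncated.incl (n + 1) (n + 2) (Nat.le_succ _)).op

/-- The top object of the `(n+2)`-truncated simplex category. -/
abbrev top2 : (SimplexCategory.Truncated (n + 2))ᵒᵖ :=
  op ⟨⦋n + 2⦌, (SimplexCategory.len_mk (n + 2)).le⟩

variable {n}

/-- The underlying morphism of simplices of a structured arrow. -/
abbrev theta (g : StructuredArrow (top2 n) (L n)) : g.right.unop.obj ⟶ ⦋n + 2⦌ :=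
  g.hom.unop.hom

lemma exists_fac (g : StructuredArrow (top2 n) (L n)) :
    ∃ (i : Fin (n + 3)) (θ' : g.right.unop.obj ⟶ ⦋n + 1⦌), theta g = θ' ≫ δ i := by
  apply eq_comp_δ_of_not_surjective
  intro hsurj
  have h1 := Fintype.card_le_of_surjective _ hsurj
  have h2 : g.right.unop.obj.len ≤ n + 1 := g.right.unop.property
  simp only [Fintype.card_fin, SimplexCategory.len_mk] at h1
  omega

/-- A chosen face through which a structured arrow factors. -/
noncomputable def idx (g : StructuredArrow (top2 n) (L n)) : Fin (n + 3) := (exists_fac g).choose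

/-- The chosen factorisation. -/
noncomputable def fac (g : StructuredArrow (top2 n) (L n)) : g.right.unop.obj ⟶ ⦋n + 1⦌ :=
  (exists_fac g).choose_spec.choose

lemma fac_spec (g : StructuredArrow (top2 n) (L n)) : theta g = fac g ≫ δ (idx g) :=
  (exists_fac g).choose_spec.choose_spec

variable {U}

/-- The leg of the cone at a structured arrow. -/
noncomputable def legOf {S : C} (p : Fin (n + 3) → (S ⟶ U.obj (top1 n)))
    (g : StructuredArrow (top2 n) (L n)) : S ⟶ U.obj g.right :=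
  p (idx g) ≫ um n U g.right.unop.property (fac g)

lemma legOf_eq {S : C} {p : Fin (n + 3) → (S ⟶ U.obj (top1 n))} (hp : FaceRel n U p)
    (g : StructuredArrow (top2 n) (L n)) (i : Fin (n + 3)) (a : g.right.unop.obj ⟶ ⦋n + 1⦌)
    (h : theta g = a ≫ δ i) :
    legOf p g = p i ≫ um n U g.right.unop.property a :=
  leg_indep hp g.right.unop.property (fac g) a (idx g) i ((fac_spec g).symm.trans h)

/-- The cone over the diagram computing the value of the right Kan extension at `[n+2]`. -/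
noncomputable def coneOf {S : C} (p : Fin (n + 3) → (S ⟶ U.obj (top1 n))) (hp : FaceRel n U p) :
    Cone (StructuredArrow.proj (top2 n) (L n) ⋙ U) where
  pt := S
  π :=
    { app := fun g => legOf p g
      naturality := by
        intro g g' h
        refine (Category.id_comp _).trans ?_
        show legOf p g' = legOf p g ≫ U.map h.right
        have hw : theta g' = h.right.unop.hom ≫ theta g := by
          have := StructuredArrow.w h
          have h2 := congrArg (fun m => m.unop.hom) this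
          exact h2.symm
        have e1 := legOf_eq hp g' (idx g) (h.right.unop.hom ≫ fac g) (by
          rw [hw, fac_spec g, Category.assoc])
        rw [e1]
        unfold legOf
        rw [um_comp g'.right.unop.property g.right.unop.property, Category.assoc]
        rfl }

/-- The structured arrow attached to a morphism of simplices `Δ ⟶ [n+2]` with `Δ` of dimension
`≤ n+1`. -/
abbrev arrowOf {Δ : SimplexCategory} (hΔ : Δ.len ≤ n + 1) (θ : Δ ⟶ ⦋n + 2⦌) :
    StructuredArrow (top2 n) (L n) :=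
  StructuredArrow.mk (Y := op ⟨Δ, hΔ⟩)
    (Truncated.Hom.tr θ (hΔ.trans (Nat.le_succ _)) (SimplexCategory.len_mk (n + 2)).le).op

lemma len_n1_le : (⦋n + 1⦌ : SimplexCategory).len ≤ n + 1 := (SimplexCategory.len_mk (n + 1)).le

/-- The structured arrow given by the `k`-th face. -/
abbrev faceArrow (k : Fin (n + 3)) : StructuredArrow (top2 n) (L n) :=
  arrowOf (len_n1_le (n := n)) (δ k)

lemma cone_app_congr (s : Cone (StructuredArrow.proj (top2 n) (L n) ⋙ U))
    {Δ : SimplexCategory} (hΔ : Δ.len ≤ n + 1) {θ₁ θ₂ : Δ ⟶ ⦋n + 2⦌} (h : θ₁ = θ₂) :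
    (s.π.app (arrowOf hΔ θ₁) : s.pt ⟶ U.obj (op ⟨Δ, hΔ⟩)) = s.π.app (arrowOf hΔ θ₂) := by
  subst h
  rfl

lemma cone_naturality (s : Cone (StructuredArrow.proj (top2 n) (L n) ⋙ U))
    {Δ Δ' : SimplexCategory} (hΔ : Δ.len ≤ n + 1) (hΔ' : Δ'.len ≤ n + 1) (c : Δ' ⟶ Δ)
    (θ : Δ ⟶ ⦋n + 2⦌) :
    s.π.app (arrowOf hΔ θ) ≫ U.map (Truncated.Hom.tr c hΔ' hΔ).op =
      s.π.app (arrowOf hΔ' (c ≫ θ)) :=
  s.w (StructuredArrow.homMk (f := arrowOf hΔ θ) (f' := arrowOf hΔ' (c ≫ θ))
    (Truncated.Hom.tr c hΔ' hΔ).op rfl)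

lemma faceRel_of_cone (s : Cone (StructuredArrow.proj (top2 n) (L n) ⋙ U)) :
    FaceRel n U (fun k => s.π.app (faceArrow k)) := by
  intro i j hij
  have h1 := cone_naturality s (len_n1_le (n := n)) (len_n_le n) (δ j) (δ i.castSucc)
  have h2 := cone_naturality s (len_n1_le (n := n)) (len_n_le n) (δ i) (δ j.succ)
  refine h1.trans (Eq.trans ?_ h2.symm)
  exact cone_app_congr s (len_n_le n) (δ_comp_δ hij).symm

lemma legOf_face {S : C} {p : Fin (n + 3) → (S ⟶ U.obj (top1 n))} (hp : FaceRel n U p)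
    (k : Fin (n + 3)) : legOf p (faceArrow k) = p k := by
  have h := legOf_eq hp (faceArrow k) k (𝟙 _) (Category.id_comp _).symm
  refine h.trans ?_
  have : um n U (len_n1_le (n := n)) (𝟙 ⦋n + 1⦌) = 𝟙 _ := U.map_id _
  exact (congrArg (fun m => p k ≫ m) this).trans (Category.comp_id _)

/-- The cone with vertex `T` is a limit cone. -/
noncomputable def isLimitConeOf {T : C} (π : Fin (n + 3) → (T ⟶ U.obj (top1 n)))
    (hπ : FaceRel n U π)
    (huniv : ∀ (S : C) (g : Fin (n + 3) → (S ⟶ U.obj (top1 n))), FaceRel n U g →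
      ∃! t : S ⟶ T, ∀ k : Fin (n + 3), t ≫ π k = g k) :
    IsLimit (coneOf π hπ) where
  lift s := (huniv s.pt (fun k => s.π.app (faceArrow k)) (faceRel_of_cone s)).exists.choose
  fac s g := by
    have hl := (huniv s.pt (fun k => s.π.app (faceArrow k)) (faceRel_of_cone s)).exists.choose_spec
    show _ ≫ legOf π g = s.π.app g
    unfold legOf
    rw [← Category.assoc, hl (idx g)]
    have h1 := cone_naturality s (len_n1_le (n := n)) g.right.unop.property (fac g) (δ (idx g))
    refine h1.trans ?_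
    exact cone_app_congr s g.right.unop.property (fac_spec g).symm
  uniq s m hm := by
    have hu := huniv s.pt (fun k => s.π.app (faceArrow k)) (faceRel_of_cone s)
    refine hu.unique (fun k => ?_) hu.exists.choose_spec
    have := hm (faceArrow k)
    change m ≫ legOf π (faceArrow k) = _ at this
    rw [legOf_face hπ k] at this
    exact this

end Cone

section Main

variable {C : Type u} [Category.{v} C] (n : ℕ) (U : (SimplexCategory.Truncated (n + 1))ᵒᵖ ⥤ C)
  {T : C} (π : Fin (n + 3) → (T ⟶ U.obj (top1 n))) (hπ : FaceRel n U π)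
  (huniv : ∀ (S : C) (g : Fin (n + 3) → (S ⟶ U.obj (top1 n))), FaceRel n U g →
    ∃! t : S ⟶ T, ∀ k : Fin (n + 3), t ≫ π k = g k)

include hπ huniv in
theorem hasPointwiseRightKanExtension : (L n).HasPointwiseRightKanExtension U := by
  intro Y
  obtain ⟨⟨x, hx⟩⟩ := Y
  by_cases h : x.len ≤ n + 1
  · have : HasInitial (StructuredArrow ((L n).obj (op ⟨x, h⟩)) (L n)) :=
      StructuredArrow.mkIdInitial.hasInitial
    show HasLimit (StructuredArrow.proj ((L n).obj (op ⟨x, h⟩)) (L n) ⋙ U)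
    infer_instance
  · have hx' : x.len = n + 2 := by
      have : x.len ≤ n + 2 := hx
      omega
    obtain rfl : x = ⦋n + 2⦌ := SimplexCategory.ext (by rw [hx'])
    exact ⟨⟨coneOf π hπ, isLimitConeOf π hπ huniv⟩⟩

include hπ huniv in
theorem isIso_of_isRightKanExtension (V : (SimplexCategory.Truncated (n + 2))ᵒᵖ ⥤ C)
    (α : L n ⋙ V ⟶ U) [V.IsRightKanExtension α] (t : V.obj (top2 n) ⟶ T)
    (ht : ∀ k : Fin (n + 3), t ≫ π k = V.map (faceArrow k).hom ≫ α.app (top1 n)) : IsIso t := by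
  have := hasPointwiseRightKanExtension n U π hπ huniv
  have hE := Functor.isPointwiseRightKanExtensionOfIsRightKanExtension V α
  let e : V.obj (top2 n) ≅ T :=
    (hE (top2 n)).conePointUniqueUpToIso (isLimitConeOf π hπ huniv)
  have he : ∀ k : Fin (n + 3), e.hom ≫ π k = V.map (faceArrow k).hom ≫ α.app (top1 n) := by
    intro k
    have h1 := IsLimit.conePointUniqueUpToIso_hom_comp (hE (top2 n)) (isLimitConeOf π hπ huniv)
      (faceArrow k)
    have h2 : (coneOf π hπ).π.app (faceArrow k) = π k := legOf_face hπ k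
    rw [h2] at h1
    exact h1
  have hrel : FaceRel n U (fun k => V.map (faceArrow k).hom ≫ α.app (top1 n)) := by
    intro i j hij
    show (V.map (faceArrow i.castSucc).hom ≫ α.app (top1 n)) ≫ _ =
      (V.map (faceArrow j.succ).hom ≫ α.app (top1 n)) ≫ _
    rw [← he, ← he]
    refine (Category.assoc _ _ _).trans (Eq.trans ?_ (Category.assoc _ _ _).symm)
    exact congrArg (fun m => e.hom ≫ m) (hπ i j hij)
  have := (huniv _ _ hrel).unique ht he
  rw [this]
  exact e.isIso_hom

end Main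

end Groth.Agent.H34.CoskTop
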