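import Mathlib.Algebra.Homology.DerivedCategory.TStructure
import Mathlib.Algebra.Homology.DerivedCategory.HomologySequence
import Mathlib.Algebra.Homology.SingleHomology

/-!
# Effaceability of morphisms from an object of the heart to an object in lower degrees

For `M : A` and `Y : DerivedCategory A` with `Y.IsLE (n - 1)`, any morphism
`ξ : (singleFunctor A n).obj M ⟶ Y` is killed by precomposition with (the image of)
some epimorphism `p : P ⟶ M`.
-/

universe w v u

open CategoryTheory Limits

namespace Groth.Agent.H34.Efface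

variable {A : Type u} [Category.{v} A] [Abelian A]

/-- If `s : K ⟶ (single n).obj M` is a quasi-isomorphism (at degree `n` is enough),
then its degree `n` component `K.X n ⟶ M` is an epimorphism. -/
lemma epi_of_quasiIsoAt {K : CochainComplex A ℤ} {M : A} (n : ℤ)
    (s : K ⟶ (HomologicalComplex.single A (ComplexShape.up ℤ) n).obj M) [QuasiIsoAt s n] :
    Epi (s.f n ≫ (HomologicalComplex.singleObjXSelf (ComplexShape.up ℤ) n M).hom) := by
  have h : K.iCycles n ≫ s.f n ≫ (HomologicalComplex.singleObjXSelf (ComplexShape.up ℤ) n M).hom =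
      K.homologyπ n ≫ HomologicalComplex.homologyMap s n ≫
        (HomologicalComplex.singleObjHomologySelfIso (ComplexShape.up ℤ) n M).hom := by
    rw [HomologicalComplex.homologyπ_naturality_assoc,
      HomologicalComplex.homologyπ_singleObjHomologySelfIso_hom,
      HomologicalComplex.singleObjCyclesSelfIso_hom,
      HomologicalComplex.cyclesMap_i_assoc]
  have : Epi (K.iCycles n ≫ s.f n ≫
      (HomologicalComplex.singleObjXSelf (ComplexShape.up ℤ) n M).hom) := by
    rw [h]
    infer_instance
  exact epi_of_epi (K.iCycles n) _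

/-- For `K` strictly `≤ n`, the canonical morphism from `K.X n` placed in degree `n`. -/
noncomputable def topMap (K : CochainComplex A ℤ) (n : ℤ) [K.IsStrictlyLE n] :
    (HomologicalComplex.single A (ComplexShape.up ℤ) n).obj (K.X n) ⟶ K :=
  HomologicalComplex.mkHomFromSingle (𝟙 _) (fun k hk =>
    (K.isZero_of_isStrictlyLE n k (by simp at hk; omega)).eq_of_tgt _ _)

lemma topMap_f (K : CochainComplex A ℤ) (n : ℤ) [K.IsStrictlyLE n] :
    (topMap K n).f n = (HomologicalComplex.singleObjXSelf (ComplexShape.up ℤ) n (K.X n)).hom := by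
  simp [topMap, HomologicalComplex.mkHomFromSingle_f]

lemma epi_homologyMap_topMap (K : CochainComplex A ℤ) (n : ℤ) [K.IsStrictlyLE n] :
    Epi (HomologicalComplex.homologyMap (topMap K n) n) := by
  have hd : K.d n (n + 1) = 0 := (K.isZero_of_isStrictlyLE n (n + 1) (by omega)).eq_of_tgt _ _
  have h1 : IsIso (K.iCycles n) := K.isIso_iCycles n (n + 1) (by simp) hd
  have h2 : IsIso (((HomologicalComplex.single A (ComplexShape.up ℤ) n).obj (K.X n)).iCycles n) :=
    HomologicalComplex.isIso_iCycles _ n (n + 1) (by simp) (by simp)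
  have h3 : IsIso (HomologicalComplex.cyclesMap (topMap K n) n) := by
    have : IsIso (HomologicalComplex.cyclesMap (topMap K n) n ≫ K.iCycles n) := by
      rw [HomologicalComplex.cyclesMap_i, topMap_f]
      infer_instance
    exact IsIso.of_isIso_comp_right _ (K.iCycles n)
  have h4 : Epi (((HomologicalComplex.single A (ComplexShape.up ℤ) n).obj (K.X n)).homologyπ n ≫
      HomologicalComplex.homologyMap (topMap K n) n) := by
    rw [HomologicalComplex.homologyπ_naturality]
    infer_instance
  exact epi_of_epi (((HomologicalComplex.single A (ComplexShape.up ℤ) n).obj (K.X n)).homologyπ n) _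

variable [HasDerivedCategory.{w} A]

open DerivedCategory

lemma epi_homologyFunctor_map_Q_topMap (K : CochainComplex A ℤ) (n : ℤ) [K.IsStrictlyLE n] :
    Epi ((homologyFunctor A n).map (Q.map (topMap K n))) := by
  have h0 := epi_homologyMap_topMap K n
  have h := homologyFunctorFactors_hom_naturality (topMap K n) n
  have : Epi ((homologyFunctor A n).map (Q.map (topMap K n)) ≫
      (homologyFunctorFactors A n).hom.app K) := by
    rw [h]
    exact @epi_comp _ _ _ _ _ _ inferInstance _ h0
  exact (epi_comp_iff_of_isIso _ _).1 this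

/-- Effaceability at the level of complexes. -/
lemma efface_Q (M : A) (n m : ℤ) (hm : m < n) (L : CochainComplex A ℤ) [L.IsStrictlyLE m]
    (f : Q.obj ((HomologicalComplex.single A (ComplexShape.up ℤ) n).obj M) ⟶ Q.obj L) :
    ∃ (P : A) (p : P ⟶ M), Epi p ∧
      Q.map ((HomologicalComplex.single A (ComplexShape.up ℤ) n).map p) ≫ f = 0 := by
  have : CochainComplex.IsStrictlyLE
      ((HomologicalComplex.single A (ComplexShape.up ℤ) n).obj M) n :=
    inferInstance
  obtain ⟨X', hX', s, hs, g, rfl⟩ := right_fac_of_isStrictlyLE f n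
  have hs' : QuasiIso s := (isIso_Q_map_iff_quasiIso _ s).1 hs
  let ιP : (HomologicalComplex.single A (ComplexShape.up ℤ) n).obj (X'.X n) ⟶ X' :=
    HomologicalComplex.mkHomFromSingle (𝟙 _) (fun k hk =>
      (X'.isZero_of_isStrictlyLE n k (by simp at hk; omega)).eq_of_tgt _ _)
  refine ⟨X'.X n, s.f n ≫ (HomologicalComplex.singleObjXSelf (ComplexShape.up ℤ) n M).hom,
    epi_of_quasiIsoAt n s, ?_⟩
  have h1 : (HomologicalComplex.single A (ComplexShape.up ℤ) n).map
      (s.f n ≫ (HomologicalComplex.singleObjXSelf (ComplexShape.up ℤ) n M).hom) = ιP ≫ s := by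
    apply HomologicalComplex.from_single_hom_ext
    simp [ιP, HomologicalComplex.mkHomFromSingle_f, HomologicalComplex.single_map_f_self]
  have h2 : ιP ≫ g = 0 := by
    apply HomologicalComplex.from_single_hom_ext
    exact (L.isZero_of_isStrictlyLE m n (by omega)).eq_of_tgt _ _
  rw [h1, Q.map_comp, Category.assoc, IsIso.hom_inv_id_assoc, ← Q.map_comp, h2, Q.map_zero]

/-- **Effaceability**: a morphism from an object of the heart (placed in degree `n`) to an
object of `D(A)` which is `≤ m` with `m < n` is killed by an epimorphism onto the source. -/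
lemma efface (M : A) (n m : ℤ) (hm : m < n) (Y : DerivedCategory A) [Y.IsLE m]
    (ξ : (singleFunctor A n).obj M ⟶ Y) :
    ∃ (P : A) (p : P ⟶ M), Epi p ∧ (singleFunctor A n).map p ≫ ξ = 0 := by
  obtain ⟨L, hL, ⟨e⟩⟩ := Y.exists_iso_Q_obj_of_isLE m
  obtain ⟨P, p, hp, h⟩ := efface_Q M n m hm L (ξ ≫ e.hom)
  refine ⟨P, p, hp, ?_⟩
  rw [← cancel_mono e.hom, Category.assoc, zero_comp]
  exact h

end Groth.Agent.H34.Efface
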