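import Groth.Agent.H34.PostnikovExists
import Groth.Agent.H34.Efface
import Mathlib.Data.Countable.Basic
import Mathlib.Logic.Equiv.Nat

/-!
# Countability of `D^b(A)` for a countable abelian category `A`

Hom-sets: by effaceability (`Efface.efface`) `Ext^n` is a countable union of images of `Ext^{n-1}`;
then Postnikov towers (`Postnikov.Tower`, `PostnikovExists.exists_tower`) reduce general Homs
to those between shifted objects of `A`. Isomorphism classes: objects with a tower of length
`≤ d + 1` are cones of countably many morphisms between objects of length `≤ d` and shifted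
objects of `A`.
-/

universe w v u

set_option linter.unusedSectionVars false

open CategoryTheory Limits Pretriangulated DerivedCategory ZeroObject

namespace Groth.Agent.H34.CountableDb

open Groth.Agent.H34 Groth.Agent.H34.SibCover Groth.Agent.H34.Postnikov

variable {A : Type u} [Category.{v} A] [Abelian A] [HasDerivedCategory.{w} A]

/-- In an exact sequence `A → B → C` (of sets, with `B → C` additive), `B` is countable
if `A` and `C` are. -/
lemma countable_of_exact {X Y Z : Type*} [AddGroup Y] [AddGroup Z] [Countable X] [Countable Z]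
    (f : X → Y) (g : Y → Z) (hg : ∀ y y', g (y - y') = g y - g y')
    (hex : ∀ y, g y = 0 → ∃ x, f x = y) : Countable Y := by
  classical
  let s : Z → Y := fun z => if h : ∃ y, g y = z then h.choose else 0
  have hs : ∀ y, g (s (g y)) = g y := by
    intro y
    have h : ∃ y', g y' = g y := ⟨y, rfl⟩
    simp only [s, dif_pos h]
    exact h.choose_spec
  have hx : ∀ y, ∃ x, f x = y - s (g y) := fun y => hex _ (by rw [hg, hs, sub_self])
  choose a ha using hx
  refine Function.Injective.countable (f := fun y => (g y, a y)) ?_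
  intro y y' h
  simp only [Prod.mk.injEq] at h
  have h1 : y - s (g y) = y' - s (g y') := by rw [← ha, ← ha, h.2]
  rw [h.1] at h1
  exact sub_left_injective h1

/-- `N` placed in degree `b` in `D(A)`. -/
noncomputable abbrev S (b : ℤ) (N : A) : DerivedCategory A := (singleFunctor A b).obj N

section

variable (hhom : ∀ X Y : A, Countable (X ⟶ Y)) (e : ℕ → A)
  (he : ∀ X : A, ∃ n : ℕ, Nonempty (X ≅ e n))

include hhom e he in
theorem countable_hom_S_nat : ∀ (n : ℕ) (b c : ℤ) (N M : A), b - c = n →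
    Countable (S b N ⟶ S c M) := by
  intro n
  induction n with
  | zero =>
    intro b c N M h
    obtain rfl : b = c := by simpa [sub_eq_zero] using h
    have := hhom N M
    exact ((Functor.FullyFaithful.ofFullyFaithful (singleFunctor A b)).homEquiv
      (X := N) (Y := M)).symm.injective.countable
  | succ n ih =>
    intro b c N M h
    have hI : ∀ i, Countable (e i ⟶ N) := fun i => hhom _ _
    let I := Σ i : ℕ, {p : e i ⟶ N // Epi p}
    have key : ∀ idx : I, ∃ δ' : S b N ⟶ S (b - 1) (kernel idx.2.1),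
        ∀ ξ : S b N ⟶ S c M, (singleFunctor A b).map idx.2.1 ≫ ξ = 0 → ∃ η', ξ = δ' ≫ η' := by
      rintro ⟨i, p, hp⟩
      let S₀ : ShortComplex A := ShortComplex.mk (kernel.ι p) p (kernel.condition p)
      have hS₀ : S₀.ShortExact :=
        { exact := ShortComplex.exact_of_f_is_kernel _ (kernelIsKernel p)
          mono_f := inferInstanceAs (Mono (kernel.ι p))
          epi_g := hp }
      have hS' : (S₀.map (HomologicalComplex.single A (ComplexShape.up ℤ) b)).ShortExact :=
        hS₀.map_of_exact _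
      have hT := triangleOfSES_distinguished hS'
      let iso := ((singleFunctors A).shiftIso 1 (b - 1) b (by omega)).app (kernel p)
      let δ' : S b N ⟶ S (b - 1) (kernel p) := triangleOfSESδ hS' ≫ iso.hom
      refine ⟨δ', fun ξ hξ => ?_⟩
      obtain ⟨η, hη⟩ := Triangle.yoneda_exact₃ _ hT ξ hξ
      refine ⟨iso.inv ≫ η, ?_⟩
      have hη' : ξ = triangleOfSESδ hS' ≫ η := hη
      have h1 : iso.hom ≫ iso.inv ≫ η = η := Iso.hom_inv_id_assoc iso η
      have h2 : δ' ≫ iso.inv ≫ η = triangleOfSESδ hS' ≫ iso.hom ≫ iso.inv ≫ η :=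
        Category.assoc _ _ _
      rw [hη', h2]
      exact congrArg (triangleOfSESδ hS' ≫ ·) h1.symm
    choose δ' hδ' using key
    have hcov : ∀ ξ : S b N ⟶ S c M, ∃ (idx : I) (η' : S (b - 1) (kernel idx.2.1) ⟶ S c M),
        ξ = δ' idx ≫ η' := by
      intro ξ
      obtain ⟨P, p, hp, h0⟩ := Efface.efface N b c (by omega) (S c M) ξ
      obtain ⟨i, ⟨φ⟩⟩ := he P
      have : Epi (φ.inv ≫ p) := epi_comp _ _
      refine ⟨⟨i, φ.inv ≫ p, this⟩, hδ' _ ξ ?_⟩
      change (singleFunctor A b).map (φ.inv ≫ p) ≫ ξ = 0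
      rw [Functor.map_comp, Category.assoc, h0, comp_zero]
    have hc : ∀ idx : I, Countable (S (b - 1) (kernel idx.2.1) ⟶ S c M) := fun idx =>
      ih (b - 1) c _ M (by push_cast at h; omega)
    let g : (Σ idx : I, (S (b - 1) (kernel idx.2.1) ⟶ S c M)) → (S b N ⟶ S c M) :=
      fun x => δ' x.1 ≫ x.2
    exact Function.Surjective.countable (f := g) (fun ξ => by
      obtain ⟨idx, η', h⟩ := hcov ξ
      exact ⟨⟨idx, η'⟩, h.symm⟩)


include hhom e he in
theorem countable_hom_S (b c : ℤ) (N M : A) : Countable (S b N ⟶ S c M) := by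
  by_cases h : 0 ≤ b - c
  · obtain ⟨n, hn⟩ := Int.eq_ofNat_of_zero_le h
    exact countable_hom_S_nat hhom e he n b c N M hn
  · have : Subsingleton (S b N ⟶ S c M) := ⟨fun f g => by
      have h1 : ∀ f : S b N ⟶ S c M, f = 0 := fun f =>
        TStructure.t.zero_of_isLE_of_isGE f b c (by omega) inferInstance inferInstance
      rw [h1 f, h1 g]⟩
    infer_instance

include hhom e he in
theorem countable_hom_PB (b c : ℤ) (N M : A) : Countable (PB N b ⟶ PB M c) := by
  have := countable_hom_S hhom e he b c N M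
  let φ : (PB N b ⟶ PB M c) → (S b N ⟶ S c M) := fun f => (σ N b).inv ≫ f.hom ≫ (σ M c).hom
  refine Function.Injective.countable (f := φ) ?_
  intro f g hfg
  apply ObjectProperty.hom_ext
  have h1 : (σ N b).hom ≫ φ f ≫ (σ M c).inv = (σ N b).hom ≫ φ g ≫ (σ M c).inv := by rw [hfg]
  simpa [φ] using h1

include hhom e he in
theorem countable_hom_tower_PB {K : DerivedCategory.Bounded A} {b : ℤ} (t : Tower K b)
    (M : A) (c : ℤ) : Countable (K ⟶ PB M c) := by
  induction t with
  | zero K b h =>
    have : Subsingleton (K ⟶ PB M c) := ⟨fun f g => h.eq_of_src f g⟩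
    infer_instance
  | step N ι π δ hT t ih =>
    rename_i K Q b
    have := countable_hom_PB hhom e he b c N M
    exact countable_of_exact (fun (f : Q ⟶ PB M c) => π ≫ f) (fun (f : K ⟶ PB M c) => ι ≫ f)
      (fun y y' => Preadditive.comp_sub _ _ _)
      (fun y hy => by
        obtain ⟨x, hx⟩ := Triangle.yoneda_exact₂ _ hT y hy
        exact ⟨x, hx.symm⟩)

include hhom e he in
theorem countable_hom_tower (K : DerivedCategory.Bounded A) {L : DerivedCategory.Bounded A}
    {c : ℤ} (t : Tower L c) : Countable (K ⟶ L) := by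
  induction t with
  | zero L c h =>
    have : Subsingleton (K ⟶ L) := ⟨fun f g => h.eq_of_tgt f g⟩
    infer_instance
  | step N ι π δ hT t ih =>
    rename_i L Q c
    obtain ⟨b, ⟨tK⟩⟩ := PostnikovExists.exists_tower K
    have := countable_hom_tower_PB hhom e he tK N c
    exact countable_of_exact (fun (f : K ⟶ PB N c) => f ≫ ι) (fun (f : K ⟶ L) => f ≫ π)
      (fun y y' => Preadditive.sub_comp _ _ _)
      (fun y hy => by
        obtain ⟨x, hx⟩ := Triangle.coyoneda_exact₂ _ hT y hy
        exact ⟨x, hx.symm⟩)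

include hhom e he in
theorem countable_hom (K L : DerivedCategory.Bounded A) : Countable (K ⟶ L) := by
  obtain ⟨c, ⟨tL⟩⟩ := PostnikovExists.exists_tower L
  exact countable_hom_tower hhom e he K tL


/-- Length of a tower. -/
def towerLen : ∀ {K : DerivedCategory.Bounded A} {b : ℤ}, Tower K b → ℕ
  | _, _, .zero _ _ _ => 0
  | _, _, .step _ _ _ _ _ t => towerLen t + 1

include hhom e he in
theorem exists_enum_len (d : ℕ) : ∃ E : ℕ → DerivedCategory.Bounded A,
    ∀ (K : DerivedCategory.Bounded A) (b : ℤ) (t : Tower K b), towerLen t ≤ d →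
      ∃ n, Nonempty (K ≅ E n) := by
  induction d with
  | zero =>
    refine ⟨fun _ => 0, fun K b t ht => ?_⟩
    cases t with
    | zero _ _ h => exact ⟨0, ⟨h.iso (isZero_zero _)⟩⟩
    | step N ι π δ hT t' => simp [towerLen] at ht
  | succ d ih =>
    obtain ⟨E, hE⟩ := ih
    let P := Σ (i : ℕ) (b : ℤ) (j : ℕ), (E j ⟶ (PB (e i) b)⟦(1 : ℤ)⟧)
    have hP : Countable P := by
      have : ∀ i b j, Countable (E j ⟶ (PB (e i) b)⟦(1 : ℤ)⟧) :=
        fun i b j => countable_hom hhom e he _ _
      infer_instance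
    have hobj : ∀ x : P, ∃ (Z : DerivedCategory.Bounded A) (f : PB (e x.1) x.2.1 ⟶ Z)
        (g : Z ⟶ E x.2.2.1), Triangle.mk f g x.2.2.2 ∈ distTriang _ :=
      fun x => distinguished_cocone_triangle₂ x.2.2.2
    choose Z f g hZ using hobj
    obtain ⟨s, hs⟩ := exists_surjective_nat (Option P)
    refine ⟨fun n => (s n).elim 0 Z, fun K b t ht => ?_⟩
    cases t with
    | zero _ _ h =>
      obtain ⟨n, hn⟩ := hs none
      refine ⟨n, ⟨?_⟩⟩
      simp only [hn]
      exact h.iso (isZero_zero _)
    | step N ι π δ hT t' =>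
      rename_i Q
      have ht' : towerLen t' ≤ d := by simpa [towerLen] using ht
      obtain ⟨j, ⟨φQ⟩⟩ := hE Q (b - 1) t' ht'
      obtain ⟨i, ⟨φN⟩⟩ := he N
      let ψ : PB N b ≅ PB (e i) b :=
        (shiftFunctor _ (-b)).mapIso ((DEquiv.singleB A).mapIso φN)
      let x : P := ⟨i, b, j, φQ.inv ≫ δ ≫ ψ.hom⟦(1 : ℤ)⟧'⟩
      obtain ⟨n, hn⟩ := hs (some x)
      refine ⟨n, ⟨?_⟩⟩
      simp only [hn]
      have comm : δ ≫ ψ.hom⟦(1 : ℤ)⟧' = φQ.hom ≫ φQ.inv ≫ δ ≫ ψ.hom⟦(1 : ℤ)⟧' := by
        rw [Iso.hom_inv_id_assoc]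
      exact Triangle.π₂.mapIso (isoTriangleOfIso₁₃ _ _ hT (hZ x) ψ φQ comm)

include hhom e he in
theorem exists_enum : ∃ E : ℕ → DerivedCategory.Bounded A,
    ∀ K : DerivedCategory.Bounded A, ∃ n, Nonempty (K ≅ E n) := by
  choose E hE using exists_enum_len hhom e he
  refine ⟨fun n => E (Nat.unpair n).1 (Nat.unpair n).2, fun K => ?_⟩
  obtain ⟨b, ⟨t⟩⟩ := PostnikovExists.exists_tower K
  obtain ⟨m, hm⟩ := hE (towerLen t) K b t le_rfl
  exact ⟨Nat.pair (towerLen t) m, by simpa [Nat.unpair_pair] using hm⟩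

end

end Groth.Agent.H34.CountableDb
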