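import Groth.Prelude.Def_W4stkflatp2Cpct
import Mathlib.CategoryTheory.Localization.CalculusOfFractions
import Mathlib.AlgebraicGeometry.Morphisms.QuasiSeparated
import Mathlib.AlgebraicGeometry.Morphisms.Separated
import Mathlib.AlgebraicGeometry.PullbackCarrier

/-!
# Compactifications: `Cpct.isoOpen S` has a right calculus of fractions (helper34)
-/
universe u

namespace Groth.Agent.H34.CpctA

open CategoryTheory CategoryTheory.Limits AlgebraicGeometry Opposite Cpct

variable {S : Scheme.{u}}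

@[reassoc]
lemma restr_ι {A B : Pair S} (f : A ⟶ B) :
    restr f ≫ B.U.ι = A.U.ι ≫ (Pair.Hom.bar f).left := by
  simp [restr]

lemma restr_id (A : Pair S) : restr (𝟙 A) = 𝟙 _ := by
  rw [← cancel_mono A.U.ι, restr_ι]
  simp

lemma restr_comp {A B C : Pair S} (f : A ⟶ B) (g : B ⟶ C) :
    restr (f ≫ g) = restr f ≫ restr g := by
  rw [← cancel_mono C.U.ι, restr_ι, Category.assoc, restr_ι, restr_ι_assoc]
  simp

instance : (isoOpen S).IsMultiplicative where
  id_mem A := by
    change IsIso (restr (𝟙 A))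
    rw [restr_id]; infer_instance
  comp_mem f g hf hg := by
    change IsIso (restr (f ≫ g))
    rw [restr_comp]
    have : IsIso (restr f) := hf
    have : IsIso (restr g) := hg
    infer_instance

instance isProper_bar_left {A B : Pair S} (g : A ⟶ B) : IsProper (Pair.Hom.bar g).left := by
  have := A.isProper
  have := B.isProper
  have h : (Pair.Hom.bar g).left ≫ B.bar.hom = A.bar.hom := Over.w _
  have : IsProper ((Pair.Hom.bar g).left ≫ B.bar.hom) := by rw [h]; infer_instance
  exact IsProper.of_comp _ B.bar.hom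

section Ore
variable {X Y Y' : Pair S} (f : X ⟶ Y') (s : Y ⟶ Y')

/-- map from pullback of opens to pullback of bars -/
noncomputable def oreJ : pullback (restr f) (restr s) ⟶
    pullback (Pair.Hom.bar f).left (Pair.Hom.bar s).left :=
  pullback.map _ _ _ _ X.U.ι Y.U.ι Y'.U.ι (restr_ι f) (restr_ι s)

instance : IsOpenImmersion (oreJ f s) := by unfold oreJ; infer_instance

@[reassoc]
lemma oreJ_fst : oreJ f s ≫ pullback.fst _ _ = pullback.fst _ _ ≫ X.U.ι := by
  unfold oreJ pullback.map
  exact pullback.lift_fst _ _ _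

@[reassoc]
lemma oreJ_snd : oreJ f s ≫ pullback.snd _ _ = pullback.snd _ _ ≫ Y.U.ι := by
  unfold oreJ pullback.map
  exact pullback.lift_snd _ _ _

noncomputable def orePair (hs : IsIso (restr s)) : Pair S where
  bar := Over.mk (pullback.fst (Pair.Hom.bar f).left (Pair.Hom.bar s).left ≫ X.bar.hom)
  U := (oreJ f s).opensRange
  isProper := by
    have := X.isProper
    dsimp; infer_instance
  isCompact := by
    have : CompactSpace X.U := isCompact_iff_compactSpace.mp X.isCompact
    have : CompactSpace (pullback (restr f) (restr s) : Scheme.{u}) :=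
      (Scheme.homeoOfIso (asIso (pullback.fst (restr f) (restr s)))).symm.compactSpace
    exact isCompact_range (oreJ f s).continuous

variable (hs : IsIso (restr s))

noncomputable def oreS : orePair f s hs ⟶ X where
  bar := Over.homMk (pullback.fst _ _) rfl
  le := by
    rintro x ⟨p, rfl⟩
    change (oreJ f s ≫ pullback.fst _ _) p ∈ X.U
    rw [oreJ_fst]
    exact ((pullback.fst (restr f) (restr s)) p).2

noncomputable def oreF : orePair f s hs ⟶ Y where
  bar := Over.homMk (pullback.snd _ _) (by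
    dsimp [orePair]
    rw [← Over.w (Pair.Hom.bar s), ← Over.w (Pair.Hom.bar f), pullback.condition_assoc])
  le := by
    rintro x ⟨p, rfl⟩
    change (oreJ f s ≫ pullback.snd _ _) p ∈ Y.U
    rw [oreJ_snd]
    exact ((pullback.snd (restr f) (restr s)) p).2

lemma ore_comm : oreS f s hs ≫ f = oreF f s hs ≫ s := by
  apply Pair.Hom.ext
  ext1
  exact pullback.condition

noncomputable def oreE : pullback (restr f) (restr s) ≅ ((orePair f s hs).U : Scheme.{u}) :=
  (oreJ f s).isoOpensRange

lemma oreE_hom_ι : (oreE f s hs).hom ≫ (orePair f s hs).U.ι = oreJ f s :=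
  Scheme.Hom.isoOpensRange_hom_ι (oreJ f s)

lemma oreS_mem : isoOpen S (oreS f s hs) := by
  change IsIso (restr (oreS f s hs))
  have h : (oreE f s hs).hom ≫ restr (oreS f s hs) = pullback.fst _ _ := by
    rw [← cancel_mono X.U.ι, Category.assoc, restr_ι]
    calc (oreE f s hs).hom ≫ (orePair f s hs).U.ι ≫ (Pair.Hom.bar (oreS f s hs)).left
        = ((oreE f s hs).hom ≫ (orePair f s hs).U.ι) ≫ (Pair.Hom.bar (oreS f s hs)).left :=
          (Category.assoc _ _ _).symm
      _ = oreJ f s ≫ pullback.fst _ _ := by rw [oreE_hom_ι]; rfl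
      _ = _ := oreJ_fst f s
  have : restr (oreS f s hs) = (oreE f s hs).inv ≫ pullback.fst _ _ := by
    rw [← h, Iso.inv_hom_id_assoc]
  rw [this]
  infer_instance

end Ore

section Ext
variable {X Y Y' : Pair S} (f₁ f₂ : X ⟶ Y) 

noncomputable def extPair : Pair S where
  bar := equalizer (Pair.Hom.bar f₁) (Pair.Hom.bar f₂)
  U := (equalizer.ι (Pair.Hom.bar f₁) (Pair.Hom.bar f₂)).left ⁻¹ᵁ X.U
  isProper := by
    have := X.isProper
    have := Y.isProper
    have : IsProper ((equalizer.ι (Pair.Hom.bar f₁) (Pair.Hom.bar f₂)).left ≫ X.bar.hom) :=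
      inferInstance
    rwa [Over.w] at this
  isCompact := by
    have := Y.isProper
    exact QuasiCompact.isCompact_preimage
      (f := (equalizer.ι (Pair.Hom.bar f₁) (Pair.Hom.bar f₂)).left) _ X.U.2 X.isCompact

noncomputable def extT : extPair f₁ f₂ ⟶ X where
  bar := equalizer.ι _ _
  le := fun _ hx => hx

lemma extT_comp : extT f₁ f₂ ≫ f₁ = extT f₁ f₂ ≫ f₂ := by
  apply Pair.Hom.ext
  exact equalizer.condition _ _

variable (s : Y ⟶ Y') (hs : IsIso (restr s)) (h : f₁ ≫ s = f₂ ≫ s)

include hs h in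
lemma ι_eq : X.U.ι ≫ (Pair.Hom.bar f₁).left = X.U.ι ≫ (Pair.Hom.bar f₂).left := by
  have h1 : restr f₁ ≫ restr s = restr f₂ ≫ restr s := by
    rw [← cancel_mono Y'.U.ι]
    simp only [Category.assoc, restr_ι, restr_ι_assoc]
    have := congrArg (fun g => (Pair.Hom.bar g).left) h
    simp only [Pair.comp_bar, Over.comp_left] at this
    rw [this]
  have h2 : restr f₁ = restr f₂ := by rwa [cancel_mono] at h1
  rw [← restr_ι, ← restr_ι, h2]

include hs h in
lemma extT_mem : isoOpen S (extT f₁ f₂) := by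
  change IsIso (restr (extT f₁ f₂))
  -- lift
  let l : (X.U : Scheme.{u}) ⟶ (extPair f₁ f₂).bar.left :=
    (equalizer.lift (f := Pair.Hom.bar f₁) (g := Pair.Hom.bar f₂)
      (Over.homMk (U := Over.mk (X.U.ι ≫ X.bar.hom)) X.U.ι rfl) (by
        ext1
        exact ι_eq f₁ f₂ s hs h)).left
  have hl : l ≫ (Pair.Hom.bar (extT f₁ f₂)).left = X.U.ι := by
    have := equalizer.lift_ι (f := Pair.Hom.bar f₁) (g := Pair.Hom.bar f₂)
      (Over.homMk (U := Over.mk (X.U.ι ≫ X.bar.hom)) X.U.ι rfl) (by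
        ext1
        exact ι_eq f₁ f₂ s hs h)
    exact congrArg (fun g => g.left) this
  have hrange : Set.range l ⊆ Set.range (extPair f₁ f₂).U.ι := by
    rintro _ ⟨u, rfl⟩
    rw [Scheme.Opens.range_ι]
    change (Pair.Hom.bar (extT f₁ f₂)).left (l u) ∈ X.U
    rw [← Scheme.Hom.comp_apply, hl]
    exact u.2
  let g : (X.U : Scheme.{u}) ⟶ ((extPair f₁ f₂).U : Scheme.{u}) :=
    IsOpenImmersion.lift (extPair f₁ f₂).U.ι l hrange
  have hg : g ≫ (extPair f₁ f₂).U.ι = l := IsOpenImmersion.lift_fac _ _ _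
  have := Y.isProper
  have : Mono (Pair.Hom.bar (extT f₁ f₂)).left :=
    inferInstanceAs (Mono (equalizer.ι (Pair.Hom.bar f₁) (Pair.Hom.bar f₂)).left)
  refine ⟨g, ?_, ?_⟩
  · rw [← cancel_mono (extPair f₁ f₂).U.ι, ← cancel_mono (Pair.Hom.bar (extT f₁ f₂)).left]
    simp only [Category.assoc, Category.id_comp]
    rw [reassoc_of% hg, hl, restr_ι]
  · rw [← cancel_mono X.U.ι, Category.assoc, restr_ι, reassoc_of% hg, hl, Category.id_comp]

end Ext


theorem hasRightCalculusOfFractions (S : Scheme.{u}) :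
    (isoOpen S).HasRightCalculusOfFractions where
  exists_rightFraction X Y φ :=
    ⟨⟨oreS φ.f φ.s φ.hs, oreS_mem φ.f φ.s φ.hs, oreF φ.f φ.s φ.hs⟩, ore_comm φ.f φ.s φ.hs⟩
  ext X Y Y' f₁ f₂ s hs h :=
    ⟨extPair f₁ f₂, extT f₁ f₂, extT_mem f₁ f₂ s hs h, extT_comp f₁ f₂⟩

end Groth.Agent.H34.CpctA
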