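import Mathlib.CategoryTheory.Localization.CalculusOfFractions
import Mathlib.CategoryTheory.Localization.CalculusOfFractions.Fractions

namespace Groth.Agent.H34.LocCrit

open CategoryTheory

variable {C D : Type*} [Category C] [Category D] (W : MorphismProperty C)
  [W.HasRightCalculusOfFractions] (L : C ⥤ D)

/-- Criterion: a functor inverting `W` (with right calculus of fractions), essentially surjective,
"full up to right fractions" and "faithful up to `W`", is a localization functor. -/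
theorem isLocalization_of_rightCalculus (hW : W.IsInvertedBy L) [L.EssSurj]
    (hfull : ∀ (X Y : C) (g : L.obj X ⟶ L.obj Y),
      ∃ (X' : C) (s : X' ⟶ X) (_ : W s) (f : X' ⟶ Y), L.map s ≫ g = L.map f)
    (hfaith : ∀ (X Y : C) (f₁ f₂ : X ⟶ Y), L.map f₁ = L.map f₂ →
      ∃ (X' : C) (t : X' ⟶ X) (_ : W t), t ≫ f₁ = t ≫ f₂) :
    L.IsLocalization W := by
  refine ⟨hW, ?_⟩
  set Φ := Localization.Construction.lift L hW with hΦ
  let e : W.Q ⋙ Φ ≅ L := eqToIso (Localization.Construction.fac L hW)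
  have hQ : ∀ {X Y : C} (s : X ⟶ Y), W s → IsIso (W.Q.map s) := fun s hs => W.Q_inverts s hs
  have := Localization.essSurj W.Q W
  have hfullΦ : Φ.Full := by
    refine Φ.full_of_comp_essSurj W.Q (fun X Y g => ?_)
    obtain ⟨X', s, hs, f, hsf⟩ := hfull X Y (e.inv.app X ≫ g ≫ e.hom.app Y)
    have := hQ s hs
    refine ⟨inv (W.Q.map s) ≫ W.Q.map f, ?_⟩
    have h1 : Φ.map (W.Q.map s) = e.hom.app X' ≫ L.map s ≫ e.inv.app X := by
      have := e.hom.naturality s
      simp only [Functor.comp_map] at this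
      rw [← reassoc_of% this]; simp
    have h2 : Φ.map (W.Q.map f) = e.hom.app X' ≫ L.map f ≫ e.inv.app Y := by
      have := e.hom.naturality f
      simp only [Functor.comp_map] at this
      rw [← reassoc_of% this]; simp
    rw [Functor.map_comp, Functor.map_inv, IsIso.inv_comp_eq, h1, h2, ← hsf]
    simp
  have hfaithΦ : Φ.Faithful := by
    refine Φ.faithful_of_comp_essSurj W.Q (fun X Y m₁ m₂ h => ?_)
    obtain ⟨φ₁, rfl⟩ := Localization.exists_rightFraction W.Q W m₁
    obtain ⟨φ₂, rfl⟩ := Localization.exists_rightFraction W.Q W m₂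
    obtain ⟨ψ, hψ⟩ := (MorphismProperty.LeftFraction.mk φ₁.s φ₂.s φ₂.hs).exists_rightFraction
    dsimp at hψ
    have hu : W (ψ.s ≫ φ₁.s) := W.comp_mem _ _ ψ.hs φ₁.hs
    have := hQ _ hu
    have := hQ _ φ₁.hs
    have := hQ _ φ₂.hs
    have := hQ _ ψ.hs
    have e1 : W.Q.map (ψ.s ≫ φ₁.s) ≫ φ₁.map W.Q (Localization.inverts W.Q W) =
        W.Q.map (ψ.s ≫ φ₁.f) := by
      rw [Functor.map_comp, Category.assoc, MorphismProperty.RightFraction.map_s_comp_map,
        ← Functor.map_comp]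
    have e2 : W.Q.map (ψ.s ≫ φ₁.s) ≫ φ₂.map W.Q (Localization.inverts W.Q W) =
        W.Q.map (ψ.f ≫ φ₂.f) := by
      rw [hψ, Functor.map_comp, Category.assoc, MorphismProperty.RightFraction.map_s_comp_map,
        ← Functor.map_comp]
    rw [← cancel_epi (W.Q.map (ψ.s ≫ φ₁.s)), e1, e2]
    have h3 : Φ.map (W.Q.map (ψ.s ≫ φ₁.f)) = Φ.map (W.Q.map (ψ.f ≫ φ₂.f)) := by
      rw [← e1, ← e2, Φ.map_comp, Φ.map_comp, h]
    have h4 : L.map (ψ.s ≫ φ₁.f) = L.map (ψ.f ≫ φ₂.f) := by
      have n1 := e.hom.naturality (ψ.s ≫ φ₁.f)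
      have n2 := e.hom.naturality (ψ.f ≫ φ₂.f)
      simp only [Functor.comp_map] at n1 n2
      rw [← cancel_epi (e.hom.app _), ← n1, ← n2, h3]
    obtain ⟨X', t, ht, htt⟩ := hfaith _ _ _ _ h4
    have := hQ _ ht
    rw [← cancel_epi (W.Q.map t), ← Functor.map_comp, ← Functor.map_comp, htt]
  have hess : Φ.EssSurj := ⟨fun d => ⟨W.Q.obj (L.objPreimage d),
    ⟨e.app _ ≪≫ L.objObjPreimageIso d⟩⟩⟩
  exact { }

end Groth.Agent.H34.LocCrit
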