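import Groth.Agent.H34.CpctA
import Groth.Agent.H34.LocCrit
import Mathlib.AlgebraicGeometry.Morphisms.Immersion

universe u

namespace Groth.Agent.H34.CpctB

open CategoryTheory CategoryTheory.Limits AlgebraicGeometry Opposite Cpct
open Groth.Agent.H34.CpctA

variable {S : Scheme.{u}}

section Graph
variable {A B : Pair S} (g : (A.U : Scheme.{u}) ⟶ B.U)
  (hg : g ≫ B.U.ι ≫ B.bar.hom = A.U.ι ≫ A.bar.hom)

/-- the graph morphism `A.U ⟶ A.bar ×_S B.bar` -/
noncomputable def γ : (A.U : Scheme.{u}) ⟶ pullback A.bar.hom B.bar.hom :=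
  pullback.lift A.U.ι (g ≫ B.U.ι) (by rw [Category.assoc, hg])

@[reassoc]
lemma γ_fst : γ g hg ≫ pullback.fst _ _ = A.U.ι := pullback.lift_fst _ _ _

@[reassoc]
lemma γ_snd : γ g hg ≫ pullback.snd _ _ = g ≫ B.U.ι := pullback.lift_snd _ _ _

instance : IsImmersion (γ g hg) := by
  have : IsImmersion (γ g hg ≫ pullback.fst _ _) := by rw [γ_fst]; infer_instance
  exact IsImmersion.of_comp (γ g hg) (pullback.fst _ _)

variable [QuasiSeparatedSpace S]

instance : QuasiSeparatedSpace (pullback A.bar.hom B.bar.hom : Scheme.{u}) := by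
  have := A.isProper
  have := B.isProper
  exact quasiSeparatedSpace_of_quasiSeparated (pullback.fst A.bar.hom B.bar.hom ≫ A.bar.hom)

instance : CompactSpace (A.U : Scheme.{u}) := isCompact_iff_compactSpace.mp A.isCompact

instance : QuasiCompact (γ g hg) := inferInstance

/-- the closure of the graph -/
noncomputable def graphPair : Pair S where
  bar := Over.mk ((γ g hg).imageι ≫ pullback.fst _ _ ≫ A.bar.hom)
  U := (γ g hg).toImage.opensRange
  isProper := by
    have := A.isProper
    have := B.isProper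
    dsimp; infer_instance
  isCompact := isCompact_range (γ g hg).toImage.continuous

noncomputable def graphS : graphPair g hg ⟶ A where
  bar := Over.homMk ((γ g hg).imageι ≫ pullback.fst _ _) (by simp [graphPair])
  le := by
    rintro x ⟨p, rfl⟩
    change ((γ g hg).toImage ≫ (γ g hg).imageι ≫ pullback.fst _ _) p ∈ A.U
    rw [Scheme.Hom.toImage_imageι_assoc, γ_fst]
    exact p.2

noncomputable def graphF : graphPair g hg ⟶ B where
  bar := Over.homMk ((γ g hg).imageι ≫ pullback.snd _ _) (by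
    simp [graphPair, pullback.condition])
  le := by
    rintro x ⟨p, rfl⟩
    change ((γ g hg).toImage ≫ (γ g hg).imageι ≫ pullback.snd _ _) p ∈ B.U
    rw [Scheme.Hom.toImage_imageι_assoc, γ_snd]
    exact (g p).2

noncomputable def graphE : (A.U : Scheme.{u}) ≅ ((graphPair g hg).U : Scheme.{u}) :=
  (γ g hg).toImage.isoOpensRange

lemma graphE_hom_ι : (graphE g hg).hom ≫ (graphPair g hg).U.ι = (γ g hg).toImage :=
  Scheme.Hom.isoOpensRange_hom_ι (γ g hg).toImage

lemma graphE_restrS : (graphE g hg).hom ≫ restr (graphS g hg) = 𝟙 _ := by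
  rw [← cancel_mono A.U.ι, Category.assoc, restr_ι, Category.id_comp]
  calc (graphE g hg).hom ≫ (graphPair g hg).U.ι ≫ (Pair.Hom.bar (graphS g hg)).left
      = ((graphE g hg).hom ≫ (graphPair g hg).U.ι) ≫ (Pair.Hom.bar (graphS g hg)).left :=
        (Category.assoc _ _ _).symm
    _ = (γ g hg).toImage ≫ (γ g hg).imageι ≫ pullback.fst _ _ := by rw [graphE_hom_ι]; rfl
    _ = _ := by rw [Scheme.Hom.toImage_imageι_assoc, γ_fst]

lemma graphE_restrF : (graphE g hg).hom ≫ restr (graphF g hg) = g := by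
  rw [← cancel_mono B.U.ι, Category.assoc, restr_ι]
  calc (graphE g hg).hom ≫ (graphPair g hg).U.ι ≫ (Pair.Hom.bar (graphF g hg)).left
      = ((graphE g hg).hom ≫ (graphPair g hg).U.ι) ≫ (Pair.Hom.bar (graphF g hg)).left :=
        (Category.assoc _ _ _).symm
    _ = (γ g hg).toImage ≫ (γ g hg).imageι ≫ pullback.snd _ _ := by rw [graphE_hom_ι]; rfl
    _ = _ := by rw [Scheme.Hom.toImage_imageι_assoc, γ_snd]

lemma restr_graphS : restr (graphS g hg) = (graphE g hg).inv := by
  rw [← cancel_epi (graphE g hg).hom, graphE_restrS, Iso.hom_inv_id]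

lemma graphS_mem : isoOpen S (graphS g hg) := by
  change IsIso (restr (graphS g hg))
  rw [restr_graphS]; infer_instance

lemma graph_fac : restr (graphS g hg) ≫ g = restr (graphF g hg) := by
  rw [restr_graphS, Iso.inv_comp_eq, graphE_restrF]

end Graph

section Ext
variable {X Y : Pair S} (f₁ f₂ : X ⟶ Y)
  (hι : X.U.ι ≫ (Pair.Hom.bar f₁).left = X.U.ι ≫ (Pair.Hom.bar f₂).left)

include hι in
lemma extT_mem' : isoOpen S (extT f₁ f₂) := by
  change IsIso (restr (extT f₁ f₂))
  let l : (X.U : Scheme.{u}) ⟶ (extPair f₁ f₂).bar.left :=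
    (equalizer.lift (f := Pair.Hom.bar f₁) (g := Pair.Hom.bar f₂)
      (Over.homMk (U := Over.mk (X.U.ι ≫ X.bar.hom)) X.U.ι rfl) (by
        ext1
        exact hι)).left
  have hl : l ≫ (Pair.Hom.bar (extT f₁ f₂)).left = X.U.ι := by
    have := equalizer.lift_ι (f := Pair.Hom.bar f₁) (g := Pair.Hom.bar f₂)
      (Over.homMk (U := Over.mk (X.U.ι ≫ X.bar.hom)) X.U.ι rfl) (by
        ext1
        exact hι)
    exact congrArg (fun g => g.left) this
  have hrange : Set.range l ⊆ Set.range (extPair f₁ f₂).U.ι := by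
    rintro _ ⟨u, rfl⟩
    rw [Scheme.Opens.range_ι]
    change (Pair.Hom.bar (extT f₁ f₂)).left (l u) ∈ X.U
    rw [← Scheme.Hom.comp_apply, hl]
    exact u.2
  let g : (X.U : Scheme.{u}) ⟶ ((extPair f₁ f₂).U : Scheme.{u}) :=
    IsOpenImmersion.lift (extPair f₁ f₂).U.ι l hrange
  have hg : g ≫ (extPair f₁ f₂).U.ι = l := IsOpenImmersion.lift_fac _ _ _
  have := Y.isProper
  have : Mono (Pair.Hom.bar (extT f₁ f₂)).left :=
    inferInstanceAs (Mono (equalizer.ι (Pair.Hom.bar f₁) (Pair.Hom.bar f₂)).left)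
  refine ⟨g, ?_, ?_⟩
  · rw [← cancel_mono (extPair f₁ f₂).U.ι, ← cancel_mono (Pair.Hom.bar (extT f₁ f₂)).left]
    simp only [Category.assoc, Category.id_comp]
    rw [reassoc_of% hg, hl, restr_ι]
  · rw [← cancel_mono X.U.ι, Category.assoc, restr_ι, reassoc_of% hg, hl, Category.id_comp]

end Ext

theorem openFunctor_isLocalization (S : Scheme.{u}) [QuasiSeparatedSpace S] :
    (openFunctor S).IsLocalization (isoOpen S) := by
  have := hasRightCalculusOfFractions S
  have : (openFunctor S).EssSurj := ⟨fun X => by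
    obtain ⟨A, ⟨e⟩⟩ := X.property
    exact ⟨A, ⟨ObjectProperty.isoMk _ e⟩⟩⟩
  apply LocCrit.isLocalization_of_rightCalculus
  · intro A B f hf
    rw [← ObjectProperty.isIso_hom_iff]
    have : IsIso ((Over.forget S).map (openOver.map f)) := hf
    exact isIso_of_reflects_iso (openOver.map f) (Over.forget S)
  · intro A B g
    have hg : g.hom.left ≫ B.U.ι ≫ B.bar.hom = A.U.ι ≫ A.bar.hom := Over.w g.hom
    refine ⟨graphPair g.hom.left hg, graphS g.hom.left hg, graphS_mem g.hom.left hg,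
      graphF g.hom.left hg, ?_⟩
    apply ObjectProperty.hom_ext
    ext1
    exact graph_fac g.hom.left hg
  · intro A B f₁ f₂ h
    have h1 : restr f₁ = restr f₂ := congrArg (fun m => m.hom.left) h
    have hι : A.U.ι ≫ (Pair.Hom.bar f₁).left = A.U.ι ≫ (Pair.Hom.bar f₂).left := by
      rw [← restr_ι, ← restr_ι, h1]
    exact ⟨extPair f₁ f₂, extT f₁ f₂, extT_mem' f₁ f₂ hι, extT_comp f₁ f₂⟩

end Groth.Agent.H34.CpctB
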