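import Groth.Agent.H34.StalkColim

set_option autoImplicit false
universe u
open CategoryTheory CategoryTheory.Limits Opposite TopologicalSpace
open Groth.Agent.H45 Groth.Agent.H45.FinFree

namespace Groth.Agent.H34.RSpace

open Groth.Agent.H34.ModFT

variable {X : TopCat.{u}} (O : Sheaf (Opens.grothendieckTopology X) CommRingCat.{u})
variable {I : Type u} [Preorder I] [Nonempty I] [IsDirected I (· ≤ ·)] (D : I ⥤ ModSite.Mod O)
  (c : Cocone D) (hc : IsColimit c)

include hc in
/-- Local step: near any point, some `F_i → F` is an epimorphism. -/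
lemma exists_nhd_epi_of_isFiniteType [SheafOfModules.IsFiniteType (R := ModSite.ringSh O) c.pt]
    (x : X) : ∃ (V : Opens X) (i : I), x ∈ V ∧ Epi ((ModSite.restr O V).map (c.ι.app i)) := by
  classical
  obtain ⟨U₀, hxU₀, K, hK, π, hπ⟩ := exists_nhd_of_sieve
    (fun U => FG ((ModSite.restr O U).obj c.pt)) (locFG_of_isFiniteType c.pt) x
  have : Fintype K := Fintype.ofFinite K
  let p := Opens.pointGrothendieckTopology x
  have key : ∀ k : K, ∃ (i : I) (V : Opens X) (f : V ⟶ U₀) (_ : x ∈ V)
      (t : ((forg O).obj (D.obj i)).obj (op V)),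
      ((forg O).map (c.ι.app i)).app (op V) t = res _ f (freeHomEquivTop _ π k) := by
    intro k
    obtain ⟨i, γ', hγ'⟩ := stalk_colimit_exists_rep p D c hc
      (ModSite.germ p c.pt U₀ ⟨⟨hxU₀⟩⟩ (freeHomEquivTop _ π k))
    obtain ⟨V, f, y, _, t, ht⟩ :=
      exists_local_preimage_of_germ_eq p (c.ι.app i) U₀ ⟨⟨hxU₀⟩⟩ (freeHomEquivTop _ π k) γ' hγ'
    exact ⟨i, V, f, y.down.down, t, ht⟩
  choose ik V f hxV t ht using key
  obtain ⟨i, hi⟩ := Finset.exists_le (Finset.univ.image ik)
  have hik : ∀ k, ik k ≤ i := fun k => hi _ (Finset.mem_image_of_mem _ (Finset.mem_univ k))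
  let U : Opens X := (Finset.univ.inf V) ⊓ U₀
  have hxU : x ∈ U := ⟨mem_finset_inf_opens _ V x (fun k _ => hxV k), hxU₀⟩
  let g : U ⟶ U₀ := homOfLE inf_le_right
  have hUV : ∀ k, U ≤ V k := fun k => inf_le_left.trans (Finset.inf_le (Finset.mem_univ k))
  refine ⟨U, i, hxU, epi_restr_of_lifts (c.ι.app i) g π
    (fun k => res _ (homOfLE (hUV k)) (((forg O).map (D.map (homOfLE (hik k)))).app (op (V k)) (t k))) ?_⟩
  intro k
  rw [res_naturality]
  have h1 : ((forg O).map (c.ι.app i)).app (op (V k))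
      (((forg O).map (D.map (homOfLE (hik k)))).app (op (V k)) (t k)) =
      ((forg O).map (c.ι.app (ik k))).app (op (V k)) (t k) := by
    have := c.w (homOfLE (hik k))
    rw [← this, Functor.map_comp]
    rfl
  rw [h1, ht]
  exact (res_comp (P := (forg O).obj c.pt) (f k) (homOfLE (hUV k)) _).symm


include hc in
theorem exists_epi_of_isFiniteType [CompactSpace X]
    [SheafOfModules.IsFiniteType (R := ModSite.ringSh O) c.pt] : ∃ i : I, Epi (c.ι.app i) := by
  classical
  have key := exists_nhd_epi_of_isFiniteType O D c hc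
  choose V ix hxV hepi using key
  obtain ⟨T, hT⟩ := isCompact_univ.elim_finite_subcover (fun x => (V x : Set X))
    (fun x => (V x).isOpen) (fun y _ => Set.mem_iUnion.2 ⟨y, hxV y⟩)
  obtain ⟨i, hi⟩ := Finset.exists_le (T.image ix)
  have hiT : ∀ x ∈ T, ix x ≤ i := fun x hx => hi _ (Finset.mem_image_of_mem _ hx)
  refine ⟨i, epi_of_locally_epi (c.ι.app i) (fun W => ?_)⟩
  refine exists_sieve_of_pointwise (fun U => Epi ((ModSite.restr O U).map (c.ι.app i)))
    (fun V' V h hV => epi_restr_of_hom (c.ι.app i) h hV) (fun y => ?_) W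
  have hy : y ∈ ⋃ x ∈ T, (V x : Set X) := hT (Set.mem_univ y)
  simp only [Set.mem_iUnion] at hy
  obtain ⟨x, hxT, hyx⟩ := hy
  refine ⟨V x, hyx, ?_⟩
  have h1 : (ModSite.restr O (V x)).map (D.map (homOfLE (hiT x hxT))) ≫
      (ModSite.restr O (V x)).map (c.ι.app i) = (ModSite.restr O (V x)).map (c.ι.app (ix x)) := by
    rw [← Functor.map_comp, c.w]
  have h2 := hepi x
  rw [← h1] at h2
  exact epi_of_epi ((ModSite.restr O (V x)).map (D.map (homOfLE (hiT x hxT)))) _

include hc in
theorem mono_ι_of_mono_transition (hmono : ∀ (i j : I) (f : i ⟶ j), Mono (D.map f)) (i : I) :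
    Mono (c.ι.app i) := by
  have hloc : LocInj (Opens.grothendieckTopology X) ((forg O).map (c.ι.app i)) := by
    intro U s hs
    refine ⟨⟨fun V f => res ((forg O).obj (D.obj i)) f s = 0, fun {V V'} f hV g => by
      rw [res_comp, hV, res_zero]⟩, ?_, fun V f hf => hf⟩
    intro x hx
    let p := Opens.pointGrothendieckTopology x
    have y : p.fiber.obj U := ⟨⟨hx⟩⟩
    have h1 : (ModSite.stalkMap p (c.ι.app i)).hom (ModSite.germ p (D.obj i) U y s) = 0 := by
      rw [stalkMap_germ, hs]
      exact map_zero _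
    obtain ⟨j, f, hj⟩ := stalk_colimit_eq_zero p D c hc i _ h1
    rw [stalkMap_germ] at hj
    have hj' : ModSite.germ p (D.obj j) U y (((forg O).map (D.map f)).app (op U) s) =
        ModSite.germ p (D.obj j) U y 0 := hj.trans (map_zero _).symm
    obtain ⟨V, g, y', _, hV⟩ := exists_res_eq_of_germ_eq p (D.obj j) U y _ _ hj'
    refine ⟨V, g, ?_, y'.down.down⟩
    have := hmono i j f
    apply injective_app_of_mono (D.map f) V
    change ((forg O).map (D.map f)).app (op V) (res _ g s) = ((forg O).map (D.map f)).app (op V) 0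
    rw [res_naturality, hV]
    exact (res_zero (P := (forg O).obj (D.obj j)) g).trans (map_zero _).symm
  rw [← isLocallyInjective_iff_locInj] at hloc
  have h2 : Mono ((SheafOfModules.toSheaf.{u} (ModSite.ringSh O)).map (c.ι.app i)) := by
    have : Sheaf.IsLocallyInjective ((SheafOfModules.toSheaf.{u} (ModSite.ringSh O)).map (c.ι.app i)) :=
      hloc
    exact Sheaf.mono_of_isLocallyInjective _
  exact (SheafOfModules.toSheaf.{u} (ModSite.ringSh O)).mono_of_mono_map h2


include hc in
theorem directed_colimit_isFiniteType [CompactSpace X]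
    [SheafOfModules.IsFiniteType (R := ModSite.ringSh O) c.pt] :
    (∃ i : I, Epi (c.ι.app i)) ∧
      ((∀ (i j : I) (f : i ⟶ j), Mono (D.map f)) → ∃ i : I, IsIso (c.ι.app i)) := by
  obtain ⟨i, hi⟩ := exists_epi_of_isFiniteType O D c hc
  refine ⟨⟨i, hi⟩, fun hmono => ⟨i, ?_⟩⟩
  have := mono_ι_of_mono_transition O D c hc hmono i
  exact isIso_of_mono_of_epi _

end Groth.Agent.H34.RSpace
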