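import Groth.Agent.H34.FPFunctor
import Mathlib.Algebra.Category.ModuleCat.Monoidal.Closed
import Mathlib.Algebra.Homology.ShortComplex.ExactFunctor
import Mathlib.CategoryTheory.Linear.Basic

/-!
# Eilenberg–Watts for finitely presented modules (helper34)

For a right exact `A`-linear functor `G : ModuleCat A ⥤ ModuleCat A` and a module `M`, there is an
isomorphism `G(M) ⊗ Q ≅ G(M ⊗ Q)`, natural in the finitely presented module `Q`, given on pure
tensors by `s ⊗ q ↦ G(m ↦ m ⊗ q)(s)`.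
-/

set_option autoImplicit false
universe u

open CategoryTheory CategoryTheory.Limits MonoidalCategory

namespace Groth.Agent.H34.EWatts

open Groth.Agent.H34.FPMod

variable (A : Type u) [CommRing A]

noncomputable instance : PreservesColimitsOfShape WalkingParallelPair (fp A).ι := inferInstance
noncomputable instance : PreservesFiniteCoproducts (fp A).ι := ⟨fun _ => inferInstance⟩
noncomputable instance : PreservesFiniteColimits (fp A).ι :=
  preservesFiniteColimits_of_preservesCoequalizers_and_finiteCoproducts _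

lemma whiskerLeft_lsmul (X : ModuleCat.{u} A) (a : A) :
    X ◁ (ModuleCat.ofHom (LinearMap.lsmul A A a) : ModuleCat.of A A ⟶ ModuleCat.of A A) =
      a • 𝟙 (X ⊗ ModuleCat.of A A) := by
  apply ModuleCat.MonoidalCategory.tensor_ext
  intro x b
  change x ⊗ₜ[A] (a • b) = a • (x ⊗ₜ[A] b)
  rw [TensorProduct.tmul_smul]

variable (G : ModuleCat.{u} A ⥤ ModuleCat.{u} A) [PreservesFiniteColimits G]
  (hG : ∀ (M : ModuleCat.{u} A) (a : A), G.map (a • 𝟙 M) = a • 𝟙 (G.obj M))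
  (M : ModuleCat.{u} A)

/-- `Q ↦ G(M) ⊗ Q`. -/
noncomputable abbrev F₁ : FP A ⥤ ModuleCat.{u} A := (fp A).ι ⋙ tensorLeft (G.obj M)
/-- `Q ↦ G(M ⊗ Q)`. -/
noncomputable abbrev F₂ : FP A ⥤ ModuleCat.{u} A := (fp A).ι ⋙ tensorLeft M ⋙ G

noncomputable instance : PreservesFiniteColimits (F₁ A G M) := comp_preservesFiniteColimits _ _
noncomputable instance : PreservesFiniteColimits (F₂ A G M) :=
  haveI : PreservesFiniteColimits (tensorLeft M ⋙ G) := comp_preservesFiniteColimits _ _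
  comp_preservesFiniteColimits _ _

/-- The comparison at `Q = A`. -/
noncomputable def φ₀ : (F₁ A G M).obj (AA A) ≅ (F₂ A G M).obj (AA A) :=
  (ρ_ (G.obj M)) ≪≫ G.mapIso (ρ_ M).symm

omit [PreservesFiniteColimits G] in
include hG in
lemma hφ₀ (a : A) : (F₁ A G M).map (mulA A a) ≫ (φ₀ A G M).hom =
    (φ₀ A G M).hom ≫ (F₂ A G M).map (mulA A a) := by
  have h1 : (F₁ A G M).map (mulA A a) = a • 𝟙 _ := whiskerLeft_lsmul A (G.obj M) a
  have h2 : (F₂ A G M).map (mulA A a) = a • 𝟙 _ := by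
    change G.map (M ◁ _) = _
    exact (congrArg G.map (whiskerLeft_lsmul A M a)).trans (hG _ a)
  rw [h1, h2, Linear.smul_comp, Linear.comp_smul, Category.id_comp, Category.comp_id]

omit [PreservesFiniteColimits G] in
include hG in
lemma hφ₀' (a : A) : (F₂ A G M).map (mulA A a) ≫ (φ₀ A G M).inv =
    (φ₀ A G M).inv ≫ (F₁ A G M).map (mulA A a) := by
  rw [Iso.comp_inv_eq, Category.assoc, Iso.eq_inv_comp]
  exact (hφ₀ A G hG M a).symm

/-- The natural transformation `G(M) ⊗ Q ⟶ G(M ⊗ Q)`. -/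
noncomputable def tensHom : F₁ A G M ⟶ F₂ A G M :=
  extendNat A (F₁ A G M) (F₂ A G M) (φ₀ A G M).hom (hφ₀ A G hG M)

/-- The natural transformation `G(M ⊗ Q) ⟶ G(M) ⊗ Q`. -/
noncomputable def tensInv : F₂ A G M ⟶ F₁ A G M :=
  extendNat A (F₂ A G M) (F₁ A G M) (φ₀ A G M).inv (hφ₀' A G hG M)

lemma tensHom_app_AA : (tensHom A G hG M).app (AA A) = (φ₀ A G M).hom :=
  extendNat_app_AA A _ _ _ _

lemma tensInv_app_AA : (tensInv A G hG M).app (AA A) = (φ₀ A G M).inv :=
  extendNat_app_AA A _ _ _ _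

/-- The natural isomorphism `G(M) ⊗ Q ≅ G(M ⊗ Q)` for finitely presented `Q`. -/
noncomputable def tensIso : F₁ A G M ≅ F₂ A G M where
  hom := tensHom A G hG M
  inv := tensInv A G hG M
  hom_inv_id := by
    apply natTrans_ext A
    rw [NatTrans.comp_app, tensHom_app_AA, tensInv_app_AA, Iso.hom_inv_id]
    rfl
  inv_hom_id := by
    apply natTrans_ext A
    rw [NatTrans.comp_app, tensHom_app_AA, tensInv_app_AA, Iso.inv_hom_id]
    rfl

/-- The map `A ⟶ Q`, `1 ↦ q`. -/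
noncomputable abbrev ιq (Q : FP A) (q : Q.obj) : AA A ⟶ Q :=
  ObjectProperty.homMk (ModuleCat.ofHom (LinearMap.toSpanSingleton A Q.obj q))

lemma tensIso_hom_app_tmul (Q : FP A) (s : G.obj M) (q : Q.obj) :
    ((tensIso A G hG M).hom.app Q).hom (s ⊗ₜ[A] q) =
      (G.map (ModuleCat.ofHom ((TensorProduct.mk A M Q.obj).flip q))).hom s := by
  have nat := (tensIso A G hG M).hom.naturality (ιq A Q q)
  have h := congrArg (fun f => f.hom (s ⊗ₜ[A] (1 : A))) nat
  have e1 : ((F₁ A G M).map (ιq A Q q)).hom (s ⊗ₜ[A] (1 : A)) = s ⊗ₜ[A] q := by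
    change s ⊗ₜ[A] ((1 : A) • q) = _
    rw [one_smul]
  have e2 : (ρ_ M).inv ≫ M ◁ (ιq A Q q).hom =
      ModuleCat.ofHom ((TensorProduct.mk A M Q.obj).flip q) := by
    ext m
    change m ⊗ₜ[A] ((1 : A) • q) = m ⊗ₜ[A] q
    rw [one_smul]
  have e3 : ((φ₀ A G M).hom ≫ (F₂ A G M).map (ιq A Q q)).hom (s ⊗ₜ[A] (1 : A)) =
      (G.map (ModuleCat.ofHom ((TensorProduct.mk A M Q.obj).flip q))).hom s := by
    rw [← e2, G.map_comp]
    change (G.map _).hom ((G.map (ρ_ M).inv).hom ((ρ_ (G.obj M)).hom.hom (s ⊗ₜ[A] (1 : A)))) = _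
    have : (ρ_ (G.obj M)).hom.hom (s ⊗ₜ[A] (1 : A)) = s := by
      change (1 : A) • s = s
      rw [one_smul]
    rw [this]
    rfl
  change ((tensIso A G hG M).hom.app Q).hom (((F₁ A G M).map (ιq A Q q)).hom (s ⊗ₜ[A] (1 : A))) =
    (((tensIso A G hG M).hom.app (AA A)) ≫ (F₂ A G M).map (ιq A Q q)).hom (s ⊗ₜ[A] (1 : A)) at h
  rw [e1] at h
  rw [h]
  have : (tensIso A G hG M).hom.app (AA A) = (φ₀ A G M).hom := tensHom_app_AA A G hG M
  rw [this, e3]

end Groth.Agent.H34.EWatts
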