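import Mathlib.CategoryTheory.Triangulated.Generators
import Mathlib.CategoryTheory.ObjectProperty.Small
import Mathlib.CategoryTheory.Triangulated.Triangulated

/-!
# Essential smallness of triangulated envelopes

If `P` is an essentially small property of objects of a (locally small) pretriangulated
category, then so are its closure under shifts, extension products, and the triangulated
envelope `P.triangEnvelope`.
-/

universe w v u

open CategoryTheory Limits Pretriangulated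

namespace Groth.Agent.H34.EssSmallEnv

variable {C : Type u} [Category.{v} C] [HasZeroObject C] [HasShift C ℤ] [Preadditive C]
  [∀ n : ℤ, (shiftFunctor C n).Additive] [Pretriangulated C]

instance shiftClosure_essentiallySmall (P : ObjectProperty C)
    [ObjectProperty.EssentiallySmall.{w} P] :
    ObjectProperty.EssentiallySmall.{w} (P.shiftClosure ℤ) := by
  obtain ⟨Q, hQ, h₁, h₂⟩ := ObjectProperty.EssentiallySmall.exists_small_le.{w} P
  refine ⟨.ofObj (fun (p : Subtype Q × ℤ) => (p.1.1)⟦p.2⟧), inferInstance, ?_⟩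
  rintro X ⟨Y, a, e, hY⟩
  obtain ⟨Y', hY', ⟨e'⟩⟩ := h₂ _ hY
  exact ⟨_, ⟨((⟨Y', hY'⟩ : Subtype Q), a)⟩, ⟨e ≪≫ (shiftFunctor C a).mapIso e'⟩⟩

instance extensionProduct_essentiallySmall [LocallySmall.{w} C] (P Q : ObjectProperty C)
    [ObjectProperty.EssentiallySmall.{w} P] [ObjectProperty.EssentiallySmall.{w} Q] :
    ObjectProperty.EssentiallySmall.{w} (P.extensionProduct Q) := by
  obtain ⟨P₀, _, hP₁, hP₂⟩ := ObjectProperty.EssentiallySmall.exists_small_le.{w} P
  obtain ⟨Q₀, _, hQ₁, hQ₂⟩ := ObjectProperty.EssentiallySmall.exists_small_le.{w} Q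
  let I := Σ (Y : Subtype P₀) (Z : Subtype Q₀), (Z.1 ⟶ Y.1⟦(1 : ℤ)⟧)
  have hI : ∀ i : I, ∃ (X : C) (f : i.1.1 ⟶ X) (g : X ⟶ i.2.1.1),
      Triangle.mk f g i.2.2 ∈ distTriang C := fun i => distinguished_cocone_triangle₂ i.2.2
  choose X f g hT using hI
  refine ⟨.ofObj X, inferInstance, ?_⟩
  rintro X' ⟨Y, Z, f', g', h', hT', hY, hZ⟩
  obtain ⟨Y₀, hY₀, ⟨eY⟩⟩ := hP₂ _ hY
  obtain ⟨Z₀, hZ₀, ⟨eZ⟩⟩ := hQ₂ _ hZ
  let i : I := ⟨⟨Y₀, hY₀⟩, ⟨Z₀, hZ₀⟩, eZ.inv ≫ h' ≫ eY.hom⟦(1 : ℤ)⟧'⟩
  refine ⟨_, ⟨i⟩, ⟨?_⟩⟩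
  have comm : h' ≫ eY.hom⟦(1 : ℤ)⟧' = eZ.hom ≫ eZ.inv ≫ h' ≫ eY.hom⟦(1 : ℤ)⟧' := by
    rw [Iso.hom_inv_id_assoc]
  exact Triangle.π₂.mapIso (isoTriangleOfIso₁₃ _ _ hT' (hT i) eY eZ comm)

instance extensionProductIter_essentiallySmall [LocallySmall.{w} C] (P : ObjectProperty C)
    [ObjectProperty.EssentiallySmall.{w} P] (n : ℕ) :
    ObjectProperty.EssentiallySmall.{w} (P.extensionProductIter n) := by
  induction n with
  | zero => rw [ObjectProperty.extensionProductIter_zero]; infer_instance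
  | succ n ih => rw [ObjectProperty.extensionProductIter_succ]; infer_instance

instance triangEnvelopeIter_essentiallySmall [LocallySmall.{w} C] (P : ObjectProperty C)
    [ObjectProperty.EssentiallySmall.{w} P] (n : ℕ) :
    ObjectProperty.EssentiallySmall.{w} (P.triangEnvelopeIter n) := by
  unfold ObjectProperty.triangEnvelopeIter
  infer_instance

instance triangEnvelope_essentiallySmall [LocallySmall.{w} C] (P : ObjectProperty C)
    [ObjectProperty.EssentiallySmall.{w} P] :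
    ObjectProperty.EssentiallySmall.{w} P.triangEnvelope := by
  unfold ObjectProperty.triangEnvelope
  infer_instance

end Groth.Agent.H34.EssSmallEnv
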