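import Groth.Agent.H34.FCCov2

universe u

open CategoryTheory Opposite Limits

namespace Groth.Agent.H34.FCYoneda

open FormalCoproduct

section

variable {D : Type u} [SmallCategory D] (J : GrothendieckTopology D)

theorem isSRCovering_of_isLocallySurjective_Fexp_map {K L : FormalCoproduct.{u} D} (f : K ⟶ L)
    (hf : Presheaf.IsLocallySurjective J (Fexp.map f)) : Hyper.IsSRCovering J f := by
  intro j
  let s : (Fexp.obj L).obj (op (L.obj j)) := (Hom.fromIncl j (𝟙 _) : (incl D).obj (L.obj j) ⟶ L)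
  refine J.superset_covering ?_ (Presheaf.imageSieve_mem J (Fexp.map f) s)
  rintro T' g ⟨t, ht⟩
  let t' : (incl D).obj T' ⟶ K := t
  have ht' : t' ≫ f = (incl D).map g ≫ (Hom.fromIncl j (𝟙 _) : (incl D).obj (L.obj j) ⟶ L) := ht
  rw [Sieve.mem_ofArrows_iff]
  have h1 := congrArg (fun (m : (incl D).obj T' ⟶ L) => m.f PUnit.unit) ht'
  have h1' : f.f (t'.f PUnit.unit) = j := h1
  refine ⟨⟨t'.f PUnit.unit, h1'⟩, t'.φ PUnit.unit, ?_⟩
  obtain ⟨h2, h3⟩ := (FormalCoproduct.hom_ext_iff _ _).1 ht'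
  have h4 := h3 PUnit.unit
  dsimp at h4 ⊢
  simp only [Category.assoc] at h4
  refine Eq.trans ?_ h4.symm
  exact (Category.comp_id g).symm

theorem isSRCovering_of_isLocallySurjective_yoneda_map {K L : FormalCoproduct.{u} D} (f : K ⟶ L)
    (hf : Presheaf.IsLocallySurjective J ((FormalCoproduct.yoneda (C := D)).map f)) :
    Hyper.IsSRCovering J f := by
  apply isSRCovering_of_isLocallySurjective_Fexp_map
  have e : Fexp.map f = (natIso.inv.app K ≫ (FormalCoproduct.yoneda (C := D)).map f) ≫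
      natIso.hom.app L := by
    rw [Category.assoc, natIso.hom.naturality f, Iso.inv_hom_id_app_assoc]
  rw [e]
  infer_instance

end

section

variable {C : Type u} [SmallCategory C] (J : GrothendieckTopology C) (X : C)

theorem covers_of_isLocallySurjective (K0 : FormalCoproduct.{u} (Over X))
    {P₀ : (Over X)ᵒᵖ ⥤ Type u} (s : P₀.obj (op (Over.mk (𝟙 X))))
    (φ : (FormalCoproduct.yoneda (C := Over X)).obj K0 ⟶ P₀)
    (hφ : Presheaf.IsLocallySurjective (J.over X) φ) :
    Sieve.ofArrows (fun i => (K0.obj i).left) (fun i => (K0.obj i).hom) ∈ J X := by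
  have h := Presheaf.imageSieve_mem (J.over X) φ s
  rw [GrothendieckTopology.mem_over_iff] at h
  refine J.superset_covering ?_ h
  intro W g' hg'
  rw [Sieve.overEquiv_iff] at hg'
  obtain ⟨t, -⟩ := hg'
  let t' : (incl (Over X)).obj (Over.mk (g' ≫ (Over.mk (𝟙 X)).hom)) ⟶ K0 :=
    (natIso.hom.app K0).app _ t
  rw [Sieve.mem_ofArrows_iff]
  refine ⟨t'.f PUnit.unit, (t'.φ PUnit.unit).left, ?_⟩
  have := Over.w (t'.φ PUnit.unit)
  refine Eq.trans ?_ this.symm
  exact (Category.comp_id g').symm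

end

end Groth.Agent.H34.FCYoneda
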