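import Mathlib.CategoryTheory.Limits.FormalCoproducts.Basic
import Mathlib.CategoryTheory.Limits.Types.Coproducts
import Mathlib.CategoryTheory.Limits.FunctorCategory.Basic
import Mathlib.CategoryTheory.Limits.Preserves.Shapes.Products
import Mathlib.CategoryTheory.Limits.Yoneda
import Mathlib.CategoryTheory.Limits.Preserves.FunctorCategory
import Mathlib.CategoryTheory.Limits.Preserves.Finite

universe u

open CategoryTheory Opposite Limits

namespace Groth.Agent.H34.FCYoneda

variable {D : Type u} [SmallCategory D]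

open FormalCoproduct

/-- explicit model of the Yoneda functor on formal coproducts:
`X ↦ (T ↦ Hom(incl T, X))`. -/
def Fexp : FormalCoproduct.{u} D ⥤ (Dᵒᵖ ⥤ Type u) :=
  yoneda ⋙ (Functor.whiskeringLeft _ _ _).obj (incl D).op

/-- the canonical injections -/
def inj (X : FormalCoproduct.{u} D) (i : X.I) : yoneda.obj (X.obj i) ⟶ Fexp.obj X where
  app T := ↾(fun φ => Hom.fromIncl i φ)
  naturality T T' g := by
    ext φ
    rfl

/-- the cofan -/
def cofanExp (X : FormalCoproduct.{u} D) : Cofan (fun i : X.I => yoneda.obj (X.obj i)) :=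
  Cofan.mk (Fexp.obj X) (inj X)

/-- the cofan is a colimit -/
noncomputable def isColimitCofanExp (X : FormalCoproduct.{u} D) : IsColimit (cofanExp X) := by
  apply evaluationJointlyReflectsColimits
  intro T
  refine (isColimitMapCoconeCofanMkEquiv ((evaluation Dᵒᵖ (Type u)).obj T) _ (inj X)).symm ?_
  apply Nonempty.some
  rw [Cofan.nonempty_isColimit_iff_bijective_fromSigma]
  constructor
  · rintro ⟨i, φ⟩ ⟨j, ψ⟩ h
    have h' : Hom.fromIncl i φ = Hom.fromIncl j ψ := h
    have := congrArg Hom.asSigma h'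
    exact this
  · intro f
    refine ⟨Hom.asSigma f, ?_⟩
    exact Hom.fromIncl_asSigma f

/-- comparison iso on objects -/
noncomputable def objIso (X : FormalCoproduct.{u} D) :
    (FormalCoproduct.yoneda (C := D)).obj X ≅ Fexp.obj X :=
  (coproductIsCoproduct (fun i : X.I => yoneda.obj (X.obj i))).coconePointUniqueUpToIso
    (isColimitCofanExp X)

@[reassoc (attr := simp)]
lemma ι_objIso_hom (X : FormalCoproduct.{u} D) (i : X.I) :
    Sigma.ι (fun i : X.I => yoneda.obj (X.obj i)) i ≫ (objIso X).hom = inj X i :=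
  (coproductIsCoproduct (fun i : X.I => yoneda.obj (X.obj i))).comp_coconePointUniqueUpToIso_hom
    (isColimitCofanExp X) ⟨i⟩

lemma inj_naturality {X Y : FormalCoproduct.{u} D} (f : X ⟶ Y) (i : X.I) :
    inj X i ≫ Fexp.map f = yoneda.map (f.φ i) ≫ inj Y (f.f i) := by
  ext T φ
  rfl

lemma ι_yoneda_map {X Y : FormalCoproduct.{u} D} (f : X ⟶ Y) (i : X.I) :
    Sigma.ι (fun i : X.I => yoneda.obj (X.obj i)) i ≫ (FormalCoproduct.yoneda (C := D)).map f =
      yoneda.map (f.φ i) ≫ Sigma.ι (fun j : Y.I => yoneda.obj (Y.obj j)) (f.f i) := by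
  exact Sigma.ι_desc _ i

/-- the comparison natural isomorphism -/
noncomputable def natIso : FormalCoproduct.yoneda (C := D) ≅ Fexp :=
  NatIso.ofComponents objIso (by
    intro X Y f
    apply Sigma.hom_ext
    intro i
    have h1 := ι_yoneda_map f i
    have h2 := ι_objIso_hom Y (f.f i)
    have h3 := ι_objIso_hom X i
    have h4 := inj_naturality f i
    calc Sigma.ι (fun i : X.I => yoneda.obj (X.obj i)) i ≫
          (FormalCoproduct.yoneda (C := D)).map f ≫ (objIso Y).hom
        = (Sigma.ι (fun i : X.I => yoneda.obj (X.obj i)) i ≫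
          (FormalCoproduct.yoneda (C := D)).map f) ≫ (objIso Y).hom := (Category.assoc _ _ _).symm
      _ = (yoneda.map (f.φ i) ≫ Sigma.ι (fun j : Y.I => yoneda.obj (Y.obj j)) (f.f i)) ≫
          (objIso Y).hom := congrArg (· ≫ (objIso Y).hom) h1
      _ = yoneda.map (f.φ i) ≫ inj Y (f.f i) := by rw [Category.assoc, h2]
      _ = inj X i ≫ Fexp.map f := h4.symm
      _ = (Sigma.ι (fun i : X.I => yoneda.obj (X.obj i)) i ≫ (objIso X).hom) ≫ Fexp.map f := by
          rw [h3]
      _ = _ := Category.assoc _ _ _)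

instance : PreservesLimits (Fexp (D := D)) := by
  dsimp only [Fexp]
  infer_instance

instance : PreservesLimits (FormalCoproduct.yoneda (C := D)) :=
  preservesLimits_of_natIso natIso.symm

end Groth.Agent.H34.FCYoneda
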