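import Groth.Agent.H34.FPMod
import Mathlib.Algebra.Homology.ShortComplex.ModuleCat
import Mathlib.CategoryTheory.Limits.Preserves.Shapes.Kernels
import Mathlib.CategoryTheory.Limits.Preserves.Shapes.Biproducts
import Mathlib.CategoryTheory.Preadditive.AdditiveFunctor

/-!
# Right exact functors on finitely presented modules (helper34)
-/

set_option autoImplicit false
universe u v' u'

open CategoryTheory CategoryTheory.Limits

namespace Groth.Agent.H34.FPMod

variable (A : Type u) [CommRing A]

/-- The free object of rank `n`. -/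
abbrev free (n : ℕ) : FP A := ⟨ModuleCat.of A (Fin n → A), inferInstance⟩

/-- Coordinate injections. -/
abbrev inj {n : ℕ} (i : Fin n) : AA A ⟶ free A n :=
  ObjectProperty.homMk (ModuleCat.ofHom (LinearMap.single A (fun _ : Fin n => A) i))

/-- Coordinate projections. -/
abbrev proj {n : ℕ} (i : Fin n) : free A n ⟶ AA A :=
  ObjectProperty.homMk (ModuleCat.ofHom (LinearMap.proj (R := A) (φ := fun _ : Fin n => A) i))

/-- Underlying morphism as an additive map. -/
def homAddHom {X Y : FP A} : (X ⟶ Y) →+ (X.obj ⟶ Y.obj) where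
  toFun f := f.hom
  map_zero' := rfl
  map_add' _ _ := rfl

lemma homAddHom_apply {X Y : FP A} (f : X ⟶ Y) : homAddHom A f = f.hom := rfl

/-- Underlying linear map as an additive map. -/
def linAddHom {X Y : ModuleCat.{u} A} : (X ⟶ Y) →+ (X →ₗ[A] Y) where
  toFun f := f.hom
  map_zero' := rfl
  map_add' _ _ := rfl

lemma linAddHom_apply {X Y : ModuleCat.{u} A} (f : X ⟶ Y) : linAddHom A f = f.hom := rfl

lemma sum_hom_apply {X Y : FP A} {ι : Type*} (s : Finset ι) (f : ι → (X ⟶ Y)) (x : X.obj) :
    (∑ i ∈ s, f i).hom.hom x = ∑ i ∈ s, (f i).hom.hom x := by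
  rw [← homAddHom_apply, map_sum, ← linAddHom_apply, map_sum, LinearMap.sum_apply]
  rfl

lemma sum_proj_inj (n : ℕ) : ∑ i : Fin n, proj A i ≫ inj A i = 𝟙 (free A n) := by
  apply ObjectProperty.hom_ext
  apply ModuleCat.hom_ext
  apply LinearMap.ext
  intro x
  rw [sum_hom_apply]
  funext j
  simp only [ObjectProperty.FullSubcategory.id_hom, ObjectProperty.FullSubcategory.comp_hom,
    ModuleCat.hom_comp, ModuleCat.hom_ofHom, LinearMap.comp_apply, ModuleCat.hom_id,
    LinearMap.id_apply, ObjectProperty.homMk_hom]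
  rw [Finset.sum_apply]
  simp [Pi.single_apply]

lemma end_AA (f : AA A ⟶ AA A) : f = mulA A (f.hom.hom (1 : A)) := by
  apply ObjectProperty.hom_ext
  apply ModuleCat.hom_ext
  apply LinearMap.ext_ring
  simp

lemma presentation (M : FP A) : ∃ (n m : ℕ) (q : free A m ⟶ free A n) (p : free A n ⟶ M)
    (w : q ≫ p = 0), Nonempty (IsColimit (CokernelCofork.ofπ p w)) ∧
      Function.Surjective p.hom.hom := by
  haveI : Module.FinitePresentation A M.obj := M.property
  obtain ⟨n, m, f, g, hf, hfg⟩ := Module.FinitePresentation.exists_fin' A M.obj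
  let S : ShortComplex (ModuleCat.{u} A) :=
    ShortComplex.mk (ModuleCat.ofHom g) (ModuleCat.ofHom f) (by
      apply ModuleCat.hom_ext
      apply LinearMap.ext
      intro x
      exact hfg.apply_apply_eq_zero x)
  have hS : S.Exact := (ShortComplex.ShortExact.moduleCat_exact_iff_function_exact S).mpr hfg
  haveI : Epi S.g := (ModuleCat.epi_iff_surjective _).mpr hf
  have hcok : IsColimit (CokernelCofork.ofπ S.g S.zero) := hS.gIsCokernel
  let q : free A m ⟶ free A n := ObjectProperty.homMk (ModuleCat.ofHom g)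
  let p : free A n ⟶ M := ObjectProperty.homMk (ModuleCat.ofHom f)
  have w : q ≫ p = 0 := by
    apply ObjectProperty.hom_ext
    exact S.zero
  refine ⟨n, m, q, p, w, ⟨?_⟩, hf⟩
  apply isColimitOfReflects (fp A).ι
  exact (isColimitMapCoconeCoforkEquiv' (fp A).ι w).symm hcok

lemma lift_free {N' N : FP A} (p : N' ⟶ N) (hp : Function.Surjective p.hom.hom) {n : ℕ}
    (f : free A n ⟶ N) : ∃ g : free A n ⟶ N', g ≫ p = f := by
  obtain ⟨g, hg⟩ := Module.projective_lifting_property p.hom.hom f.hom.hom hp
  refine ⟨ObjectProperty.homMk (ModuleCat.ofHom g), ?_⟩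
  apply ObjectProperty.hom_ext
  apply ModuleCat.hom_ext
  exact hg

section Functor

variable {B : Type u'} [Category.{v'} B] [Preadditive B] [HasFiniteBiproducts B]
  (F : FP A ⥤ B) [PreservesFiniteColimits F]

include A in
lemma additive_of_preservesFiniteColimits : F.Additive := by
  haveI : HasZeroObject B := hasZeroObject_of_hasFiniteBiproducts B
  haveI : F.PreservesZeroMorphisms := inferInstance
  haveI : PreservesBinaryBiproducts F := preservesBinaryBiproducts_of_preservesBinaryCoproducts F
  exact Functor.additive_of_preservesBinaryBiproducts F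

end Functor

section NatTrans

variable {B : Type u'} [Category.{v'} B] [Preadditive B] [HasFiniteBiproducts B]
  (F F' : FP A ⥤ B) [PreservesFiniteColimits F] [PreservesFiniteColimits F']
  (φ : F.obj (AA A) ⟶ F'.obj (AA A))

/-- The extension of `φ` to free objects. -/
noncomputable def phiN (n : ℕ) : F.obj (free A n) ⟶ F'.obj (free A n) :=
  ∑ i : Fin n, F.map (proj A i) ≫ φ ≫ F'.map (inj A i)

variable (hφ : ∀ a : A, F.map (mulA A a) ≫ φ = φ ≫ F'.map (mulA A a))

include hφ in
lemma phi_comm_end (f : AA A ⟶ AA A) : F.map f ≫ φ = φ ≫ F'.map f := by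
  rw [end_AA A f]
  exact hφ _

include hφ in
lemma phiN_naturality {m n : ℕ} (g : free A m ⟶ free A n) :
    F.map g ≫ phiN A F F' φ n = phiN A F F' φ m ≫ F'.map g := by
  haveI := additive_of_preservesFiniteColimits A F
  haveI := additive_of_preservesFiniteColimits A F'
  have h1 : ∀ i : Fin n, F.map (g ≫ proj A i) =
      ∑ j : Fin m, F.map (proj A j) ≫ F.map (inj A j ≫ g ≫ proj A i) := by
    intro i
    have : g ≫ proj A i = ∑ j : Fin m, proj A j ≫ (inj A j ≫ g ≫ proj A i) := by
      conv_lhs => rw [← Category.id_comp (g ≫ proj A i), ← sum_proj_inj A m, Preadditive.sum_comp]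
      simp only [Category.assoc]
    conv_lhs => rw [this]
    rw [Functor.map_sum]
    simp only [Functor.map_comp]
  have h2 : ∀ j : Fin m, F'.map (inj A j ≫ g) =
      ∑ i : Fin n, F'.map (inj A j ≫ g ≫ proj A i) ≫ F'.map (inj A i) := by
    intro j
    have : inj A j ≫ g = ∑ i : Fin n, (inj A j ≫ g ≫ proj A i) ≫ inj A i := by
      conv_lhs => rw [← Category.comp_id (inj A j ≫ g), ← sum_proj_inj A n, Preadditive.comp_sum]
      simp only [Category.assoc]
    conv_lhs => rw [this]
    rw [Functor.map_sum]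
    simp only [Functor.map_comp]
  unfold phiN
  rw [Preadditive.comp_sum, Preadditive.sum_comp]
  have lhs : ∀ i : Fin n, F.map g ≫ F.map (proj A i) ≫ φ ≫ F'.map (inj A i) =
      ∑ j : Fin m, F.map (proj A j) ≫ φ ≫ F'.map (inj A j ≫ g ≫ proj A i) ≫ F'.map (inj A i) := by
    intro i
    rw [← Category.assoc, ← F.map_comp, h1 i, Preadditive.sum_comp]
    refine Finset.sum_congr rfl fun j _ => ?_
    rw [Category.assoc, ← Category.assoc (F.map (inj A j ≫ g ≫ proj A i)),
      phi_comm_end A F F' φ hφ, Category.assoc]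
  have rhs : ∀ j : Fin m, (F.map (proj A j) ≫ φ ≫ F'.map (inj A j)) ≫ F'.map g =
      ∑ i : Fin n, F.map (proj A j) ≫ φ ≫ F'.map (inj A j ≫ g ≫ proj A i) ≫ F'.map (inj A i) := by
    intro j
    rw [Category.assoc, Category.assoc, ← F'.map_comp, h2 j, Preadditive.comp_sum,
      Preadditive.comp_sum]
  rw [Finset.sum_congr rfl fun i _ => lhs i, Finset.sum_congr rfl fun j _ => rhs j,
    Finset.sum_comm]

include hφ in
lemma phiN_naturality_AA {n : ℕ} (p : free A n ⟶ AA A) :
    F.map p ≫ φ = phiN A F F' φ n ≫ F'.map p := by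
  haveI := additive_of_preservesFiniteColimits A F
  haveI := additive_of_preservesFiniteColimits A F'
  have : p = ∑ i : Fin n, proj A i ≫ (inj A i ≫ p) := by
    conv_lhs => rw [← Category.id_comp p, ← sum_proj_inj A n, Preadditive.sum_comp]
    simp only [Category.assoc]
  conv_lhs => rw [this]
  rw [Functor.map_sum, Preadditive.sum_comp]
  unfold phiN
  rw [Preadditive.sum_comp]
  refine Finset.sum_congr rfl fun i _ => ?_
  rw [F.map_comp, Category.assoc, phi_comm_end A F F' φ hφ, Category.assoc, Category.assoc,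
    ← F'.map_comp]

end NatTrans

/-- Chosen presentation data. -/
structure Pres (M : FP A) where
  /-- number of generators -/
  n : ℕ
  /-- number of relations -/
  m : ℕ
  /-- relations -/
  q : free A m ⟶ free A n
  /-- generators -/
  p : free A n ⟶ M
  w : q ≫ p = 0
  /-- cokernel property -/
  isColimit : IsColimit (CokernelCofork.ofπ p w)
  surj : Function.Surjective p.hom.hom

lemma nonempty_pres (M : FP A) : Nonempty (Pres A M) := by
  obtain ⟨n, m, q, p, w, ⟨h⟩, hs⟩ := presentation A M
  exact ⟨⟨n, m, q, p, w, h, hs⟩⟩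

/-- A chosen presentation. -/
noncomputable def pres (M : FP A) : Pres A M := Classical.choice (nonempty_pres A M)

section Construct

variable {B : Type u'} [Category.{v'} B] [Preadditive B] [HasFiniteBiproducts B]
  (F F' : FP A ⥤ B) [PreservesFiniteColimits F] [PreservesFiniteColimits F']
  (φ : F.obj (AA A) ⟶ F'.obj (AA A))
  (hφ : ∀ a : A, F.map (mulA A a) ≫ φ = φ ≫ F'.map (mulA A a))

/-- `F` maps the presentation to a cokernel. -/
noncomputable def Pres.isColimitMap {M : FP A} (P : Pres A M) :
    haveI := additive_of_preservesFiniteColimits A F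
    IsColimit (CokernelCofork.ofπ (F.map P.p)
      (by rw [← F.map_comp, P.w, F.map_zero]) : Cofork (F.map P.q) 0) :=
  haveI := additive_of_preservesFiniteColimits A F
  isColimitCoforkMapOfIsColimit' F P.w P.isColimit

lemma Pres.epi_map {M : FP A} (P : Pres A M) : Epi (F.map P.p) := by
  haveI := additive_of_preservesFiniteColimits A F
  exact epi_of_isColimit_cofork (P.isColimitMap A F)

include hφ in
lemma Pres.cond {M : FP A} (P : Pres A M) :
    F.map P.q ≫ phiN A F F' φ P.n ≫ F'.map P.p = 0 := by
  haveI := additive_of_preservesFiniteColimits A F'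
  rw [← Category.assoc, phiN_naturality A F F' φ hφ, Category.assoc, ← F'.map_comp, P.w,
    F'.map_zero, comp_zero]

/-- The component of the natural transformation at `M`. -/
noncomputable def Pres.t {M : FP A} (P : Pres A M) : F.obj M ⟶ F'.obj M :=
  haveI := additive_of_preservesFiniteColimits A F
  (P.isColimitMap A F).desc (CokernelCofork.ofπ (phiN A F F' φ P.n ≫ F'.map P.p)
    (P.cond A F F' φ hφ))

lemma Pres.t_spec {M : FP A} (P : Pres A M) :
    F.map P.p ≫ P.t A F F' φ hφ = phiN A F F' φ P.n ≫ F'.map P.p := by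
  haveI := additive_of_preservesFiniteColimits A F
  exact (P.isColimitMap A F).fac (CokernelCofork.ofπ (phiN A F F' φ P.n ≫ F'.map P.p)
    (P.cond A F F' φ hφ)) WalkingParallelPair.one

lemma Pres.t_naturality {M N : FP A} (P : Pres A M) (Q : Pres A N) (f : M ⟶ N) :
    F.map f ≫ Q.t A F F' φ hφ = P.t A F F' φ hφ ≫ F'.map f := by
  haveI := P.epi_map A F
  rw [← cancel_epi (F.map P.p)]
  obtain ⟨g, hg⟩ := lift_free A Q.p Q.surj (P.p ≫ f)
  have hQ := Q.t_spec A F F' φ hφ
  have hP := P.t_spec A F F' φ hφ
  have hn := phiN_naturality A F F' φ hφ g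
  calc F.map P.p ≫ F.map f ≫ Q.t A F F' φ hφ
      = F.map g ≫ F.map Q.p ≫ Q.t A F F' φ hφ := by
        rw [← Category.assoc, ← F.map_comp, ← hg, F.map_comp, Category.assoc]
    _ = F.map g ≫ phiN A F F' φ Q.n ≫ F'.map Q.p := by rw [hQ]
    _ = phiN A F F' φ P.n ≫ F'.map g ≫ F'.map Q.p := by
        rw [← Category.assoc, hn, Category.assoc]
    _ = phiN A F F' φ P.n ≫ F'.map P.p ≫ F'.map f := by rw [← F'.map_comp, hg, F'.map_comp]
    _ = F.map P.p ≫ P.t A F F' φ hφ ≫ F'.map f := by
        rw [← Category.assoc, ← hP, Category.assoc]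

/-- The natural transformation extending `φ`. -/
noncomputable def extendNat : F ⟶ F' where
  app M := (pres A M).t A F F' φ hφ
  naturality _ _ f := Pres.t_naturality A F F' φ hφ _ _ f

lemma extendNat_app_AA : (extendNat A F F' φ hφ).app (AA A) = φ := by
  haveI := (pres A (AA A)).epi_map A F
  rw [← cancel_epi (F.map (pres A (AA A)).p)]
  change F.map (pres A (AA A)).p ≫ (pres A (AA A)).t A F F' φ hφ = _
  rw [Pres.t_spec, phiN_naturality_AA A F F' φ hφ]

omit [PreservesFiniteColimits F'] in
lemma natTrans_ext (t t' : F ⟶ F') (h : t.app (AA A) = t'.app (AA A)) : t = t' := by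
  haveI := additive_of_preservesFiniteColimits A F
  have key : ∀ (n : ℕ) (s : F ⟶ F'), s.app (free A n) =
      ∑ i : Fin n, F.map (proj A i) ≫ s.app (AA A) ≫ F'.map (inj A i) := by
    intro n s
    conv_lhs => rw [← Category.id_comp (s.app (free A n)), ← F.map_id, ← sum_proj_inj A n,
      Functor.map_sum, Preadditive.sum_comp]
    refine Finset.sum_congr rfl fun i _ => ?_
    rw [F.map_comp, Category.assoc, s.naturality]
  ext M
  haveI := (pres A M).epi_map A F
  rw [← cancel_epi (F.map (pres A M).p), t.naturality, t'.naturality, key _ t, key _ t', h]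

end Construct

end Groth.Agent.H34.FPMod
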