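import Mathlib.CategoryTheory.Limits.FunctorCategory.Basic
import Mathlib.CategoryTheory.Limits.Shapes.Kernels
import Mathlib.CategoryTheory.Limits.Preserves.Shapes.Kernels
import Mathlib.CategoryTheory.Limits.FunctorCategory.Shapes.Kernels
import Mathlib.CategoryTheory.Preadditive.FunctorCategory
import Mathlib.CategoryTheory.Limits.Preserves.Limits
import Mathlib.CategoryTheory.Preadditive.Basic

/-!
# Kernels and filtered colimits (helper34)

If `colim : (J ⥤ B) ⥤ B` preserves kernels, the colimit of pointwise kernels is the kernel of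
the induced map of colimits (cocone form `isLimit_kernelFork_of_colim`), and a functor `F'`
preserving `J`-colimits and the kernels of all `φ.app j` preserves the kernel of the induced
map on colimits (`preservesKernel_of_colim`).
-/

set_option autoImplicit false
universe w v₁ v₂ u₁ u₂

open CategoryTheory CategoryTheory.Limits

namespace Groth.Agent.H34.KerColim

variable {J : Type w} [SmallCategory J] {B : Type u₂} [Category.{v₂} B] [Preadditive B]
  [HasColimitsOfShape J B]

instance : (colim : (J ⥤ B) ⥤ B).PreservesZeroMorphisms where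
  map_zero G₁ G₂ := by
    apply colimit.hom_ext
    intro j
    simp

variable [PreservesLimitsOfShape WalkingParallelPair (colim : (J ⥤ B) ⥤ B)]

section

variable {G₀ G₁ G₂ : J ⥤ B} (κ : G₀ ⟶ G₁) (φ : G₁ ⟶ G₂) (w : κ ≫ φ = 0)
  (hκ : ∀ j, IsLimit (KernelFork.ofι (κ.app j) (congrArg (fun t => t.app j) w)))

/-- pointwise kernels are kernels in the functor category -/
noncomputable def isLimitFunctor : IsLimit (KernelFork.ofι κ w) :=
  evaluationJointlyReflectsLimits _ (fun j =>
    (KernelFork.isLimitMapConeEquiv _ ((evaluation J B).obj j)).symm (hκ j))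

/-- the colimit of pointwise kernels is the kernel of the colimit -/
noncomputable def isLimitColim :
    IsLimit (KernelFork.ofι (colim.map κ) (by rw [← Functor.map_comp, w, Functor.map_zero]) :
      KernelFork (colim.map φ)) :=
  (KernelFork.isLimitMapConeEquiv _ colim) (isLimitOfPreserves colim (isLimitFunctor κ φ w hκ))

variable {c₀ : Cocone G₀} {c₁ : Cocone G₁} {c₂ : Cocone G₂} (h₀ : IsColimit c₀)
  (h₁ : IsColimit c₁) (h₂ : IsColimit c₂) (i : c₀.pt ⟶ c₁.pt) (ψ : c₁.pt ⟶ c₂.pt)
  (hi : ∀ j, c₀.ι.app j ≫ i = κ.app j ≫ c₁.ι.app j)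
  (hψ : ∀ j, c₁.ι.app j ≫ ψ = φ.app j ≫ c₂.ι.app j)

include h₀ w hi hψ in
omit [PreservesLimitsOfShape WalkingParallelPair (colim : (J ⥤ B) ⥤ B)] [HasColimitsOfShape J B] in
lemma comp_eq_zero : i ≫ ψ = 0 := by
  apply h₀.hom_ext
  intro j
  have hw : κ.app j ≫ φ.app j = 0 := congrArg (fun t => t.app j) w
  rw [← Category.assoc, hi, Category.assoc, hψ, ← Category.assoc, hw, zero_comp, comp_zero]

/-- Cocone form: the colimit of pointwise kernels is the kernel of the induced map. -/
noncomputable def isLimitKernelFork :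
    IsLimit (KernelFork.ofι i (comp_eq_zero κ φ w h₀ i ψ hi hψ)) := by
  let e₀ : colimit G₀ ≅ c₀.pt := (colimit.isColimit G₀).coconePointUniqueUpToIso h₀
  let e₁ : colimit G₁ ≅ c₁.pt := (colimit.isColimit G₁).coconePointUniqueUpToIso h₁
  let e₂ : colimit G₂ ≅ c₂.pt := (colimit.isColimit G₂).coconePointUniqueUpToIso h₂
  have he₀ : ∀ j, colimit.ι G₀ j ≫ e₀.hom = c₀.ι.app j := fun j =>
    IsColimit.comp_coconePointUniqueUpToIso_hom (colimit.isColimit G₀) h₀ j
  have he₁ : ∀ j, colimit.ι G₁ j ≫ e₁.hom = c₁.ι.app j := fun j =>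
    IsColimit.comp_coconePointUniqueUpToIso_hom (colimit.isColimit G₁) h₁ j
  have he₂ : ∀ j, colimit.ι G₂ j ≫ e₂.hom = c₂.ι.app j := fun j =>
    IsColimit.comp_coconePointUniqueUpToIso_hom (colimit.isColimit G₂) h₂ j
  refine IsKernel.ofIso (colim.map φ) (isLimitColim κ φ w hκ) (KernelFork.ofι i _) e₁ e₂ e₀ ?_ ?_
  · apply colimit.hom_ext
    intro j
    have : colimit.ι G₁ j ≫ colim.map φ = φ.app j ≫ colimit.ι G₂ j := by simp
    rw [← Category.assoc, he₁, hψ, ← Category.assoc, this, Category.assoc, he₂]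
  · apply colimit.hom_ext
    intro j
    have : colimit.ι G₀ j ≫ colim.map κ = κ.app j ≫ colimit.ι G₁ j := by simp
    change colimit.ι G₀ j ≫ e₀.hom ≫ i = colimit.ι G₀ j ≫ colim.map κ ≫ e₁.hom
    rw [← Category.assoc, he₀, hi, ← Category.assoc, this, Category.assoc, he₁]

end

section Preserves

attribute [local instance] Preadditive.hasEqualizers_of_hasKernels

variable {C : Type u₁} [Category.{v₁} C] [Preadditive C] [HasKernels C] [HasColimitsOfShape J C]
  [PreservesLimitsOfShape WalkingParallelPair (colim : (J ⥤ C) ⥤ C)]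
  (F' : C ⥤ B) [F'.PreservesZeroMorphisms] [PreservesColimitsOfShape J F']
  {G₁ G₂ : J ⥤ C} (φ : G₁ ⟶ G₂) (hφ : ∀ j, PreservesLimit (parallelPair (φ.app j) 0) F')
  {c₁ : Cocone G₁} {c₂ : Cocone G₂} (h₁ : IsColimit c₁) (h₂ : IsColimit c₂)
  (ψ : c₁.pt ⟶ c₂.pt) (hψ : ∀ j, c₁.ι.app j ≫ ψ = φ.app j ≫ c₂.ι.app j)

/-- pointwise, `kernel.ι φ` is a kernel -/
noncomputable def isLimitKernelApp (j : J) :
    IsLimit (KernelFork.ofι ((kernel.ι φ).app j)
      (congrArg (fun t => t.app j) (kernel.condition φ))) :=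
  (KernelFork.isLimitMapConeEquiv (KernelFork.ofι (kernel.ι φ) (kernel.condition φ))
    ((evaluation J C).obj j))
    (isLimitOfPreserves ((evaluation J C).obj j) (kernelIsKernel φ))

include hφ h₁ h₂ hψ in
/-- A functor preserving `J`-colimits and the kernels of all `φ.app j` preserves the kernel of the
induced map on colimits. -/
lemma preservesKernel_of_colim : PreservesLimit (parallelPair ψ 0) F' := by
  let G₀ : J ⥤ C := kernel φ
  let κ : G₀ ⟶ G₁ := kernel.ι φ
  have w : κ ≫ φ = 0 := kernel.condition φ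
  let c₀ : Cocone G₀ := colimit.cocone G₀
  have h₀ : IsColimit c₀ := colimit.isColimit G₀
  let i : c₀.pt ⟶ c₁.pt := h₀.desc ⟨c₁.pt,
    { app := fun j => κ.app j ≫ c₁.ι.app j
      naturality := fun j j' f => by
        have := κ.naturality f
        dsimp
        rw [Category.comp_id, ← Category.assoc, this, Category.assoc, c₁.w] }⟩
  have hi : ∀ j, c₀.ι.app j ≫ i = κ.app j ≫ c₁.ι.app j := fun j => h₀.fac _ j
  have hk := isLimitKernelFork κ φ w (isLimitKernelApp φ) h₀ h₁ h₂ i ψ hi hψ
  -- now in `B`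
  have w' : Functor.whiskerRight κ F' ≫ Functor.whiskerRight φ F' = 0 := by
    rw [← Functor.whiskerRight_comp, w]
    ext j
    simp
  have hκ' : ∀ j, IsLimit (KernelFork.ofι ((Functor.whiskerRight κ F').app j)
      (congrArg (fun t => t.app j) w')) := fun j => by
    haveI := hφ j
    exact isLimitForkMapOfIsLimit' F' _ (isLimitKernelApp φ j)
  have hk' := isLimitKernelFork (Functor.whiskerRight κ F') (Functor.whiskerRight φ F') w' hκ'
    (isColimitOfPreserves F' h₀) (isColimitOfPreserves F' h₁) (isColimitOfPreserves F' h₂)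
    (F'.map i) (F'.map ψ)
    (fun j => by
      change F'.map (c₀.ι.app j) ≫ F'.map i = F'.map (κ.app j) ≫ F'.map (c₁.ι.app j)
      rw [← F'.map_comp, hi, F'.map_comp])
    (fun j => by
      change F'.map (c₁.ι.app j) ≫ F'.map ψ = F'.map (φ.app j) ≫ F'.map (c₂.ι.app j)
      rw [← F'.map_comp, hψ, F'.map_comp])
  exact preservesLimit_of_preserves_limit_cone hk
    ((isLimitMapConeForkEquiv' F' (comp_eq_zero κ φ w h₀ i ψ hi hψ)).symm hk')

end Preserves

end Groth.Agent.H34.KerColim
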