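import Groth.Agent.H34.FPRightExactMain
import Groth.Agent.H34.KerColim
import Groth.Agent.H32.Coherent
import Mathlib.Algebra.Category.ModuleCat.AB
import Mathlib.CategoryTheory.Preadditive.LeftExact
import Mathlib.CategoryTheory.Filtered.Final
import Mathlib.CategoryTheory.Filtered.Connected

/-!
# Functors on modules preserving filtered colimits which are left exact on f.p. modules,
over a coherent ring (helper34)
-/

set_option autoImplicit false
universe u v' u'

open CategoryTheory CategoryTheory.Limits CategoryTheory.Functor Opposite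

namespace Groth.Agent.H34.FPLeftExact

open Groth.Agent.H34.FPMod Groth.Agent.H34.ModFPres Groth.Agent.H34.LanFiltered
  Groth.Agent.H34.FPRightExact Groth.Agent.H34.KerColim

attribute [local instance] Cardinal.fact_isRegular_aleph0

variable (A : Type u) [CommRing A] (hcoh : ∀ I : Ideal A, I.FG → Module.FinitePresentation A I)

include hcoh in
/-- Over a coherent ring, the kernel of a map between f.p. modules is f.p. -/
lemma fp_ker {E X : Type u} [AddCommGroup E] [Module A E] [AddCommGroup X] [Module A X]
    [Module.FinitePresentation A E] [Module.FinitePresentation A X] (f : E →ₗ[A] X) :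
    Module.FinitePresentation A (LinearMap.ker f) := by
  have hX := Groth.Agent.H32.isCoh_of_finitePresentation hcoh X
  have hE := Groth.Agent.H32.isCoh_of_finitePresentation hcoh E
  have h1 : (LinearMap.range f).FG := by
    rw [LinearMap.range_eq_map]
    exact Module.Finite.fg_top.map f
  have := hX.2 _ h1
  have h2 := Module.FinitePresentation.fg_ker f.rangeRestrict f.surjective_rangeRestrict
  rw [LinearMap.ker_rangeRestrict] at h2
  exact hE.2 _ h2

include hcoh in
lemma fp_kernel {Q₁ Q₂ : ModuleCat.{u} A} (h₁ : Module.FinitePresentation A Q₁)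
    (h₂ : Module.FinitePresentation A Q₂) (v : Q₁ ⟶ Q₂) :
    Module.FinitePresentation A (kernel v : ModuleCat.{u} A) := by
  haveI := fp_ker A hcoh v.hom
  exact Module.FinitePresentation.of_equiv (ModuleCat.kernelIsoKer v).symm.toLinearEquiv

variable {B : Type u'} [Category.{v'} B] [Preadditive B]
  (F' : ModuleCat.{u} A ⥤ B) [PreservesFiniteLimits ((fp A).ι ⋙ F')]

include hcoh in
/-- `F'` preserves kernels of maps between f.p. modules. -/
lemma preservesKernel_fp [F'.PreservesZeroMorphisms] {Q₁ Q₂ : ModuleCat.{u} A}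
    (h₁ : Module.FinitePresentation A Q₁)
    (h₂ : Module.FinitePresentation A Q₂) (v : Q₁ ⟶ Q₂) :
    PreservesLimit (parallelPair v 0) F' := by
  let K : FP A := ⟨kernel v, fp_kernel A hcoh h₁ h₂ v⟩
  let P₁ : FP A := ⟨Q₁, h₁⟩
  let P₂ : FP A := ⟨Q₂, h₂⟩
  let v' : P₁ ⟶ P₂ := ObjectProperty.homMk v
  let k' : K ⟶ P₁ := ObjectProperty.homMk (kernel.ι v)
  have w' : k' ≫ v' = 0 := by
    apply ObjectProperty.hom_ext
    exact kernel.condition v
  have hk : IsLimit (KernelFork.ofι (kernel.ι v) (kernel.condition v)) := kernelIsKernel v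
  have hk' : IsLimit (KernelFork.ofι k' w') :=
    isLimitOfReflects (fp A).ι ((isLimitMapConeForkEquiv' (fp A).ι w').symm hk)
  have hk'' : IsLimit (((fp A).ι ⋙ F').mapCone (KernelFork.ofι k' w')) :=
    isLimitOfPreserves _ hk'
  have hk3 : IsLimit (KernelFork.ofι (F'.map (kernel.ι v))
      (by rw [← F'.map_comp, kernel.condition, F'.map_zero]) : KernelFork (F'.map v)) := by
    haveI : ((fp A).ι ⋙ F').PreservesZeroMorphisms := by
      constructor
      intro X Y
      exact F'.map_zero _ _
    exact (isLimitMapConeForkEquiv' ((fp A).ι ⋙ F') w') hk''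
  exact preservesLimit_of_preserves_limit_cone hk
    ((isLimitMapConeForkEquiv' F' (kernel.condition v)).symm hk3)

omit [PreservesFiniteLimits ((fp A).ι ⋙ F')] in
/-- Every module is a small filtered colimit of finitely presented modules. -/
lemma exists_presentation (N : ModuleCat.{u} A) :
    ∃ (J : Type u) (_ : SmallCategory J) (_ : IsFiltered J) (D : J ⥤ ModuleCat.{u} A)
      (c : Cocone D) (_ : IsColimit c), c.pt = N ∧ ∀ j, Module.FinitePresentation A (D.obj j) := by
  obtain ⟨J, _, _, ⟨p⟩⟩ :=
    (isCardinalFilteredGenerator_isCardinalPresentable (ModuleCat.{u} A)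
      Cardinal.aleph0.{u}).exists_colimitsOfShape N
  have : IsFiltered J := isFiltered_of_isCardinalFiltered J Cardinal.aleph0.{u}
  refine ⟨J, inferInstance, inferInstance, p.diag, Cocone.mk _ p.ι, p.isColimit, rfl, fun j => ?_⟩
  have h := p.prop_diag_obj j
  have h2 : fp A (p.diag.obj j) := by
    rw [fp_eq A]
    exact h
  exact h2

section Steps

variable [HasFilteredColimitsOfSize.{u, u} B]
  (hcomm : ∀ (J : Type u) [SmallCategory J] [IsFiltered J],
    PreservesLimitsOfShape WalkingParallelPair (colim : (J ⥤ B) ⥤ B))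
  [PreservesFilteredColimitsOfSize.{u, u} F'] [F'.PreservesZeroMorphisms]

include hcoh hcomm in
/-- Step I: kernels of maps out of a f.p. module are preserved. -/
lemma stepI (Q : FP A) {N : ModuleCat.{u} A} (u : Q.obj ⟶ N) :
    PreservesLimit (parallelPair u 0) F' := by
  obtain ⟨J', _, _, D', c', hc', rfl, hD'⟩ := exists_presentation A N
  haveI : IsFinitelyPresentable.{u} Q.obj :=
    (inferInstance : IsFinitelyPresentable.{u} ((fp A).ι.obj Q))
  obtain ⟨j₀, v₀, hv₀⟩ := IsFinitelyPresentable.exists_hom_of_isColimit.{u} hc' u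
  let J := Under j₀
  haveI : IsConnected J := IsFiltered.isConnected J
  let G₁ : J ⥤ ModuleCat.{u} A := (Functor.const J).obj Q.obj
  let G₂ : J ⥤ ModuleCat.{u} A := Under.forget j₀ ⋙ D'
  let φ : G₁ ⟶ G₂ :=
    { app := fun j => v₀ ≫ D'.map j.hom
      naturality := fun j j' f => by
        change 𝟙 _ ≫ v₀ ≫ D'.map j'.hom = (v₀ ≫ D'.map j.hom) ≫ D'.map f.right
        rw [Category.id_comp, Category.assoc, ← D'.map_comp, Under.w f] }
  have h₁ : IsColimit (constCocone J Q.obj) := isColimitConstCocone J Q.obj
  have h₂ : IsColimit (c'.whisker (Under.forget j₀)) :=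
    (Functor.Final.isColimitWhiskerEquiv (Under.forget j₀) c').symm hc'
  haveI := hcomm J
  haveI : HasColimitsOfShape J B := HasFilteredColimitsOfSize.HasColimitsOfShape J
  haveI : PreservesColimitsOfShape J F' :=
    PreservesFilteredColimitsOfSize.preserves_filtered_colimits J
  refine preservesKernel_of_colim F' φ (fun j => ?_) h₁ h₂ u (fun j => ?_)
  · exact preservesKernel_fp A hcoh F' Q.property (hD' j.right) _
  · change 𝟙 _ ≫ u = (v₀ ≫ D'.map j.hom) ≫ c'.ι.app j.right
    rw [Category.id_comp, Category.assoc, c'.w, hv₀]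

include hcoh hcomm in
/-- Step II: all kernels are preserved. -/
lemma stepII {M N : ModuleCat.{u} A} (u : M ⟶ N) :
    PreservesLimit (parallelPair u 0) F' := by
  obtain ⟨J, _, _, D, c, hc, rfl, hD⟩ := exists_presentation A M
  let G₂ : J ⥤ ModuleCat.{u} A := (Functor.const J).obj N
  let φ : D ⟶ G₂ :=
    { app := fun j => c.ι.app j ≫ u
      naturality := fun j j' f => by
        change D.map f ≫ c.ι.app j' ≫ u = (c.ι.app j ≫ u) ≫ 𝟙 _
        rw [Category.comp_id, ← Category.assoc, c.w] }
  haveI : IsConnected J := IsFiltered.isConnected J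
  have h₂ : IsColimit (constCocone J N) := isColimitConstCocone J N
  haveI := hcomm J
  haveI : HasColimitsOfShape J B := HasFilteredColimitsOfSize.HasColimitsOfShape J
  haveI : PreservesColimitsOfShape J F' :=
    PreservesFilteredColimitsOfSize.preserves_filtered_colimits J
  refine preservesKernel_of_colim F' φ (fun j => ?_) hc h₂ u (fun j => ?_)
  · exact stepI A hcoh F' hcomm ⟨D.obj j, hD j⟩ (c.ι.app j ≫ u)
  · change c.ι.app j ≫ u = (c.ι.app j ≫ u) ≫ 𝟙 _
    rw [Category.comp_id]

end Steps

section Main

variable [HasFiniteBiproducts B] [HasFilteredColimitsOfSize.{u, u} B]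
  (hcomm : ∀ (J : Type u) [SmallCategory J] [IsFiltered J],
    PreservesLimitsOfShape WalkingParallelPair (colim : (J ⥤ B) ⥤ B))
  [PreservesFilteredColimitsOfSize.{u, u} F']

omit [PreservesFilteredColimitsOfSize.{u, u} F'] [HasFilteredColimitsOfSize.{u, u} B] in
lemma additive_restriction : ((fp A).ι ⋙ F').Additive := by
  haveI : HasZeroObject B := hasZeroObject_of_hasFiniteBiproducts B
  haveI : HasBinaryProducts (FP A) := hasBinaryProducts_of_hasBinaryBiproducts
  haveI : PreservesLimitsOfShape (Discrete WalkingPair) ((fp A).ι ⋙ F') := inferInstance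
  haveI : ((fp A).ι ⋙ F').PreservesZeroMorphisms := inferInstance
  exact Functor.additive_of_preserves_binary_products _

include hcoh hcomm in
theorem leftExact_main :
    F'.Additive ∧ PreservesFiniteLimits F' ∧
      ∀ J : Type u, PreservesColimitsOfShape (Discrete J) F' := by
  haveI := additive_restriction A F'
  haveI : F'.Additive := additive A F'
  haveI : HasZeroObject B := hasZeroObject_of_hasFiniteBiproducts B
  haveI : ∀ {X Y : ModuleCat.{u} A} (f : X ⟶ Y), PreservesLimit (parallelPair f 0) F' :=
    fun f => stepII A hcoh F' hcomm f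
  exact ⟨inferInstance, preservesFiniteLimits_of_preservesKernels F',
    fun J => preservesCoproducts_of_additive A F' J⟩

end Main

end Groth.Agent.H34.FPLeftExact
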