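import Mathlib.Algebra.Category.ModuleCat.Basic
import Mathlib.Algebra.Category.ModuleCat.Kernels
import Mathlib.Algebra.Category.ModuleCat.Biproducts
import Mathlib.Algebra.Category.ModuleCat.EpiMono
import Mathlib.Algebra.Module.FinitePresentation
import Mathlib.CategoryTheory.ObjectProperty.FullSubcategory
import Mathlib.CategoryTheory.ObjectProperty.FiniteProducts
import Mathlib.CategoryTheory.Limits.FullSubcategory
import Mathlib.CategoryTheory.Preadditive.LeftExact

/-!
# The category of finitely presented modules (helper34)

Closure of finitely presented modules under finite colimits in `ModuleCat`, so that the full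
subcategory has finite coproducts, coequalizers, a zero object and binary biproducts.
-/

set_option autoImplicit false
universe u

open CategoryTheory CategoryTheory.Limits

namespace Groth.Agent.H34.FPMod

variable (A : Type u) [CommRing A]

/-- The property of being finitely presented. -/
abbrev fp : ObjectProperty (ModuleCat.{u} A) := fun M => Module.FinitePresentation A M

instance : (fp A).IsClosedUnderIsomorphisms where
  of_iso {X Y} e hX := by
    haveI : Module.FinitePresentation A X := hX
    exact Module.FinitePresentation.of_equiv e.toLinearEquiv

instance : (fp A).ContainsZero where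
  exists_zero := ⟨ModuleCat.of A PUnit, ModuleCat.isZero_of_subsingleton _,
    (inferInstance : Module.FinitePresentation A PUnit)⟩

instance : (fp A).IsClosedUnderBinaryCoproducts := by
  apply ObjectProperty.IsClosedUnderColimitsOfShape.mk'
  rintro X ⟨F, hF⟩
  haveI : Module.FinitePresentation A (F.obj ⟨WalkingPair.left⟩) := hF _
  haveI : Module.FinitePresentation A (F.obj ⟨WalkingPair.right⟩) := hF _
  let e : colimit F ≅ ModuleCat.of A (F.obj ⟨WalkingPair.left⟩ × F.obj ⟨WalkingPair.right⟩) :=
    HasColimit.isoOfNatIso (diagramIsoPair F) ≪≫ (biprod.isoCoprod _ _).symm ≪≫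
      ModuleCat.biprodIsoProd _ _
  exact (fp A).prop_of_iso e.symm
    (inferInstance : Module.FinitePresentation A
      (F.obj ⟨WalkingPair.left⟩ × F.obj ⟨WalkingPair.right⟩))

lemma fp_quotient_range {M N : ModuleCat.{u} A} (hM : Module.FinitePresentation A M)
    (hN : Module.FinitePresentation A N) (f : M ⟶ N) :
    Module.FinitePresentation A (N ⧸ LinearMap.range f.hom) := by
  haveI := hM
  haveI := hN
  refine Module.finitePresentation_of_surjective (LinearMap.range f.hom).mkQ
    (Submodule.mkQ_surjective _) ?_
  rw [Submodule.ker_mkQ, LinearMap.range_eq_map]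
  exact Submodule.FG.map _ (Module.Finite.fg_top)

instance : (fp A).IsClosedUnderColimitsOfShape WalkingParallelPair := by
  apply ObjectProperty.IsClosedUnderColimitsOfShape.mk'
  rintro X ⟨F, hF⟩
  let f := F.map WalkingParallelPairHom.left
  let g := F.map WalkingParallelPairHom.right
  let e : colimit F ≅ ModuleCat.of A (F.obj WalkingParallelPair.one ⧸ LinearMap.range (f - g).hom) :=
    HasColimit.isoOfNatIso (diagramIsoParallelPair F) ≪≫
      (colimit.isColimit (parallelPair f g)).coconePointUniqueUpToIso
        (Preadditive.isColimitCoforkOfCokernelCofork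
          (colimit.isColimit (parallelPair (f - g) 0))) ≪≫
      ModuleCat.cokernelIsoRangeQuotient (f - g)
  exact (fp A).prop_of_iso e.symm (fp_quotient_range A (hF _) (hF _) (f - g))

/-- The category of finitely presented `A`-modules. -/
abbrev FP := (fp A).FullSubcategory

instance : (fp A).IsClosedUnderFiniteCoproducts := ObjectProperty.IsClosedUnderFiniteCoproducts.mk'

instance : HasFiniteCoproducts (FP A) := inferInstance
instance : HasBinaryCoproducts (FP A) := inferInstance
instance : HasCoequalizers (FP A) := inferInstance
instance : HasZeroObject (FP A) := inferInstance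
instance : HasBinaryBiproducts (FP A) := HasBinaryBiproducts.of_hasBinaryCoproducts

/-- The module `A` as an object of `FP A`. -/
abbrev AA : FP A := ⟨ModuleCat.of A A, inferInstance⟩

/-- Multiplication by `a` on `A`. -/
abbrev mulA (a : A) : AA A ⟶ AA A := ObjectProperty.homMk (ModuleCat.ofHom (LinearMap.lsmul A A a))

end Groth.Agent.H34.FPMod
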