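import Groth.Agent.H34.LanFiltered

/-!
# Extension of functors from finitely presentable objects (helper34)
-/

set_option autoImplicit false

universe w v₁ v₂ u₁ u₂

open CategoryTheory CategoryTheory.Limits CategoryTheory.Functor

namespace Groth.Agent.H34.LanFiltered

attribute [local instance] Cardinal.fact_isRegular_aleph0

variable {C : Type u₁} [Category.{v₁} C] [IsFinitelyAccessibleCategory.{w} C]
  {B : Type u₂} [Category.{v₂} B]

/-- Extension of functors from finitely presentable objects to functors preserving filtered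
colimits, in a finitely accessible category (existence and uniqueness). -/
theorem extension_general (P : ObjectProperty C)
    (hP : P = ObjectProperty.isFinitelyPresentable.{w} C)
    [HasFilteredColimitsOfSize.{w, w} B] (F : P.FullSubcategory ⥤ B) :
    (∃ F' : C ⥤ B, PreservesFilteredColimitsOfSize.{w, w} F' ∧ Nonempty (P.ι ⋙ F' ≅ F)) ∧
    ∀ F₁ F₂ : C ⥤ B, PreservesFilteredColimitsOfSize.{w, w} F₁ →
      PreservesFilteredColimitsOfSize.{w, w} F₂ →
      Nonempty (P.ι ⋙ F₁ ≅ P.ι ⋙ F₂) → Nonempty (F₁ ≅ F₂) := by
  subst hP
  constructor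
  · haveI : ∀ M : C, HasColimitsOfShape
        (CostructuredArrow (ObjectProperty.isFinitelyPresentable.{w} C).ι M) B :=
      fun M => hasColimitsOfShape_costructuredArrow.{w} M
    let L := (ObjectProperty.isFinitelyPresentable.{w} C).ι
    have : L.HasPointwiseLeftKanExtension F := fun M => inferInstance
    let E := LeftExtension.mk _ (L.pointwiseLeftKanExtensionUnit F)
    have hE : E.IsPointwiseLeftKanExtension :=
      pointwiseLeftKanExtensionIsPointwiseLeftKanExtension L F
    have : IsIso E.hom := hE.isIso_hom
    exact ⟨E.right, preservesFilteredColimitsOfSize.{w} E hE, ⟨(asIso E.hom).symm⟩⟩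
  · intro F₁ F₂ h₁ h₂ ⟨e⟩
    exact nonempty_iso_of_restriction_iso.{w} F₁ F₂ e

end Groth.Agent.H34.LanFiltered
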