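import Groth.Agent.H34.ModFPres
import Groth.Agent.H34.LanExtend
import Mathlib.CategoryTheory.Preadditive.LeftExact

/-!
# Functors on modules preserving filtered colimits which are right exact on f.p. modules (helper34)
-/

set_option autoImplicit false
universe u v' u'

open CategoryTheory CategoryTheory.Limits CategoryTheory.Functor Opposite

namespace Groth.Agent.H34.FPRightExact

open Groth.Agent.H34.FPMod Groth.Agent.H34.ModFPres Groth.Agent.H34.LanFiltered

attribute [local instance] Cardinal.fact_isRegular_aleph0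

variable (A : Type u) [CommRing A]

lemma transfer (P : ObjectProperty (ModuleCat.{u} A))
    (hP : P = ObjectProperty.isFinitelyPresentable.{u} (ModuleCat.{u} A)) :
    P.ι.IsDense ∧ (∀ M, IsFiltered (CostructuredArrow P.ι M)) ∧
      (∀ M, EssentiallySmall.{u} (CostructuredArrow P.ι M)) ∧
      ∀ Q, IsFinitelyPresentable.{u} (P.ι.obj Q) := by
  subst hP
  exact ⟨inferInstance, fun _ => inferInstance, fun _ => inferInstance, fun _ => inferInstance⟩

instance : (fp A).ι.IsDense := (transfer A (fp A) (fp_eq A)).1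
instance (M : ModuleCat.{u} A) : IsFiltered (CostructuredArrow (fp A).ι M) :=
  (transfer A (fp A) (fp_eq A)).2.1 M
instance (M : ModuleCat.{u} A) : EssentiallySmall.{u} (CostructuredArrow (fp A).ι M) :=
  (transfer A (fp A) (fp_eq A)).2.2.1 M
instance (Q : FP A) : IsFinitelyPresentable.{u} ((fp A).ι.obj Q) :=
  (transfer A (fp A) (fp_eq A)).2.2.2 Q

variable {B : Type u'} [Category.{v'} B]
  (F' : ModuleCat.{u} A ⥤ B) [PreservesFilteredColimitsOfSize.{u, u} F']

/-- `F'` is the pointwise left Kan extension of its restriction to f.p. modules. -/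
noncomputable def isPLKE :
    (LeftExtension.mk F' (𝟙 ((fp A).ι ⋙ F'))).IsPointwiseLeftKanExtension :=
  isPointwiseLeftKanExtensionOfPreserves.{u} F'

/-- The maps `F'(Q) ⟶ F'(M)` for `Q` f.p. are jointly epimorphic. -/
lemma K1 {M : ModuleCat.{u} A} {T : B} (m m' : F'.obj M ⟶ T)
    (h : ∀ (Q : FP A) (f : Q.obj ⟶ M), F'.map f ≫ m = F'.map f ≫ m') : m = m' := by
  apply (isPLKE A F' M).hom_ext'
  intro Q φ
  have := h Q φ
  change 𝟙 _ ≫ F'.map φ ≫ m = 𝟙 _ ≫ F'.map φ ≫ m'
  rw [Category.id_comp, Category.id_comp, this]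

/-- Descent of compatible families along the canonical colimit. -/
lemma K2 {M : ModuleCat.{u} A} {T : B} (s : ∀ (Q : FP A) (_ : Q.obj ⟶ M), F'.obj Q.obj ⟶ T)
    (hs : ∀ (Q Q' : FP A) (k : Q ⟶ Q') (f' : Q'.obj ⟶ M),
      F'.map k.hom ≫ s Q' f' = s Q (k.hom ≫ f')) :
    ∃ m : F'.obj M ⟶ T, ∀ (Q : FP A) (f : Q.obj ⟶ M), F'.map f ≫ m = s Q f := by
  let c : Cocone (CostructuredArrow.proj (fp A).ι M ⋙ ((fp A).ι ⋙ F')) :=
    { pt := T
      ι :=
        { app := fun X => s X.left X.hom
          naturality := fun X Y φ => by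
            have h1 := hs X.left Y.left φ.left Y.hom
            have h2 : φ.left.hom ≫ Y.hom = X.hom := CostructuredArrow.w φ
            rw [h2] at h1
            exact h1.trans (Category.comp_id _).symm } }
  have hpt : IsColimit ((LeftExtension.mk F' (𝟙 ((fp A).ι ⋙ F'))).coconeAt M) := isPLKE A F' M
  refine ⟨hpt.desc c, fun Q f => ?_⟩
  have := desc_fac' hpt c (CostructuredArrow.mk (Y := Q) f)
  change 𝟙 _ ≫ F'.map f ≫ hpt.desc c = s Q f at this
  rwa [Category.id_comp] at this

section Additive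

variable [Preadditive B] [((fp A).ι ⋙ F').Additive]

omit [PreservesFilteredColimitsOfSize.{u, u} F'] in
/-- `F'` is additive on maps out of f.p. modules. -/
lemma K3 {Q : FP A} {X : ModuleCat.{u} A} (a b : Q.obj ⟶ X) :
    F'.map (a + b) = F'.map a + F'.map b := by
  let X₁ : CostructuredArrow (fp A).ι X := CostructuredArrow.mk (Y := Q) a
  let X₂ : CostructuredArrow (fp A).ι X := CostructuredArrow.mk (Y := Q) b
  let Y := IsFiltered.max X₁ X₂
  let k₁ : Q ⟶ Y.left := (IsFiltered.leftToMax X₁ X₂).left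
  let k₂ : Q ⟶ Y.left := (IsFiltered.rightToMax X₁ X₂).left
  have h₁ : k₁.hom ≫ Y.hom = a := CostructuredArrow.w (IsFiltered.leftToMax X₁ X₂)
  have h₂ : k₂.hom ≫ Y.hom = b := CostructuredArrow.w (IsFiltered.rightToMax X₁ X₂)
  have h3 : F'.map (k₁ + k₂).hom = F'.map k₁.hom + F'.map k₂.hom :=
    ((fp A).ι ⋙ F').map_add (f := k₁) (g := k₂)
  have h4 : a + b = (k₁ + k₂).hom ≫ Y.hom := by
    rw [← h₁, ← h₂]
    exact (Preadditive.add_comp _ _ _ k₁.hom k₂.hom Y.hom).symm
  rw [h4, F'.map_comp, h3, Preadditive.add_comp, ← F'.map_comp, ← F'.map_comp, h₁, h₂]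

/-- `F'` is additive. -/
lemma additive : F'.Additive where
  map_add {M N} a b := by
    apply K1 A F'
    intro Q f
    rw [Preadditive.comp_add, ← F'.map_comp, ← F'.map_comp, ← F'.map_comp, Preadditive.comp_add,
      K3]

end Additive

section Cokernel

variable [Preadditive B] [HasFiniteBiproducts B] [PreservesFiniteColimits ((fp A).ι ⋙ F')]

instance : ((fp A).ι ⋙ F').Additive := additive_of_preservesFiniteColimits A _

instance : F'.Additive := additive A F'

variable {M N P : ModuleCat.{u} A} (u : M ⟶ N) (π : N ⟶ P) (hπ : Function.Surjective π.hom)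
  (hex : ∀ n, π.hom n = 0 → ∃ m, u.hom m = n)

include hex in
omit [PreservesFilteredColimitsOfSize.{u, u} F'] in
lemma L1 {R : ModuleCat.{u} A} [Module.Projective A R] (δ : R ⟶ N) (hδ : δ ≫ π = 0) :
    ∃ h : R ⟶ M, h ≫ u = δ := by
  have hmem : ∀ r, δ.hom r ∈ LinearMap.range u.hom := fun r => by
    obtain ⟨m, hm⟩ := hex (δ.hom r) (by
      have := congrArg (fun t => t.hom r) hδ
      simpa using this)
    exact ⟨m, hm⟩
  obtain ⟨h, hh⟩ := Module.projective_lifting_property u.hom.rangeRestrict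
    (δ.hom.codRestrict (LinearMap.range u.hom) hmem) u.hom.surjective_rangeRestrict
  refine ⟨ModuleCat.ofHom h, ?_⟩
  ext r
  have := congrArg (fun l => (l r : N)) hh
  simpa using this

variable {T : B} (t : F'.obj N ⟶ T) (ht : F'.map u ≫ t = 0)

include hex ht in
lemma L2 {R : ModuleCat.{u} A} [Module.Projective A R] (g g' : R ⟶ N) (h : g ≫ π = g' ≫ π) :
    F'.map g ≫ t = F'.map g' ≫ t := by
  obtain ⟨k, hk⟩ := L1 A u π hex (g - g') (by rw [Preadditive.sub_comp, h, sub_self])
  have h1 : F'.map (g - g') ≫ t = 0 := by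
    rw [← hk, F'.map_comp, Category.assoc, ht, comp_zero]
  rw [F'.map_sub, Preadditive.sub_comp, sub_eq_zero] at h1
  exact h1

/-- The characterization of the component `s : F'(Q) ⟶ T` attached to `f : Q ⟶ P`. -/
def IsS {Q : FP A} (f : Q.obj ⟶ P) (s : F'.obj Q.obj ⟶ T) : Prop :=
  ∀ (n : ℕ) (p : free A n ⟶ Q) (g : (free A n).obj ⟶ N), g ≫ π = p.hom ≫ f →
    F'.map p.hom ≫ s = F'.map g ≫ t

include hπ in
omit [PreservesFilteredColimitsOfSize.{u, u} F'] in
lemma exists_lift {R : ModuleCat.{u} A} [Module.Projective A R] (f : R ⟶ P) :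
    ∃ g : R ⟶ N, g ≫ π = f := by
  obtain ⟨g, hg⟩ := Module.projective_lifting_property π.hom f.hom hπ
  exact ⟨ModuleCat.ofHom g, by ext r; exact congrArg (fun l => l r) hg⟩

include hπ in
omit [PreservesFilteredColimitsOfSize.{u, u} F'] in
lemma IsS_unique {Q : FP A} (f : Q.obj ⟶ P) (s s' : F'.obj Q.obj ⟶ T)
    (hs : IsS A F' π t f s) (hs' : IsS A F' π t f s') : s = s' := by
  let Pr := pres A Q
  obtain ⟨g, hg⟩ := exists_lift A π hπ (Pr.p.hom ≫ f)
  have h1 := hs Pr.n Pr.p g hg
  have h2 := hs' Pr.n Pr.p g hg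
  haveI : Epi (F'.map Pr.p.hom) := Pr.epi_map A ((fp A).ι ⋙ F')
  rw [← cancel_epi (F'.map Pr.p.hom), h1, h2]

include hπ hex ht in
lemma IsS_exists {Q : FP A} (f : Q.obj ⟶ P) : ∃ s : F'.obj Q.obj ⟶ T, IsS A F' π t f s := by
  let Pr := pres A Q
  obtain ⟨g, hg⟩ := exists_lift A π hπ (Pr.p.hom ≫ f)
  have cond : F'.map Pr.q.hom ≫ F'.map g ≫ t = 0 := by
    have h0 : (Pr.q.hom ≫ g) ≫ π = 0 := by
      rw [Category.assoc, hg, ← Category.assoc]
      have : Pr.q.hom ≫ Pr.p.hom = 0 := congrArg (fun k => k.hom) Pr.w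
      rw [this, zero_comp]
    obtain ⟨k, hk⟩ := L1 A u π hex (Pr.q.hom ≫ g) h0
    rw [← Category.assoc, ← F'.map_comp, ← hk, F'.map_comp, Category.assoc, ht, comp_zero]
  let s := (Pr.isColimitMap A ((fp A).ι ⋙ F')).desc (CokernelCofork.ofπ (F'.map g ≫ t) cond)
  have hfac : F'.map Pr.p.hom ≫ s = F'.map g ≫ t :=
    (Pr.isColimitMap A ((fp A).ι ⋙ F')).fac (CokernelCofork.ofπ (F'.map g ≫ t) cond)
      WalkingParallelPair.one
  refine ⟨s, ?_⟩
  intro n' p' g' hg'
  obtain ⟨k, hk⟩ := lift_free A Pr.p Pr.surj p'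
  have hk' : k.hom ≫ Pr.p.hom = p'.hom := congrArg (fun k => k.hom) hk
  have h1 : F'.map p'.hom ≫ s = F'.map (k.hom ≫ g) ≫ t := by
    rw [← hk', F'.map_comp, Category.assoc, hfac, F'.map_comp, Category.assoc]
  rw [h1]
  apply L2 A F' u π hex t ht
  rw [Category.assoc, hg, ← Category.assoc, hk', hg']

/-- The chosen component. -/
noncomputable def sFam (Q : FP A) (f : Q.obj ⟶ P) : F'.obj Q.obj ⟶ T :=
  (IsS_exists A F' u π hπ hex t ht f).choose

lemma sFam_spec (Q : FP A) (f : Q.obj ⟶ P) : IsS A F' π t f (sFam A F' u π hπ hex t ht Q f) :=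
  (IsS_exists A F' u π hπ hex t ht f).choose_spec

include hπ hex ht in
lemma exists_desc : ∃ m : F'.obj P ⟶ T, F'.map π ≫ m = t ∧
    ∀ m' : F'.obj P ⟶ T, F'.map π ≫ m' = t → m' = m := by
  have hs : ∀ (Q Q' : FP A) (k : Q ⟶ Q') (f' : Q'.obj ⟶ P),
      F'.map k.hom ≫ sFam A F' u π hπ hex t ht Q' f' =
        sFam A F' u π hπ hex t ht Q (k.hom ≫ f') := by
    intro Q Q' k f'
    apply IsS_unique A F' π hπ t (k.hom ≫ f') _ _ _ (sFam_spec A F' u π hπ hex t ht Q _)
    intro n p g hg
    have := sFam_spec A F' u π hπ hex t ht Q' f' n (p ≫ k) g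
      (hg.trans (Category.assoc _ _ _).symm)
    rw [← Category.assoc, ← F'.map_comp]
    exact this
  obtain ⟨m, hm⟩ := K2 A F' (sFam A F' u π hπ hex t ht) hs
  refine ⟨m, ?_, ?_⟩
  · apply K1 A F'
    intro Q g₀
    rw [← Category.assoc, ← F'.map_comp, hm]
    apply IsS_unique A F' π hπ t (g₀ ≫ π) _ _ (sFam_spec A F' u π hπ hex t ht Q _)
    intro n p g hg
    rw [← Category.assoc, ← F'.map_comp]
    apply L2 A F' u π hex t ht
    rw [Category.assoc, hg]
  · intro m' hm'
    apply K1 A F'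
    intro Q f
    rw [hm]
    apply IsS_unique A F' π hπ t f _ _ _ (sFam_spec A F' u π hπ hex t ht Q _)
    intro n p g hg
    rw [← Category.assoc, ← F'.map_comp, ← hg, F'.map_comp, Category.assoc, hm']

/-- `F'` maps a cokernel sequence of modules to a cokernel. -/
noncomputable def isColimitCokernel (w : u ≫ π = 0) :
    IsColimit (CokernelCofork.ofπ (F'.map π)
      (by rw [← F'.map_comp, w, F'.map_zero]) : Cofork (F'.map u) 0) :=
  CokernelCofork.IsColimit.ofπ _ _
    (fun t ht => (exists_desc A F' u π hπ hex t ht).choose)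
    (fun t ht => (exists_desc A F' u π hπ hex t ht).choose_spec.1)
    (fun t ht m' hm' => (exists_desc A F' u π hπ hex t ht).choose_spec.2 m' hm')

lemma preservesCokernel {M N : ModuleCat.{u} A} (u : M ⟶ N) :
    PreservesColimit (parallelPair u 0) F' := by
  have hcok : IsColimit (CokernelCofork.ofπ (cokernel.π u) (cokernel.condition u)) :=
    cokernelIsCokernel u
  have hπ : Function.Surjective (cokernel.π u).hom :=
    (ModuleCat.epi_iff_surjective _).1 inferInstance
  have hex : ∀ n, (cokernel.π u).hom n = 0 → ∃ m, u.hom m = n := by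
    have hS : (ShortComplex.mk u (cokernel.π u) (cokernel.condition u)).Exact :=
      ShortComplex.exact_of_g_is_cokernel _ hcok
    rw [ShortComplex.moduleCat_exact_iff] at hS
    exact hS
  exact preservesColimit_of_preserves_colimit_cocone hcok
    ((isColimitMapCoconeCoforkEquiv' F' (cokernel.condition u)).symm
      (isColimitCokernel A F' u (cokernel.π u) hπ hex (cokernel.condition u)))

lemma preservesFiniteColimits : PreservesFiniteColimits F' := by
  haveI : HasZeroObject B := hasZeroObject_of_hasFiniteBiproducts B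
  haveI : ∀ {X Y : ModuleCat.{u} A} (f : X ⟶ Y), PreservesColimit (parallelPair f 0) F' :=
    fun f => preservesCokernel A F' f
  exact preservesFiniteColimits_of_preservesCokernels F'

end Cokernel

end Groth.Agent.H34.FPRightExact
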