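import Groth.Agent.H34.FPRightExact
import Groth.Agent.H34.CoprodFiltered

set_option autoImplicit false
universe u v' u'

open CategoryTheory CategoryTheory.Limits

namespace Groth.Agent.H34.FPRightExact

open Groth.Agent.H34.FPMod

variable (A : Type u) [CommRing A] {B : Type u'} [Category.{v'} B] [Preadditive B]
  (F' : ModuleCat.{u} A ⥤ B) [PreservesFilteredColimitsOfSize.{u, u} F']

/-- An additive functor on modules preserving filtered colimits preserves all coproducts. -/
lemma preservesCoproducts_of_additive [F'.Additive] (J : Type u) :
    PreservesColimitsOfShape (Discrete J) F' := by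
  haveI : PreservesFiniteCoproducts F' := inferInstance
  exact Groth.Agent.H34.CoprodFiltered.preservesColimitsOfShape_discrete.{u} F' J

theorem rightExact_main [HasFiniteBiproducts B]
    [PreservesFiniteColimits ((fp A).ι ⋙ F')] :
    F'.Additive ∧ PreservesFiniteColimits F' ∧
      ∀ J : Type u, PreservesColimitsOfShape (Discrete J) F' := by
  haveI : F'.Additive := additive A F'
  exact ⟨inferInstance, preservesFiniteColimits A F', fun J => preservesCoproducts_of_additive A F' J⟩

end Groth.Agent.H34.FPRightExact
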