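import Mathlib.CategoryTheory.Abelian.Refinements
import Mathlib.CategoryTheory.Subobject.Limits
import Mathlib.CategoryTheory.Subobject.Lattice
import Mathlib.CategoryTheory.Abelian.Basic
import Mathlib.CategoryTheory.Abelian.CommSq

/-!
# Generalized elements and subobjects in abelian categories

Tools for doing "element chases" with subobjects: membership `S.Factors x` of a generalized
element `x : T ⟶ X` in a subobject `S`, up to refinements (epimorphisms `T' ⟶ T`).
-/

set_option autoImplicit false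
universe v u

open CategoryTheory CategoryTheory.Limits

namespace Groth.Agent.H34

variable {A : Type u} [Category.{v} A] [Abelian A]

/-- Membership in a subobject can be checked after an epimorphic refinement. -/
lemma factors_of_epi_comp {X T T' : A} (S : Subobject X) (π : T' ⟶ T) [Epi π] (x : T ⟶ X)
    (h : S.Factors (π ≫ x)) : S.Factors x := by
  have h0 : x ≫ cokernel.π S.arrow = 0 := by
    rw [← cancel_epi π, comp_zero, ← Category.assoc, ← S.factorThru_arrow _ h, Category.assoc,
      cokernel.condition, comp_zero]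
  rw [← Abelian.monoLift_comp S.arrow x h0]
  exact Subobject.factors_comp_arrow _

/-- A generalized element of the image of `f` lifts along `f` after a refinement. -/
lemma imageSubobject_factors_up_to_refinements {X Y T : A} (f : X ⟶ Y) (y : T ⟶ Y)
    (h : (imageSubobject f).Factors y) :
    ∃ (T' : A) (π : T' ⟶ T) (_ : Epi π) (x : T' ⟶ X), π ≫ y = x ≫ f := by
  obtain ⟨T', π, hπ, x, hx⟩ := surjective_up_to_refinements_of_epi (factorThruImageSubobject f)
    ((imageSubobject f).factorThru y h)
  refine ⟨T', π, hπ, x, ?_⟩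
  have := congr($hx ≫ (imageSubobject f).arrow)
  simpa using this

lemma factors_sub {X T : A} (S : Subobject X) (x y : T ⟶ X) (hx : S.Factors x)
    (hy : S.Factors y) : S.Factors (x - y) := by
  have : x - y = (S.factorThru x hx - S.factorThru y hy) ≫ S.arrow := by simp
  rw [this]
  exact Subobject.factors_comp_arrow _

lemma imageSubobject_factors_self {X Y : A} (f : X ⟶ Y) : (imageSubobject f).Factors f := by
  have := imageSubobject_factors_comp_self f (𝟙 X)
  rwa [Category.id_comp] at this

/-- A generalized element of `S₁ ⊔ S₂` is, after a refinement, a sum of elements of `S₁` and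
`S₂`. -/
lemma sup_factors_up_to_refinements {X T : A} (S₁ S₂ : Subobject X) (z : T ⟶ X)
    (h : (S₁ ⊔ S₂).Factors z) :
    ∃ (T' : A) (π : T' ⟶ T) (_ : Epi π) (z₁ : T' ⟶ (S₁ : A)) (z₂ : T' ⟶ (S₂ : A)),
      π ≫ z = z₁ ≫ S₁.arrow + z₂ ≫ S₂.arrow := by
  let d : (S₁ : A) ⊞ (S₂ : A) ⟶ X := biprod.desc S₁.arrow S₂.arrow
  have h1 : S₁ ≤ imageSubobject d := by
    apply Subobject.le_of_factors
    have : S₁.arrow = biprod.inl ≫ d := by simp [d]
    rw [this]
    exact imageSubobject_factors_comp_self _ _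
  have h2 : S₂ ≤ imageSubobject d := by
    apply Subobject.le_of_factors
    have : S₂.arrow = biprod.inr ≫ d := by simp [d]
    rw [this]
    exact imageSubobject_factors_comp_self _ _
  have h3 : (imageSubobject d).Factors z := Subobject.factors_of_le _ (sup_le h1 h2) h
  obtain ⟨T', π, hπ, w, hw⟩ := imageSubobject_factors_up_to_refinements d z h3
  refine ⟨T', π, hπ, w ≫ biprod.fst, w ≫ biprod.snd, ?_⟩
  rw [hw]
  simp only [d, Category.assoc, ← Preadditive.comp_add]
  congr 1
  ext <;> simp

/-- Exactness of a pushout square, up to refinements. -/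
lemma isPushout_exists_of_comp_eq {X₁ X₂ X₃ X₄ : A} {t : X₁ ⟶ X₂} {l : X₁ ⟶ X₃} {r : X₂ ⟶ X₄}
    {b : X₃ ⟶ X₄} (h : IsPushout t l r b) {T : A} (x₂ : T ⟶ X₂) (x₃ : T ⟶ X₃)
    (w : x₂ ≫ r = x₃ ≫ b) :
    ∃ (T' : A) (π : T' ⟶ T) (_ : Epi π) (x₁ : T' ⟶ X₁), π ≫ x₂ = x₁ ≫ t ∧ π ≫ x₃ = x₁ ≫ l := by
  have hex := h.exact_shortComplex
  have h0 : biprod.lift x₂ (-x₃) ≫ biprod.desc r b = 0 := by
    rw [biprod.lift_desc]
    simp [w]
  obtain ⟨T', π, hπ, (x₁ : T' ⟶ X₁), hx₁⟩ :=
    hex.exact_up_to_refinements (biprod.lift x₂ (-x₃)) h0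
  have hx₁' : π ≫ biprod.lift x₂ (-x₃) = x₁ ≫ biprod.lift t (-l) := hx₁
  refine ⟨T', π, hπ, x₁, ?_, ?_⟩
  · have := congr($hx₁' ≫ biprod.fst)
    simpa using this
  · have := congr($hx₁' ≫ biprod.snd)
    simpa using this

end Groth.Agent.H34
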