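import Groth.Prelude.Def_SpSeq
import Groth.Agent.H34.GenElem

/-!
# Basic API for the category of filtered objects `SpSeq.FilObj A`
-/

set_option autoImplicit false
universe v u

open CategoryTheory CategoryTheory.Limits SpSeq

namespace Groth.Agent.H34

variable {A : Type u} [Category.{v} A] [Abelian A]

namespace FilObj

@[simp] lemma comp_hom {K L M : SpSeq.FilObj A} (f : K ⟶ L) (g : L ⟶ M) :
    (f ≫ g).hom = f.hom ≫ g.hom := rfl

@[simp] lemma id_hom (K : SpSeq.FilObj A) : (𝟙 K : K ⟶ K).hom = 𝟙 K.obj := rfl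

lemma hom_ext {K L : SpSeq.FilObj A} (f g : K ⟶ L) (h : f.hom = g.hom) : f = g :=
  SpSeq.FilObj.Hom.ext h

/-- A morphism of filtered objects maps generalized elements of `F^p` to generalized elements
of `F^p`. -/
lemma hom_factors {K L : SpSeq.FilObj A} (f : K ⟶ L) (p : ℤ) {T : A} (x : T ⟶ K.obj)
    (hx : (K.fil p).Factors x) : (L.fil p).Factors (x ≫ f.hom) :=
  (pullback_factors_iff _ _ _).mp (Subobject.factors_of_le _ (f.compat p) hx)

/-- Constructor for morphisms of filtered objects in terms of `Factors`. -/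
def homMk {K L : SpSeq.FilObj A} (h : K.obj ⟶ L.obj)
    (hc : ∀ p, (L.fil p).Factors ((K.fil p).arrow ≫ h)) : K ⟶ L :=
  ⟨h, fun p => Subobject.le_of_factors ((pullback_factors_iff _ _ _).mpr (hc p))⟩

@[simp] lemma homMk_hom {K L : SpSeq.FilObj A} (h : K.obj ⟶ L.obj)
    (hc : ∀ p, (L.fil p).Factors ((K.fil p).arrow ≫ h)) : (homMk h hc).hom = h := rfl

/-- The discrete filtration (`F^p = ⊥` for all `p`) on an object. -/
noncomputable def botFil (X : A) : SpSeq.FilObj A := ⟨X, fun _ => ⊥, fun _ _ _ => le_rfl⟩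

/-- The trivial filtration (`F^p = ⊤` for all `p`) on an object. -/
noncomputable def topFil (X : A) : SpSeq.FilObj A := ⟨X, fun _ => ⊤, fun _ _ _ => le_rfl⟩

/-- Any morphism out of an object with the discrete filtration is filtered. -/
noncomputable def fromBot {X : A} {L : SpSeq.FilObj A} (h : X ⟶ L.obj) : botFil X ⟶ L :=
  ⟨h, fun _ => bot_le⟩

/-- Any morphism into an object with the trivial filtration is filtered. -/
noncomputable def toTop {K : SpSeq.FilObj A} {X : A} (h : K.obj ⟶ X) : K ⟶ topFil X :=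
  ⟨h, fun _ => by
    change _ ≤ (Subobject.pullback h).obj ⊤
    rw [Subobject.pullback_top]
    exact le_top⟩

end FilObj

/-- The image of `h` is contained in `S` as soon as `h` factors through `S`. -/
lemma imageSubobject_le_of_factors {X Y : A} (h : X ⟶ Y) (S : Subobject Y) (hS : S.Factors h) :
    imageSubobject h ≤ S :=
  imageSubobject_le h (S.factorThru h hS) (S.factorThru_arrow h hS)

end Groth.Agent.H34
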