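import Mathlib.Algebra.Category.ModuleCat.ChangeOfRings
import Mathlib.Algebra.Category.ModuleCat.Monoidal.Basic
import Mathlib.RingTheory.Flat.Basic
import Mathlib.RingTheory.Flat.Stability
import Mathlib.LinearAlgebra.TensorProduct.Tower

/-!
# Flatness along a ring map and extension of scalars
-/

set_option autoImplicit false
universe u
open CategoryTheory MonoidalCategory TensorProduct

namespace Groth.Agent.H34.FlatExt

section Unbundled

variable {R S : Type*} [CommRing R] [CommRing S] [Algebra R S]
  {M M' N : Type*} [AddCommGroup M] [AddCommGroup M'] [AddCommGroup N]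
  [Module R M] [Module R M'] [Module S N] [Module R N] [IsScalarTower R S N]

lemma square (ψ : M →ₗ[R] M') (z : (S ⊗[R] M) ⊗[S] N) :
    AlgebraTensorModule.cancelBaseChange R S S N M'
        (TensorProduct.comm S _ _ (LinearMap.rTensor N (ψ.baseChange S) z)) =
      LinearMap.lTensor N ψ
        (AlgebraTensorModule.cancelBaseChange R S S N M (TensorProduct.comm S _ _ z)) := by
  induction z using TensorProduct.induction_on with
  | zero => simp
  | add a b ha hb => simp only [map_add, ha, hb]
  | tmul p n =>
    induction p using TensorProduct.induction_on with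
    | zero => simp
    | add a b ha hb =>
      rw [add_tmul]
      simp only [map_add, ha, hb]
    | tmul s m => simp

lemma rTensor_baseChange_injective [Module.Flat R N] (ψ : M →ₗ[R] M')
    (hψ : Function.Injective ψ) :
    Function.Injective (LinearMap.rTensor N (ψ.baseChange S)) := by
  intro z₁ z₂ h
  have h1 : Function.Injective (LinearMap.lTensor N ψ) :=
    Module.Flat.lTensor_preserves_injective_linearMap ψ hψ
  have h2 := congrArg (fun t => AlgebraTensorModule.cancelBaseChange R S S N M'
    (TensorProduct.comm S _ _ t)) h
  have h3 := h1 ((square ψ z₁).symm.trans (h2.trans (square ψ z₂)))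
  exact (TensorProduct.comm S _ _).injective
    ((AlgebraTensorModule.cancelBaseChange R S S N M).injective h3)

end Unbundled

section Bundled

variable {R S : Type u} [CommRing R] [CommRing S] (g : R →+* S)

/-- If the `S`-module `N` is flat over `R` through `g : R → S`, then `M ↦ (S ⊗_R M) ⊗_S N`
preserves monomorphisms. -/
lemma mono_extendScalars_whiskerRight (N : ModuleCat.{u} S)
    (hN : Module.Flat R ((ModuleCat.restrictScalars g).obj N))
    {M M' : ModuleCat.{u} R} (φ : M ⟶ M') [Mono φ] :
    Mono ((ModuleCat.extendScalars g).map φ ▷ N) := by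
  rw [ModuleCat.mono_iff_injective]
  letI : Algebra R S := ((algebraMap S S).comp g).toAlgebra
  letI : Module R N := Module.compHom N g
  haveI : IsScalarTower R S N := ⟨fun r s n => mul_smul (g r) s n⟩
  haveI : Module.Flat R N := hN
  exact rTensor_baseChange_injective (N := N) φ.hom
    ((ModuleCat.mono_iff_injective φ).mp inferInstance)

end Bundled

section Transfer

/-- flatness is transported along a ring isomorphism and a semilinear additive isomorphism -/
lemma flat_of_semilinear {R R' M M' : Type*} [CommRing R] [CommRing R'] [AddCommGroup M]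
    [AddCommGroup M'] [Module R M] [Module R' M'] (ρ : R ≃+* R') (θ : M ≃+ M')
    (hθ : ∀ (r : R) (m : M), θ (r • m) = ρ r • θ m) [Module.Flat R M] : Module.Flat R' M' := by
  letI : Algebra R' R := ρ.symm.toRingHom.toAlgebra
  letI : Module R' M := Module.compHom M ρ.symm.toRingHom
  haveI : IsScalarTower R' R M := ⟨fun a b m => mul_smul (ρ.symm a) b m⟩
  haveI : Module.Flat R' R := by
    refine Module.Flat.of_linearEquiv (R := R') (M := R') (N := R)
      { ρ.symm.toAddEquiv.symm with
        map_smul' := fun a b => ?_ }
    show ρ (ρ.symm a * b) = a * ρ b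
    rw [map_mul, RingEquiv.apply_symm_apply]
  haveI : Module.Flat R' M := Module.Flat.trans R' R M
  refine Module.Flat.of_linearEquiv (R := R') (M := M) (N := M')
    { θ.symm with
      map_smul' := fun a m => ?_ }
  show θ.symm (a • m) = ρ.symm a • θ.symm m
  apply θ.injective
  rw [hθ, AddEquiv.apply_symm_apply, AddEquiv.apply_symm_apply, RingEquiv.apply_symm_apply]

end Transfer

end Groth.Agent.H34.FlatExt
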