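import Mathlib
import Groth.Prelude.Def_W4c5qcohlocdualityLoc

universe w v u
open CategoryTheory Limits ZeroObject

namespace Groth.Agent.H34.GabLocW

variable {C : Type u} [Category.{v} C] [Abelian C] (M : C)

/-- every morphism to `M` vanishes -/
def HomZero (Y : C) : Prop := ∀ f : Y ⟶ M, f = 0

/-- every extension of `Y` by `M` splits -/
def ExtZero (Y : C) : Prop :=
  ∀ ⦃N : C⦄ (i : M ⟶ N) (p : N ⟶ Y) (hp : i ≫ p = 0),
    (ShortComplex.mk i p hp).ShortExact → IsSplitMono i

def Good (Y : C) : Prop := HomZero M Y ∧ ExtZero M Y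

/-- the hereditary class: all subobjects are good -/
def W : ObjectProperty C := fun Y => ∀ ⦃Y' : C⦄ (j : Y' ⟶ Y), Mono j → Good M Y'

variable {M}

lemma W.good {Y : C} (h : W M Y) : Good M Y := h (𝟙 Y) inferInstance

lemma W.of_mono {X Y : C} (f : X ⟶ Y) [Mono f] (h : W M Y) : W M X :=
  fun _ j _ => h (j ≫ f) (mono_comp j f)

lemma isClosedFor_iff (P : ObjectProperty C) :
    GabLoc.IsClosedFor P M ↔ ∀ Y, P Y → Good M Y := by
  constructor
  · intro h Y hY
    exact ⟨fun f => h.1 hY f, fun N i p hp hS => h.2 i p hp hY hS⟩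
  · intro h
    exact ⟨fun Y hY f => (h Y hY).1 f, fun N Y i p hp hY hS => (h Y hY).2 i p hp hS⟩

/-- pulling back a short exact sequence -/
lemma shortExact_pullback {N Z N' Z' : C} {i : M ⟶ N} {p : N ⟶ Z} (hp : i ≫ p = 0)
    (hS : (ShortComplex.mk i p hp).ShortExact) {fst : N' ⟶ N} {snd : N' ⟶ Z'} {e : Z' ⟶ Z}
    (sq : IsPullback fst snd p e) (i' : M ⟶ N') (h1 : i' ≫ fst = i) (h2 : i' ≫ snd = 0) :
    (ShortComplex.mk i' snd h2).ShortExact := by
  have hmi : Mono i := hS.mono_f
  have hep : Epi p := hS.epi_g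
  have : Mono i' := mono_of_mono_fac h1
  have : Epi snd := Abelian.epi_snd_of_isLimit p e sq.isLimit
  refine ShortComplex.ShortExact.mk' ?_ ‹_› ‹_›
  apply ShortComplex.exact_of_f_is_kernel
  have key : ∀ {T : C} (x : T ⟶ N'), x ≫ snd = 0 → (x ≫ fst) ≫ p = 0 := by
    intro T x hx
    rw [Category.assoc, sq.w, ← Category.assoc, hx, zero_comp]
  refine KernelFork.IsLimit.ofι _ _ (fun {T} x hx => hS.exact.lift (x ≫ fst) (key x hx)) ?_ ?_
  · intro T x hx
    apply sq.hom_ext
    · rw [Category.assoc, h1]
      exact hS.exact.lift_f _ _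
    · rw [Category.assoc, h2, comp_zero]
      exact hx.symm
  · intro T x hx m hm
    rw [← cancel_mono i]
    have : hS.exact.lift (x ≫ fst) (key x hx) ≫ i = x ≫ fst := hS.exact.lift_f _ _
    rw [this, ← hm, Category.assoc, h1]


/-- quotients of objects of `W` are good -/
lemma good_of_epi {Zt Z : C} (e : Zt ⟶ Z) [Epi e] (h : W M Zt) : Good M Z := by
  refine ⟨fun f => ?_, fun N i p hp hS => ?_⟩
  · rw [← cancel_epi e, comp_zero]
    exact h.good.1 _
  · have hmi : Mono i := hS.mono_f
    have hep : Epi p := hS.epi_g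
    let fst : pullback p e ⟶ N := pullback.fst p e
    let snd : pullback p e ⟶ Zt := pullback.snd p e
    have sq : IsPullback fst snd p e := IsPullback.of_hasPullback p e
    let i' : M ⟶ pullback p e := pullback.lift i 0 (by rw [hp, zero_comp])
    have h1 : i' ≫ fst = i := pullback.lift_fst _ _ _
    have h2 : i' ≫ snd = 0 := pullback.lift_snd _ _ _
    have hS' := shortExact_pullback hp hS sq i' h1 h2
    obtain ⟨⟨⟨r', hr'⟩⟩⟩ := h.good.2 i' snd h2 hS'
    have : Epi fst := by dsimp only [fst]; infer_instance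
    have hk : kernel.ι fst ≫ r' = 0 := by
      have hm : Mono (kernel.ι fst ≫ snd) := by
        constructor
        intro T a b hab
        rw [← cancel_mono (kernel.ι fst)]
        apply sq.hom_ext
        · simp
        · simpa using hab
      exact (h (kernel.ι fst ≫ snd) hm).1 _
    refine IsSplitMono.mk' ⟨Abelian.epiDesc fst r' hk, ?_⟩
    rw [← h1, Category.assoc, Abelian.comp_epiDesc, hr']


/-- good objects are closed under extensions -/
lemma good_of_shortExact {S : ShortComplex C} (hS : S.ShortExact) (h₁ : Good M S.X₁)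
    (h₃ : Good M S.X₃) : Good M S.X₂ := by
  have := hS.mono_f
  have := hS.epi_g
  refine ⟨fun f => ?_, fun N i p hp hE => ?_⟩
  · have h0 : S.f ≫ f = 0 := h₁.1 _
    obtain ⟨f', rfl⟩ : ∃ f', S.g ≫ f' = f := ⟨hS.exact.desc f h0, hS.exact.g_desc f h0⟩
    rw [h₃.1 f', comp_zero]
  · have hmi : Mono i := hE.mono_f
    have hep : Epi p := hE.epi_g
    let fst : pullback p S.f ⟶ N := pullback.fst p S.f
    let snd : pullback p S.f ⟶ S.X₁ := pullback.snd p S.f
    have sq : IsPullback fst snd p S.f := IsPullback.of_hasPullback _ _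
    let i₁ : M ⟶ pullback p S.f := pullback.lift i 0 (by rw [hp, zero_comp])
    have h1 : i₁ ≫ fst = i := pullback.lift_fst _ _ _
    have h2 : i₁ ≫ snd = 0 := pullback.lift_snd _ _ _
    have hS₁ := shortExact_pullback hp hE sq i₁ h1 h2
    obtain ⟨⟨⟨r₁, hr₁⟩⟩⟩ := h₁.2 i₁ snd h2 hS₁
    have : Mono fst := by dsimp only [fst]; infer_instance
    let inl : N ⟶ pushout fst r₁ := pushout.inl _ _
    let inr : M ⟶ pushout fst r₁ := pushout.inr _ _
    have hw : fst ≫ inl = r₁ ≫ inr := pushout.condition
    have : Mono inr := by dsimp only [inr]; infer_instance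
    have hq0 : fst ≫ p ≫ S.g = r₁ ≫ (0 : M ⟶ S.X₃) := by
      rw [comp_zero, ← Category.assoc, sq.w, Category.assoc, S.zero, comp_zero]
    let q : pushout fst r₁ ⟶ S.X₃ := pushout.desc (p ≫ S.g) 0 hq0
    have hq1 : inl ≫ q = p ≫ S.g := pushout.inl_desc _ _ _
    have hq2 : inr ≫ q = 0 := pushout.inr_desc _ _ _
    have hepg : Epi (p ≫ S.g) := epi_comp _ _
    have hS' : (ShortComplex.mk inr q hq2).ShortExact := by
      have : Epi q := by
        have : Epi (inl ≫ q) := by rw [hq1]; exact hepg
        exact epi_of_epi inl q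
      refine ShortComplex.ShortExact.mk' ?_ ‹_› ‹_›
      apply ShortComplex.exact_of_g_is_cokernel
      have hker : ∀ {T : C} (x : pushout fst r₁ ⟶ T), inr ≫ x = 0 →
          kernel.ι (p ≫ S.g) ≫ inl ≫ x = 0 := by
        intro T x hx
        have h3 : (kernel.ι (p ≫ S.g) ≫ p) ≫ S.g = 0 := by
          rw [Category.assoc, kernel.condition]
        let l : kernel (p ≫ S.g) ⟶ pullback p S.f :=
          pullback.lift (kernel.ι _) (hS.exact.lift (kernel.ι (p ≫ S.g) ≫ p) h3)
            (hS.exact.lift_f _ _).symm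
        have hl : l ≫ fst = kernel.ι (p ≫ S.g) := pullback.lift_fst _ _ _
        rw [← hl, Category.assoc, reassoc_of% hw, hx, comp_zero, comp_zero]
      refine CokernelCofork.IsColimit.ofπ _ _
        (fun {T} x hx => Abelian.epiDesc (p ≫ S.g) (inl ≫ x) (hker x hx)) ?_ ?_
      · intro T x hx
        apply pushout.hom_ext
        · change inl ≫ q ≫ _ = inl ≫ x
          rw [reassoc_of% hq1, ← Category.assoc]
          exact Abelian.comp_epiDesc (p ≫ S.g) (inl ≫ x) (hker x hx)
        · change inr ≫ q ≫ _ = inr ≫ x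
          rw [reassoc_of% hq2, zero_comp]
          exact hx.symm
      · intro T x hx m hm
        rw [← cancel_epi (p ≫ S.g), Abelian.comp_epiDesc (p ≫ S.g) (inl ≫ x) (hker x hx), ← hq1,
          Category.assoc]
        exact congrArg (inl ≫ ·) hm
    obtain ⟨⟨⟨r', hr'⟩⟩⟩ := h₃.2 inr q hq2 hS'
    refine IsSplitMono.mk' ⟨inl ≫ r', ?_⟩
    rw [← h1, Category.assoc, reassoc_of% hw, hr', Category.comp_id, hr₁]


lemma good_of_isZero {Y : C} (hY : IsZero Y) : Good M Y := by
  refine ⟨fun f => hY.eq_of_src _ _, fun N i p hp hS => ?_⟩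
  have : IsIso i := hS.isIso_f_iff.2 hY
  infer_instance

lemma W_of_isZero {Y : C} (hY : IsZero Y) : W M Y := by
  intro Y' j hj
  exact good_of_isZero (IsZero.of_mono j hY)

variable (M) in
instance : (W M).ContainsZero where
  exists_zero := ⟨0, isZero_zero C, W_of_isZero (isZero_zero C)⟩

variable (M) in
instance : (W M).IsClosedUnderSubobjects where
  prop_of_mono f _ hY := W.of_mono f hY

variable (M) in
instance : (W M).IsClosedUnderQuotients where
  prop_of_epi {X Y} f _ hX := by
    intro Z j hj
    have : Mono (pullback.snd j f) := inferInstance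
    have : Epi (pullback.fst j f) := inferInstance
    exact good_of_epi (pullback.fst j f) (W.of_mono (pullback.snd j f) hX)

variable (M) in
instance : (W M).IsClosedUnderExtensions where
  prop_X₂_of_shortExact {S} hS h₁ h₃ := by
    intro Z j hj
    have := hS.mono_f
    have := hS.epi_g
    -- Z₁ = kernel (j ≫ S.g), Z₃ = image (j ≫ S.g)
    let a : kernel (j ≫ S.g) ⟶ Z := kernel.ι _
    let b : Z ⟶ Abelian.image (j ≫ S.g) := Abelian.factorThruImage _
    have hb : b ≫ Abelian.image.ι (j ≫ S.g) = j ≫ S.g := Abelian.image.fac _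
    have hab : a ≫ b = 0 := by
      rw [← cancel_mono (Abelian.image.ι (j ≫ S.g)), Category.assoc, hb, zero_comp]
      exact kernel.condition _
    have hT : (ShortComplex.mk a b hab).ShortExact := by
      refine ShortComplex.ShortExact.mk' ?_ (by dsimp only [a]; infer_instance)
        (by dsimp only [b]; infer_instance)
      apply ShortComplex.exact_of_f_is_kernel
      refine KernelFork.IsLimit.ofι _ _
        (fun {T} x hx => kernel.lift (j ≫ S.g) x (by
          change x ≫ b = 0 at hx
          rw [← hb, reassoc_of% hx, zero_comp])) ?_ ?_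
      · intro T x hx
        exact kernel.lift_ι _ _ _
      · intro T x hx m hm
        rw [← cancel_mono (kernel.ι (j ≫ S.g))]
        rw [kernel.lift_ι]
        exact hm
    -- Z₁ ↪ X₁
    have h0 : (a ≫ j) ≫ S.g = 0 := by rw [Category.assoc]; exact kernel.condition _
    let l : kernel (j ≫ S.g) ⟶ S.X₁ := hS.exact.lift (a ≫ j) h0
    have hl : l ≫ S.f = a ≫ j := hS.exact.lift_f _ _
    have : Mono (a ≫ j) := mono_comp _ _
    have : Mono l := mono_of_mono_fac hl
    have g₁ : Good M (kernel (j ≫ S.g)) := h₁ l inferInstance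
    have g₃ : Good M (Abelian.image (j ≫ S.g)) := h₃ (Abelian.image.ι _) inferInstance
    exact good_of_shortExact hT g₁ g₃

variable (M) in
instance : (W M).IsSerreClass where


section Filtered

variable {K : Type w} [SmallCategory K] [IsFiltered K] [HasColimitsOfShape K C]
  [HasExactColimitsOfShape K C]

attribute [local instance] IsFiltered.isConnected

/-- good objects are closed under filtered colimits (AB5) -/
lemma good_of_isColimit {D : K ⥤ C} {c : Cocone D} (hc : IsColimit c)
    (hD : ∀ k, Good M (D.obj k)) : Good M c.pt := by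
  refine ⟨fun f => hc.hom_ext (fun k => by rw [(hD k).1 (c.ι.app k ≫ f), comp_zero]),
    fun N i p hp hS => ?_⟩
  have hmi : Mono i := hS.mono_f
  have hep : Epi p := hS.epi_g
  let cp : (Functor.const K).obj N ⟶ (Functor.const K).obj c.pt := (Functor.const K).map p
  let Q : K ⥤ C := pullback c.ι cp
  let q : Q ⟶ D := pullback.fst c.ι cp
  let b : Q ⟶ (Functor.const K).obj N := pullback.snd c.ι cp
  have hQ : IsColimit (Cocone.mk N b) := hc.pullbackOfHasExactColimitsOfShape p
  have sqF : IsPullback q b c.ι cp := IsPullback.of_hasPullback _ _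
  have sq : ∀ k, IsPullback (b.app k) (q.app k) p (c.ι.app k) := fun k =>
    (sqF.map ((evaluation K C).obj k)).flip
  have hcond : (0 : (Functor.const K).obj M ⟶ D) ≫ c.ι = (Functor.const K).map i ≫ cp := by
    ext k
    simp [cp, hp]
  let iK : (Functor.const K).obj M ⟶ Q := pullback.lift 0 ((Functor.const K).map i) hcond
  have h1 : ∀ k, iK.app k ≫ b.app k = i := fun k => by
    have := congrArg (fun t => t.app k) (pullback.lift_snd (f := c.ι) (g := cp) 0
      ((Functor.const K).map i) hcond)
    simpa using this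
  have h2 : ∀ k, iK.app k ≫ q.app k = 0 := fun k => by
    have := congrArg (fun t => t.app k) (pullback.lift_fst (f := c.ι) (g := cp) 0
      ((Functor.const K).map i) hcond)
    simpa using this
  have hSk : ∀ k, (ShortComplex.mk (iK.app k) (q.app k) (h2 k)).ShortExact := fun k =>
    shortExact_pullback hp hS (sq k) (iK.app k) (h1 k) (h2 k)
  have hsplit : ∀ k, IsSplitMono (iK.app k) := fun k => (hD k).2 _ _ (h2 k) (hSk k)
  let r : ∀ k, Q.obj k ⟶ M := fun k => @retraction _ _ _ _ (iK.app k) (hsplit k)
  have hr : ∀ k, iK.app k ≫ r k = 𝟙 M := fun k => @IsSplitMono.id _ _ _ _ (iK.app k) (hsplit k)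
  have huniq : ∀ k (t : Q.obj k ⟶ M), iK.app k ≫ t = 𝟙 M → t = r k := by
    intro k t ht
    have h0 : iK.app k ≫ (t - r k) = 0 := by rw [Preadditive.comp_sub, ht, hr k, sub_self]
    have h3 := (hSk k).exact.g_desc (t - r k) h0
    dsimp at h3
    rw [(hD k).1 ((hSk k).exact.desc (t - r k) h0), comp_zero] at h3
    exact (sub_eq_zero.1 h3.symm)
  have hnat : ∀ (k k' : K) (u : k ⟶ k'), Q.map u ≫ r k' = r k := by
    intro k k' u
    apply huniq
    have := iK.naturality u
    dsimp at this
    rw [Category.id_comp] at this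
    rw [← Category.assoc, ← this, hr k']
  let rC : Cocone Q := ⟨M, ⟨r, fun k k' u => by
    dsimp
    rw [Category.comp_id]
    exact hnat k k' u⟩⟩
  have hfac : ∀ k, b.app k ≫ hQ.desc rC = r k := fun k => hQ.fac rC k
  obtain ⟨k₀⟩ := (IsFiltered.nonempty : Nonempty K)
  refine IsSplitMono.mk' ⟨hQ.desc rC, ?_⟩
  rw [← h1 k₀, Category.assoc, hfac, hr]


/-- `W M` is closed under filtered colimits (AB5) -/
lemma W_of_isColimit {D : K ⥤ C} {c : Cocone D} (hc : IsColimit c)
    (hD : ∀ k, W M (D.obj k)) : W M c.pt := by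
  intro Z j hj
  let cj : (Functor.const K).obj Z ⟶ (Functor.const K).obj c.pt := (Functor.const K).map j
  let q : pullback c.ι cj ⟶ D := pullback.fst c.ι cj
  let b : pullback c.ι cj ⟶ (Functor.const K).obj Z := pullback.snd c.ι cj
  have hQ : IsColimit (Cocone.mk Z b) := hc.pullbackOfHasExactColimitsOfShape j
  have sqF : IsPullback q b c.ι cj := IsPullback.of_hasPullback _ _
  have sq : ∀ k, IsPullback (q.app k) (b.app k) (c.ι.app k) j := fun k =>
    sqF.map ((evaluation K C).obj k)
  have hmono : ∀ k, Mono (q.app k) := by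
    intro k
    constructor
    intro T a a' h
    apply (sq k).hom_ext h
    rw [← cancel_mono j, Category.assoc, Category.assoc, ← (sq k).w, reassoc_of% h]
  exact good_of_isColimit (c := Cocone.mk Z b) hQ (fun k => hD k (q.app k) (hmono k))

end Filtered


section Coproducts

attribute [local instance] Abelian.hasFiniteBiproducts

variable (M) in
instance : (W M).IsClosedUnderBinaryProducts where
  limitsOfShape_le := by
    rintro X ⟨p⟩
    let e : X ≅ p.diag.obj ⟨WalkingPair.left⟩ ⊞ p.diag.obj ⟨WalkingPair.right⟩ :=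
      IsLimit.conePointsIsoOfNatIso p.isLimit (BinaryBiproduct.isLimit _ _) (diagramIsoPair p.diag)
    exact (W M).prop_of_iso e.symm
      ((W M).prop_biprod (p.prop_diag_obj ⟨WalkingPair.left⟩) (p.prop_diag_obj ⟨WalkingPair.right⟩))

variable (M) in
instance : (W M).IsClosedUnderFiniteProducts := ObjectProperty.IsClosedUnderFiniteProducts.mk'

lemma W_sigma_of_finite {ι : Type*} [Finite ι] (f : ι → C) (h : ∀ i, W M (f i)) : W M (∐ f) := by
  have := Fintype.ofFinite ι
  exact (W M).prop_of_iso ((biproduct.isoCoproduct f).symm ≪≫ biproduct.isoProduct f).symm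
    ((W M).prop_product h)

variable [IsGrothendieckAbelian.{w} C]

variable (M) in
lemma W_isClosedUnderCoproducts (J : Type w) :
    (W M).IsClosedUnderColimitsOfShape (Discrete J) where
  colimitsOfShape_le := by
    rintro X ⟨p⟩
    have : HasColimitsOfShape (Finset (Discrete J)) C := inferInstance
    have : HasExactColimitsOfShape (Finset (Discrete J)) C := inferInstance
    let cc := CoproductsFromFiniteFiltered.liftToFinsetColimitCocone p.diag
    let e : X ≅ cc.cocone.pt := IsColimit.coconePointUniqueUpToIso p.isColimit cc.isColimit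
    refine (W M).prop_of_iso e.symm ?_
    exact W_of_isColimit (K := Finset (Discrete J))
      (colimit.isColimit (CoproductsFromFiniteFiltered.liftToFinsetObj p.diag))
      (fun s => W_sigma_of_finite _ (fun x => p.prop_diag_obj x.1))

variable (M) in
theorem W_isLocalizing : GabLoc.IsLocalizing.{w} (W M) where
  isSerreClass := inferInstance
  isClosedUnderCoproducts := W_isClosedUnderCoproducts M


variable (M) in
lemma isClosedFor_locClosure_of_le_W (P : ObjectProperty C) (hP : P ≤ W M) :
    GabLoc.IsClosedFor (GabLoc.locClosure.{w} P) M := by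
  rw [isClosedFor_iff]
  intro Y hY
  exact (hY (W M) (W_isLocalizing M) hP).good

omit [IsGrothendieckAbelian.{w} C] in
lemma le_W_of_isClosedFor (P : ObjectProperty C) [P.IsClosedUnderSubobjects]
    (h : GabLoc.IsClosedFor P M) : P ≤ W M := by
  rw [isClosedFor_iff] at h
  intro Y hY Y' j hj
  exact h Y' (P.prop_of_mono j hY)

end Coproducts

end Groth.Agent.H34.GabLocW
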