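import Groth.Agent.H34.TruncFinite
import Mathlib.CategoryTheory.Functor.KanExtension.Preserves
import Mathlib.CategoryTheory.Limits.Preserves.Finite

/-!
# Functors preserving finite limits preserve coskeletal simplicial objects (helper34)
-/

universe v v' u u'

open CategoryTheory CategoryTheory.Limits Opposite SimplexCategory Simplicial

namespace Groth.Agent.H34.HyperCosk

variable {E : Type u} [Category.{v} E] {E' : Type u'} [Category.{v'} E']
  (G : E ⥤ E') [PreservesFiniteLimits G] (n : ℕ)

/-- the truncation inclusion, opposite -/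
abbrev Lop : (SimplexCategory.Truncated n)ᵒᵖ ⥤ SimplexCategoryᵒᵖ :=
  (SimplexCategory.Truncated.inclusion n).op

instance preservesLimitsOfShape_structuredArrow (X : SimplexCategoryᵒᵖ) :
    PreservesLimitsOfShape (StructuredArrow X (Lop n)) G :=
  have := finCategoryStructuredArrow X (Lop n)
  PreservesFiniteLimits.preservesFiniteLimits _

variable [HasFiniteLimits E]

instance preservesRKE (T : (SimplexCategory.Truncated n)ᵒᵖ ⥤ E) :
    G.PreservesRightKanExtension T (Lop n) := inferInstance

/-- A functor preserving finite limits preserves `n`-coskeletal simplicial objects. -/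
theorem isCoskeletal_comp (X : SimplicialObject E) [X.IsCoskeletal n] :
    SimplicialObject.IsCoskeletal (((SimplicialObject.whiskering E E').obj G).obj X) n := by
  constructor
  have h := Functor.PreservesRightKanExtension.preserves (G := G) X (𝟙 (Lop n ⋙ X))
  have e : (Functor.associator (Lop n) X G).inv ≫ Functor.whiskerRight (𝟙 (Lop n ⋙ X)) G =
      𝟙 _ := by
    ext; simp
  rw [e] at h
  exact h

section RKE

variable {C₀ D₀ H₀ : Type*} [Category C₀] [Category D₀] [Category H₀]

/-- A morphism between right Kan extensions lying over an isomorphism is an isomorphism. -/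
lemma isIso_of_isRightKanExtension {F₁' F₂' : D₀ ⥤ H₀} {L : C₀ ⥤ D₀} {F₁ F₂ : C₀ ⥤ H₀}
    (α₁ : L ⋙ F₁' ⟶ F₁) (α₂ : L ⋙ F₂' ⟶ F₂) [F₁'.IsRightKanExtension α₁]
    [F₂'.IsRightKanExtension α₂] (φ : F₁' ⟶ F₂') (ψ : F₁ ⟶ F₂) [IsIso ψ]
    (h : Functor.whiskerLeft L φ ≫ α₂ = α₁ ≫ ψ) : IsIso φ := by
  refine ⟨F₁'.liftOfIsRightKanExtension α₁ F₂' (α₂ ≫ inv ψ), ?_, ?_⟩
  · apply Functor.hom_ext_of_isRightKanExtension F₁' α₁
    rw [Functor.whiskerLeft_comp, Category.assoc, Functor.liftOfIsRightKanExtension_fac,
      reassoc_of% h]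
    simp
  · apply Functor.hom_ext_of_isRightKanExtension F₂' α₂
    rw [Functor.whiskerLeft_comp, Category.assoc, h,
      Functor.liftOfIsRightKanExtension_fac_assoc]
    simp

end RKE

section CoskMap

variable {X Y : SimplicialObject E} (u : X ⟶ Y)
  [∀ (F : (SimplexCategory.Truncated n)ᵒᵖ ⥤ E),
    (SimplexCategory.Truncated.inclusion n).op.HasRightKanExtension F]

/-- If `G` inverts `u` in degrees `≤ n`, then `G` inverts `cosk_n u` in all degrees. -/
theorem isIso_map_cosk_map_app
    (hu : ∀ k : ℕ, k ≤ n → IsIso (G.map (u.app (op ⦋k⦌)))) (Δ : SimplexCategoryᵒᵖ) :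
    IsIso (G.map (((SimplicialObject.cosk n).map u).app Δ)) := by
  let tX := (SimplicialObject.truncation n).obj X
  let tY := (SimplicialObject.truncation n).obj Y
  let cX := (SimplicialObject.cosk n).obj X
  let cY := (SimplicialObject.cosk n).obj Y
  let εX : Lop n ⋙ cX ⟶ tX := (SimplicialObject.coskAdj n).counit.app tX
  let εY : Lop n ⋙ cY ⟶ tY := (SimplicialObject.coskAdj n).counit.app tY
  have hX : cX.IsRightKanExtension εX := inferInstance
  have hY : cY.IsRightKanExtension εY := inferInstance
  let αX : Lop n ⋙ (cX ⋙ G) ⟶ tX ⋙ G :=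
    (Functor.associator _ _ _).inv ≫ Functor.whiskerRight εX G
  let αY : Lop n ⋙ (cY ⋙ G) ⟶ tY ⋙ G :=
    (Functor.associator _ _ _).inv ≫ Functor.whiskerRight εY G
  have hX' : (cX ⋙ G).IsRightKanExtension αX :=
    Functor.PreservesRightKanExtension.preserves (G := G) cX εX
  have hY' : (cY ⋙ G).IsRightKanExtension αY :=
    Functor.PreservesRightKanExtension.preserves (G := G) cY εY
  let φ : cX ⋙ G ⟶ cY ⋙ G := Functor.whiskerRight ((SimplicialObject.cosk n).map u) G
  let ψ : tX ⋙ G ⟶ tY ⋙ G := Functor.whiskerRight ((SimplicialObject.truncation n).map u) G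
  have hψ : IsIso ψ := by
    rw [NatTrans.isIso_iff_isIso_app]
    rintro ⟨⟨Δ', hΔ'⟩⟩
    induction Δ' using SimplexCategory.rec with
    | _ k => exact hu k hΔ'
  have hcomm : Functor.whiskerLeft (Lop n) φ ≫ αY = αX ≫ ψ := by
    have nat := (SimplicialObject.coskAdj n).counit.naturality
      ((SimplicialObject.truncation n).map u)
    ext Δ'
    have := congrArg (fun t => G.map (t.app Δ')) nat
    simp only [NatTrans.comp_app, Functor.map_comp] at this
    dsimp [φ, ψ, αX, αY, εX, εY]
    simp only [Category.id_comp]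
    exact this
  have := isIso_of_isRightKanExtension αX αY φ ψ hcomm
  exact inferInstanceAs (IsIso (φ.app Δ))

end CoskMap

end Groth.Agent.H34.HyperCosk
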