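import Groth.Agent.H34.HyperTower
import Groth.Agent.H34.FCYoneda
import Mathlib.CategoryTheory.Sites.SheafCohomology.Cech
import Mathlib.CategoryTheory.Preadditive.Yoneda.Basic
import Mathlib.CategoryTheory.Limits.Shapes.ConcreteCategory

universe u

open CategoryTheory Simplicial Opposite SimplexCategory AlgebraicTopology Limits

namespace Groth.Agent.H34.HyperDict

open HyperSect HyperTower

variable {D : Type u} [SmallCategory D] (J : GrothendieckTopology D)

/-- the adjunction `Z[-]^# ⊣ forget` -/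
noncomputable def adjΦ : Φ J ⊣ sheafToPresheaf J AddCommGrpCat.{u} ⋙
    (Functor.whiskeringRight Dᵒᵖ AddCommGrpCat.{u} (Type u)).obj (forget AddCommGrpCat.{u}) :=
  (Adjunction.whiskerRight Dᵒᵖ AddCommGrpCat.adj.{u}).comp
    (sheafificationAdjunction J AddCommGrpCat.{u})

/-- the universal element -/
noncomputable def uel (Q : Dᵒᵖ ⥤ Type u) {T : Dᵒᵖ} (x : Q.obj T) :
    (((Φ J).obj Q).obj.obj T : AddCommGrpCat.{u}) :=
  ((adjΦ J).unit.app Q).app T x

lemma uel_map (Q : Dᵒᵖ ⥤ Type u) {T T' : Dᵒᵖ} (g : T ⟶ T') (x : Q.obj T) :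
    uel J Q (Q.map g x) = ((Φ J).obj Q).obj.map g (uel J Q x) := by
  have := ((adjΦ J).unit.app Q).naturality g
  exact congrArg (fun (t : Q.obj T ⟶ _) => t x) this

lemma uel_naturality {Q Q' : Dᵒᵖ ⥤ Type u} (f : Q ⟶ Q') {T : Dᵒᵖ} (x : Q.obj T) :
    uel J Q' (f.app T x) = ((Φ J).map f).hom.app T (uel J Q x) := by
  have := (adjΦ J).unit.naturality f
  have := congrArg (fun (t : Q ⟶ _) => t.app T x) this
  exact this

variable (I' : Sheaf J AddCommGrpCat.{u})

/-- evaluation at an element -/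
noncomputable def evx (Q : Dᵒᵖ ⥤ Type u) {T : Dᵒᵖ} (x : Q.obj T) :
    ((Φ J).obj Q ⟶ I') →+ (I'.obj.obj T : AddCommGrpCat.{u}) where
  toFun φ := φ.hom.app T (uel J Q x)
  map_zero' := by
    rfl
  map_add' φ ψ := by
    rfl

lemma evx_apply (Q : Dᵒᵖ ⥤ Type u) {T : Dᵒᵖ} (x : Q.obj T) (φ : (Φ J).obj Q ⟶ I') :
    evx J I' Q x φ = φ.hom.app T (uel J Q x) := rfl

lemma evx_precomp {Q Q' : Dᵒᵖ ⥤ Type u} (f : Q ⟶ Q') {T : Dᵒᵖ} (x : Q.obj T)
    (φ : (Φ J).obj Q' ⟶ I') :
    evx J I' Q x ((Φ J).map f ≫ φ) = evx J I' Q' (f.app T x) φ := by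
  rw [evx_apply, evx_apply, uel_naturality]
  rfl

lemma evx_map (Q : Dᵒᵖ ⥤ Type u) {T T' : Dᵒᵖ} (g : T ⟶ T') (x : Q.obj T)
    (φ : (Φ J).obj Q ⟶ I') :
    evx J I' Q (Q.map g x) φ = I'.obj.map g (evx J I' Q x φ) := by
  rw [evx_apply, evx_apply, uel_map]
  have := φ.hom.naturality g
  exact congrArg (fun t => (ConcreteCategory.hom t) (uel J Q x)) this

lemma homEquiv_app (Q : Dᵒᵖ ⥤ Type u) (φ : (Φ J).obj Q ⟶ I') {T : Dᵒᵖ} (x : Q.obj T) :
    ((adjΦ J).homEquiv Q I' φ).app T x = evx J I' Q x φ := by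
  rw [Adjunction.homEquiv_unit]
  rfl

section Elements

open FCYoneda

/-- the canonical elements of `F X'` -/
noncomputable def xel (X' : FormalCoproduct.{u} D) (i : X'.I) :
    ((FormalCoproduct.yoneda (C := D)).obj X').obj (op (X'.obj i)) :=
  (Sigma.ι (fun i : X'.I => yoneda.obj (X'.obj i)) i).app (op (X'.obj i)) (𝟙 _)

lemma xel_map {X' X'' : FormalCoproduct.{u} D} (f : X' ⟶ X'') (i : X'.I) :
    ((FormalCoproduct.yoneda (C := D)).map f).app _ (xel X' i) =
      ((FormalCoproduct.yoneda (C := D)).obj X'').map (f.φ i).op (xel X'' (f.f i)) := by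
  have h1 := ι_yoneda_map f i
  have h2 := congrArg (fun (t : yoneda.obj (X'.obj i) ⟶ _) => t.app (op (X'.obj i)) (𝟙 _)) h1
  have h3 := (Sigma.ι (fun j : X''.I => yoneda.obj (X''.obj j)) (f.f i)).naturality (f.φ i).op
  have h4 := congrArg (fun (t : (yoneda.obj (X''.obj (f.f i))).obj (op (X''.obj (f.f i))) ⟶ _) =>
    t (𝟙 _)) h3
  refine h2.trans (Eq.trans ?_ h4)
  change (Sigma.ι (fun j : X''.I => yoneda.obj (X''.obj j)) (f.f i)).app _ (𝟙 _ ≫ f.φ i) =
    (Sigma.ι (fun j : X''.I => yoneda.obj (X''.obj j)) (f.f i)).app _ (f.φ i ≫ 𝟙 _)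
  rw [Category.id_comp, Category.comp_id]

lemma bijective_eval (X' : FormalCoproduct.{u} D) (R : Dᵒᵖ ⥤ Type u) :
    Function.Bijective (fun (ψ : (FormalCoproduct.yoneda (C := D)).obj X' ⟶ R) (i : X'.I) =>
      ψ.app _ (xel X' i)) := by
  constructor
  · intro ψ ψ' h
    apply Sigma.hom_ext
    intro i
    apply yonedaEquiv.injective
    exact congrFun h i
  · intro r
    refine ⟨Sigma.desc (fun i => yonedaEquiv.symm (r i)), ?_⟩
    funext i
    have h := Sigma.ι_desc (fun i => yonedaEquiv.symm (r i)) i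
    have h2 := congrArg (fun (t : yoneda.obj (X'.obj i) ⟶ R) => yonedaEquiv t) h
    simp only [Equiv.apply_symm_apply] at h2
    exact h2

end Elements

section Tau

/-- `X' ↦ Hom(Z[F X']^#, I')` -/
noncomputable abbrev G₁ : (FormalCoproduct.{u} D)ᵒᵖ ⥤ AddCommGrpCat.{u} :=
  (FormalCoproduct.yoneda (C := D) ⋙ Φ J).op ⋙ preadditiveYoneda.obj I'

/-- `X' ↦ ∏ I'(X'_i)` -/
noncomputable abbrev G₂ : (FormalCoproduct.{u} D)ᵒᵖ ⥤ AddCommGrpCat.{u} :=
  (FormalCoproduct.evalOp.{u} D AddCommGrpCat.{u}).obj I'.obj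

/-- the components of the comparison -/
noncomputable def τapp (X' : FormalCoproduct.{u} D) :
    (G₁ J I').obj (op X') ⟶ (G₂ J I').obj (op X') :=
  Pi.lift (fun i : X'.I => AddCommGrpCat.ofHom
    (evx J I' ((FormalCoproduct.yoneda (C := D)).obj X') (xel X' i)))

lemma τapp_π (X' : FormalCoproduct.{u} D) (i : X'.I)
    (φ : (Φ J).obj ((FormalCoproduct.yoneda (C := D)).obj X') ⟶ I') :
    (Pi.π (fun i : X'.I => I'.obj.obj (op (X'.obj i))) i) ((τapp J I' X') φ) =
      evx J I' ((FormalCoproduct.yoneda (C := D)).obj X') (xel X' i) φ := by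
  have := Pi.lift_π (fun i : X'.I => AddCommGrpCat.ofHom
    (evx J I' ((FormalCoproduct.yoneda (C := D)).obj X') (xel X' i))) i
  exact congrArg (fun t => (ConcreteCategory.hom t) φ) this

lemma bijective_τapp (X' : FormalCoproduct.{u} D) :
    Function.Bijective (τapp J I' X') := by
  let e := Concrete.productEquiv (fun i : X'.I => I'.obj.obj (op (X'.obj i)))
  have key : (e ∘ (τapp J I' X') : _ → _) =
      (fun (ψ : (FormalCoproduct.yoneda (C := D)).obj X' ⟶ _) (i : X'.I) =>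
        ψ.app _ (xel X' i)) ∘ ((adjΦ J).homEquiv _ I') := by
    funext φ i
    simp only [Function.comp_apply]
    rw [homEquiv_app]
    exact (Concrete.productEquiv_apply_apply _ _ _).trans (τapp_π J I' X' i φ)
  have h2 : Function.Bijective (e ∘ (τapp J I' X') : _ → _) := by
    rw [key]
    exact (bijective_eval X' _).comp ((adjΦ J).homEquiv _ I').bijective
  exact (Function.Bijective.of_comp_iff' e.bijective _).1 h2

/-- the comparison natural transformation -/
noncomputable def τ : G₁ J I' ⟶ G₂ J I' where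
  app X' := τapp J I' X'.unop
  naturality := by
    rintro ⟨X''⟩ ⟨X'⟩ ⟨f⟩
    change X' ⟶ X'' at f
    apply Pi.hom_ext
    intro i
    apply ConcreteCategory.hom_ext
    intro φ
    have h1 : (ConcreteCategory.hom ((G₁ J I').map f.op ≫ τapp J I' X' ≫
        Pi.π (fun i : X'.I => I'.obj.obj (op (X'.obj i))) i)) φ =
        evx J I' _ (xel X' i) ((Φ J).map ((FormalCoproduct.yoneda (C := D)).map f) ≫ φ) :=
      τapp_π J I' X' i _
    have h2 : (ConcreteCategory.hom (τapp J I' X'' ≫ (G₂ J I').map f.op ≫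
        Pi.π (fun i : X'.I => I'.obj.obj (op (X'.obj i))) i)) φ =
        I'.obj.map (f.φ i).op (evx J I' _ (xel X'' (f.f i)) φ) := by
      have : (G₂ J I').map f.op ≫ Pi.π (fun i : X'.I => I'.obj.obj (op (X'.obj i))) i =
          Pi.π (fun j : X''.I => I'.obj.obj (op (X''.obj j))) (f.f i) ≫ I'.obj.map (f.φ i).op := by
        simp only [G₂, FormalCoproduct.evalOp_obj_map]
        exact Pi.lift_π _ i
      rw [this]
      have h3 := τapp_π J I' X'' (f.f i) φ
      exact congrArg (fun t => (ConcreteCategory.hom (I'.obj.map (f.φ i).op)) t) h3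
    refine h1.trans (Eq.trans ?_ h2.symm)
    rw [evx_precomp, xel_map, evx_map]

instance (X' : (FormalCoproduct.{u} D)ᵒᵖ) : IsIso ((τ J I').app X') := by
  rw [ConcreteCategory.isIso_iff_bijective]
  exact bijective_τapp J I' X'.unop

instance : IsIso (τ J I') := NatIso.isIso_of_isIso_app _

end Tau

end Groth.Agent.H34.HyperDict
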