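import Groth.Agent.H34.HyperTower

universe u

open CategoryTheory Simplicial Opposite SimplexCategory AlgebraicTopology Limits

namespace Groth.Agent.H34.HyperTower

open HyperSect HyperSh

variable {C : Type u} [SmallCategory C] (J : GrothendieckTopology C)
  (Y : SimplicialObject (Cᵒᵖ ⥤ Type u))

lemma exists_σ_δ (n : ℕ) (i : Fin (n + 2)) : ∃ j : Fin (n + 1), Y.σ j ≫ Y.δ i = 𝟙 _ := by
  by_cases h : i = Fin.last (n + 1)
  · refine ⟨Fin.last n, ?_⟩
    subst h
    exact Y.δ_comp_σ_succ (i := Fin.last n)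
  · refine ⟨i.castPred h, ?_⟩
    have := Y.δ_comp_σ_self (i := i.castPred h)
    rwa [Fin.castSucc_castPred] at this

theorem isLocallySurjective_δ
    (hY : ∀ m : ℕ, Presheaf.IsLocallySurjective J
      (((SimplicialObject.coskAdj m).unit.app Y).app (op ⦋m + 1⦌))) (n : ℕ) (i : Fin (n + 2)) :
    Presheaf.IsLocallySurjective J (Y.δ i) := by
  let η := (SimplicialObject.coskAdj n).unit.app Y
  let cY := (SimplicialObject.cosk n).obj Y
  have hn : IsIso (η.app (op ⦋n⦌)) := isIso_unit_app_app n Y n le_rfl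
  have nat : Y.δ i ≫ η.app (op ⦋n⦌) = η.app (op ⦋n + 1⦌) ≫ cY.δ i := η.naturality _
  obtain ⟨j, hj⟩ := exists_σ_δ Y n i
  let sec : cY.obj (op ⦋n⦌) ⟶ cY.obj (op ⦋n + 1⦌) :=
    inv (η.app (op ⦋n⦌)) ≫ Y.σ j ≫ η.app (op ⦋n + 1⦌)
  have hsec : sec ≫ cY.δ i = 𝟙 _ := by
    simp only [sec, Category.assoc]
    rw [← nat, reassoc_of% hj, IsIso.inv_hom_id]
  have hsurj : Presheaf.IsLocallySurjective J (cY.δ i) := by
    apply Presheaf.isLocallySurjective_of_surjective
    intro V b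
    refine ⟨(sec.app V) b, ?_⟩
    have := congrArg (fun (t : cY.obj (op ⦋n⦌) ⟶ cY.obj (op ⦋n⦌)) => t.app V b) hsec
    exact this
  have e : Y.δ i = (η.app (op ⦋n + 1⦌) ≫ cY.δ i) ≫ inv (η.app (op ⦋n⦌)) := by
    rw [← nat, Category.assoc, IsIso.hom_inv_id, Category.comp_id]
  rw [e]
  have := hY n
  infer_instance

/-- the map to the terminal presheaf -/
def toP₀ (Q : Cᵒᵖ ⥤ Type u) : Q ⟶ P₀ (C := C) where
  app V := ↾(fun _ => PUnit.unit)

theorem isLocallySurjective_to_P₀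
    (h0 : ∀ φ : Y.obj (op ⦋0⦌) ⟶ P₀ (C := C), Presheaf.IsLocallySurjective J φ)
    (hY : ∀ m : ℕ, Presheaf.IsLocallySurjective J
      (((SimplicialObject.coskAdj m).unit.app Y).app (op ⦋m + 1⦌))) (n : ℕ)
    (φ : Y.obj (op ⦋n⦌) ⟶ P₀ (C := C)) : Presheaf.IsLocallySurjective J φ := by
  induction n with
  | zero => exact h0 φ
  | succ n ih =>
    have e : φ = Y.δ (0 : Fin (n + 2)) ≫ toP₀ _ := P₀_hom_ext _ _
    rw [e]
    have := isLocallySurjective_δ J Y hY n 0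
    have := ih (toP₀ _)
    infer_instance

end Groth.Agent.H34.HyperTower
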