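import Mathlib.CategoryTheory.Subfunctor.Image
import Mathlib.AlgebraicTopology.SimplicialObject.Basic

/-!
# Levelwise image of a morphism of simplicial presheaves (helper34)
-/

universe w v u

open CategoryTheory Opposite

namespace Groth.Agent.H34.HyperImg

variable {D : Type u} [Category.{v} D] {L K : SimplicialObject (D ⥤ Type w)} (f : L ⟶ K)

lemma range_le {Δ Δ' : SimplexCategoryᵒᵖ} (θ : Δ ⟶ Δ') :
    Subfunctor.range ((Subfunctor.range (f.app Δ)).ι ≫ K.map θ) ≤ Subfunctor.range (f.app Δ') := by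
  rintro V _ ⟨⟨_, ⟨y, rfl⟩⟩, rfl⟩
  refine ⟨(L.map θ).app V y, ?_⟩
  exact congrArg (fun t => t.app V y) (f.naturality θ)

/-- the structure maps of the image -/
def imgMap {Δ Δ' : SimplexCategoryᵒᵖ} (θ : Δ ⟶ Δ') :
    (Subfunctor.range (f.app Δ)).toFunctor ⟶ (Subfunctor.range (f.app Δ')).toFunctor :=
  Subfunctor.lift ((Subfunctor.range (f.app Δ)).ι ≫ K.map θ) (range_le f θ)

@[reassoc (attr := simp)]
lemma imgMap_ι {Δ Δ' : SimplexCategoryᵒᵖ} (θ : Δ ⟶ Δ') :
    imgMap f θ ≫ (Subfunctor.range (f.app Δ')).ι = (Subfunctor.range (f.app Δ)).ι ≫ K.map θ :=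
  Subfunctor.lift_ι _ _

/-- the levelwise image of `f` -/
def img : SimplicialObject (D ⥤ Type w) where
  obj Δ := (Subfunctor.range (f.app Δ)).toFunctor
  map θ := imgMap f θ
  map_id Δ := by
    rw [← cancel_mono (Subfunctor.range (f.app Δ)).ι, imgMap_ι]
    simp
  map_comp θ θ' := by
    rw [← cancel_mono (Subfunctor.range (f.app _)).ι, imgMap_ι, Category.assoc,
      imgMap_ι, imgMap_ι_assoc]
    simp

/-- the inclusion of the image -/
def imgι : img f ⟶ K where
  app Δ := (Subfunctor.range (f.app Δ)).ι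
  naturality _ _ θ := imgMap_ι f θ

/-- the projection to the image -/
def toImg : L ⟶ img f where
  app Δ := Subfunctor.toRange (f.app Δ)
  naturality Δ Δ' θ := by
    change L.map θ ≫ Subfunctor.toRange (f.app Δ') = Subfunctor.toRange (f.app Δ) ≫ imgMap f θ
    rw [← cancel_mono (Subfunctor.range (f.app _)).ι]
    rw [Category.assoc, Category.assoc, imgMap_ι, Subfunctor.toRange_ι,
      Subfunctor.toRange_ι_assoc]
    exact f.naturality θ

@[reassoc (attr := simp)]
lemma toImg_imgι : toImg f ≫ imgι f = f := by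
  apply NatTrans.ext
  funext Δ
  exact Subfunctor.toRange_ι (f.app Δ)

lemma toImg_app_surjective (Δ : SimplexCategoryᵒᵖ) (V : D) :
    Function.Surjective (((toImg f).app Δ).app V) := by
  rintro ⟨_, ⟨y, rfl⟩⟩
  refine ⟨y, ?_⟩
  exact Subtype.ext (by rfl)

lemma imgι_app_injective (Δ : SimplexCategoryᵒᵖ) (V : D) :
    Function.Injective (((imgι f).app Δ).app V) := by
  intro a b h
  apply Subtype.ext
  exact h

lemma range_imgι_app (Δ : SimplexCategoryᵒᵖ) (V : D) :
    Set.range (((imgι f).app Δ).app V) = Set.range ((f.app Δ).app V) := by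
  ext x
  constructor
  · rintro ⟨⟨y, hy⟩, rfl⟩
    exact hy
  · intro hx
    exact ⟨⟨x, hx⟩, by rfl⟩

end Groth.Agent.H34.HyperImg
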