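import Mathlib.AlgebraicTopology.SimplicialSet.CategoryWithFibrations
import Mathlib.AlgebraicTopology.SimplicialObject.Coskeletal

/-!
# Coskeletal simplicial sets: a map which is bijective below `n` and surjective in degree `n`
between `n`-coskeletal simplicial sets is a trivial Kan fibration (helper34)
-/

universe u

open CategoryTheory Simplicial Opposite SSet SimplexCategory

namespace Groth.Agent.H34.HyperKan

variable (n : ℕ)

/-- the truncation inclusion, opposite -/
abbrev Lop : (SimplexCategory.Truncated n)ᵒᵖ ⥤ SimplexCategoryᵒᵖ :=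
  (SimplexCategory.Truncated.inclusion n).op

lemma isIso_whiskerLeft_boundary (m : ℕ) (hm : n < m) :
    IsIso (Functor.whiskerLeft (Lop n) (∂Δ[m] : (Δ[m] : SSet.{u}).Subcomplex).ι) := by
  rw [NatTrans.isIso_iff_isIso_app]
  rintro ⟨⟨Δ, hΔ⟩⟩
  rw [isIso_iff_bijective]
  induction Δ using SimplexCategory.rec with
  | _ k =>
    have hk : k < m := by
      have : (⦋k⦌ : SimplexCategory).len = k := rfl
      have h' : (⦋k⦌ : SimplexCategory).len ≤ n := hΔ
      omega
    constructor
    · intro x y h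
      exact Subtype.ext h
    · intro y
      have := boundary_obj_eq_univ.{u} k m hk
      have hy : y ∈ (∂Δ[m] : (Δ[m] : SSet.{u}).Subcomplex).obj (op ⦋k⦌) := by
        rw [this]; trivial
      exact ⟨⟨y, hy⟩, rfl⟩

lemma bijective_restrict_boundary (X : SSet.{u}) [SimplicialObject.IsCoskeletal X n] (m : ℕ)
    (hm : n < m) :
    Function.Bijective (fun φ : Δ[m] ⟶ X => (∂Δ[m] : (Δ[m] : SSet.{u}).Subcomplex).ι ≫ φ) := by
  have := isIso_whiskerLeft_boundary.{u} n m hm
  let e₁ := Functor.homEquivOfIsRightKanExtension X (𝟙 (Lop n ⋙ X)) (Δ[m] : SSet.{u})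
  let e₂ := Functor.homEquivOfIsRightKanExtension X (𝟙 (Lop n ⋙ X))
    ((∂Δ[m] : (Δ[m] : SSet.{u}).Subcomplex) : SSet.{u})
  let w := Functor.whiskerLeft (Lop n) (∂Δ[m] : (Δ[m] : SSet.{u}).Subcomplex).ι
  have key : (fun φ : Δ[m] ⟶ X => (∂Δ[m] : (Δ[m] : SSet.{u}).Subcomplex).ι ≫ φ) =
      e₂.symm ∘ (fun ψ => w ≫ ψ) ∘ e₁ := by
    funext φ
    apply e₂.injective
    simp only [Function.comp_apply, Equiv.apply_symm_apply]
    ext
    simp [e₁, e₂, w]
  rw [key]
  refine e₂.symm.bijective.comp (Function.Bijective.comp ?_ e₁.bijective)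
  constructor
  · intro a b h
    exact (cancel_epi w).mp h
  · intro b
    exact ⟨inv w ≫ b, by simp⟩

variable {n} {A B : SSet.{u}} (p : A ⟶ B)

lemma hom_ext_of_injective {k : ℕ} (hk : Function.Injective (p.app (op ⦋k⦌)))
    {φ ψ : Δ[k] ⟶ A} (h : φ ≫ p = ψ ≫ p) : φ = ψ := by
  apply yonedaEquiv.injective
  apply hk
  have h1 := congrArg yonedaEquiv h
  rwa [yonedaEquiv_comp, yonedaEquiv_comp] at h1

lemma exists_lift_of_surjective {k : ℕ} (hk : Function.Surjective (p.app (op ⦋k⦌)))
    (b : Δ[k] ⟶ B) : ∃ l : Δ[k] ⟶ A, l ≫ p = b := by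
  obtain ⟨x, hx⟩ := hk (yonedaEquiv b)
  refine ⟨yonedaEquiv.symm x, ?_⟩
  apply yonedaEquiv.injective
  rw [yonedaEquiv_comp, Equiv.apply_symm_apply, hx]

theorem rlp_I [SimplicialObject.IsCoskeletal A n] [SimplicialObject.IsCoskeletal B n]
    (h1 : ∀ k < n, Function.Bijective (p.app (op ⦋k⦌)))
    (h2 : Function.Surjective (p.app (op ⦋n⦌))) :
    SSet.modelCategoryQuillen.I.rlp p := by
  intro X Y i hi
  obtain ⟨m⟩ := hi
  constructor
  intro t b sq
  by_cases hm : n < m
  · obtain ⟨l, hl⟩ := (bijective_restrict_boundary n A m hm).2 t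
    dsimp only at hl
    refine ⟨⟨{ l := l, fac_left := hl, fac_right := ?_ }⟩⟩
    apply (bijective_restrict_boundary n B m hm).1
    dsimp only
    rw [← Category.assoc, hl, sq.w]
  · have hsurj : Function.Surjective (p.app (op ⦋m⦌)) := by
      rcases Nat.lt_or_ge m n with h | h
      · exact (h1 m h).2
      · have : m = n := by omega
        subst this; exact h2
    obtain ⟨l, hl⟩ := exists_lift_of_surjective p hsurj b
    refine ⟨⟨{ l := l, fac_left := ?_, fac_right := hl }⟩⟩
    cases m with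
    | zero => exact boundary.hom_ext₀
    | succ m' =>
      apply boundary.hom_ext
      intro j
      apply hom_ext_of_injective p (h1 m' (by omega)).1
      simp only [Category.assoc]
      rw [hl, sq.w]

end Groth.Agent.H34.HyperKan
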