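import Groth.Agent.H34.HyperKan
import Groth.Agent.H34.CoskHomotopy
import Mathlib.AlgebraicTopology.SimplicialObject.ChainHomotopy

universe u

open CategoryTheory Simplicial Opposite SSet SimplexCategory

namespace Groth.Agent.H34.HyperKan

variable {n : ℕ} {A B : SSet.{u}} (p : A ⟶ B)

theorem exists_section (hp : SSet.modelCategoryQuillen.I.rlp p) : ∃ s : B ⟶ A, s ≫ p = 𝟙 B := by
  rw [← rlp_monomorphisms] at hp
  have hl : HasLiftingProperty (⊥ : B.Subcomplex).ι p := hp _ (MorphismProperty.monomorphisms.infer_property _)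
  have sq : CommSq (SSet.Subcomplex.isInitialBot.to A) (⊥ : B.Subcomplex).ι p (𝟙 B) :=
    ⟨SSet.Subcomplex.isInitialBot.hom_ext _ _⟩
  exact ⟨sq.lift, sq.fac_right⟩

section

variable [∀ (F : (SimplexCategory.Truncated n)ᵒᵖ ⥤ Type u),
    (SimplexCategory.Truncated.inclusion n).op.HasRightKanExtension F]

/-- two endomorphisms of a coskeletal simplicial set agreeing below `n` are homotopic -/
theorem nonempty_homotopy_of_coskeletal [SimplicialObject.IsCoskeletal A n] (f g : A ⟶ A)
    (hfg : ∀ k : ℕ, k < n → f.app (op ⦋k⦌) = g.app (op ⦋k⦌)) :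
    Nonempty (SimplicialObject.Homotopy f g) := by
  let η := (SimplicialObject.coskAdj n).unit.app A
  have hη : IsIso η := inferInstance
  have H := Groth.Agent.H34.CoskHtpy.coskHomotopy f g hfg
  have H' := (H.precomp η).postcomp (inv η)
  have e1 : η ≫ (SimplicialObject.cosk n).map f ≫ inv η = f := by
    have := (SimplicialObject.coskAdj n).unit.naturality f
    rw [← Category.assoc]
    rw [IsIso.comp_inv_eq]
    exact this.symm
  have e2 : η ≫ (SimplicialObject.cosk n).map g ≫ inv η = g := by
    have := (SimplicialObject.coskAdj n).unit.naturality g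
    rw [← Category.assoc]
    rw [IsIso.comp_inv_eq]
    exact this.symm
  simp only [Category.assoc] at H'
  rw [e1, e2] at H'
  exact ⟨H'⟩

end

end Groth.Agent.H34.HyperKan
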