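import Groth.Agent.H34.HyperKan2
import Groth.Agent.H34.HyperCosk
import Mathlib.Algebra.Homology.Functor
import Mathlib.Algebra.Homology.QuasiIso
import Mathlib.AlgebraicTopology.AlternatingFaceMapComplex
import Mathlib.Algebra.Category.Grp.Adjunctions
import Mathlib.Algebra.Category.Grp.Abelian

universe u

open CategoryTheory Simplicial Opposite SimplexCategory AlgebraicTopology

namespace Groth.Agent.H34.HyperSect

/-- a simplicial homotopy equivalence of simplicial sets (with strict section) induces a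
quasi-isomorphism on free chain complexes. -/
theorem quasiIso_free_of_section {A B : SSet.{u}} (p : A ⟶ B) (s : B ⟶ A) (hs : s ≫ p = 𝟙 B)
    (H : SimplicialObject.Homotopy (p ≫ s) (𝟙 A)) :
    QuasiIso ((alternatingFaceMapComplex AddCommGrpCat.{u}).map
      (((SimplicialObject.whiskering _ _).obj AddCommGrpCat.free.{u}).map p)) := by
  let W := (SimplicialObject.whiskering (Type u) AddCommGrpCat.{u}).obj AddCommGrpCat.free.{u}
  let Φ := W ⋙ alternatingFaceMapComplex AddCommGrpCat.{u}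
  have H' := (H.whiskerRight AddCommGrpCat.free.{u}).toChainHomotopy
  let e : HomotopyEquiv (Φ.obj A) (Φ.obj B) :=
    { hom := Φ.map p
      inv := Φ.map s
      homotopyHomInvId := (Homotopy.ofEq (Φ.map_comp p s).symm).trans (H'.trans (Homotopy.ofEq (Φ.map_id A)))
      homotopyInvHomId := Homotopy.ofEq (by rw [← Φ.map_comp, hs, Φ.map_id]) }
  exact e.quasiIso_hom

end Groth.Agent.H34.HyperSect

namespace Groth.Agent.H34.HyperSect

section Transfer

variable {𝒜 ℬ : Type*} [Category 𝒜] [Category ℬ] [Abelian 𝒜] [Abelian ℬ]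
  (F : 𝒜 ⥤ ℬ) [F.Additive]

lemma quasiIso_afmc_whiskerRight_iff {X Y : SimplicialObject 𝒜} (φ : X ⟶ Y) :
    QuasiIso ((alternatingFaceMapComplex ℬ).map (Functor.whiskerRight φ F)) ↔
      QuasiIso ((F.mapHomologicalComplex _).map ((alternatingFaceMapComplex 𝒜).map φ)) := by
  have h := Functor.congr_hom (map_alternatingFaceMapComplex F) φ
  simp only [Functor.comp_map] at h
  rw [h, quasiIso_iff_comp_left, quasiIso_iff_comp_right]
  rfl

end Transfer


section Presheaf

variable {C : Type u} [SmallCategory C]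

/-- the free abelian presheaf functor -/
abbrev Zp : (Cᵒᵖ ⥤ Type u) ⥤ (Cᵒᵖ ⥤ AddCommGrpCat.{u}) :=
  (Functor.whiskeringRight Cᵒᵖ (Type u) AddCommGrpCat.{u}).obj AddCommGrpCat.free.{u}

theorem quasiIso_Zp_of_evaluation {A B : SimplicialObject (Cᵒᵖ ⥤ Type u)} (g : A ⟶ B)
    (hg : ∀ V : Cᵒᵖ, QuasiIso ((alternatingFaceMapComplex AddCommGrpCat.{u}).map
      (Functor.whiskerRight (Functor.whiskerRight g ((evaluation Cᵒᵖ (Type u)).obj V))
        AddCommGrpCat.free.{u}))) :
    QuasiIso ((alternatingFaceMapComplex (Cᵒᵖ ⥤ AddCommGrpCat.{u})).map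
      (Functor.whiskerRight g (Zp (C := C)))) := by
  rw [HomologicalComplex.quasiIso_iff_evaluation]
  intro V
  rw [← quasiIso_afmc_whiskerRight_iff]
  exact hg V


theorem quasiIso_Zp_of_coskeletal {A B : SimplicialObject (Cᵒᵖ ⥤ Type u)} (g : A ⟶ B) (n : ℕ)
    [A.IsCoskeletal n] [B.IsCoskeletal n]
    (h1 : ∀ k < n, ∀ V : Cᵒᵖ, Function.Bijective ((g.app (op ⦋k⦌)).app V))
    (h2 : ∀ V : Cᵒᵖ, Function.Surjective ((g.app (op ⦋n⦌)).app V)) :
    QuasiIso ((alternatingFaceMapComplex (Cᵒᵖ ⥤ AddCommGrpCat.{u})).map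
      (Functor.whiskerRight g (Zp (C := C)))) := by
  apply quasiIso_Zp_of_evaluation
  intro V
  let ev : (Cᵒᵖ ⥤ Type u) ⥤ Type u := (evaluation Cᵒᵖ (Type u)).obj V
  let A' : SSet.{u} := ((SimplicialObject.whiskering _ _).obj ev).obj A
  let B' : SSet.{u} := ((SimplicialObject.whiskering _ _).obj ev).obj B
  let p : A' ⟶ B' := Functor.whiskerRight g ev
  have hA : SimplicialObject.IsCoskeletal A' n := HyperCosk.isCoskeletal_comp ev n A
  have hB : SimplicialObject.IsCoskeletal B' n := HyperCosk.isCoskeletal_comp ev n B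
  have hp : SSet.modelCategoryQuillen.I.rlp p :=
    HyperKan.rlp_I p (fun k hk => h1 k hk V) (h2 V)
  obtain ⟨s, hs⟩ := HyperKan.exists_section p hp
  have hfg : ∀ k : ℕ, k < n → (p ≫ s).app (op ⦋k⦌) = (𝟙 A' : A' ⟶ A').app (op ⦋k⦌) := by
    intro k hk
    have hmono : Mono (p.app (op ⦋k⦌)) := (mono_iff_injective _).2 (h1 k hk V).1
    rw [← cancel_mono (p.app (op ⦋k⦌))]
    rw [← NatTrans.comp_app, ← NatTrans.comp_app, Category.assoc, hs]
    simp
  obtain ⟨H⟩ := HyperKan.nonempty_homotopy_of_coskeletal (n := n) (p ≫ s) (𝟙 A') hfg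
  exact quasiIso_free_of_section p s hs H

end Presheaf

end Groth.Agent.H34.HyperSect
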