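import Groth.Agent.H34.HyperSect
import Groth.Agent.H34.HyperImg
import Mathlib.CategoryTheory.Sites.Abelian
import Groth.Prelude.Def_Hyper
import Mathlib.CategoryTheory.Sites.LeftExact
import Mathlib.CategoryTheory.Sites.LocallyBijective
import Mathlib.CategoryTheory.Sites.Localization

universe u

open CategoryTheory Simplicial Opposite SimplexCategory AlgebraicTopology Limits

namespace Groth.Agent.H34.HyperSh

variable {C : Type u} [SmallCategory C] (J : GrothendieckTopology C)

instance : (presheafToSheaf J AddCommGrpCat.{u}).PreservesHomology where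
  preservesKernels := inferInstance
  preservesCokernels := inferInstance

example : (presheafToSheaf J AddCommGrpCat.{u}).Additive := inferInstance


open HyperSect

lemma W_Zp_map {P Q : Cᵒᵖ ⥤ Type u} (f : P ⟶ Q) (hf : J.W f) :
    J.W ((Zp (C := C)).map f) := by
  intro G hG
  let adj : Zp (C := C) ⊣ (Functor.whiskeringRight Cᵒᵖ _ _).obj (forget AddCommGrpCat.{u}) :=
    Adjunction.whiskerRight Cᵒᵖ AddCommGrpCat.adj.{u}
  have hG' : Presheaf.IsSheaf J (G ⋙ forget AddCommGrpCat.{u}) :=
    (Presheaf.isSheaf_iff_isSheaf_forget J G (forget AddCommGrpCat.{u})).1 hG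
  have h := hf _ hG'
  have key : (fun g : Zp.obj Q ⟶ G => Zp.map f ≫ g) =
      (adj.homEquiv P G).symm ∘ (fun g => f ≫ g) ∘ (adj.homEquiv Q G) := by
    funext g
    apply (adj.homEquiv P G).injective
    simp only [Function.comp_apply, Equiv.apply_symm_apply]
    exact adj.homEquiv_naturality_left f g
  rw [key]
  exact (adj.homEquiv P G).symm.bijective.comp (h.comp (adj.homEquiv Q G).bijective)

lemma isIso_sheafify_Zp_map {P Q : Cᵒᵖ ⥤ Type u} (f : P ⟶ Q) (hf : J.W f) :
    IsIso ((Zp (C := C) ⋙ presheafToSheaf J AddCommGrpCat.{u}).map f) :=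
  (J.W_iff _).1 (W_Zp_map J f hf)


section Unit

variable {E : Type*} [Category E] (n : ℕ)
  [∀ (F : (SimplexCategory.Truncated n)ᵒᵖ ⥤ E),
    (SimplexCategory.Truncated.inclusion n).op.HasRightKanExtension F]
  [∀ (F : (SimplexCategory.Truncated n)ᵒᵖ ⥤ E),
    (SimplexCategory.Truncated.inclusion n).op.HasPointwiseRightKanExtension F]

/-- the unit of the coskeleton adjunction is an isomorphism in degrees `≤ n` -/
lemma isIso_unit_app_app (X : SimplicialObject E) (k : ℕ) (hk : k ≤ n) :
    IsIso (((SimplicialObject.coskAdj n).unit.app X).app (op ⦋k⦌)) := by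
  have h := (SimplicialObject.coskAdj n).left_triangle_components X
  have h1 : IsIso ((SimplicialObject.coskAdj n).counit.app ((SimplicialObject.truncation n).obj X)) :=
    inferInstance
  have h2 : IsIso ((SimplicialObject.truncation n).map ((SimplicialObject.coskAdj n).unit.app X)) := by
    have : (SimplicialObject.truncation n).map ((SimplicialObject.coskAdj n).unit.app X) =
        inv ((SimplicialObject.coskAdj n).counit.app ((SimplicialObject.truncation n).obj X)) := by
      rw [← cancel_mono ((SimplicialObject.coskAdj n).counit.app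
        ((SimplicialObject.truncation n).obj X)), h]
      simp
    rw [this]
    infer_instance
  have h3 := (NatTrans.isIso_iff_isIso_app _).1 h2 (op ⟨⦋k⦌, hk⟩)
  exact h3

end Unit


section Main

variable {L K : SimplicialObject (Cᵒᵖ ⥤ Type u)} (f : L ⟶ K) (n : ℕ)

include J in
lemma W_imgι_app (k : ℕ) (hk : Presheaf.IsLocallySurjective J (f.app (op ⦋k⦌))) :
    J.W ((HyperImg.imgι f).app (op ⦋k⦌)) := by
  have h1 : Presheaf.IsLocallyInjective J ((HyperImg.imgι f).app (op ⦋k⦌)) :=
    Presheaf.isLocallyInjective_of_injective J _ (fun V => HyperImg.imgι_app_injective f _ _)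
  have h2 : Presheaf.IsLocallySurjective J ((HyperImg.imgι f).app (op ⦋k⦌)) := by
    have fac : (HyperImg.toImg f).app (op ⦋k⦌) ≫ (HyperImg.imgι f).app (op ⦋k⦌) =
        f.app (op ⦋k⦌) := by
      rw [← NatTrans.comp_app, HyperImg.toImg_imgι]
    exact Presheaf.isLocallySurjective_of_isLocallySurjective_fac J fac
  exact J.W_of_isLocallyBijective _

variable [∀ (F : (SimplexCategory.Truncated n)ᵒᵖ ⥤ (Cᵒᵖ ⥤ Type u)),
      (SimplexCategory.Truncated.inclusion n).op.HasRightKanExtension F]

theorem quasiIso_main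
    (h1 : ∀ i : ℕ, i < n → IsIso (f.app (op ⦋i⦌)))
    (h2 : Presheaf.IsLocallySurjective J (f.app (op ⦋n⦌)))
    (h3 : IsIso ((SimplicialObject.coskAdj n).unit.app L))
    (h4 : IsIso ((SimplicialObject.coskAdj n).unit.app K)) :
    QuasiIso ((alternatingFaceMapComplex (Sheaf J AddCommGrpCat.{u})).map
      (Functor.whiskerRight f (Zp (C := C) ⋙ presheafToSheaf J AddCommGrpCat.{u}))) := by
  let a := presheafToSheaf J AddCommGrpCat.{u}
  let Φ := Zp (C := C) ⋙ a
  let Ψ : SimplicialObject (Cᵒᵖ ⥤ Type u) ⥤ ChainComplex (Sheaf J AddCommGrpCat.{u}) ℕ :=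
    (SimplicialObject.whiskering _ _).obj Φ ⋙ alternatingFaceMapComplex _
  let K'' := HyperImg.img f
  let t : L ⟶ K'' := HyperImg.toImg f
  let ι : K'' ⟶ K := HyperImg.imgι f
  let η := (SimplicialObject.coskAdj (C := Cᵒᵖ ⥤ Type u) n).unit
  let g : L ⟶ (SimplicialObject.cosk n).obj K'' := t ≫ η.app K''
  let c : (SimplicialObject.cosk n).obj K'' ⟶ (SimplicialObject.cosk n).obj K :=
    (SimplicialObject.cosk n).map ι
  have e : f ≫ η.app K = g ≫ c := by
    have nat := η.naturality ι
    simp only [Functor.id_map] at nat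
    have : f = t ≫ ι := (HyperImg.toImg_imgι f).symm
    rw [this, Category.assoc, nat]
    rfl
  have hls : ∀ k : ℕ, k ≤ n → Presheaf.IsLocallySurjective J (f.app (op ⦋k⦌)) := by
    intro k hk
    rcases Nat.lt_or_ge k n with h | h
    · have := h1 k h
      infer_instance
    · have : k = n := by omega
      subst this
      exact h2
  -- `c` becomes an isomorphism
  have hc : IsIso (Ψ.map c) := by
    have : IsIso (((SimplicialObject.whiskering _ _).obj Φ).map c) := by
      rw [NatTrans.isIso_iff_isIso_app]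
      intro Δ
      have hW : J.W (c.app Δ) := by
        rw [J.W_iff]
        refine HyperCosk.isIso_map_cosk_map_app (presheafToSheaf J (Type u)) n ι ?_ Δ
        intro k hk
        exact (J.W_iff _).1 (W_imgι_app J f k (hls k hk))
      exact isIso_sheafify_Zp_map J _ hW
    exact inferInstanceAs (IsIso ((alternatingFaceMapComplex _).map
      (((SimplicialObject.whiskering _ _).obj Φ).map c)))
  -- `g` is a quasi-isomorphism
  have hg : QuasiIso (Ψ.map g) := by
    have hL : L.IsCoskeletal n := (SimplicialObject.isCoskeletal_iff_isIso L n).2 h3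
    have hcK : ((SimplicialObject.cosk n).obj K'').IsCoskeletal n := by
      rw [SimplicialObject.isCoskeletal_iff_isIso]
      exact (SimplicialObject.coskAdj n).isIso_unit_app_of_iso (Iso.refl _)
    have hηk : ∀ k : ℕ, k ≤ n → ∀ V : Cᵒᵖ,
        Function.Bijective (((η.app K'').app (op ⦋k⦌)).app V) := by
      intro k hk V
      have := isIso_unit_app_app n K'' k hk
      rw [← isIso_iff_bijective]
      infer_instance
    have hgk : ∀ (k : ℕ) (V : Cᵒᵖ), ((g.app (op ⦋k⦌)).app V : _ → _) =
        ((η.app K'').app (op ⦋k⦌)).app V ∘ (t.app (op ⦋k⦌)).app V := by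
      intro k V
      rfl
    have hg1 : ∀ k < n, ∀ V : Cᵒᵖ, Function.Bijective ((g.app (op ⦋k⦌)).app V) := by
      intro k hk V
      rw [hgk]
      refine (hηk k hk.le V).comp ⟨?_, HyperImg.toImg_app_surjective f _ V⟩
      have hf := h1 k hk
      have hfV : Function.Bijective ((f.app (op ⦋k⦌)).app V) := by
        rw [← isIso_iff_bijective]
        infer_instance
      have fac : ((f.app (op ⦋k⦌)).app V : _ → _) =
          (ι.app (op ⦋k⦌)).app V ∘ (t.app (op ⦋k⦌)).app V := by
        have := congrArg (fun (φ : L ⟶ K) => ((φ.app (op ⦋k⦌)).app V : _ → _))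
          (HyperImg.toImg_imgι f)
        exact this.symm
      rw [fac] at hfV
      exact Function.Injective.of_comp hfV.1
    have hg2 : ∀ V : Cᵒᵖ, Function.Surjective ((g.app (op ⦋n⦌)).app V) := by
      intro V
      rw [hgk]
      exact (hηk n le_rfl V).2.comp (HyperImg.toImg_app_surjective f _ V)
    have hq := quasiIso_Zp_of_coskeletal g n hg1 hg2
    have hq' : QuasiIso ((a.mapHomologicalComplex _).map
        ((alternatingFaceMapComplex (Cᵒᵖ ⥤ AddCommGrpCat.{u})).map
          (Functor.whiskerRight g (Zp (C := C))))) := inferInstance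
    exact (quasiIso_afmc_whiskerRight_iff a (Functor.whiskerRight g (Zp (C := C)))).2 hq'
  have hηK : IsIso (Ψ.map (η.app K)) := by
    have : IsIso (η.app K) := h4
    infer_instance
  have : QuasiIso (Ψ.map f ≫ Ψ.map (η.app K)) := by
    rw [← Ψ.map_comp, e, Ψ.map_comp]
    infer_instance
  have hq : QuasiIso (Ψ.map (η.app K)) := by
    infer_instance
  exact (quasiIso_iff_comp_right (Ψ.map f) (Ψ.map (η.app K))).1 this

end Main

end Groth.Agent.H34.HyperSh
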