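import Groth.Agent.H34.HyperSh

universe u

open CategoryTheory Simplicial Opposite SimplexCategory AlgebraicTopology Limits

namespace Groth.Agent.H34.HyperSh

open HyperSect

variable {C : Type u} [SmallCategory C] (J : GrothendieckTopology C)

theorem surjective_of_coskeletal {A B : SimplicialObject (Cᵒᵖ ⥤ Type u)} (g : A ⟶ B) (n : ℕ)
    [A.IsCoskeletal n] [B.IsCoskeletal n]
    (h1 : ∀ k < n, ∀ V : Cᵒᵖ, Function.Bijective ((g.app (op ⦋k⦌)).app V))
    (h2 : ∀ V : Cᵒᵖ, Function.Surjective ((g.app (op ⦋n⦌)).app V))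
    (Δ : SimplexCategoryᵒᵖ) (V : Cᵒᵖ) : Function.Surjective ((g.app Δ).app V) := by
  let ev : (Cᵒᵖ ⥤ Type u) ⥤ Type u := (evaluation Cᵒᵖ (Type u)).obj V
  let A' : SSet.{u} := ((SimplicialObject.whiskering _ _).obj ev).obj A
  let B' : SSet.{u} := ((SimplicialObject.whiskering _ _).obj ev).obj B
  let p : A' ⟶ B' := Functor.whiskerRight g ev
  have hA : SimplicialObject.IsCoskeletal A' n := HyperCosk.isCoskeletal_comp ev n A
  have hB : SimplicialObject.IsCoskeletal B' n := HyperCosk.isCoskeletal_comp ev n B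
  have hp : SSet.modelCategoryQuillen.I.rlp p :=
    HyperKan.rlp_I p (fun k hk => h1 k hk V) (h2 V)
  obtain ⟨s, hs⟩ := HyperKan.exists_section p hp
  intro b
  refine ⟨s.app Δ b, ?_⟩
  have := congrArg (fun (φ : B' ⟶ B') => φ.app Δ b) hs
  exact this

variable {L K : SimplicialObject (Cᵒᵖ ⥤ Type u)} (f : L ⟶ K) (n : ℕ)
  [∀ (F : (SimplexCategory.Truncated n)ᵒᵖ ⥤ (Cᵒᵖ ⥤ Type u)),
      (SimplexCategory.Truncated.inclusion n).op.HasRightKanExtension F]

theorem isLocallySurjective_main
    (h1 : ∀ i : ℕ, i < n → IsIso (f.app (op ⦋i⦌)))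
    (h2 : Presheaf.IsLocallySurjective J (f.app (op ⦋n⦌)))
    (h3 : IsIso ((SimplicialObject.coskAdj n).unit.app L))
    (h4 : IsIso ((SimplicialObject.coskAdj n).unit.app K)) (Δ : SimplexCategoryᵒᵖ) :
    Presheaf.IsLocallySurjective J (f.app Δ) := by
  let K'' := HyperImg.img f
  let t : L ⟶ K'' := HyperImg.toImg f
  let ι : K'' ⟶ K := HyperImg.imgι f
  let η := (SimplicialObject.coskAdj (C := Cᵒᵖ ⥤ Type u) n).unit
  let g : L ⟶ (SimplicialObject.cosk n).obj K'' := t ≫ η.app K''
  let c : (SimplicialObject.cosk n).obj K'' ⟶ (SimplicialObject.cosk n).obj K :=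
    (SimplicialObject.cosk n).map ι
  have e : f ≫ η.app K = g ≫ c := by
    have nat := η.naturality ι
    simp only [Functor.id_map] at nat
    have : f = t ≫ ι := (HyperImg.toImg_imgι f).symm
    rw [this, Category.assoc, nat]
    rfl
  have hls : ∀ k : ℕ, k ≤ n → Presheaf.IsLocallySurjective J (f.app (op ⦋k⦌)) := by
    intro k hk
    rcases Nat.lt_or_ge k n with h | h
    · have := h1 k h
      infer_instance
    · have : k = n := by omega
      subst this
      exact h2
  have hW : J.W (c.app Δ) := by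
    rw [J.W_iff]
    refine HyperCosk.isIso_map_cosk_map_app (presheafToSheaf J (Type u)) n ι ?_ Δ
    intro k hk
    exact (J.W_iff _).1 (W_imgι_app J f k (hls k hk))
  have hc : Presheaf.IsLocallySurjective J (c.app Δ) := ((J.W_iff_isLocallyBijective _).1 hW).2
  have hL : L.IsCoskeletal n := (SimplicialObject.isCoskeletal_iff_isIso L n).2 h3
  have hcK : ((SimplicialObject.cosk n).obj K'').IsCoskeletal n := by
    rw [SimplicialObject.isCoskeletal_iff_isIso]
    exact (SimplicialObject.coskAdj n).isIso_unit_app_of_iso (Iso.refl _)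
  have hηk : ∀ k : ℕ, k ≤ n → ∀ V : Cᵒᵖ,
      Function.Bijective (((η.app K'').app (op ⦋k⦌)).app V) := by
    intro k hk V
    have := isIso_unit_app_app n K'' k hk
    rw [← isIso_iff_bijective]
    infer_instance
  have hgk : ∀ (k : ℕ) (V : Cᵒᵖ), ((g.app (op ⦋k⦌)).app V : _ → _) =
      ((η.app K'').app (op ⦋k⦌)).app V ∘ (t.app (op ⦋k⦌)).app V := by
    intro k V
    rfl
  have hg1 : ∀ k < n, ∀ V : Cᵒᵖ, Function.Bijective ((g.app (op ⦋k⦌)).app V) := by
    intro k hk V
    rw [hgk]
    refine (hηk k hk.le V).comp ⟨?_, HyperImg.toImg_app_surjective f _ V⟩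
    have hf := h1 k hk
    have hfV : Function.Bijective ((f.app (op ⦋k⦌)).app V) := by
      rw [← isIso_iff_bijective]
      infer_instance
    have fac : ((f.app (op ⦋k⦌)).app V : _ → _) =
        (ι.app (op ⦋k⦌)).app V ∘ (t.app (op ⦋k⦌)).app V := by
      have := congrArg (fun (φ : L ⟶ K) => ((φ.app (op ⦋k⦌)).app V : _ → _))
        (HyperImg.toImg_imgι f)
      exact this.symm
    rw [fac] at hfV
    exact Function.Injective.of_comp hfV.1
  have hg2 : ∀ V : Cᵒᵖ, Function.Surjective ((g.app (op ⦋n⦌)).app V) := by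
    intro V
    rw [hgk]
    exact (hηk n le_rfl V).2.comp (HyperImg.toImg_app_surjective f _ V)
  have hg : Presheaf.IsLocallySurjective J (g.app Δ) :=
    Presheaf.isLocallySurjective_of_surjective J _
      (fun V => surjective_of_coskeletal g n hg1 hg2 Δ V)
  have hη : IsIso ((η.app K).app Δ) := by
    have : IsIso (η.app K) := h4
    infer_instance
  have e' : f.app Δ = (g.app Δ ≫ c.app Δ) ≫ inv ((η.app K).app Δ) := by
    rw [← NatTrans.comp_app, ← e, NatTrans.comp_app, Category.assoc, IsIso.hom_inv_id,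
      Category.comp_id]
  rw [e']
  infer_instance

end Groth.Agent.H34.HyperSh
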