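import Mathlib.RingTheory.PicardGroup
import Mathlib.RingTheory.LocalRing.Module
import Mathlib.RingTheory.LocalRing.MaximalIdeal.Basic
import Mathlib.Algebra.Module.Submodule.Pointwise

/-!
# Invertible modules over local rings: elements outside `𝔪 M` are generators
-/

set_option autoImplicit false
open TensorProduct

namespace Groth.Agent.H34.InvLocal

section A

variable {R : Type*} [CommRing R] [IsLocalRing R] {M N : Type*} [AddCommGroup M] [AddCommGroup N]
  [Module R M] [Module R N]

/-- an element of `M ≃ R` outside `𝔪 M` is a generator -/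
lemma bijective_smul_of_equiv (e : M ≃ₗ[R] R) (s : M)
    (hs : s ∉ IsLocalRing.maximalIdeal R • (⊤ : Submodule R M)) :
    Function.Bijective (fun a : R => a • s) := by
  have hu : IsUnit (e s) := by
    by_contra h
    apply hs
    have hm : e s ∈ IsLocalRing.maximalIdeal R := (IsLocalRing.mem_maximalIdeal _).2 h
    have : s = e s • e.symm 1 := by
      apply e.injective
      rw [map_smul, LinearEquiv.apply_symm_apply, smul_eq_mul, mul_one]
    rw [this]
    exact Submodule.smul_mem_smul hm Submodule.mem_top
  obtain ⟨u, hu⟩ := hu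
  have key : ∀ a : R, e (a • s) = a * u := fun a => by rw [map_smul, smul_eq_mul, hu]
  constructor
  · intro a b hab
    have := congrArg e hab
    simp only [] at this
    rw [key, key] at this
    exact (Units.mul_left_inj u).1 this
  · intro m
    refine ⟨e m * ↑u⁻¹, ?_⟩
    apply e.injective
    simp only []
    rw [key, mul_assoc, Units.inv_mul, mul_one]

/-- an element of an invertible module over a local ring outside `𝔪 M` is a generator -/
lemma bijective_smul_of_tensor_equiv (e : M ⊗[R] N ≃ₗ[R] R) (s : M)
    (hs : s ∉ IsLocalRing.maximalIdeal R • (⊤ : Submodule R M)) :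
    Function.Bijective (fun a : R => a • s) := by
  haveI : Module.Invertible R M := Module.Invertible.left e
  haveI : Module.Free R M := Module.free_of_flat_of_isLocalRing
  obtain ⟨e'⟩ := Module.Invertible.free_iff_linearEquiv.mp (inferInstance : Module.Free R M)
  exact bijective_smul_of_equiv e' s hs

end A

section Linear

lemma mem_smul_top_of_linear {R M M' : Type*} [CommRing R] [AddCommGroup M] [AddCommGroup M']
    [Module R M] [Module R M'] (f : M →ₗ[R] M') (I : Ideal R) (m : M)
    (hm : m ∈ I • (⊤ : Submodule R M)) : f m ∈ I • (⊤ : Submodule R M') := by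
  refine Submodule.smul_induction_on hm (fun r hr n _ => ?_) (fun x y hx hy => ?_)
  · rw [map_smul]
    exact Submodule.smul_mem_smul hr Submodule.mem_top
  · rw [map_add]
    exact Submodule.add_mem _ hx hy

lemma one_notMem_maximal_smul_top {R : Type*} [CommRing R] [IsLocalRing R] :
    (1 : R) ∉ IsLocalRing.maximalIdeal R • (⊤ : Submodule R R) := by
  rw [smul_eq_mul, Ideal.mul_top]
  exact (Ideal.ne_top_iff_one _).1 (IsLocalRing.maximalIdeal.isMaximal R).ne_top

end Linear

section Transfer

variable {R R' M M' : Type*} [CommRing R] [CommRing R'] [AddCommGroup M]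
  [AddCommGroup M'] [Module R M] [Module R' M'] (ρ : R ≃+* R') (θ : M ≃+ M')
  (hθ : ∀ (r : R) (m : M), θ (r • m) = ρ r • θ m)

include hθ in
lemma mem_smul_top_of_semilinear (I : Ideal R) (m : M)
    (hm : m ∈ I • (⊤ : Submodule R M)) :
    θ m ∈ (I.map ρ.toRingHom) • (⊤ : Submodule R' M') := by
  refine Submodule.smul_induction_on hm (fun r hr n _ => ?_) (fun x y hx hy => ?_)
  · rw [hθ]
    exact Submodule.smul_mem_smul (Ideal.mem_map_of_mem ρ.toRingHom hr) Submodule.mem_top
  · rw [map_add]
    exact Submodule.add_mem _ hx hy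

include hθ in
lemma bijective_smul_of_semilinear (m : M)
    (h : Function.Bijective (fun a : R' => a • θ m)) :
    Function.Bijective (fun a : R => a • m) := by
  have : (fun a : R => a • m) = θ.symm ∘ (fun a : R' => a • θ m) ∘ ρ := by
    funext a
    apply θ.injective
    simp only [Function.comp_apply, AddEquiv.apply_symm_apply]
    exact hθ a m
  rw [this]
  exact θ.symm.bijective.comp (h.comp ρ.bijective)

include hθ in
lemma symm_semilinear (r' : R') (m' : M') : θ.symm (r' • m') = ρ.symm r' • θ.symm m' := by
  apply θ.injective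
  rw [hθ, AddEquiv.apply_symm_apply, AddEquiv.apply_symm_apply, RingEquiv.apply_symm_apply]

lemma map_maximalIdeal_le [IsLocalRing R] [IsLocalRing R'] :
    (IsLocalRing.maximalIdeal R).map ρ.toRingHom ≤ IsLocalRing.maximalIdeal R' := by
  rw [Ideal.map_le_iff_le_comap]
  intro r hr
  rw [Ideal.mem_comap, IsLocalRing.mem_maximalIdeal]
  rw [IsLocalRing.mem_maximalIdeal] at hr
  intro hu
  apply hr
  have := hu.map ρ.symm
  simpa using this

include hθ in
lemma mem_maximal_smul_top_iff [IsLocalRing R] [IsLocalRing R'] (m : M) :
    θ m ∈ IsLocalRing.maximalIdeal R' • (⊤ : Submodule R' M') ↔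
      m ∈ IsLocalRing.maximalIdeal R • (⊤ : Submodule R M) := by
  constructor
  · intro h
    have h1 := mem_smul_top_of_semilinear ρ.symm θ.symm (symm_semilinear ρ θ hθ) _ _ h
    rw [AddEquiv.symm_apply_apply] at h1
    exact Submodule.smul_mono_left (map_maximalIdeal_le ρ.symm) h1
  · intro h
    exact Submodule.smul_mono_left (map_maximalIdeal_le ρ)
      (mem_smul_top_of_semilinear ρ θ hθ _ _ h)

end Transfer

end Groth.Agent.H34.InvLocal
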