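import Mathlib.RingTheory.Nakayama
import Mathlib.LinearAlgebra.TensorProduct.Quotient
import Mathlib.RingTheory.TensorProduct.Basic
import Mathlib.Algebra.Module.Projective
import Mathlib.RingTheory.Finiteness.Defs

set_option autoImplicit false
universe u v w
open TensorProduct

namespace Groth.Agent.H34

variable {R : Type u} [CommRing R]

/-- Nakayama: a linear map into a finite module which is surjective modulo an ideal inside the
Jacobson radical is surjective. -/
lemma surjective_of_baseChange_quotient_surjective (I : Ideal R)
    (hI : I ≤ Ideal.jacobson (⊥ : Ideal R)) {P : Type v} {P' : Type w}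
    [AddCommGroup P] [Module R P] [AddCommGroup P'] [Module R P'] [Module.Finite R P']
    (φ : P →ₗ[R] P') (h : Function.Surjective (φ.baseChange (R ⧸ I))) :
    Function.Surjective φ := by
  apply LinearMap.surjective_of_surjective_comp_mkQ φ I hI
  intro y
  obtain ⟨y, rfl⟩ := Submodule.Quotient.mk_surjective _ y
  obtain ⟨z, hz⟩ := h ((1 : R ⧸ I) ⊗ₜ[R] y)
  have key : ∀ z : (R ⧸ I) ⊗[R] P, quotTensorEquivQuotSMul P' I (φ.baseChange (R ⧸ I) z) ∈
      LinearMap.range ((I • (⊤ : Submodule R P')).mkQ ∘ₗ φ) := by
    intro z
    induction z using TensorProduct.induction_on with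
    | zero => simp
    | tmul r x =>
      obtain ⟨r, rfl⟩ := Ideal.Quotient.mk_surjective r
      refine ⟨r • x, ?_⟩
      simp [LinearMap.baseChange_tmul]
    | add a b ha hb =>
      rw [map_add, map_add]
      exact Submodule.add_mem _ ha hb
  have := key z
  rw [hz, quotTensorEquivQuotSMul_mk_one_tmul] at this
  exact this

/-- Bijectivity can be checked modulo an ideal in the Jacobson radical, for finite projective
modules. -/
lemma bijective_of_baseChange_quotient_bijective (I : Ideal R)
    (hI : I ≤ Ideal.jacobson (⊥ : Ideal R)) {P : Type v} {P' : Type w}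
    [AddCommGroup P] [Module R P] [Module.Finite R P]
    [AddCommGroup P'] [Module R P'] [Module.Finite R P'] [Module.Projective R P'] (φ : P →ₗ[R] P')
    (h : Function.Bijective (φ.baseChange (R ⧸ I))) : Function.Bijective φ := by
  have hsurj : Function.Surjective φ := surjective_of_baseChange_quotient_surjective I hI φ h.2
  obtain ⟨s, hs⟩ := Module.projective_lifting_property φ LinearMap.id hsurj
  have hs' : (φ.baseChange (R ⧸ I)) ∘ₗ (s.baseChange (R ⧸ I)) = LinearMap.id := by
    rw [← LinearMap.baseChange_comp, hs, LinearMap.baseChange_id]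
  have hssurj : Function.Surjective (s.baseChange (R ⧸ I)) := by
    intro z
    refine ⟨φ.baseChange (R ⧸ I) z, ?_⟩
    apply h.1
    have := LinearMap.congr_fun hs' (φ.baseChange (R ⧸ I) z)
    simpa using this
  have hs_surj : Function.Surjective s := surjective_of_baseChange_quotient_surjective I hI s hssurj
  refine ⟨?_, hsurj⟩
  intro x y hxy
  obtain ⟨a, rfl⟩ := hs_surj x
  obtain ⟨b, rfl⟩ := hs_surj y
  have ha : φ (s a) = a := LinearMap.congr_fun hs a
  have hb : φ (s b) = b := LinearMap.congr_fun hs b
  rw [ha, hb] at hxy
  rw [hxy]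

end Groth.Agent.H34
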