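import Groth.Agent.H34.FPFunctor
import Mathlib.CategoryTheory.Endomorphism
import Mathlib.LinearAlgebra.Isomorphisms
import Mathlib.LinearAlgebra.Pi

/-!
# Tensoring an object with an `A`-action by finitely presented modules (helper34)

For an object `K` of a preadditive category `B` with a ring map `κ : A →+* End K`, we construct
`K ⊗_A M` for finitely presented `M` by its universal property, obtaining a right exact functor.
-/

set_option autoImplicit false
universe u v' u'

open CategoryTheory CategoryTheory.Limits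

namespace Groth.Agent.H34.KTensor

variable {A : Type u} [CommRing A] {B : Type u'} [Category.{v'} B] [Preadditive B]
  {K : B} (κ : A →+* End K)

/-- `Hom(K, P)` with the `A`-module structure through `κ`. -/
def KHom (_ : A →+* End K) (P : B) : Type v' := K ⟶ P

instance (P : B) : AddCommGroup (KHom κ P) := inferInstanceAs (AddCommGroup (K ⟶ P))

/-- Underlying morphism. -/
def KHom.hom {P : B} (x : KHom κ P) : K ⟶ P := x

/-- Constructor. -/
def KHom.mk {P : B} (x : K ⟶ P) : KHom κ P := x

@[simp] lemma KHom.hom_mk {P : B} (x : K ⟶ P) : (KHom.mk κ x).hom = x := rfl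
@[simp] lemma KHom.mk_hom {P : B} (x : KHom κ P) : KHom.mk κ x.hom = x := rfl
@[simp] lemma KHom.hom_add {P : B} (x y : KHom κ P) : (x + y).hom = x.hom + y.hom := rfl
@[simp] lemma KHom.hom_zero {P : B} : (0 : KHom κ P).hom = 0 := rfl

@[ext] lemma KHom.ext {P : B} {x y : KHom κ P} (h : x.hom = y.hom) : x = y := h

lemma kappa_mul (a b : A) : (κ (a * b) : K ⟶ K) = (κ b : K ⟶ K) ≫ (κ a : K ⟶ K) := by
  rw [map_mul]
  rfl

instance (P : B) : Module A (KHom κ P) where
  smul a x := KHom.mk κ ((κ a : K ⟶ K) ≫ x.hom)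
  one_smul x := by
    change (κ 1 : K ⟶ K) ≫ x.hom = x.hom
    rw [map_one]
    exact Category.id_comp _
  mul_smul a b x := by
    change (κ (a * b) : K ⟶ K) ≫ x.hom = (κ a : K ⟶ K) ≫ (κ b : K ⟶ K) ≫ x.hom
    rw [mul_comm, kappa_mul, Category.assoc]
  smul_zero a := by
    change (κ a : K ⟶ K) ≫ (0 : K ⟶ P) = 0
    exact comp_zero
  smul_add a x y := by
    change (κ a : K ⟶ K) ≫ (x.hom + y.hom) = (κ a : K ⟶ K) ≫ x.hom + (κ a : K ⟶ K) ≫ y.hom
    exact Preadditive.comp_add _ _ _ _ _ _
  add_smul a b x := by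
    change (κ (a + b) : K ⟶ K) ≫ x.hom = (κ a : K ⟶ K) ≫ x.hom + (κ b : K ⟶ K) ≫ x.hom
    rw [map_add]
    exact Preadditive.add_comp _ _ _ _ _ _
  zero_smul x := by
    change (κ 0 : K ⟶ K) ≫ x.hom = 0
    rw [map_zero]
    exact zero_comp

lemma KHom.smul_hom {P : B} (a : A) (x : KHom κ P) : (a • x).hom = (κ a : K ⟶ K) ≫ x.hom := rfl

/-- Postcomposition. -/
def post {P T : B} (φ : P ⟶ T) : KHom κ P →ₗ[A] KHom κ T where
  toFun x := KHom.mk κ (x.hom ≫ φ)
  map_add' x y := by
    apply KHom.ext
    change (x.hom + y.hom) ≫ φ = x.hom ≫ φ + y.hom ≫ φ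
    exact Preadditive.add_comp _ _ _ _ _ _
  map_smul' a x := by
    apply KHom.ext
    change ((κ a : K ⟶ K) ≫ x.hom) ≫ φ = (κ a : K ⟶ K) ≫ x.hom ≫ φ
    exact Category.assoc _ _ _

@[simp] lemma post_hom {P T : B} (φ : P ⟶ T) (x : KHom κ P) : (post κ φ x).hom = x.hom ≫ φ := rfl

lemma post_comp {P T T' : B} (φ : P ⟶ T) (ψ : T ⟶ T') :
    post κ (φ ≫ ψ) = post κ ψ ∘ₗ post κ φ := by
  ext x
  simp

lemma post_id (P : B) : post κ (𝟙 P) = LinearMap.id := by
  ext x
  simp

/-- `(P, u)` is a tensor product `K ⊗_A M`. -/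
structure IsTensor {M : Type u} [AddCommGroup M] [Module A M] {P : B}
    (u : M →ₗ[A] KHom κ P) : Prop where
  existsUnique : ∀ (T : B) (v : M →ₗ[A] KHom κ T), ∃! φ : P ⟶ T, post κ φ ∘ₗ u = v

namespace IsTensor

variable {κ}
variable {M : Type u} [AddCommGroup M] [Module A M] {P : B} {u : M →ₗ[A] KHom κ P}

/-- The morphism induced by the universal property. -/
noncomputable def desc (h : IsTensor κ u) {T : B} (v : M →ₗ[A] KHom κ T) : P ⟶ T :=
  (h.existsUnique T v).choose

lemma fac (h : IsTensor κ u) {T : B} (v : M →ₗ[A] KHom κ T) : post κ (h.desc v) ∘ₗ u = v :=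
  (h.existsUnique T v).choose_spec.1

lemma fac_apply (h : IsTensor κ u) {T : B} (v : M →ₗ[A] KHom κ T) (m : M) :
    (u m).hom ≫ h.desc v = (v m).hom :=
  congrArg (KHom.hom κ) (LinearMap.congr_fun (h.fac v) m)

lemma hom_ext (h : IsTensor κ u) {T : B} {φ ψ : P ⟶ T}
    (hφψ : ∀ m : M, (u m).hom ≫ φ = (u m).hom ≫ ψ) : φ = ψ := by
  have h1 : post κ φ ∘ₗ u = post κ ψ ∘ₗ u := by
    ext m
    exact hφψ m
  exact (h.existsUnique T (post κ ψ ∘ₗ u)).unique h1 rfl

/-- Functoriality of tensors. -/
noncomputable def map (h : IsTensor κ u) {M' : Type u} [AddCommGroup M'] [Module A M'] {P' : B}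
    (u' : M' →ₗ[A] KHom κ P') (g : M →ₗ[A] M') : P ⟶ P' :=
  h.desc (u' ∘ₗ g)

lemma map_spec (h : IsTensor κ u) {M' : Type u} [AddCommGroup M'] [Module A M'] {P' : B}
    (u' : M' →ₗ[A] KHom κ P') (g : M →ₗ[A] M') (m : M) :
    (u m).hom ≫ h.map u' g = (u' (g m)).hom :=
  h.fac_apply _ m

/-- Uniqueness of tensors. -/
noncomputable def uniqueUpToIso (h : IsTensor κ u) {P' : B} {u' : M →ₗ[A] KHom κ P'}
    (h' : IsTensor κ u') : P ≅ P' where
  hom := h.desc u'
  inv := h'.desc u
  hom_inv_id := h.hom_ext (fun m => by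
    rw [← Category.assoc, h.fac_apply, h'.fac_apply, Category.comp_id])
  inv_hom_id := h'.hom_ext (fun m => by
    rw [← Category.assoc, h'.fac_apply, h.fac_apply, Category.comp_id])

lemma uniqueUpToIso_hom_spec (h : IsTensor κ u) {P' : B} {u' : M →ₗ[A] KHom κ P'}
    (h' : IsTensor κ u') (m : M) : (u m).hom ≫ (h.uniqueUpToIso h').hom = (u' m).hom :=
  h.fac_apply _ m

end IsTensor

section Unit

/-- The universal map for `M = A`. -/
def unitMap : A →ₗ[A] KHom κ K where
  toFun a := KHom.mk κ (κ a : K ⟶ K)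
  map_add' a b := by
    apply KHom.ext
    change (κ (a + b) : K ⟶ K) = (κ a : K ⟶ K) + (κ b : K ⟶ K)
    rw [map_add]
  map_smul' a b := by
    apply KHom.ext
    change (κ (a • b) : K ⟶ K) = (κ a : K ⟶ K) ≫ (κ b : K ⟶ K)
    rw [smul_eq_mul, mul_comm, kappa_mul]

@[simp] lemma unitMap_hom (a : A) : (unitMap κ a).hom = (κ a : K ⟶ K) := rfl

lemma isTensor_unit : IsTensor κ (unitMap κ) where
  existsUnique T v := by
    refine ⟨(v 1).hom, ?_, ?_⟩
    · refine LinearMap.ext fun a => ?_
      apply KHom.ext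
      change (κ a : K ⟶ K) ≫ (v 1).hom = (v a).hom
      rw [← KHom.smul_hom, ← map_smul, smul_eq_mul, mul_one]
    · intro φ hφ
      have := congrArg (KHom.hom κ) (LinearMap.congr_fun hφ 1)
      simp only [LinearMap.comp_apply, post_hom, unitMap_hom, map_one] at this
      rw [← this]
      exact (Category.id_comp φ).symm

end Unit

section Free

variable [HasFiniteBiproducts B]

/-- The power `K^n`. -/
noncomputable abbrev Kpow (K : B) (n : ℕ) : B := ⨁ (fun _ : Fin n => K)

/-- The universal map for the free module. -/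
noncomputable def freeMap (n : ℕ) : (Fin n → A) →ₗ[A] KHom κ (Kpow K n) :=
  Fintype.linearCombination A (fun i : Fin n => KHom.mk κ (biproduct.ι (fun _ : Fin n => K) i))

lemma freeMap_single (n : ℕ) (i : Fin n) (a : A) :
    freeMap κ n (Pi.single i a) = a • KHom.mk κ (biproduct.ι (fun _ : Fin n => K) i) := by
  unfold freeMap
  rw [Fintype.linearCombination_apply_single]

lemma freeMap_single_hom (n : ℕ) (i : Fin n) (a : A) :
    (freeMap κ n (Pi.single i a)).hom = (κ a : K ⟶ K) ≫ biproduct.ι (fun _ : Fin n => K) i := by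
  rw [freeMap_single]
  rfl

lemma isTensor_free (n : ℕ) : IsTensor κ (freeMap κ n) where
  existsUnique T v := by
    refine ⟨biproduct.desc (fun i => (v (Pi.single i 1)).hom), ?_, ?_⟩
    · apply LinearMap.pi_ext
      intro i a
      apply KHom.ext
      change (freeMap κ n (Pi.single i a)).hom ≫ _ = _
      rw [freeMap_single_hom, Category.assoc, biproduct.ι_desc, ← KHom.smul_hom, ← map_smul]
      congr 2
      rw [← Pi.single_smul, smul_eq_mul, mul_one]
    · intro φ hφ
      apply biproduct.hom_ext'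
      intro i
      rw [biproduct.ι_desc]
      have := congrArg (KHom.hom κ) (LinearMap.congr_fun hφ (Pi.single i 1))
      simp only [LinearMap.comp_apply, post_hom] at this
      rw [freeMap_single_hom, map_one] at this
      rw [← this, Category.assoc]
      exact (Category.id_comp _).symm

end Free

section Cokernel

variable {κ}
variable [HasCokernels B]
variable {M' M M'' : Type u} [AddCommGroup M'] [Module A M'] [AddCommGroup M] [Module A M]
  [AddCommGroup M''] [Module A M'']
  {P' P : B} {u' : M' →ₗ[A] KHom κ P'} {u : M →ₗ[A] KHom κ P}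
  (h' : IsTensor κ u') (h : IsTensor κ u)
  (g : M' →ₗ[A] M) (π : M →ₗ[A] M'') (hπ : Function.Surjective π) (hex : Function.Exact g π)

include hex in
lemma ker_le_ker_post :
    LinearMap.ker π ≤ LinearMap.ker (post κ (cokernel.π (h'.map u g)) ∘ₗ u) := by
  intro m hm
  obtain ⟨m', rfl⟩ := (hex m).mp hm
  rw [LinearMap.mem_ker]
  apply KHom.ext
  change (u (g m')).hom ≫ cokernel.π (h'.map u g) = 0
  rw [← h'.map_spec u g m', Category.assoc, cokernel.condition, comp_zero]

/-- The universal map on the cokernel. -/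
noncomputable def cokerMap : M'' →ₗ[A] KHom κ (cokernel (h'.map u g)) :=
  ((LinearMap.ker π).liftQ (post κ (cokernel.π (h'.map u g)) ∘ₗ u)
      (ker_le_ker_post h' g π hex)) ∘ₗ
    (π.quotKerEquivOfSurjective hπ).symm.toLinearMap

lemma cokerMap_apply (m : M) :
    cokerMap (u := u) h' g π hπ hex (π m) = post κ (cokernel.π (h'.map u g)) (u m) := by
  unfold cokerMap
  rw [LinearMap.comp_apply, LinearEquiv.coe_coe, LinearMap.quotKerEquivOfSurjective_symm_apply,
    Submodule.liftQ_apply]
  rfl

include h in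
lemma isTensor_cokernel : IsTensor κ (cokerMap (u := u) h' g π hπ hex) where
  existsUnique T v := by
    have hz : h'.map u g ≫ h.desc (v ∘ₗ π) = 0 := by
      apply h'.hom_ext
      intro m'
      rw [← Category.assoc, h'.map_spec, h.fac_apply, comp_zero, LinearMap.comp_apply,
        hex.apply_apply_eq_zero, map_zero]
      rfl
    refine ⟨cokernel.desc _ (h.desc (v ∘ₗ π)) hz, ?_, ?_⟩
    · ext m''
      obtain ⟨m, rfl⟩ := hπ m''
      rw [LinearMap.comp_apply, cokerMap_apply]
      change ((u m).hom ≫ cokernel.π _) ≫ cokernel.desc _ _ hz = _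
      rw [Category.assoc, cokernel.π_desc, h.fac_apply]
      rfl
    · intro φ hφ
      rw [← cancel_epi (cokernel.π (h'.map u g)), cokernel.π_desc]
      apply h.hom_ext
      intro m
      rw [h.fac_apply, LinearMap.comp_apply, ← hφ, LinearMap.comp_apply, cokerMap_apply]
      change _ = ((u m).hom ≫ cokernel.π _) ≫ φ
      rw [Category.assoc]

end Cokernel

section Functor

open Groth.Agent.H34.FPMod

variable [HasFiniteBiproducts B] [HasCokernels B]

lemma exists_tensor (M : Type u) [AddCommGroup M] [Module A M] [Module.FinitePresentation A M] :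
    ∃ (P : B) (u : M →ₗ[A] KHom κ P), IsTensor κ u := by
  obtain ⟨n, m, f, g, hf, hfg⟩ := Module.FinitePresentation.exists_fin' A M
  exact ⟨_, _, isTensor_cokernel (isTensor_free κ m) (isTensor_free κ n) g f hf hfg⟩

lemma exists_tensor' (M : FP A) : ∃ (P : B) (u : M.obj →ₗ[A] KHom κ P), IsTensor κ u :=
  haveI : Module.FinitePresentation A M.obj := M.property
  exists_tensor κ M.obj

/-- The chosen tensor object. -/
noncomputable def tObj (M : FP A) : B := (exists_tensor' κ M).choose

/-- The chosen universal map. -/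
noncomputable def tMap (M : FP A) : M.obj →ₗ[A] KHom κ (tObj κ M) :=
  (exists_tensor' κ M).choose_spec.choose

lemma tIs (M : FP A) : IsTensor κ (tMap κ M) := (exists_tensor' κ M).choose_spec.choose_spec

/-- The functor `K ⊗_A -` on finitely presented modules. -/
noncomputable def tensorFunctor : FP A ⥤ B where
  obj := tObj κ
  map {M N} f := (tIs κ M).map (tMap κ N) f.hom.hom
  map_id M := by
    apply (tIs κ M).hom_ext
    intro m
    rw [IsTensor.map_spec, Category.comp_id]
    rfl
  map_comp {M N L} f g := by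
    apply (tIs κ M).hom_ext
    intro m
    rw [IsTensor.map_spec, ← Category.assoc, IsTensor.map_spec, IsTensor.map_spec]
    rfl

/-- The universal map, typed with `(tensorFunctor κ).obj M`. -/
noncomputable def uMap (M : FP A) : M.obj →ₗ[A] KHom κ ((tensorFunctor κ).obj M) := tMap κ M

lemma uIs (M : FP A) : IsTensor κ (uMap κ M) := tIs κ M

lemma tensorFunctor_map_spec {M N : FP A} (f : M ⟶ N) (m : M.obj) :
    (uMap κ M m).hom ≫ (tensorFunctor κ).map f = (uMap κ N (f.hom.hom m)).hom :=
  (uIs κ M).map_spec _ _ m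

lemma tensorFunctor_map_zero (M N : FP A) :
    (tensorFunctor κ).map (0 : M ⟶ N) = (0 : (tensorFunctor κ).obj M ⟶ (tensorFunctor κ).obj N) := by
  apply (uIs κ M).hom_ext
  intro m
  have h1 := tensorFunctor_map_spec κ (0 : M ⟶ N) m
  have h2 : (uMap κ N ((0 : M ⟶ N).hom.hom m)).hom = 0 := by
    change (uMap κ N ((0 : M.obj →ₗ[A] N.obj) m)).hom = 0
    rw [LinearMap.zero_apply, map_zero]
    rfl
  exact (h1.trans h2).trans comp_zero.symm

instance : (tensorFunctor κ).PreservesZeroMorphisms where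
  map_zero M N := tensorFunctor_map_zero κ M N

/-- The explicit cokernel of a morphism in `FP A`. -/
noncomputable def cokerObj {X Y : FP A} (f : X ⟶ Y) : FP A :=
  ⟨ModuleCat.of A (Y.obj ⧸ LinearMap.range f.hom.hom),
    fp_quotient_range A X.property Y.property f.hom⟩

/-- The projection to the explicit cokernel. -/
noncomputable def cokerπ {X Y : FP A} (f : X ⟶ Y) : Y ⟶ cokerObj f :=
  ObjectProperty.homMk (ModuleCat.ofHom (LinearMap.range f.hom.hom).mkQ)

lemma cokerπ_apply {X Y : FP A} (f : X ⟶ Y) (y : Y.obj) :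
    (cokerπ f).hom.hom y = (LinearMap.range f.hom.hom).mkQ y := rfl

lemma comp_cokerπ {X Y : FP A} (f : X ⟶ Y) : f ≫ cokerπ f = 0 := by
  apply ObjectProperty.hom_ext
  apply ModuleCat.hom_ext
  apply LinearMap.ext
  intro x
  exact (LinearMap.exact_map_mkQ_range f.hom.hom).apply_apply_eq_zero x

/-- The explicit cokernel is a cokernel. -/
noncomputable def isColimitCokerπ {X Y : FP A} (f : X ⟶ Y) :
    IsColimit (CokernelCofork.ofπ (cokerπ f) (comp_cokerπ f)) := by
  let S : ShortComplex (ModuleCat.{u} A) :=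
    ShortComplex.mk f.hom (ModuleCat.ofHom (LinearMap.range f.hom.hom).mkQ)
      (congrArg (fun g => g.hom) (comp_cokerπ f))
  have hS : S.Exact := (ShortComplex.ShortExact.moduleCat_exact_iff_function_exact S).mpr
    (LinearMap.exact_map_mkQ_range f.hom.hom)
  haveI : Epi S.g := (ModuleCat.epi_iff_surjective _).mpr (Submodule.mkQ_surjective _)
  have hcok : IsColimit (CokernelCofork.ofπ S.g S.zero) := hS.gIsCokernel
  apply isColimitOfReflects (fp A).ι
  exact (isColimitMapCoconeCoforkEquiv' (fp A).ι (comp_cokerπ f)).symm hcok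

/-- The linear map out of the explicit cokernel induced by a morphism killing `F f`. -/
noncomputable def cokerLift {X Y : FP A} (f : X ⟶ Y) {T : B} (s : (tensorFunctor κ).obj Y ⟶ T)
    (hs : (tensorFunctor κ).map f ≫ s = 0) : (cokerObj f).obj →ₗ[A] KHom κ T :=
  (LinearMap.range f.hom.hom).liftQ (post κ s ∘ₗ uMap κ Y) (by
    rintro _ ⟨x, rfl⟩
    rw [LinearMap.mem_ker]
    apply KHom.ext
    change (uMap κ Y (f.hom.hom x)).hom ≫ s = 0
    rw [← tensorFunctor_map_spec κ f x, Category.assoc, hs, comp_zero])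

lemma cokerLift_apply {X Y : FP A} (f : X ⟶ Y) {T : B} (s : (tensorFunctor κ).obj Y ⟶ T)
    (hs : (tensorFunctor κ).map f ≫ s = 0) (y : Y.obj) :
    (cokerLift κ f s hs ((LinearMap.range f.hom.hom).mkQ y)).hom = (uMap κ Y y).hom ≫ s := rfl

/-- `K ⊗_A -` maps the explicit cokernel to a cokernel. -/
noncomputable def isColimitMapCokerπ {X Y : FP A} (f : X ⟶ Y) :
    IsColimit (CokernelCofork.ofπ ((tensorFunctor κ).map (cokerπ f))
      (by rw [← Functor.map_comp, comp_cokerπ, Functor.map_zero]) :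
        Cofork ((tensorFunctor κ).map f) 0) :=
  CokernelCofork.IsColimit.ofπ _ _
    (fun {T} s hs => (uIs κ (cokerObj f)).desc (cokerLift κ f s hs))
    (fun {T} s hs => by
      apply (uIs κ Y).hom_ext
      intro y
      have h1 := tensorFunctor_map_spec κ (cokerπ f) y
      have h2 := (uIs κ (cokerObj f)).fac_apply (cokerLift κ f s hs)
        ((LinearMap.range f.hom.hom).mkQ y)
      rw [cokerLift_apply] at h2
      rw [← Category.assoc]
      exact (congrArg (· ≫ (uIs κ (cokerObj f)).desc (cokerLift κ f s hs)) h1).trans h2)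
    (fun {T} s hs m hm => by
      apply (uIs κ (cokerObj f)).hom_ext
      intro c
      obtain ⟨y, rfl⟩ := Submodule.mkQ_surjective _ c
      have h1 := tensorFunctor_map_spec κ (cokerπ f) y
      have h2 := (uIs κ (cokerObj f)).fac_apply (cokerLift κ f s hs)
        ((LinearMap.range f.hom.hom).mkQ y)
      rw [cokerLift_apply] at h2
      refine Eq.trans ?_ h2.symm
      rw [← hm, ← Category.assoc]
      exact (congrArg (· ≫ m) h1).symm)

instance preservesCokernel {X Y : FP A} (f : X ⟶ Y) :
    PreservesColimit (parallelPair f 0) (tensorFunctor κ) :=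
  preservesColimit_of_preserves_colimit_cocone (isColimitCokerπ f)
    ((isColimitMapCoconeCoforkEquiv' (tensorFunctor κ) (comp_cokerπ f)).symm
      (isColimitMapCokerπ κ f))

instance : PreservesFiniteColimits (tensorFunctor κ) := by
  haveI : HasZeroObject B := hasZeroObject_of_hasFiniteBiproducts B
  exact Functor.preservesFiniteColimits_of_preservesCokernels _

/-- `K ⊗_A A ≅ K`. -/
noncomputable def tensorUnitIso : (tensorFunctor κ).obj (AA A) ≅ K :=
  (uIs κ (AA A)).uniqueUpToIso (isTensor_unit κ)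

lemma tensorUnitIso_comm (a : A) :
    (tensorFunctor κ).map (mulA A a) ≫ (tensorUnitIso κ).hom =
      (tensorUnitIso κ).hom ≫ (κ a : K ⟶ K) := by
  apply (uIs κ (AA A)).hom_ext
  intro x
  have h1 := tensorFunctor_map_spec κ (mulA A a) x
  have h2 := (uIs κ (AA A)).uniqueUpToIso_hom_spec (isTensor_unit κ) ((mulA A a).hom.hom x)
  have h3 := (uIs κ (AA A)).uniqueUpToIso_hom_spec (isTensor_unit κ) x
  rw [← Category.assoc, ← Category.assoc]
  refine ((congrArg (· ≫ (tensorUnitIso κ).hom) h1).trans h2).trans ?_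
  refine Eq.trans ?_ (congrArg (· ≫ (κ a : K ⟶ K)) h3).symm
  change (κ (a * x) : K ⟶ K) = (κ x : K ⟶ K) ≫ (κ a : K ⟶ K)
  exact kappa_mul κ a x

end Functor

end Groth.Agent.H34.KTensor
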