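import Groth.Agent.H34.CompactEssSmall
import Groth.Agent.S6708
import Mathlib.CategoryTheory.Functor.KanExtension.Pointwise
import Mathlib.CategoryTheory.Limits.EssentiallySmall
import Mathlib.CategoryTheory.Comma.StructuredArrow.Small
import Mathlib.Algebra.Category.ModuleCat.FilteredColimits
import Mathlib.Algebra.Category.ModuleCat.Colimits
import Mathlib.CategoryTheory.Limits.ConcreteCategory.WithAlgebraicStructures
import Mathlib.Algebra.Homology.ShortComplex.ModuleCat

/-!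
# Left Kan extension from compact objects

For a compactly generated triangulated category `D` (with essentially small subcategory of
compact objects `Dc`) and a functor `Hs : Dc ⥤ ModuleCat k`, we study the pointwise left Kan
extension `G Hs : D ⥤ ModuleCat k` along the inclusion: elementwise description (`clsHom`),
additivity, homological property (when `Hs` is homological), preservation of coproducts.
-/

universe w v u

set_option linter.unusedSectionVars false

open CategoryTheory Limits Pretriangulated ZeroObject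

namespace Groth.Agent.H34.KanCompact

open Groth.Agent.H5.Compact

variable {D : Type u} [Category.{v} D] [Preadditive D] [HasZeroObject D] [HasShift D ℤ]
  [∀ n : ℤ, (shiftFunctor D n).Additive] [Pretriangulated D] [HasCoproducts.{v} D]

variable (D) in
abbrev Dc := (compactProp (D := D)).FullSubcategory

variable (D) in
abbrev ιc : Dc D ⥤ D := (compactProp (D := D)).ι

abbrev J (Z : D) := CostructuredArrow (ιc D) Z

instance (Z : D) : IsFiltered (J Z) := Groth.Agent.S6708.result compactProp Z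

variable {k : Type w} [Field k]

instance (Z : D) [EssentiallySmall.{v} (Dc D)] :
    PreservesColimitsOfShape (J Z) (forget (ModuleCat.{v} k)) := by
  have : IsFiltered (SmallModel.{v} (J Z)) := IsFiltered.of_equivalence (equivSmallModel.{v} (J Z))
  have h1 : PreservesColimitsOfShape (SmallModel.{v} (J Z))
      (forget₂ (ModuleCat.{v} k) AddCommGrpCat.{v}) := inferInstance
  have h2 : PreservesColimitsOfShape (SmallModel.{v} (J Z)) (forget AddCommGrpCat.{v}) :=
    inferInstance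
  have h3 : PreservesColimitsOfShape (SmallModel.{v} (J Z))
      (forget₂ (ModuleCat.{v} k) AddCommGrpCat.{v} ⋙ forget AddCommGrpCat.{v}) := inferInstance
  have h4 : PreservesColimitsOfShape (SmallModel.{v} (J Z)) (forget (ModuleCat.{v} k)) :=
    preservesColimitsOfShape_of_natIso
      (eqToIso (HasForget₂.forget_comp (C := ModuleCat.{v} k) (D := AddCommGrpCat.{v})))
  exact preservesColimitsOfShape_of_equiv (equivSmallModel.{v} (J Z)).symm _

instance (Z : D) [EssentiallySmall.{v} (Dc D)] :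
    HasColimitsOfShape (J Z) (ModuleCat.{v} k) :=
  hasColimitsOfShape_of_essentiallySmall.{v} (J Z) (ModuleCat.{v} k)

variable [EssentiallySmall.{v} (Dc D)] (Hs : Dc D ⥤ ModuleCat.{v} k)

instance : (ιc D).HasPointwiseLeftKanExtension Hs := fun Z => by
  dsimp [Functor.HasPointwiseLeftKanExtensionAt]
  infer_instance

noncomputable def G : D ⥤ ModuleCat.{v} k := (ιc D).pointwiseLeftKanExtension Hs

noncomputable def clsHom {Z : D} (C : Dc D) (c : C.obj ⟶ Z) : Hs.obj C ⟶ (G Hs).obj Z :=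
  colimit.ι (CostructuredArrow.proj (ιc D) Z ⋙ Hs) (CostructuredArrow.mk c)


variable {Hs}

lemma clsHom_map {Z Z' : D} (C : Dc D) (c : C.obj ⟶ Z) (f : Z ⟶ Z') :
    clsHom Hs C c ≫ (G Hs).map f = clsHom Hs C (c ≫ f) := by
  change colimit.ι _ _ ≫ ((ιc D).pointwiseLeftKanExtension Hs).map f = _
  rw [Functor.pointwiseLeftKanExtension_map]
  erw [colimit.ι_desc]
  rfl

lemma map_clsHom {Z : D} {C' C : Dc D} (u : C' ⟶ C) (c : C.obj ⟶ Z) :
    Hs.map u ≫ clsHom Hs C c = clsHom Hs C' (u.hom ≫ c) := by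
  let φ : (CostructuredArrow.mk (u.hom ≫ c) : J Z) ⟶ CostructuredArrow.mk c :=
    CostructuredArrow.homMk u rfl
  exact colimit.w (CostructuredArrow.proj (ιc D) Z ⋙ Hs) φ

lemma hom_ext {Z : D} {M : ModuleCat.{v} k} {f g : (G Hs).obj Z ⟶ M}
    (h : ∀ (C : Dc D) (c : C.obj ⟶ Z), clsHom Hs C c ≫ f = clsHom Hs C c ≫ g) : f = g := by
  apply colimit.hom_ext
  intro j
  exact h j.left j.hom

lemma exists_rep {Z : D} (g : (G Hs).obj Z) :
    ∃ (C : Dc D) (c : C.obj ⟶ Z) (x : Hs.obj C), clsHom Hs C c x = g := by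
  obtain ⟨j, x, hx⟩ := Concrete.colimit_exists_rep (CostructuredArrow.proj (ιc D) Z ⋙ Hs) g
  exact ⟨j.left, j.hom, x, hx⟩

lemma eq_zero_iff {Z : D} (C : Dc D) (c : C.obj ⟶ Z) (x : Hs.obj C) :
    clsHom Hs C c x = 0 ↔ ∃ (C' : Dc D) (u : C ⟶ C') (c' : C'.obj ⟶ Z),
      u.hom ≫ c' = c ∧ Hs.map u x = 0 := by
  constructor
  · intro h
    have h' : colimit.ι (CostructuredArrow.proj (ιc D) Z ⋙ Hs) (CostructuredArrow.mk c) x =
        colimit.ι (CostructuredArrow.proj (ιc D) Z ⋙ Hs) (CostructuredArrow.mk c) 0 := by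
      rw [map_zero]; exact h
    obtain ⟨j', i, i', hi⟩ := Concrete.colimit_exists_of_rep_eq
      (CostructuredArrow.proj (ιc D) Z ⋙ Hs) (i := CostructuredArrow.mk c)
      (j := CostructuredArrow.mk c) x 0 h'
    refine ⟨j'.left, i.left, j'.hom, CostructuredArrow.w i, ?_⟩
    rw [map_zero] at hi
    exact hi
  · rintro ⟨C', u, c', rfl, hx⟩
    rw [← map_clsHom]
    change (clsHom Hs C' c') (Hs.map u x) = 0
    rw [hx, map_zero]


lemma clsHom_map_apply {Z Z' : D} (C : Dc D) (c : C.obj ⟶ Z) (f : Z ⟶ Z') (x : Hs.obj C) :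
    (G Hs).map f (clsHom Hs C c x) = clsHom Hs C (c ≫ f) x := by
  rw [← clsHom_map]
  rfl

lemma map_clsHom_apply {Z : D} {C' C : Dc D} (u : C' ⟶ C) (c : C.obj ⟶ Z) (x' : Hs.obj C') :
    clsHom Hs C c (Hs.map u x') = clsHom Hs C' (u.hom ≫ c) x' := by
  rw [← map_clsHom]
  rfl

lemma compact_biprod (C C' : Dc D) : compactProp (C.obj ⊞ C'.obj) :=
  (compactProp (D := D)).ext_of_isTriangulatedClosed₂ _
    (binaryBiproductTriangle_distinguished C.obj C'.obj) C.property C'.property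

section Additive

variable [Hs.Additive]

lemma clsHom_add {Z : D} (C : Dc D) (c c' : C.obj ⟶ Z) :
    clsHom Hs C (c + c') = clsHom Hs C c + clsHom Hs C c' := by
  let B : Dc D := ⟨C.obj ⊞ C.obj, compact_biprod C C⟩
  let i₁ : C ⟶ B := ObjectProperty.homMk biprod.inl
  let i₂ : C ⟶ B := ObjectProperty.homMk biprod.inr
  have h1 : (i₁ + i₂).hom ≫ biprod.desc c c' = c + c' := by
    have : (i₁ + i₂).hom = biprod.inl + biprod.inr := rfl
    rw [this, Preadditive.add_comp, biprod.inl_desc, biprod.inr_desc]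
  have h2 : i₁.hom ≫ biprod.desc c c' = c := biprod.inl_desc _ _
  have h3 : i₂.hom ≫ biprod.desc c c' = c' := biprod.inr_desc _ _
  rw [← h1, ← map_clsHom, Functor.map_add, Preadditive.add_comp, map_clsHom, map_clsHom, h2, h3]

lemma clsHom_zero {Z : D} (C : Dc D) : clsHom Hs C (0 : C.obj ⟶ Z) = 0 := by
  have h := clsHom_add (Hs := Hs) C (0 : C.obj ⟶ Z) 0
  rw [add_zero] at h
  exact left_eq_add.mp h

/-- `clsHom` as an additive map in the structure morphism. -/
noncomputable def clsAdd {Z : D} (C : Dc D) : (C.obj ⟶ Z) →+ (Hs.obj C ⟶ (G Hs).obj Z) where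
  toFun c := clsHom Hs C c
  map_zero' := clsHom_zero C
  map_add' c c' := clsHom_add C c c'

instance : (G Hs).PreservesZeroMorphisms where
  map_zero Z Z' := by
    apply hom_ext
    intro C c
    rw [clsHom_map, comp_zero, comp_zero, clsHom_zero]

end Additive

/-- The exactness hypothesis on `Hs`. -/
def HsExact (Hs : Dc D ⥤ ModuleCat.{v} k) : Prop :=
  ∀ (T : Triangle D) (_ : T ∈ distTriang D) (h₁ : compactProp T.obj₁) (h₂ : compactProp T.obj₂)
    (h₃ : compactProp T.obj₃) (y : Hs.obj ⟨T.obj₂, h₂⟩),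
    Hs.map (ObjectProperty.homMk T.mor₂ : (⟨T.obj₂, h₂⟩ : Dc D) ⟶ ⟨T.obj₃, h₃⟩) y = 0 →
      ∃ x : Hs.obj ⟨T.obj₁, h₁⟩,
        Hs.map (ObjectProperty.homMk T.mor₁ : (⟨T.obj₁, h₁⟩ : Dc D) ⟶ ⟨T.obj₂, h₂⟩) x = y

theorem G_exact (hHs : HsExact Hs) (T : Triangle D) (hT : T ∈ distTriang D)
    (g : (G Hs).obj T.obj₂) (hg : (G Hs).map T.mor₂ g = 0) :
    ∃ g₁ : (G Hs).obj T.obj₁, (G Hs).map T.mor₁ g₁ = g := by
  obtain ⟨C, c, x, rfl⟩ := exists_rep g
  have h1 : clsHom Hs C (c ≫ T.mor₂) x = 0 := by rw [← clsHom_map_apply]; exact hg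
  obtain ⟨C₁, u, c₁, hu, hx⟩ := (eq_zero_iff _ _ _).1 h1
  obtain ⟨X₂, v, w, hT'⟩ := distinguished_cocone_triangle₁ u.hom
  have hX₂ : compactProp X₂ :=
    (compactProp (D := D)).ext_of_isTriangulatedClosed₁ _ hT' C.property C₁.property
  obtain ⟨(x₂ : Hs.obj (⟨X₂, hX₂⟩ : Dc D)), hx₂⟩ := hHs _ hT' hX₂ C.property C₁.property x hx
  have hx₂' : Hs.map (ObjectProperty.homMk v : (⟨X₂, hX₂⟩ : Dc D) ⟶ C) x₂ = x := hx₂
  have h2 : (v ≫ c) ≫ T.mor₂ = 0 := by
    have h0 : v ≫ u.hom = 0 := comp_distTriang_mor_zero₁₂ _ hT'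
    rw [Category.assoc, ← hu, ← Category.assoc, h0, zero_comp]
  obtain ⟨c₂, hc₂⟩ := Triangle.coyoneda_exact₂ _ hT (v ≫ c) h2
  refine ⟨clsHom Hs ⟨X₂, hX₂⟩ c₂ x₂, ?_⟩
  rw [clsHom_map_apply, ← hc₂, ← hx₂']
  exact (map_clsHom_apply (ObjectProperty.homMk v : (⟨X₂, hX₂⟩ : Dc D) ⟶ C) c x₂).symm

theorem G_isHomological [Hs.Additive] (hHs : HsExact Hs) : (G Hs).IsHomological where
  exact T hT := by
    rw [ShortComplex.moduleCat_exact_iff]
    intro x₂ hx₂
    exact G_exact hHs T hT x₂ hx₂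


section Coprod

open Classical

variable {κ : Type v} (Z : κ → D)

lemma exists_finset_decomp (C : Dc D) (c : C.obj ⟶ ∐ Z) :
    ∃ s : Finset κ, (∀ a ∉ s, c ≫ Sigma.π Z a = 0) ∧
      c = ∑ a ∈ s, (c ≫ Sigma.π Z a) ≫ Sigma.ι Z a := by
  obtain ⟨s, g, hg⟩ := finDecomp_of_compact C.property c
  have hπ : ∀ a, c ≫ Sigma.π Z a = if a ∈ s then g a else 0 := by
    intro a
    rw [hg, Preadditive.sum_comp]
    split_ifs with ha
    · rw [Finset.sum_eq_single a]
      · rw [Category.assoc, Sigma.ι_π_eq_id, Category.comp_id]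
      · intro b _ hb
        rw [Category.assoc, Sigma.ι_π_of_ne _ hb, comp_zero]
      · intro h
        exact absurd ha h
    · apply Finset.sum_eq_zero
      intro b hb
      have : b ≠ a := fun h => ha (h ▸ hb)
      rw [Category.assoc, Sigma.ι_π_of_ne _ this, comp_zero]
  refine ⟨s, fun a ha => by rw [hπ, if_neg ha], ?_⟩
  conv_lhs => rw [hg]
  apply Finset.sum_congr rfl
  intro a ha
  rw [hπ, if_pos ha]

variable [Hs.Additive] {M : ModuleCat.{v} k} (t : ∀ a, (G Hs).obj (Z a) ⟶ M)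

/-- The component of the descent map on the class of `c : C ⟶ ∐ Z`. -/
noncomputable def dcomp (C : Dc D) (c : C.obj ⟶ ∐ Z) : Hs.obj C ⟶ M :=
  ∑ᶠ a, clsHom Hs C (c ≫ Sigma.π Z a) ≫ t a

lemma dcomp_eq_sum (C : Dc D) (c : C.obj ⟶ ∐ Z) (s : Finset κ)
    (hs : ∀ a ∉ s, c ≫ Sigma.π Z a = 0) :
    dcomp Z t C c = ∑ a ∈ s, clsHom Hs C (c ≫ Sigma.π Z a) ≫ t a := by
  apply finsum_eq_sum_of_support_subset
  intro a ha
  by_contra h
  apply ha
  change clsHom Hs C (c ≫ Sigma.π Z a) ≫ t a = 0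
  rw [hs a h, clsHom_zero, zero_comp]

lemma dcomp_naturality {C' C : Dc D} (u : C' ⟶ C) (c : C.obj ⟶ ∐ Z) :
    Hs.map u ≫ dcomp Z t C c = dcomp Z t C' (u.hom ≫ c) := by
  obtain ⟨s, hs, -⟩ := exists_finset_decomp Z C c
  have hs' : ∀ a ∉ s, (u.hom ≫ c) ≫ Sigma.π Z a = 0 := fun a ha => by
    rw [Category.assoc, hs a ha, comp_zero]
  rw [dcomp_eq_sum Z t C c s hs, dcomp_eq_sum Z t C' _ s hs', Preadditive.comp_sum]
  apply Finset.sum_congr rfl
  intro a _
  rw [← Category.assoc, map_clsHom, Category.assoc]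

/-- The descent map out of `G (∐ Z)`. -/
noncomputable def descG : (G Hs).obj (∐ Z) ⟶ M :=
  colimit.desc (CostructuredArrow.proj (ιc D) (∐ Z) ⋙ Hs)
    { pt := M
      ι :=
        { app := fun j => dcomp Z t j.left j.hom
          naturality := fun j j' φ => by
            have h := dcomp_naturality Z t φ.left j'.hom
            have hw : φ.left.hom ≫ j'.hom = j.hom := CostructuredArrow.w φ
            rw [hw] at h
            exact h.trans (Category.comp_id _).symm } }

lemma clsHom_descG (C : Dc D) (c : C.obj ⟶ ∐ Z) :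
    clsHom Hs C c ≫ descG Z t = dcomp Z t C c :=
  colimit.ι_desc _ _

lemma map_ι_descG (b : κ) : (G Hs).map (Sigma.ι Z b) ≫ descG Z t = t b := by
  apply hom_ext
  intro C c
  rw [← Category.assoc, clsHom_map, clsHom_descG]
  have hs : ∀ a ∉ ({b} : Finset κ), (c ≫ Sigma.ι Z b) ≫ Sigma.π Z a = 0 := by
    intro a ha
    have : b ≠ a := fun h => ha (by rw [h]; exact Finset.mem_singleton_self a)
    rw [Category.assoc, Sigma.ι_π_of_ne _ this, comp_zero]
  rw [dcomp_eq_sum Z t C _ {b} hs, Finset.sum_singleton, Category.assoc, Sigma.ι_π_eq_id,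
    Category.comp_id]

lemma descG_uniq (m : (G Hs).obj (∐ Z) ⟶ M) (hm : ∀ a, (G Hs).map (Sigma.ι Z a) ≫ m = t a) :
    m = descG Z t := by
  apply hom_ext
  intro C c
  rw [clsHom_descG]
  obtain ⟨s, hs, hc⟩ := exists_finset_decomp Z C c
  rw [dcomp_eq_sum Z t C c s hs]
  conv_lhs => rw [hc]
  change clsAdd (Hs := Hs) C (∑ a ∈ s, (c ≫ Sigma.π Z a) ≫ Sigma.ι Z a) ≫ m = _
  rw [map_sum, Preadditive.sum_comp]
  apply Finset.sum_congr rfl
  intro a _
  change clsHom Hs C ((c ≫ Sigma.π Z a) ≫ Sigma.ι Z a) ≫ m = _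
  rw [← clsHom_map, Category.assoc, hm]

/-- `G` sends the coproduct cofan to a colimit cofan. -/
noncomputable def isColimitCofan :
    IsColimit (Cofan.mk ((G Hs).obj (∐ Z)) (fun a => (G Hs).map (Sigma.ι Z a))) :=
  Cofan.IsColimit.mk _ (fun s => descG Z s.inj) (fun s b => map_ι_descG Z s.inj b)
    (fun s m hm => descG_uniq Z s.inj m hm)

instance : PreservesColimit (Discrete.functor Z) (G Hs) :=
  preservesColimit_of_preserves_colimit_cocone (coproductIsCoproduct Z)
    ((isColimitMapCoconeCofanMkEquiv _ _ _).symm (isColimitCofan Z))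

instance (κ : Type v) : PreservesColimitsOfShape (Discrete κ) (G Hs) :=
  preservesColimitsOfShape_of_discrete _

end Coprod

instance isIso_clsHom_id (C : Dc D) : IsIso (clsHom Hs C (𝟙 C.obj)) :=
  isIso_ι_of_isTerminal (CostructuredArrow.mkIdTerminal (S := ιc D) (Y := C)) _

end Groth.Agent.H34.KanCompact
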