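import Mathlib.CategoryTheory.Idempotents.Basic
import Mathlib.CategoryTheory.Limits.Shapes.Countable
import Mathlib.CategoryTheory.Limits.Shapes.Opposites.Kernels
import Mathlib.CategoryTheory.Limits.Shapes.Opposites.Products
import Mathlib.CategoryTheory.Preadditive.Opposite

set_option autoImplicit false
open CategoryTheory CategoryTheory.Limits
universe v u

namespace Groth.Agent.H34

variable {D : Type u} [Category.{v} D] [Preadditive D]

section

variable [HasCountableProducts D] {X : D} (e : X ⟶ X)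

/-- The shift-type endomorphism `Φ` of the countable power of `X`. -/
noncomputable def swPhi : (∏ᶜ fun _ : ℕ => X) ⟶ ∏ᶜ fun _ : ℕ => X :=
  Pi.lift fun n => Pi.π (fun _ : ℕ => X) n ≫ e + Pi.π (fun _ : ℕ => X) (n + 1) ≫ (𝟙 X - e)

/-- Components of the right inverse `Ψ` of `Φ`. -/
noncomputable def swPsiComp : ℕ → ((∏ᶜ fun _ : ℕ => X) ⟶ X)
  | 0 => Pi.π (fun _ : ℕ => X) 0
  | m + 1 => Pi.π (fun _ : ℕ => X) m ≫ (𝟙 X - e) + Pi.π (fun _ : ℕ => X) (m + 1) ≫ e

/-- The right inverse `Ψ` of `Φ`. -/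
noncomputable def swPsi : (∏ᶜ fun _ : ℕ => X) ⟶ ∏ᶜ fun _ : ℕ => X :=
  Pi.lift (swPsiComp e)

/-- The family `(g, 0, 0, ...)`. -/
def swFirst {W : D} (g : W ⟶ X) : ℕ → (W ⟶ X)
  | 0 => g
  | _ + 1 => 0

lemma swPhi_π (n : ℕ) : swPhi e ≫ Pi.π (fun _ : ℕ => X) n =
    Pi.π (fun _ : ℕ => X) n ≫ e + Pi.π (fun _ : ℕ => X) (n + 1) ≫ (𝟙 X - e) := by
  unfold swPhi
  rw [Pi.lift_π]

lemma swPsi_π (n : ℕ) : swPsi e ≫ Pi.π (fun _ : ℕ => X) n = swPsiComp e n := by
  unfold swPsi
  rw [Pi.lift_π]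

lemma swPsi_swPhi (he : e ≫ e = e) : swPsi e ≫ swPhi e = 𝟙 _ := by
  have h1 : e ≫ (𝟙 X - e) = 0 := by rw [Preadditive.comp_sub, Category.comp_id, he, sub_self]
  have h2 : (𝟙 X - e) ≫ e = 0 := by rw [Preadditive.sub_comp, Category.id_comp, he, sub_self]
  have h3 : (𝟙 X - e) ≫ (𝟙 X - e) = 𝟙 X - e := Idempotents.idem_of_id_sub_idem e he
  refine Pi.hom_ext _ _ fun n => ?_
  rw [Category.id_comp, Category.assoc, swPhi_π, Preadditive.comp_add, ← Category.assoc,
    ← Category.assoc, swPsi_π, swPsi_π]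
  cases n with
  | zero =>
    simp only [swPsiComp, Category.assoc, Preadditive.add_comp, h1, h3, comp_zero, add_zero]
    rw [← Preadditive.comp_add, add_sub_cancel, Category.comp_id]
  | succ m =>
    simp only [swPsiComp, Category.assoc, Preadditive.add_comp, h1, h2, h3, he, comp_zero,
      add_zero, zero_add]
    rw [← Preadditive.comp_add, add_sub_cancel, Category.comp_id]

lemma hasKernel_of_idem_of_swindle (he : e ≫ e = e)
    (hk : ∀ ⦃X Y : D⦄ (f : X ⟶ Y), IsSplitEpi f → HasKernel f) : HasKernel e := by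
  have h1 : e ≫ (𝟙 X - e) = 0 := by rw [Preadditive.comp_sub, Category.comp_id, he, sub_self]
  have h2 : (𝟙 X - e) ≫ e = 0 := by rw [Preadditive.sub_comp, Category.id_comp, he, sub_self]
  have h3 : (𝟙 X - e) ≫ (𝟙 X - e) = 𝟙 X - e := Idempotents.idem_of_id_sub_idem e he
  have hsplit : IsSplitEpi (swPhi e) := ⟨⟨⟨swPsi e, swPsi_swPhi e he⟩⟩⟩
  have : HasKernel (swPhi e) := hk _ hsplit
  -- the basic relation
  have hrel : ∀ n : ℕ, kernel.ι (swPhi e) ≫ (Pi.π (fun _ : ℕ => X) n ≫ e +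
      Pi.π (fun _ : ℕ => X) (n + 1) ≫ (𝟙 X - e)) = 0 := by
    intro n
    have := kernel.condition (swPhi e) =≫ Pi.π (fun _ : ℕ => X) n
    rwa [Category.assoc, zero_comp, swPhi_π] at this
  have hA : ∀ n : ℕ, kernel.ι (swPhi e) ≫ Pi.π (fun _ : ℕ => X) n ≫ e = 0 := by
    intro n
    have := hrel n =≫ e
    simpa only [Preadditive.add_comp, Preadditive.comp_add, Category.assoc, he, h2, comp_zero,
      add_zero, zero_comp] using this
  have hB : ∀ n : ℕ, kernel.ι (swPhi e) ≫ Pi.π (fun _ : ℕ => X) (n + 1) = 0 := by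
    intro n
    have := hrel n =≫ (𝟙 X - e)
    simp only [Preadditive.add_comp, Preadditive.comp_add, Category.assoc, h1, h3, comp_zero,
      zero_add, zero_comp] at this
    have h4 : kernel.ι (swPhi e) ≫ Pi.π (fun _ : ℕ => X) (n + 1) =
        kernel.ι (swPhi e) ≫ Pi.π (fun _ : ℕ => X) (n + 1) ≫ e +
          kernel.ι (swPhi e) ≫ Pi.π (fun _ : ℕ => X) (n + 1) ≫ (𝟙 X - e) := by
      rw [← Preadditive.comp_add, ← Preadditive.comp_add, add_sub_cancel, Category.comp_id]
    rw [h4, hA, this, add_zero]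
  have hw : (kernel.ι (swPhi e) ≫ Pi.π (fun _ : ℕ => X) 0) ≫ e = 0 := by
    rw [Category.assoc]; exact hA 0
  refine ⟨⟨⟨KernelFork.ofι _ hw, ?_⟩⟩⟩
  refine KernelFork.IsLimit.ofι _ hw
    (fun {W} g hg => kernel.lift (swPhi e) (Pi.lift (swFirst g)) ?_) ?_ ?_
  · refine Pi.hom_ext _ _ fun n => ?_
    rw [Category.assoc, zero_comp, swPhi_π, Preadditive.comp_add, Pi.lift_π_assoc,
      Pi.lift_π_assoc]
    cases n with
    | zero => simp only [swFirst, hg, zero_comp, add_zero]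
    | succ m => simp only [swFirst, zero_comp, add_zero]
  · intro W g hg
    rw [kernel.lift_ι_assoc, Pi.lift_π]
    rfl
  · intro W g hg b hb
    rw [← cancel_mono (kernel.ι (swPhi e)), kernel.lift_ι]
    refine Pi.hom_ext _ _ fun n => ?_
    rw [Pi.lift_π, Category.assoc]
    cases n with
    | zero => exact hb
    | succ m => simp only [swFirst, hB, comp_zero]

theorem isIdempotentComplete_of_countableProducts
    (hk : ∀ ⦃X Y : D⦄ (f : X ⟶ Y), IsSplitEpi f → HasKernel f) : IsIdempotentComplete D := by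
  rw [Idempotents.isIdempotentComplete_iff_idempotents_have_kernels]
  intro X p hp
  exact hasKernel_of_idem_of_swindle p hp hk

end

section

variable [HasCountableCoproducts D]

theorem isIdempotentComplete_of_countableCoproducts
    (hk : ∀ ⦃X Y : D⦄ (f : X ⟶ Y), IsSplitMono f → HasCokernel f) : IsIdempotentComplete D := by
  apply Idempotents.isIdempotentComplete_of_isIdempotentComplete_opposite
  have : HasCountableProducts Dᵒᵖ := ⟨fun J _ => inferInstance⟩
  apply isIdempotentComplete_of_countableProducts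
  intro X Y f hf
  obtain ⟨⟨⟨s, hs⟩⟩⟩ := hf
  have hsm : IsSplitMono f.unop := ⟨⟨⟨s.unop, by
    rw [← unop_comp, hs]; rfl⟩⟩⟩
  have : HasCokernel f.unop := hk _ hsm
  have hlim := CokernelCofork.IsColimit.ofπOp (cokernel.π f.unop) (cokernel.condition f.unop)
    (cokernelIsCokernel f.unop)
  exact ⟨⟨⟨_, hlim⟩⟩⟩

end

end Groth.Agent.H34
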