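import Mathlib.CategoryTheory.Presentable.Dense
import Mathlib.CategoryTheory.Presentable.Finite
import Mathlib.CategoryTheory.Functor.KanExtension.Pointwise
import Mathlib.CategoryTheory.Functor.KanExtension.Dense

/-!
# Left Kan extensions along a dense functor with finitely presentable values (helper34)

* `isColimitMapCocone`: a pointwise left Kan extension along `L : C₀ ⥤ C` whose values `L.obj Q` are
  finitely presentable preserves filtered colimits.
* `isPointwiseLeftKanExtensionOfPreserves`: if `L` is dense with filtered essentially small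
  costructured arrow categories, a functor preserving filtered colimits is the pointwise left
  Kan extension of its restriction.
-/

set_option autoImplicit false

universe w v₀ v₁ v₂ u₀ u₁ u₂

open CategoryTheory CategoryTheory.Limits CategoryTheory.Functor

namespace Groth.Agent.H34.LanFiltered

variable {C₀ : Type u₀} [Category.{v₀} C₀] {C : Type u₁} [Category.{v₁} C]
  {B : Type u₂} [Category.{v₂} B] {L : C₀ ⥤ C} {F : C₀ ⥤ B} (E : L.LeftExtension F)

lemma comp_aux {X Y Z : C} {W T : B} (G : C ⥤ B) (a : W ⟶ G.obj X) (f : X ⟶ Y) (g : Y ⟶ Z)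
    (d : G.obj Z ⟶ T) : a ≫ G.map f ≫ G.map g ≫ d = a ≫ G.map (f ≫ g) ≫ d := by
  rw [Functor.map_comp, Category.assoc]

section Preserves

variable [∀ Q, IsFinitelyPresentable.{w} (L.obj Q)]
  {J : Type w} [SmallCategory J] [IsFiltered J] {K : J ⥤ C} {c : Cocone K} (hc : IsColimit c)

include hc in
lemma indep (s : Cocone (K ⋙ E.right)) {Q : C₀} {j j' : J} (g : L.obj Q ⟶ K.obj j)
    (g' : L.obj Q ⟶ K.obj j') (h : g ≫ c.ι.app j = g' ≫ c.ι.app j') :
    E.right.map g ≫ s.ι.app j = E.right.map g' ≫ s.ι.app j' := by
  obtain ⟨k, u, v, huv⟩ := IsFinitelyPresentable.exists_eq_of_isColimit hc g g' h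
  have hj := s.w u
  have hj' := s.w v
  rw [← hj, ← hj']
  change E.right.map g ≫ E.right.map (K.map u) ≫ _ = E.right.map g' ≫ E.right.map (K.map v) ≫ _
  rw [← Category.assoc, ← Functor.map_comp, huv, Functor.map_comp, Category.assoc]

/-- chosen index -/
noncomputable def idx (X : CostructuredArrow L c.pt) : J :=
  (IsFinitelyPresentable.exists_hom_of_isColimit hc X.hom).choose

/-- chosen factorization -/
noncomputable def fac (X : CostructuredArrow L c.pt) : L.obj X.left ⟶ K.obj (idx hc X) :=
  (IsFinitelyPresentable.exists_hom_of_isColimit hc X.hom).choose_spec.choose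

lemma fac_spec (X : CostructuredArrow L c.pt) : fac hc X ≫ c.ι.app (idx hc X) = X.hom :=
  (IsFinitelyPresentable.exists_hom_of_isColimit hc X.hom).choose_spec.choose_spec

/-- The cocone over the canonical diagram induced by a cocone over `K ⋙ E.right`. -/
noncomputable def auxCocone (s : Cocone (K ⋙ E.right)) :
    Cocone (CostructuredArrow.proj L c.pt ⋙ F) where
  pt := s.pt
  ι :=
    { app := fun X => E.hom.app X.left ≫ E.right.map (fac hc X) ≫ s.ι.app (idx hc X)
      naturality := fun X Y φ => by
        have h1 : F.map φ.left ≫ E.hom.app Y.left = E.hom.app X.left ≫ E.right.map (L.map φ.left) :=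
          E.hom.naturality φ.left
        have h2 : E.right.map (L.map φ.left ≫ fac hc Y) ≫ s.ι.app (idx hc Y) =
            E.right.map (fac hc X) ≫ s.ι.app (idx hc X) := by
          apply indep E hc s
          rw [Category.assoc, fac_spec, fac_spec]
          exact CostructuredArrow.w φ
        have key : F.map φ.left ≫ (E.hom.app Y.left ≫ E.right.map (fac hc Y) ≫ s.ι.app (idx hc Y)) =
            E.hom.app X.left ≫ E.right.map (fac hc X) ≫ s.ι.app (idx hc X) :=
          calc F.map φ.left ≫ (E.hom.app Y.left ≫ E.right.map (fac hc Y) ≫ s.ι.app (idx hc Y))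
              = (F.map φ.left ≫ E.hom.app Y.left) ≫ E.right.map (fac hc Y) ≫
                  s.ι.app (idx hc Y) := (Category.assoc _ _ _).symm
            _ = (E.hom.app X.left ≫ E.right.map (L.map φ.left)) ≫
                  E.right.map (fac hc Y) ≫ s.ι.app (idx hc Y) := by rw [h1]
            _ = E.hom.app X.left ≫ (E.right.map (L.map φ.left ≫ fac hc Y) ≫
                  s.ι.app (idx hc Y)) := by
                rw [Functor.map_comp, Category.assoc, Category.assoc]
            _ = _ := by rw [h2]
        exact key.trans (Category.comp_id _).symm }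

lemma auxCocone_ι_app (s : Cocone (K ⋙ E.right)) (X : CostructuredArrow L c.pt) :
    (auxCocone E hc s).ι.app X =
      E.hom.app X.left ≫ E.right.map (fac hc X) ≫ s.ι.app (idx hc X) := rfl

omit [∀ Q, IsFinitelyPresentable.{w} (L.obj Q)] in
variable {E} in
lemma desc_fac' {M : C} (h : E.IsPointwiseLeftKanExtensionAt M)
    (t : Cocone (CostructuredArrow.proj L M ⋙ F)) (X : CostructuredArrow L M) :
    E.hom.app X.left ≫ E.right.map X.hom ≫ h.desc t = t.ι.app X :=
  (Category.assoc _ _ _).symm.trans (h.fac t X)

variable (hE : E.IsPointwiseLeftKanExtension)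

/-- A pointwise left Kan extension along a functor with finitely presentable values
preserves filtered colimits. -/
noncomputable def isColimitMapCocone : IsColimit (E.right.mapCocone c) :=
  have hpt : IsColimit (E.coconeAt c.pt) := hE c.pt
  { desc := fun s => hpt.desc (auxCocone E hc s)
    fac := fun s j => by
      apply (hE (K.obj j)).hom_ext'
      intro Q φ
      let X : CostructuredArrow L c.pt := CostructuredArrow.mk (φ ≫ c.ι.app j)
      have h2 : E.hom.app Q ≫ E.right.map (φ ≫ c.ι.app j) ≫ hpt.desc (auxCocone E hc s) =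
          E.hom.app Q ≫ E.right.map (fac hc X) ≫ s.ι.app (idx hc X) :=
        desc_fac' hpt (auxCocone E hc s) X
      have h3 : E.right.map (fac hc X) ≫ s.ι.app (idx hc X) = E.right.map φ ≫ s.ι.app j := by
        apply indep E hc s
        rw [fac_spec]
        rfl
      have h1 : E.hom.app Q ≫ E.right.map φ ≫ E.right.map (c.ι.app j) ≫
            hpt.desc (auxCocone E hc s) =
          E.hom.app Q ≫ E.right.map (φ ≫ c.ι.app j) ≫ hpt.desc (auxCocone E hc s) := by
        exact comp_aux E.right _ _ _ _
      have h4 : E.hom.app Q ≫ E.right.map (fac hc X) ≫ s.ι.app (idx hc X) =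
          E.hom.app Q ≫ E.right.map φ ≫ s.ι.app j := by rw [h3]
      exact (h1.trans h2).trans h4
    uniq := fun s m hm => by
      apply (hE c.pt).hom_ext'
      intro Q φ
      let X : CostructuredArrow L c.pt := CostructuredArrow.mk φ
      have h2 : E.hom.app Q ≫ E.right.map φ ≫ hpt.desc (auxCocone E hc s) =
          E.hom.app Q ≫ E.right.map (fac hc X) ≫ s.ι.app (idx hc X) :=
        desc_fac' hpt (auxCocone E hc s) X
      have h3 : E.right.map (c.ι.app (idx hc X)) ≫ m = s.ι.app (idx hc X) := hm (idx hc X)
      have h4 : E.right.map φ = E.right.map (fac hc X) ≫ E.right.map (c.ι.app (idx hc X)) := by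
        rw [← Functor.map_comp, fac_spec]
        rfl
      have h5 : E.hom.app Q ≫ E.right.map φ ≫ m =
          E.hom.app Q ≫ E.right.map (fac hc X) ≫ s.ι.app (idx hc X) := by
        rw [h4, Category.assoc, h3]
      exact h5.trans h2.symm }

include hE in
lemma preservesFilteredColimitsOfSize : PreservesFilteredColimitsOfSize.{w, w} E.right where
  preserves_filtered_colimits _ _ _ :=
    ⟨fun {_} => ⟨fun {_} hc => ⟨isColimitMapCocone E hc hE⟩⟩⟩

end Preserves

section Unique

variable [L.IsDense] [∀ M : C, IsFiltered (CostructuredArrow L M)]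
  [∀ M : C, EssentiallySmall.{w} (CostructuredArrow L M)]

omit [L.IsDense] in
lemma preservesColimitsOfShape_costructuredArrow (G : C ⥤ B)
    [PreservesFilteredColimitsOfSize.{w, w} G] (M : C) :
    PreservesColimitsOfShape (CostructuredArrow L M) G := by
  let e := equivSmallModel.{w} (CostructuredArrow L M)
  have : IsFiltered (SmallModel.{w} (CostructuredArrow L M)) := IsFiltered.of_equivalence e
  have : PreservesColimitsOfShape (SmallModel.{w} (CostructuredArrow L M)) G :=
    PreservesFilteredColimitsOfSize.preserves_filtered_colimits _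
  exact preservesColimitsOfShape_of_equiv e.symm G

omit [L.IsDense] in
lemma hasColimitsOfShape_costructuredArrow [HasFilteredColimitsOfSize.{w, w} B] (M : C) :
    HasColimitsOfShape (CostructuredArrow L M) B := by
  let e := equivSmallModel.{w} (CostructuredArrow L M)
  have : IsFiltered (SmallModel.{w} (CostructuredArrow L M)) := IsFiltered.of_equivalence e
  have : HasColimitsOfShape (SmallModel.{w} (CostructuredArrow L M)) B :=
    HasFilteredColimitsOfSize.HasColimitsOfShape _
  exact hasColimitsOfShape_of_equivalence e.symm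

/-- A functor preserving filtered colimits is the pointwise left Kan extension of its restriction
along a dense functor with filtered essentially small costructured arrow categories. -/
noncomputable def isPointwiseLeftKanExtensionOfPreserves (G : C ⥤ B)
    [PreservesFilteredColimitsOfSize.{w, w} G] :
    (LeftExtension.mk G (𝟙 (L ⋙ G))).IsPointwiseLeftKanExtension := fun M => by
  haveI := preservesColimitsOfShape_costructuredArrow.{w} (L := L) G M
  exact IsColimit.ofIsoColimit (isColimitOfPreserves G (L.denseAt M))
    (Cocone.ext (Iso.refl _) (fun X => by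
      change G.map (𝟙 _ ≫ X.hom) ≫ 𝟙 _ = 𝟙 _ ≫ G.map X.hom
      simp))

/-- Two functors preserving filtered colimits with isomorphic restrictions are isomorphic. -/
lemma nonempty_iso_of_restriction_iso (G₁ G₂ : C ⥤ B)
    [PreservesFilteredColimitsOfSize.{w, w} G₁] [PreservesFilteredColimitsOfSize.{w, w} G₂]
    (e : L ⋙ G₁ ≅ L ⋙ G₂) : Nonempty (G₁ ≅ G₂) := by
  have : G₁.IsLeftKanExtension (𝟙 (L ⋙ G₁)) :=
    (isPointwiseLeftKanExtensionOfPreserves.{w} (L := L) G₁).isLeftKanExtension
  have : G₂.IsLeftKanExtension (𝟙 (L ⋙ G₂)) :=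
    (isPointwiseLeftKanExtensionOfPreserves.{w} (L := L) G₂).isLeftKanExtension
  exact ⟨leftKanExtensionUniqueOfIso G₁ (𝟙 (L ⋙ G₁)) e G₂ (𝟙 (L ⋙ G₂))⟩

end Unique

end Groth.Agent.H34.LanFiltered
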