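import Mathlib.CategoryTheory.CofilteredSystem
import Mathlib.Algebra.Category.Grp.Limits
import Mathlib.Algebra.Category.Grp.Abelian
import Mathlib.CategoryTheory.Limits.HasLimits
import Mathlib.CategoryTheory.Limits.ConcreteCategory.Basic
import Mathlib.CategoryTheory.Limits.Types.Images

/-!
# Mittag-Leffler systems of abelian groups over `ℕ` and exactness of limits
-/

set_option autoImplicit false
universe u

open CategoryTheory CategoryTheory.Limits Opposite

namespace Groth.Agent.H34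

/-- A Mittag-Leffler system of nonempty sets over `ℕ` has a section. -/
lemma nonempty_sections_of_isMittagLeffler (F : ℕᵒᵖ ⥤ Type u) (h : F.IsMittagLeffler)
    [∀ j, Nonempty (F.obj j)] : F.sections.Nonempty := by
  have hsurj : ∀ n, Function.Surjective
      (F.toEventualRanges.map (homOfLE (Nat.le_succ n)).op) := fun n =>
    F.surjective_toEventualRanges h _
  have h0 := Types.surjective_π_app_zero_of_surjective_map
    (Types.limitConeIsLimit F.toEventualRanges) hsurj
  obtain ⟨g₀⟩ := F.toEventualRanges_nonempty h ⟨0⟩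
  obtain ⟨s, -⟩ := h0 g₀
  exact ⟨_, (F.toEventualRangesSectionsEquiv s).2⟩

section Ab

variable (F : ℕᵒᵖ ⥤ AddCommGrpCat.{u})

/-- Elements of a limit of abelian groups are determined by their components. -/
lemma limit_ext_ab (x y : (limit F : AddCommGrpCat.{u})) (h : ∀ j, limit.π F j x = limit.π F j y) :
    x = y :=
  Concrete.limit_ext F x y h

/-- Construct an element of the limit from a compatible family. -/
noncomputable def limitMk (s : ∀ j, F.obj j) (hs : ∀ ⦃j j' : ℕᵒᵖ⦄ (f : j ⟶ j'), F.map f (s j) = s j') :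
    (limit F : AddCommGrpCat.{u}) :=
  (Types.isLimitEquivSections (isLimitOfPreserves (forget AddCommGrpCat) (limit.isLimit F))).symm
    ⟨s, fun f => hs f⟩

lemma limit_π_limitMk (s : ∀ j, F.obj j) (hs : ∀ ⦃j j' : ℕᵒᵖ⦄ (f : j ⟶ j'), F.map f (s j) = s j')
    (j : ℕᵒᵖ) : limit.π F j (limitMk F s hs) = s j :=
  Types.isLimitEquivSections_symm_apply
    (isLimitOfPreserves (forget AddCommGrpCat) (limit.isLimit F)) ⟨s, fun f => hs f⟩ j

lemma limit_w_apply {j j' : ℕᵒᵖ} (f : j ⟶ j') (x : (limit F : AddCommGrpCat.{u})) :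
    F.map f (limit.π F j x) = limit.π F j' x := by
  rw [← ConcreteCategory.comp_apply, limit.w]

end Ab

lemma limMap_π_apply {F G : ℕᵒᵖ ⥤ AddCommGrpCat.{u}} (α : F ⟶ G) (j : ℕᵒᵖ)
    (x : (limit F : AddCommGrpCat.{u})) :
    limit.π G j (limMap α x) = α.app j (limit.π F j x) := by
  rw [← ConcreteCategory.comp_apply, limMap_π, ConcreteCategory.comp_apply]

/-- The key Mittag-Leffler lifting statement, in terms of compatible families: if `A ⟶ B ⟶ C` is
exact at `B` levelwise (only `Ker b ≤ Im a` and `b ∘ a = 0` are used), `A` is Mittag-Leffler, and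
`x` is a compatible family in `C` which is levelwise in the image of `B`, then `x` lifts to a
compatible family of `B`. -/
theorem exists_section_lift_of_isMittagLeffler {A B C : ℕᵒᵖ ⥤ AddCommGrpCat.{u}} (a : A ⟶ B)
    (b : B ⟶ C) (hB : ∀ i, (b.app i).hom.ker = (a.app i).hom.range)
    (hA : (A ⋙ forget AddCommGrpCat).IsMittagLeffler)
    (x : ∀ j, C.obj j) (hxc : ∀ ⦃j j' : ℕᵒᵖ⦄ (f : j ⟶ j'), C.map f (x j) = x j')
    (hx : ∀ i, x i ∈ (b.app i).hom.range) :
    ∃ y : ∀ j, B.obj j, (∀ ⦃j j' : ℕᵒᵖ⦄ (f : j ⟶ j'), B.map f (y j) = y j') ∧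
      ∀ j, b.app j (y j) = x j := by
  have hba : ∀ i (α : A.obj i), b.app i (a.app i α) = 0 := by
    intro i α
    have : a.app i α ∈ (b.app i).hom.ker := by
      rw [hB i]
      exact ⟨α, rfl⟩
    exact this
  -- the system of fibres
  let E : ℕᵒᵖ ⥤ Type u :=
    { obj := fun j => {y : B.obj j // b.app j y = x j}
      map := fun {j j'} f => ↾(fun y => ⟨B.map f y.1, by
        rw [NatTrans.naturality_apply, y.2, hxc]⟩)
      map_id := fun j => by
        ext y
        change (B.map (𝟙 j)) y.1 = y.1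
        simp
      map_comp := fun f g => by
        ext y
        change (B.map (f ≫ g)) y.1 = B.map g (B.map f y.1)
        simp }
  have hEmap : ∀ {j j' : ℕᵒᵖ} (f : j ⟶ j') (y : E.obj j), (E.map f y).1 = B.map f y.1 :=
    fun _ _ => rfl
  have hEne : ∀ j, Nonempty (E.obj j) := by
    intro j
    obtain ⟨y, hy⟩ := hx j
    exact ⟨⟨y, hy⟩⟩
  have hEML : E.IsMittagLeffler := by
    intro j
    obtain ⟨i, f, hf⟩ := hA j
    refine ⟨i, f, ?_⟩
    intro k g
    rintro _ ⟨y, rfl⟩
    let m : ℕᵒᵖ := op (max i.unop k.unop)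
    let φ : m ⟶ i := (homOfLE (le_max_left i.unop k.unop)).op
    let ψ : m ⟶ k := (homOfLE (le_max_right i.unop k.unop)).op
    have hcomp : ψ ≫ g = φ ≫ f := Subsingleton.elim _ _
    obtain ⟨y'⟩ := hEne m
    -- the difference lies in the image of `a`
    have hδ : y.1 - B.map φ y'.1 ∈ (a.app i).hom.range := by
      rw [← hB i, AddMonoidHom.mem_ker]
      change b.app i (y.1 - B.map φ y'.1) = 0
      rw [map_sub, NatTrans.naturality_apply, y.2, y'.2, hxc, sub_self]
    obtain ⟨α, hα⟩ := hδ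
    have hα' : a.app i α = y.1 - B.map φ y'.1 := hα
    obtain ⟨α', hα''⟩ := hf (φ ≫ f) ⟨α, rfl⟩
    have hα'' : A.map (φ ≫ f) α' = A.map f α := hα''
    let y'' : E.obj m := ⟨y'.1 + a.app m α', by
      rw [map_add, y'.2, hba, add_zero]⟩
    refine ⟨E.map ψ y'', ?_⟩
    have e1 : E.map g (E.map ψ y'') = E.map (φ ≫ f) y'' := by
      rw [← hcomp, CategoryTheory.Functor.map_comp_apply]
    rw [e1]
    apply Subtype.ext
    rw [hEmap, hEmap]
    change B.map (φ ≫ f) (y'.1 + a.app m α') = B.map f y.1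
    rw [map_add, ← NatTrans.naturality_apply, hα'', NatTrans.naturality_apply, hα',
      CategoryTheory.Functor.map_comp, ConcreteCategory.comp_apply, ← map_add]
    congr 1
    abel
  obtain ⟨s, hs⟩ := nonempty_sections_of_isMittagLeffler E hEML
  refine ⟨fun j => (s j).1, fun j j' f => ?_, fun j => (s j).2⟩
  rw [← hEmap, hs f]

/-- The key Mittag-Leffler lifting statement: if `A ⟶ B ⟶ C` is exact at `B` levelwise, `A` is
Mittag-Leffler, and `x ∈ lim C` is levelwise in the image of `B`, then `x` lifts to `lim B`. -/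
theorem exists_limMap_eq_of_isMittagLeffler {A B C : ℕᵒᵖ ⥤ AddCommGrpCat.{u}} (a : A ⟶ B)
    (b : B ⟶ C) (hB : ∀ i, (b.app i).hom.ker = (a.app i).hom.range)
    (hA : (A ⋙ forget AddCommGrpCat).IsMittagLeffler)
    (x : (limit C : AddCommGrpCat.{u})) (hx : ∀ i, limit.π C i x ∈ (b.app i).hom.range) :
    ∃ y : (limit B : AddCommGrpCat.{u}), limMap b y = x := by
  obtain ⟨y, hyc, hy⟩ := exists_section_lift_of_isMittagLeffler a b hB hA
    (fun j => limit.π C j x) (fun j j' f => limit_w_apply C f x) hx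
  refine ⟨limitMk B y hyc, ?_⟩
  apply limit_ext_ab
  intro j
  rw [limMap_π_apply, limit_π_limitMk]
  exact hy j

section Cone

variable {F : ℕᵒᵖ ⥤ AddCommGrpCat.{u}} {c : Cone F} (hc : IsLimit c)

include hc in
/-- Elements of a limit cone of abelian groups are determined by their components. -/
lemma cone_ext_ab (x y : c.pt) (h : ∀ j, c.π.app j x = c.π.app j y) : x = y :=
  Concrete.isLimit_ext F hc x y h

/-- Construct an element of a limit cone from a compatible family. -/
noncomputable def coneMk (s : ∀ j, F.obj j)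
    (hs : ∀ ⦃j j' : ℕᵒᵖ⦄ (f : j ⟶ j'), F.map f (s j) = s j') : c.pt :=
  (Types.isLimitEquivSections (isLimitOfPreserves (forget AddCommGrpCat) hc)).symm
    ⟨s, fun f => hs f⟩

lemma cone_π_coneMk (s : ∀ j, F.obj j)
    (hs : ∀ ⦃j j' : ℕᵒᵖ⦄ (f : j ⟶ j'), F.map f (s j) = s j') (j : ℕᵒᵖ) :
    c.π.app j (coneMk hc s hs) = s j :=
  Types.isLimitEquivSections_symm_apply
    (isLimitOfPreserves (forget AddCommGrpCat) hc) ⟨s, fun f => hs f⟩ j

end Cone

end Groth.Agent.H34
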