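import Groth.Prelude.Def_ARSys
import Groth.Prelude.Def_DerCA
import Mathlib.CategoryTheory.CofilteredSystem
import Mathlib.Algebra.Category.Grp.Limits
import Mathlib.Algebra.Category.Grp.Abelian

/-!
# The Mittag-Leffler condition for `ℕ`-indexed systems of abelian groups, in elementary terms
-/

set_option autoImplicit false
universe u

open CategoryTheory CategoryTheory.Limits Opposite

namespace Groth.Agent.H34

variable (X : ℕᵒᵖ ⥤ AddCommGrpCat.{u})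

lemma tr_tr {m n p : ℕ} (h : n ≤ m) (h' : p ≤ n) (x : X.obj (op m)) :
    ARSys.tr X h' (ARSys.tr X h x) = ARSys.tr X (h'.trans h) x := by
  have : ARSys.tr X (h'.trans h) = ARSys.tr X h ≫ ARSys.tr X h' := by
    rw [← X.map_comp]
    rfl
  rw [this, ConcreteCategory.comp_apply]

lemma tr_refl {m : ℕ} (x : X.obj (op m)) : ARSys.tr X (le_refl m) x = x := by
  have : ARSys.tr X (le_refl m) = 𝟙 _ := X.map_id _
  rw [this]
  rfl

variable {X}

lemma tr_nat {Y : ℕᵒᵖ ⥤ AddCommGrpCat.{u}} (a : X ⟶ Y) {m n : ℕ} (h : n ≤ m)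
    (x : X.obj (op m)) : a.app (op n) (ARSys.tr X h x) = ARSys.tr Y h (a.app (op m) x) :=
  NatTrans.naturality_apply a _ x

variable (X)

/-- The Mittag-Leffler condition in elementary terms. -/
lemma isMittagLeffler_iff :
    (X ⋙ forget AddCommGrpCat).IsMittagLeffler ↔
      ∀ j : ℕ, ∃ (k : ℕ) (hk : j ≤ k), ∀ (k' : ℕ) (hk' : j ≤ k') (x : X.obj (op k)),
        ∃ x' : X.obj (op k'), ARSys.tr X hk' x' = ARSys.tr X hk x := by
  constructor
  · intro h j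
    obtain ⟨i, f, hf⟩ := h (op j)
    refine ⟨i.unop, leOfHom f.unop, fun k' hk' x => ?_⟩
    obtain ⟨x', hx'⟩ := hf (homOfLE hk').op ⟨x, rfl⟩
    refine ⟨x', ?_⟩
    have hfe : f = (homOfLE (leOfHom f.unop)).op := Subsingleton.elim _ _
    rw [hfe] at hx'
    exact hx'
  · intro h j
    obtain ⟨k, hk, hh⟩ := h j.unop
    refine ⟨op k, (homOfLE hk).op, fun k' g => ?_⟩
    rintro _ ⟨x, rfl⟩
    obtain ⟨x', hx'⟩ := hh k'.unop (leOfHom g.unop) x
    refine ⟨x', ?_⟩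
    have hge : g = (homOfLE (leOfHom g.unop)).op := Subsingleton.elim _ _
    rw [hge]
    exact hx'

/-- If `A ⟶ B ⟶ C ⟶ 0` is levelwise exact (only `Ker b ≤ Im a` and surjectivity of `b` are
used), `A` is Mittag-Leffler and `C` is essentially constant, then `B` is Mittag-Leffler. -/
theorem isMittagLeffler_of_exact_of_isEssConstant {A B C : ℕᵒᵖ ⥤ AddCommGrpCat.{u}} (a : A ⟶ B)
    (b : B ⟶ C) (hb : ∀ i, Function.Surjective (b.app i))
    (hker : ∀ (n : ℕ) (y : B.obj (op n)), b.app (op n) y = 0 →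
      ∃ α : A.obj (op n), a.app (op n) α = y)
    (hC : ∃ (C₀ : AddCommGrpCat.{u}) (c : (Functor.const ℕᵒᵖ).obj C₀ ⟶ C),
      DerCA.IsEssConstant C C₀ c)
    (hA : (A ⋙ forget AddCommGrpCat).IsMittagLeffler) :
    (B ⋙ forget AddCommGrpCat).IsMittagLeffler := by
  obtain ⟨C₀, c, i, s, hs, hess⟩ := hC
  have hcone : ∀ {n m : ℕ} (h : n ≤ m) (γ : C₀),
      ARSys.tr C h (c.app (op m) γ) = c.app (op n) γ := by
    intro n m h γ
    have := NatTrans.naturality_apply c (homOfLE h).op γ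
    exact this.symm
  have hess' : ∀ j : ℕ, ∃ (k : ℕ) (hi : i ≤ k) (hj : j ≤ k), ∀ z : C.obj (op k),
      ARSys.tr C hj z = c.app (op j) (s (ARSys.tr C hi z)) := by
    intro j
    obtain ⟨k, hi, hj, h⟩ := hess j
    refine ⟨k, hi, hj, fun z => ?_⟩
    rw [h]
    rfl
  rw [isMittagLeffler_iff] at hA ⊢
  intro j
  obtain ⟨k₁, hk₁, h1⟩ := hA j
  obtain ⟨k₂, hi₂, hk₁₂, hess₂⟩ := hess' k₁
  refine ⟨k₂, hk₁.trans hk₁₂, fun k hk y₂ => ?_⟩
  let γ : C₀ := s (ARSys.tr C hi₂ (b.app (op k₂) y₂))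
  let m := max k k₁
  have hkm : k ≤ m := le_max_left _ _
  have hk₁m : k₁ ≤ m := le_max_right _ _
  obtain ⟨ym, hym⟩ := hb (op m) (c.app (op m) γ)
  have h0 : b.app (op k₁) (ARSys.tr B hk₁m ym - ARSys.tr B hk₁₂ y₂) = 0 := by
    rw [map_sub, tr_nat, tr_nat, hym, hcone, hess₂, sub_self]
  obtain ⟨α, hα⟩ := hker k₁ _ h0
  obtain ⟨αm, hαm⟩ := h1 m (hk₁.trans hk₁m) α
  refine ⟨ARSys.tr B hkm (ym - a.app (op m) αm), ?_⟩
  rw [tr_tr, map_sub, ← tr_nat, hαm, tr_nat, hα, ← tr_tr B hk₁m hk₁ ym, ← map_sub,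
    sub_sub_cancel, tr_tr]

end Groth.Agent.H34
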