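import Groth.Agent.H45.FinFree.OverMap
import Groth.Agent.H45.SheafTensor.Sheafify
import Mathlib.Algebra.Category.ModuleCat.Presheaf.Colimits

/-!
# Sections of a coproduct of sheaves of modules are locally finite sums
-/

set_option autoImplicit false
universe u
open CategoryTheory CategoryTheory.Limits Opposite

namespace Groth.Agent.H34.ModCoprod

open Groth.Agent.H45 Groth.Agent.H45.FinFree

section ModuleCat

variable {R : Type u} [Ring R] {I : Type u} (M : I → ModuleCat.{u} R)

/-- Every element of a coproduct of modules is a finite sum of elements coming from the summands. -/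
lemma exists_finset_sum_of_isColimit (c : Cofan M) (hc : IsColimit c) (x : c.pt) :
    ∃ (S : Finset I) (t : ∀ i, M i), x = ∑ i ∈ S, (c.inj i).hom (t i) := by
  classical
  let N : Submodule R c.pt := ⨆ i, LinearMap.range (c.inj i).hom
  have hN : N = ⊤ := by
    let q : c.pt ⟶ ModuleCat.of R (c.pt ⧸ N) := ModuleCat.ofHom N.mkQ
    have hq : q = 0 := by
      apply Cofan.IsColimit.hom_ext hc
      intro i
      rw [comp_zero]
      ext y
      change N.mkQ ((c.inj i).hom y) = 0
      rw [Submodule.mkQ_apply, Submodule.Quotient.mk_eq_zero]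
      exact Submodule.mem_iSup_of_mem i ⟨y, rfl⟩
    rw [eq_top_iff]
    intro y _
    have h1 : q.hom y = 0 := by rw [hq]; rfl
    change N.mkQ y = 0 at h1
    rwa [Submodule.mkQ_apply, Submodule.Quotient.mk_eq_zero] at h1
  have hx : x ∈ N := by rw [hN]; trivial
  obtain ⟨f, hf, hfx⟩ := (Submodule.mem_iSup_iff_exists_finsupp _ _).1 hx
  choose t ht using hf
  refine ⟨f.support, t, ?_⟩
  rw [← hfx, Finsupp.sum]
  exact Finset.sum_congr rfl (fun i _ => (ht i).symm)

end ModuleCat

variable {C : Type u} [SmallCategory C] {J : GrothendieckTopology C} {O : Sheaf J CommRingCat.{u}}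

lemma locSurj_comp {P Q R : PMod O} (φ : P ⟶ Q) (ψ : Q ⟶ R) (hφ : LocSurj J φ)
    (hψ : LocSurj J ψ) : LocSurj J (φ ≫ ψ) := by
  intro X y
  obtain ⟨S, hS, h⟩ := hψ X y
  choose z hz using h
  have h2 : ∀ ⦃Y : C⦄ (f : Y ⟶ X) (hf : S f), LocIm J φ Y (z f hf) := fun Y f hf => hφ Y (z f hf)
  choose T hT hT' using h2
  refine ⟨Sieve.bind S (fun Y f hf => T f hf), J.bind_covering hS (fun Y f hf => hT f hf), ?_⟩
  rintro Z _ ⟨Y, g, f, hf, hg, rfl⟩
  obtain ⟨x, hx⟩ := hT' f hf g hg
  refine ⟨x, ?_⟩
  rw [res_comp, ← hz f hf, ← res_naturality]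
  change ψ.app (op Z) (φ.app (op Z) x) = _
  rw [hx]

variable {I : Type u} (F : I → ModSite.Mod O)

/-- The coproduct of the underlying presheaves of modules. -/
noncomputable abbrev preCoprod : PMod O := ∐ (fun i => (forg O).obj (F i))

variable [HasCoproduct F]

/-- The comparison from the presheaf coproduct to the (underlying presheaf of the) coproduct. -/
noncomputable def compare : preCoprod F ⟶ (forg O).obj (∐ F) :=
  Sigma.desc (fun i => (forg O).map (Sigma.ι F i))

lemma ι_compare (i : I) :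
    Sigma.ι (fun i => (forg O).obj (F i)) i ≫ compare F = (forg O).map (Sigma.ι F i) := by
  simp [compare]

lemma locSurj_compare : LocSurj J (compare F) := by
  let P : PMod O := preCoprod F
  let φ' : (shf O).obj P ⟶ ∐ F := ((shfAdj O).homEquiv _ _).symm (compare F)
  have h1 : compare F = (shfAdj O).unit.app P ≫ (forg O).map φ' := by
    exact (((shfAdj O).homEquiv _ _).apply_symm_apply (compare F)).symm.trans
      (Adjunction.homEquiv_unit _ _ _ _)
  have hφ' : φ' = (shf O).map (compare F) ≫ (shfAdj O).counit.app (∐ F) :=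
    Adjunction.homEquiv_counit _ _ _ _
  have h2 : ∀ i, Sigma.ι F i =
      inv ((shfAdj O).counit.app (F i)) ≫
        (shf O).map (Sigma.ι (fun i => (forg O).obj (F i)) i) ≫ φ' := by
    intro i
    rw [IsIso.eq_inv_comp, hφ', ← Category.assoc, ← Functor.map_comp, ι_compare]
    exact ((shfAdj O).counit.naturality (Sigma.ι F i)).symm
  have hepi : Epi φ' := by
    constructor
    intro Z g h hgh
    apply Sigma.hom_ext
    intro i
    have e := h2 i
    rw [e]
    simp only [Category.assoc]
    rw [hgh]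
  rw [h1]
  apply locSurj_comp
  · exact ((isIso_shf_map_iff _).1 (isIso_shf_map_unit P)).2
  · exact locSurj_of_epi φ'

/-- Every section of a coproduct of sheaves of modules is locally a finite sum of sections of
the summands. -/
theorem exists_local_finset_sum (X : C) (s : ((forg O).obj (∐ F)).obj (op X)) :
    ∃ S ∈ J X, ∀ ⦃Y : C⦄ (f : Y ⟶ X), S f →
      ∃ (T : Finset I) (t : ∀ i, ((forg O).obj (F i)).obj (op Y)),
        res ((forg O).obj (∐ F)) f s = ∑ i ∈ T, (Sigma.ι F i).val.app (op Y) (t i) := by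
  obtain ⟨S, hS, h⟩ := locSurj_compare F X s
  refine ⟨S, hS, fun Y f hf => ?_⟩
  obtain ⟨x, hx⟩ := h f hf
  let G : I → PMod O := fun i => (forg O).obj (F i)
  let ev := PresheafOfModules.evaluation (O.obj ⋙ forget₂ CommRingCat.{u} RingCat.{u}) (op Y)
  have hc : IsColimit (Cofan.mk (ev.obj (∐ G)) (fun j => ev.map (Sigma.ι G j))) :=
    isColimitMapCoconeCofanMkEquiv _ _ _ (isColimitOfPreserves ev (coproductIsCoproduct G))
  obtain ⟨T, t, ht⟩ := exists_finset_sum_of_isColimit _ _ hc x
  refine ⟨T, t, ?_⟩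
  rw [← hx, ht]
  refine (map_sum ((compare F).app (op Y)).hom _ T).trans ?_
  refine Finset.sum_congr rfl (fun i _ => ?_)
  have := congrArg (fun m => m.app (op Y) (t i)) (ι_compare F i)
  exact this


/-- Two sections of a sheaf of modules agreeing on a covering sieve are equal. -/
lemma sect_ext_of_sieve (N : ModSite.Mod O) {W : C} (S : Sieve W) (hS : S ∈ J W)
    (a b : ((forg O).obj N).obj (op W))
    (h : ∀ ⦃Z : C⦄ (g : Z ⟶ W), S g → res ((forg O).obj N) g a = res ((forg O).obj N) g b) :
    a = b := by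
  have hsh : Presieve.IsSheaf J (N.val.presheaf ⋙ forget _) :=
    (isSheaf_iff_isSheaf_of_type _ _).1
      ((Presheaf.isSheaf_iff_isSheaf_forget J N.val.presheaf (forget _)).1 N.isSheaf)
  exact (hsh.isSeparated _ hS).ext (fun Z g hg => h g hg)

lemma sum_val_app' {M N : ModSite.Mod O} {ι : Type*} (s : Finset ι) (f : ι → (M ⟶ N))
    (Y : Cᵒᵖ) (x : ((forg O).obj M).obj Y) :
    (∑ i ∈ s, f i).val.app Y x = ∑ i ∈ s, (f i).val.app Y x := by
  classical
  induction s using Finset.induction_on with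
  | empty => rw [Finset.sum_empty, Finset.sum_empty]; rfl
  | insert i s hi ih =>
    rw [Finset.sum_insert hi, Finset.sum_insert hi, ← ih]
    rfl

section

variable [DecidableEq I]

/-- The partial sum of the idempotents `π_i ≫ ι_i`. -/
noncomputable def eT (T : Finset I) : ∐ F ⟶ ∐ F := ∑ i ∈ T, Sigma.π F i ≫ Sigma.ι F i

lemma ι_eT (T : Finset I) (j : I) (hj : j ∈ T) : Sigma.ι F j ≫ eT F T = Sigma.ι F j := by
  rw [eT, Preadditive.comp_sum, Finset.sum_eq_single j]
  · rw [Sigma.ι_π_eq_id_assoc]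
  · intro i _ hij
    rw [Sigma.ι_π_of_ne_assoc F (Ne.symm hij), zero_comp]
  · intro h; exact absurd hj h

lemma eT_app_sum (T T' : Finset I) (hT : T' ⊆ T) (Y : C)
    (t : ∀ i, ((forg O).obj (F i)).obj (op Y)) :
    (eT F T).val.app (op Y) (∑ i ∈ T', (Sigma.ι F i).val.app (op Y) (t i)) =
      ∑ i ∈ T', (Sigma.ι F i).val.app (op Y) (t i) := by
  refine (map_sum ((eT F T).val.app (op Y)).hom _ T').trans ?_
  refine Finset.sum_congr rfl (fun i hi => ?_)
  have := congrArg (fun m => m.val.app (op Y) (t i)) (ι_eT F T i (hT hi))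
  exact this

/-- A section of a coproduct which is locally a sum of sections of the summands with indices in a
fixed finite set `T` is globally such a sum. -/
theorem eq_sum_of_local (X : C) (s : ((forg O).obj (∐ F)).obj (op X)) (T : Finset I)
    (S : Sieve X) (hS : S ∈ J X)
    (h : ∀ ⦃Y : C⦄ (f : Y ⟶ X), S f →
      ∃ (T' : Finset I) (_ : T' ⊆ T) (t : ∀ i, ((forg O).obj (F i)).obj (op Y)),
        res ((forg O).obj (∐ F)) f s = ∑ i ∈ T', (Sigma.ι F i).val.app (op Y) (t i)) :
    s = ∑ i ∈ T, (Sigma.ι F i).val.app (op X) ((Sigma.π F i).val.app (op X) s) := by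
  have h1 : s = (eT F T).val.app (op X) s := by
    apply sect_ext_of_sieve (∐ F) S hS
    intro Y f hf
    obtain ⟨T', hT', t, ht⟩ := h f hf
    have h2 : res ((forg O).obj (∐ F)) f ((eT F T).val.app (op X) s) =
        (eT F T).val.app (op Y) (res ((forg O).obj (∐ F)) f s) :=
      (res_naturality ((forg O).map (eT F T)) f s).symm
    rw [h2, ht, eT_app_sum F T T' hT']
  refine h1.trans ?_
  rw [eT, sum_val_app']
  rfl

end


section Top

open TopologicalSpace

variable {X : TopCat.{u}} {O : Sheaf (Opens.grothendieckTopology X) CommRingCat.{u}}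
  {I : Type u} (F : I → ModSite.Mod O) [HasCoproduct F]

/-- Over a quasi-compact open, every section of a coproduct is a finite sum of images of the
projections of the section. -/
theorem eq_sum_of_isCompact [DecidableEq I] (U : Opens X) (hU : IsCompact (U : Set X))
    (s : ((forg O).obj (∐ F)).obj (op U)) :
    ∃ T : Finset I,
      s = ∑ i ∈ T, (Sigma.ι F i).val.app (op U) ((Sigma.π F i).val.app (op U) s) := by
  obtain ⟨Sv, hSv, h⟩ := exists_local_finset_sum F U s
  have hcov : ∀ x : U, ∃ (V : Opens X) (f : V ⟶ U), Sv f ∧ (x : X) ∈ V := fun x => hSv x.1 x.2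
  choose V f hf hxV using hcov
  have h' := fun x : U => h (f x) (hf x)
  choose Tx tx htx using h'
  obtain ⟨b, hb⟩ := hU.elim_finite_subcover (fun x : U => ((V x : Opens X) : Set X))
    (fun x => (V x).isOpen) (fun y hy => Set.mem_iUnion.2 ⟨⟨y, hy⟩, hxV ⟨y, hy⟩⟩)
  let T : Finset I := b.biUnion Tx
  let S' : Sieve U :=
    { arrows := fun Z _ => ∃ x ∈ b, Z ≤ V x
      downward_closed := by
        rintro Y Z g ⟨x, hx, hZ⟩ k
        exact ⟨x, hx, (leOfHom k).trans hZ⟩ }
  have hS' : S' ∈ Opens.grothendieckTopology X U := by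
    intro y hy
    obtain ⟨x, hx, hyx⟩ : ∃ x ∈ b, y ∈ ((V x : Opens X) : Set X) := by
      have := hb hy
      simpa using this
    exact ⟨V x, f x, ⟨x, hx, le_rfl⟩, hyx⟩
  refine ⟨T, eq_sum_of_local F U s T S' hS' ?_⟩
  rintro Z g ⟨x, hx, hZ⟩
  refine ⟨Tx x, Finset.subset_biUnion_of_mem Tx hx, fun i => res ((forg O).obj (F i)) (homOfLE hZ) (tx x i), ?_⟩
  have e1 : g = homOfLE hZ ≫ f x := Subsingleton.elim _ _
  rw [e1, res_comp, htx x]
  refine (map_sum (((forg O).obj (∐ F)).map (homOfLE hZ).op).hom _ (Tx x)).trans ?_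
  refine Finset.sum_congr rfl (fun i _ => ?_)
  exact (res_naturality ((forg O).map (Sigma.ι F i)) (homOfLE hZ) (tx x i)).symm

end Top

end Groth.Agent.H34.ModCoprod
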