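import Groth.Agent.H34.ModFT

set_option autoImplicit false
universe u
open CategoryTheory CategoryTheory.Limits Opposite
open Groth.Agent.H45 Groth.Agent.H45.FinFree

namespace Groth.Agent.H34.ModFT

variable {C : Type u} [SmallCategory C] {J : GrothendieckTopology C} {O : Sheaf J CommRingCat.{u}}

/-- A module on a slice is globally finitely presented. -/
def FP {V : C} (N : ModSite.Mod (O.over V)) : Prop :=
  ∃ (I K : Type u) (_ : Finite I) (_ : Finite K)
    (ρ : SheafOfModules.free (R := ModSite.ringSh (O.over V)) K ⟶ SheafOfModules.free I)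
    (π : SheafOfModules.free I ⟶ N) (w : ρ ≫ π = 0), (ShortComplex.mk ρ π w).Exact ∧ Epi π

lemma FP.of_iso {V : C} {N N' : ModSite.Mod (O.over V)} (h : FP N) (e : N ≅ N') : FP N' := by
  obtain ⟨I, K, hI, hK, ρ, π, w, hex, hπ⟩ := h
  have w' : ρ ≫ π ≫ e.hom = 0 := by rw [reassoc_of% w, zero_comp]
  refine ⟨I, K, hI, hK, ρ, π ≫ e.hom, w', ?_, epi_comp _ _⟩
  exact ShortComplex.exact_of_iso
    (ShortComplex.isoMk (S₁ := ShortComplex.mk ρ π w) (S₂ := ShortComplex.mk ρ (π ≫ e.hom) w')
      (Iso.refl _) (Iso.refl _) e (by simp) (by simp)) hex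

lemma FP.ovm {V X : C} (g : V ⟶ X) {N : ModSite.Mod (O.over X)} (h : FP N) :
    FP ((ovm O g).obj N) := by
  obtain ⟨I, K, hI, hK, ρ, π, w, hex, hπ⟩ := h
  have hc : IsColimit (CokernelCofork.ofπ π w) := hex.gIsCokernel
  have hc' := ovmIsColimit g w hc
  refine ⟨I, K, hI, hK, ovmRel g ρ, ovmGen g π, ovmRel_ovmGen g w, ?_, ?_⟩
  · exact ShortComplex.exact_of_g_is_cokernel _ hc'
  · exact epi_of_isColimit_cofork hc'

lemma FP.restr {V X : C} (g : V ⟶ X) {M : ModSite.Mod O} (h : FP ((ModSite.restr O X).obj M)) :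
    FP ((ModSite.restr O V).obj M) :=
  (h.ovm g).of_iso ((restrOvmIso O g).app M)

/-- Local finite presentation. -/
def LocFP (M : ModSite.Mod O) : Prop :=
  ∀ W : C, ∃ S ∈ J W, ∀ ⦃V : C⦄ (f : V ⟶ W), S f → FP ((ModSite.restr O V).obj M)

lemma FP.fg {V : C} {N : ModSite.Mod (O.over V)} (h : FP N) : FG N := by
  obtain ⟨I, K, hI, hK, ρ, π, w, hex, hπ⟩ := h
  exact ⟨I, hI, π, hπ⟩

lemma LocFP.locFG {M : ModSite.Mod O} (h : LocFP M) : LocFG M := by
  intro W
  obtain ⟨S, hS, H⟩ := h W
  exact ⟨S, hS, fun V f hf => (H f hf).fg⟩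

lemma FP.of_presentation {V : C} {N : ModSite.Mod (O.over V)} (P : N.Presentation) (hP : P.IsFinite) :
    FP N := by
  have hc := P.isColimit
  exact ⟨P.generators.I, P.relations.I,
      hP.isFiniteType_generators.finite, hP.isFiniteType_relations.finite, _, _, by simp,
      ShortComplex.exact_of_g_is_cokernel _ hc, epi_of_isColimit_cofork hc⟩

lemma locFP_of_isFinitePresentation (M : ModSite.Mod O)
    [SheafOfModules.IsFinitePresentation (R := ModSite.ringSh O) M] : LocFP M := by
  obtain ⟨σ, hσ⟩ := SheafOfModules.IsFinitePresentation.exists_quasicoherentData (R := ModSite.ringSh O) M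
  intro W
  refine ⟨Sieve.ofObjects σ.X W, σ.coversTop W, fun V f hf => ?_⟩
  obtain ⟨i, ⟨h⟩⟩ := (Sieve.mem_ofObjects_iff ..).mp hf
  have hi := hσ.isFinite_presentation i
  have : FP ((ModSite.restr O (σ.X i)).obj M) := FP.of_presentation (σ.presentation i) hi
  exact this.restr h

/-- A presentation from an exact sequence of free modules. -/
noncomputable def presOfFP {V : C} {N : ModSite.Mod (O.over V)} {I K : Type u}
    (ρ : SheafOfModules.free (R := ModSite.ringSh (O.over V)) K ⟶ SheafOfModules.free I)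
    (π : SheafOfModules.free I ⟶ N) (w : ρ ≫ π = 0) (hex : (ShortComplex.mk ρ π w).Exact)
    (hπ : Epi π) : N.Presentation :=
  SheafOfModules.presentationOfIsCokernelFree ρ π w hex.gIsCokernel

lemma isFinitePresentation_of_locFP (M : ModSite.Mod O) (h : LocFP M) :
    SheafOfModules.IsFinitePresentation (R := ModSite.ringSh O) M := by
  choose S hS hS' using h
  let I : Type u := Σ (W : C) (V : C), {f : V ⟶ W // S W f}
  have hfp : ∀ i : I, FP ((ModSite.restr O i.2.1).obj M) := fun i => hS' i.1 i.2.2.1 i.2.2.2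
  choose G K hG hK ρ π w hex hπ using hfp
  let σ : SheafOfModules.QuasicoherentData.{u} (R := ModSite.ringSh O) M :=
    { I := I
      X := fun i => i.2.1
      coversTop := fun W => J.superset_covering (fun V f hf =>
        (Sieve.mem_ofObjects_iff ..).mpr ⟨⟨W, V, f, hf⟩, ⟨𝟙 _⟩⟩) (hS W)
      presentation := fun i => presOfFP (ρ i) (π i) (w i) (hex i) (hπ i) }
  have hσ : σ.IsFinitePresentation :=
    { isFinite_presentation := fun i =>
        { isFiniteType_generators := SheafOfModules.GeneratingSections.IsFiniteType.mk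
            (σ := (σ.presentation i).generators) (hG i)
          isFiniteType_relations := SheafOfModules.GeneratingSections.IsFiniteType.mk
            (σ := (σ.presentation i).relations) (hK i) } }
  constructor
  exact ⟨σ, hσ⟩

end Groth.Agent.H34.ModFT
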