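import Groth.Agent.H34.ModFP
import Mathlib.CategoryTheory.Abelian.Refinements

set_option autoImplicit false
universe u
open CategoryTheory CategoryTheory.Limits Opposite
open Groth.Agent.H45 Groth.Agent.H45.FinFree

namespace Groth.Agent.H34.ModFT

section Abstract

variable {𝒜 : Type*} [Category 𝒜] [Abelian 𝒜]

lemma exact_coprod_desc_of_presentation
    {R P F G Cc Q : 𝒜} (ρ : R ⟶ P) (χ : P ⟶ F) (w : ρ ≫ χ = 0)
    (hU : (ShortComplex.mk ρ χ w).Exact) [Epi χ]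
    (φ : G ⟶ F) (q : F ⟶ Cc) (wq : φ ≫ q = 0) (hT : (ShortComplex.mk φ q wq).Exact) [Epi q]
    (η : Q ⟶ G) [Epi η] (A : Q ⟶ P) (hA : A ≫ χ = η ≫ φ) :
    ∃ w' : coprod.desc ρ A ≫ χ ≫ q = 0, (ShortComplex.mk (coprod.desc ρ A) (χ ≫ q) w').Exact := by
  have w' : coprod.desc ρ A ≫ χ ≫ q = 0 := by
    apply coprod.hom_ext
    · rw [coprod.inl_desc_assoc, reassoc_of% w, zero_comp, comp_zero]
    · rw [coprod.inr_desc_assoc, reassoc_of% hA, wq, comp_zero, comp_zero]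
  refine ⟨w', ?_⟩
  apply ShortComplex.exact_of_g_is_cokernel
  have hχ : Epi (ShortComplex.mk ρ χ w).g := ‹Epi χ›
  have hq : Epi (ShortComplex.mk φ q wq).g := ‹Epi q›
  refine CokernelCofork.IsColimit.ofπ _ _ (fun {Z} h hh => ?_) (fun {Z} h hh => ?_)
    (fun {Z} h hh m hm => ?_)
  · have h1 : ρ ≫ h = 0 := by
      have := congrArg (fun k => coprod.inl ≫ k) hh
      simpa only [coprod.inl_desc_assoc, comp_zero] using this
    have h2 : A ≫ h = 0 := by
      have := congrArg (fun k => coprod.inr ≫ k) hh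
      simpa only [coprod.inr_desc_assoc, comp_zero] using this
    have h3 : φ ≫ hU.desc h h1 = 0 := by
      apply (cancel_epi η).1
      rw [← reassoc_of% hA, comp_zero]
      have := hU.g_desc h h1
      dsimp at this
      rw [this, h2]
    exact hT.desc (hU.desc h h1) h3
  · dsimp
    have h1 : ρ ≫ h = 0 := by
      have := congrArg (fun k => coprod.inl ≫ k) hh
      simpa only [coprod.inl_desc_assoc, comp_zero] using this
    rw [Category.assoc]
    have e1 := hT.g_desc (hU.desc h h1)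
    have e2 := hU.g_desc h h1
    dsimp at e1 e2
    rw [e1, e2]
  · have : Epi (χ ≫ q) := epi_comp _ _
    apply (cancel_epi (χ ≫ q)).1
    rw [hm]
    have h1 : ρ ≫ h = 0 := by
      have := congrArg (fun k => coprod.inl ≫ k) hh
      simpa only [coprod.inl_desc_assoc, comp_zero] using this
    rw [Category.assoc]
    have e1 := hT.g_desc (hU.desc h h1)
    have e2 := hU.g_desc h h1
    dsimp at e1 e2
    rw [e1, e2]

lemma epi_lift_kernel_of_presentation
    {R P F G K Q : 𝒜} (ρ : R ⟶ P) (χ : P ⟶ F) (w : ρ ≫ χ = 0)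
    (hU : (ShortComplex.mk ρ χ w).Exact)
    (i : K ⟶ G) (θ : G ⟶ F) (wi : i ≫ θ = 0) (hT : (ShortComplex.mk i θ wi).Exact) [Mono i]
    (η : Q ⟶ G) [Epi η] (A : P ⟶ Q) (hA : A ≫ η ≫ θ = χ) (B : Q ⟶ P) (hB : B ≫ χ = η ≫ θ) :
    ∃ (c : Q ⨿ R ⟶ K), Epi c := by
  let m : Q ⨿ R ⟶ G := coprod.desc ((𝟙 Q - B ≫ A) ≫ η) (ρ ≫ A ≫ η)
  have hm : m ≫ θ = 0 := by
    apply coprod.hom_ext
    · simp only [m, coprod.inl_desc_assoc, comp_zero, Category.assoc, Preadditive.sub_comp,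
        Category.id_comp, hA, hB, sub_self]
    · simp only [m, coprod.inr_desc_assoc, comp_zero, Category.assoc, hA, w]
  have hi : Mono (ShortComplex.mk i θ wi).f := ‹Mono i›
  let c : Q ⨿ R ⟶ K := hT.lift m hm
  have hc : c ≫ i = m := hT.lift_f m hm
  refine ⟨c, ?_⟩
  rw [epi_iff_surjective_up_to_refinements]
  intro T y
  obtain ⟨T₁, π₁, hπ₁, s₁, hs₁⟩ := surjective_up_to_refinements_of_epi η (y ≫ i)
  have h0 : (s₁ ≫ B) ≫ χ = 0 := by
    rw [Category.assoc, hB, ← reassoc_of% hs₁, wi, comp_zero, comp_zero]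
  obtain ⟨T₂, π₂, hπ₂, t, ht⟩ := hU.exact_up_to_refinements (s₁ ≫ B) h0
  dsimp at ht
  refine ⟨T₂, π₂ ≫ π₁, epi_comp _ _, π₂ ≫ s₁ ≫ coprod.inl + t ≫ coprod.inr, ?_⟩
  apply (cancel_mono i).1
  rw [Category.assoc, Category.assoc, Category.assoc, hc]
  simp only [m, Preadditive.add_comp, Category.assoc, coprod.inl_desc, coprod.inr_desc,
    Preadditive.sub_comp, Preadditive.comp_sub, Category.id_comp]
  rw [← reassoc_of% ht, ← hs₁]
  simp

end Abstract


variable {C : Type u} [SmallCategory C] {J : GrothendieckTopology C} {O : Sheaf J CommRingCat.{u}}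

lemma FG.of_epi' {V : C} {N Q : ModSite.Mod (O.over V)} {I : Type u} [Finite I]
    (e : SheafOfModules.free I ≅ Q) (π : Q ⟶ N) [Epi π] : FG N :=
  ⟨I, inferInstance, e.hom ≫ π, epi_comp _ _⟩

lemma FP.of_exact' {V : C} {N P' R' : ModSite.Mod (O.over V)} {I K : Type u} [Finite I] [Finite K]
    (e₁ : SheafOfModules.free I ≅ P') (e₂ : SheafOfModules.free K ≅ R')
    (ρ' : R' ⟶ P') (π' : P' ⟶ N) (w : ρ' ≫ π' = 0)
    (hex : (ShortComplex.mk ρ' π' w).Exact) [Epi π'] : FP N := by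
  have w' : (e₂.hom ≫ ρ' ≫ e₁.inv) ≫ e₁.hom ≫ π' = 0 := by simp [w]
  refine ⟨I, K, inferInstance, inferInstance, e₂.hom ≫ ρ' ≫ e₁.inv, e₁.hom ≫ π', w', ?_,
    epi_comp _ _⟩
  exact ShortComplex.exact_of_iso
    (ShortComplex.isoMk (S₁ := ShortComplex.mk ρ' π' w)
      (S₂ := ShortComplex.mk (e₂.hom ≫ ρ' ≫ e₁.inv) (e₁.hom ≫ π') w')
      e₂.symm e₁.symm (Iso.refl _) (by simp) (by simp)) hex

theorem locFP_of_cokernel (T : ShortComplex (ModSite.Mod O)) (hT : T.Exact) [Epi T.g]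
    (h₁ : LocFG T.X₁) (h₂ : LocFP T.X₂) : LocFP T.X₃ := by
  intro W
  obtain ⟨S₁, hS₁, H₁⟩ := h₁ W
  obtain ⟨S₂, hS₂, H₂⟩ := h₂ W
  have key : ∀ ⦃V : C⦄ (f : V ⟶ W), (S₁ ⊓ S₂ : Sieve W) f → ∃ R ∈ J V, ∀ ⦃V' : C⦄ (g : V' ⟶ V), R g →
      FP ((ModSite.restr O V').obj T.X₃) := by
    intro V f hf
    obtain ⟨Q, hQ, η, hη⟩ := H₁ f hf.1
    obtain ⟨I, K, hI, hK, ρ, χ, w, hex, hχ⟩ := H₂ f hf.2
    obtain ⟨R, hR, hl⟩ := local_lift_rel (SheafOfModules.free Q) ((ModSite.restr O V).obj T.X₂)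
      (SheafOfModules.free I) (isFinFreeSummandMod_free Q) χ (η ≫ (ModSite.restr O V).map T.f)
    refine ⟨R, hR, fun V' g hg => ?_⟩
    obtain ⟨l, hl⟩ := hl g hg
    let F := ModSite.restr O V ⋙ ovm O g
    have hU := hex.map (ovm O g)
    have hT' := hT.map F
    have hχ' : Epi ((ovm O g).map χ) := (ovm O g).map_epi χ
    have hq' : Epi (F.map T.g) := by
      have : Epi ((ModSite.restr O V).map T.g) := (ModSite.restr O V).map_epi T.g
      exact (ovm O g).map_epi _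
    have hη' : Epi ((ovm O g).map η) := (ovm O g).map_epi η
    have hA : l ≫ (ovm O g).map χ = (ovm O g).map η ≫ F.map T.f := by
      rw [hl, Functor.map_comp]; rfl
    obtain ⟨w', hex'⟩ := exact_coprod_desc_of_presentation ((ovm O g).map ρ) ((ovm O g).map χ)
      (by rw [← Functor.map_comp, w, Functor.map_zero]) hU (F.map T.f) (F.map T.g)
      (by rw [← Functor.map_comp, T.zero, Functor.map_zero]) hT' ((ovm O g).map η) l hA
    have : Epi ((ovm O g).map χ ≫ F.map T.g) := epi_comp _ _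
    have hfp : FP (F.obj T.X₃) :=
      FP.of_exact' (ovmFreeIso O g I)
        ((SheafOfModules.freeSumIso K Q).symm ≪≫
          coprod.mapIso (ovmFreeIso O g K) (ovmFreeIso O g Q)) _ _ w' hex'
    exact hfp.of_iso ((restrOvmIso O g).app T.X₃)
  choose R hR hR' using key
  refine ⟨Sieve.bind (S₁ ⊓ S₂ : Sieve W) R, J.bind_covering (J.intersection_covering hS₁ hS₂) hR, ?_⟩
  rintro Z _ ⟨Y, g, f, hf, hg, rfl⟩
  exact hR' f hf g hg


theorem locFG_of_kernel (T : ShortComplex (ModSite.Mod O)) (hT : T.Exact) [Mono T.f] [Epi T.g]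
    (h₂ : LocFG T.X₂) (h₃ : LocFP T.X₃) : LocFG T.X₁ := by
  intro W
  obtain ⟨S₂, hS₂, H₂⟩ := h₂ W
  obtain ⟨S₃, hS₃, H₃⟩ := h₃ W
  have key : ∀ ⦃V : C⦄ (f : V ⟶ W), (S₂ ⊓ S₃ : Sieve W) f → ∃ R ∈ J V, ∀ ⦃V' : C⦄ (g : V' ⟶ V), R g →
      FG ((ModSite.restr O V').obj T.X₁) := by
    intro V f hf
    obtain ⟨Q, hQ, η, hη⟩ := H₂ f hf.1
    obtain ⟨I, K, hI, hK, ρ, χ, w, hex, hχ⟩ := H₃ f hf.2
    have hθ : Epi ((ModSite.restr O V).map T.g) := (ModSite.restr O V).map_epi T.g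
    have hηθ : Epi (η ≫ (ModSite.restr O V).map T.g) := epi_comp _ _
    obtain ⟨RA, hRA, hlA⟩ := local_lift_rel (SheafOfModules.free I) ((ModSite.restr O V).obj T.X₃)
      (SheafOfModules.free Q) (isFinFreeSummandMod_free I) (η ≫ (ModSite.restr O V).map T.g) χ
    obtain ⟨RB, hRB, hlB⟩ := local_lift_rel (SheafOfModules.free Q) ((ModSite.restr O V).obj T.X₃)
      (SheafOfModules.free I) (isFinFreeSummandMod_free Q) χ (η ≫ (ModSite.restr O V).map T.g)
    refine ⟨RA ⊓ RB, J.intersection_covering hRA hRB, fun V' g hg => ?_⟩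
    obtain ⟨lA, hlA⟩ := hlA g hg.1
    obtain ⟨lB, hlB⟩ := hlB g hg.2
    let F := ModSite.restr O V ⋙ ovm O g
    have hU := hex.map (ovm O g)
    have hT' := hT.map F
    have hi' : Mono (F.map T.f) := by
      have : Mono ((ModSite.restr O V).map T.f) := (ModSite.restr O V).map_mono T.f
      exact (ovm O g).map_mono _
    have hη' : Epi ((ovm O g).map η) := (ovm O g).map_epi η
    have hA : lA ≫ (ovm O g).map η ≫ F.map T.g = (ovm O g).map χ := by
      rw [← hlA, Functor.map_comp]; rfl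
    have hB : lB ≫ (ovm O g).map χ = (ovm O g).map η ≫ F.map T.g := by
      rw [hlB, Functor.map_comp]; rfl
    obtain ⟨c, hc⟩ := epi_lift_kernel_of_presentation ((ovm O g).map ρ) ((ovm O g).map χ)
      (by rw [← Functor.map_comp, w, Functor.map_zero]) hU (F.map T.f) (F.map T.g)
      (by rw [← Functor.map_comp, T.zero, Functor.map_zero]) hT' ((ovm O g).map η) lA hA lB hB
    have hfg : FG (F.obj T.X₁) :=
      FG.of_epi' ((SheafOfModules.freeSumIso Q K).symm ≪≫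
          coprod.mapIso (ovmFreeIso O g Q) (ovmFreeIso O g K)) c
    have e3 : IsIso ((restrOvmIso O g).hom.app T.X₁) := inferInstance
    have e4 : Epi ((restrOvmIso O g).hom.app T.X₁) := @IsIso.epi_of_iso _ _ _ _ _ e3
    exact hfg.of_epi ((restrOvmIso O g).hom.app T.X₁)
  choose R hR hR' using key
  refine ⟨Sieve.bind (S₂ ⊓ S₃ : Sieve W) R, J.bind_covering (J.intersection_covering hS₂ hS₃) hR, ?_⟩
  rintro Z _ ⟨Y, g, f, hf, hg, rfl⟩
  exact hR' f hf g hg

end Groth.Agent.H34.ModFT
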