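import Groth.Agent.H34.EWatts
import Groth.Agent.H34.LanFiltered
import Mathlib.Algebra.Category.ModuleCat.FilteredColimits
import Mathlib.CategoryTheory.Presentable.StrongGenerator

/-!
# Finitely presented modules are the finitely presentable objects of `ModuleCat` (helper34)
-/

set_option autoImplicit false
universe u

open CategoryTheory CategoryTheory.Limits Opposite

namespace Groth.Agent.H34.ModFPres

open Groth.Agent.H34.FPMod

attribute [local instance] Cardinal.fact_isRegular_aleph0

variable (A : Type u) [CommRing A]

/-- `Hom(A, -)` is the forgetful functor. -/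
noncomputable def coyonedaIsoForget :
    coyoneda.obj (op (ModuleCat.of A A)) ≅ forget (ModuleCat.{u} A) :=
  NatIso.ofComponents (fun M => Equiv.toIso
    { toFun := fun f => f.hom (1 : A)
      invFun := fun m => ModuleCat.ofHom (LinearMap.toSpanSingleton A M m)
      left_inv := fun f => by
        change (ModuleCat.of A A ⟶ M) at f
        change ModuleCat.ofHom (LinearMap.toSpanSingleton A M (f.hom (1 : A))) = f
        ext
        simp
      right_inv := fun m => by simp })
    (fun f => by
      ext g
      rfl)

lemma isFinitelyPresentable_self : IsFinitelyPresentable.{u} (ModuleCat.of A A) := by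
  rw [isFinitelyPresentable_iff_preservesFilteredColimitsOfSize]
  constructor
  intro J _ _
  have : PreservesColimitsOfShape J (forget (ModuleCat.{u} A)) :=
    PreservesFilteredColimitsOfSize.preserves_filtered_colimits _
  exact preservesColimitsOfShape_of_natIso (coyonedaIsoForget A).symm

lemma isStrongGenerator_singleton :
    (ObjectProperty.singleton (ModuleCat.of A A)).IsStrongGenerator := by
  rw [ObjectProperty.isStrongGenerator_iff]
  constructor
  · intro X Y f g h
    ext x
    have := h (ModuleCat.of A A) (by simp) (ModuleCat.ofHom (LinearMap.toSpanSingleton A X x))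
    have h2 := congrArg (fun t => t.hom (1 : A)) this
    simpa using h2
  · intro X Y i _ hi
    rw [ConcreteCategory.isIso_iff_bijective]
    refine ⟨(ModuleCat.mono_iff_injective i).1 inferInstance, fun y => ?_⟩
    obtain ⟨f, hf⟩ := hi (ModuleCat.of A A) (by simp)
      (ModuleCat.ofHom (LinearMap.toSpanSingleton A Y y))
    refine ⟨f.hom (1 : A), ?_⟩
    have h2 := congrArg (fun t => t.hom (1 : A)) hf
    simpa using h2

instance : IsLocallyFinitelyPresentable.{u} (ModuleCat.{u} A) := by
  refine (IsCardinalLocallyPresentable.iff_exists_isStrongGenerator _ _).2 ⟨ObjectProperty.singleton (ModuleCat.of A A), inferInstance,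
    isStrongGenerator_singleton A, ?_⟩
  intro X hX
  rw [ObjectProperty.singleton_iff] at hX
  subst hX
  exact isFinitelyPresentable_self A

instance : HasFiniteColimits (FP A) := hasFiniteColimits_of_hasCoequalizers_and_finite_coproducts

lemma fp_isClosedUnderColimitsOfShape (J : Type u) [SmallCategory J]
    (hJ : HasCardinalLT (Arrow J) Cardinal.aleph0.{u}) : (fp A).IsClosedUnderColimitsOfShape J := by
  rw [hasCardinalLT_aleph0_iff, Arrow.finite_iff] at hJ
  obtain ⟨hJ⟩ := hJ
  exact ObjectProperty.isClosedUnderColimitsOfShape_of_preservesColimitsOfShape_ι _ _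

/-- The closure of `{A}` under finite colimits. -/
abbrev Cl : ObjectProperty (ModuleCat.{u} A) :=
  (ObjectProperty.singleton (ModuleCat.of A A)).colimitsCardinalClosure Cardinal.aleph0.{u}

lemma Cl_le_fp : Cl A ≤ fp A := by
  apply ObjectProperty.colimitsCardinalClosure_le
  · intro J _ hJ
    exact fp_isClosedUnderColimitsOfShape A J hJ
  · intro X hX
    rw [ObjectProperty.singleton_iff] at hX
    subst hX
    exact (inferInstance : Module.FinitePresentation A A)

lemma Cl_self : Cl A (ModuleCat.of A A) :=
  ObjectProperty.le_colimitsCardinalClosure _ _ _ (by simp)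

lemma Cl_free (n : ℕ) : Cl A (ModuleCat.of A (Fin n → A)) := by
  have : (Cl A).IsClosedUnderColimitsOfShape (Discrete (Fin n)) :=
    ObjectProperty.isClosedUnderColimitsOfShape_colimitsCardinalClosure _ _ _
      (by rw [hasCardinalLT_aleph0_iff]; infer_instance)
  have h : Cl A (⨁ (fun _ : Fin n => ModuleCat.of A A)) := by
    refine (Cl A).prop_of_isColimit (biproduct.isColimit _) ?_
    rintro ⟨j⟩
    exact Cl_self A
  exact (Cl A).prop_of_iso (ModuleCat.biproductIsoPi _) h

lemma fp_le_Cl : fp A ≤ Cl A := by
  intro M (hM : Module.FinitePresentation A M)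
  obtain ⟨n, m, f, g, hf, hfg⟩ := Module.FinitePresentation.exists_fin' A M
  let S : ShortComplex (ModuleCat.{u} A) :=
    ShortComplex.mk (ModuleCat.ofHom g) (ModuleCat.ofHom f) (by
      apply ModuleCat.hom_ext
      apply LinearMap.ext
      intro x
      exact hfg.apply_apply_eq_zero x)
  have hS : S.Exact := (ShortComplex.ShortExact.moduleCat_exact_iff_function_exact S).mpr hfg
  have : Epi S.g := (ModuleCat.epi_iff_surjective _).mpr hf
  have hcok : IsColimit (CokernelCofork.ofπ S.g S.zero) := hS.gIsCokernel
  have : (Cl A).IsClosedUnderColimitsOfShape WalkingParallelPair :=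
    ObjectProperty.isClosedUnderColimitsOfShape_colimitsCardinalClosure _ _ _
      (by rw [hasCardinalLT_aleph0_iff]; infer_instance)
  refine (Cl A).prop_of_isColimit hcok ?_
  rintro (_ | _)
  · exact Cl_free A m
  · exact Cl_free A n

lemma isFinitelyPresentable_eq_Cl :
    ObjectProperty.isFinitelyPresentable.{u} (ModuleCat.{u} A) = Cl A :=
  IsStrongGenerator.colimitsCardinalClosure_eq_isCardinalPresentable
    (isStrongGenerator_singleton A) (by
      intro X hX
      rw [ObjectProperty.singleton_iff] at hX
      subst hX
      exact isFinitelyPresentable_self A)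

/-- Finitely presented modules are exactly the finitely presentable objects. -/
lemma fp_eq : fp A = ObjectProperty.isFinitelyPresentable.{u} (ModuleCat.{u} A) := by
  rw [isFinitelyPresentable_eq_Cl]
  exact le_antisymm (fp_le_Cl A) (Cl_le_fp A)

end Groth.Agent.H34.ModFPres
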