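import Groth.Agent.H45.FinFree.LiftRel
import Groth.Agent.H45.FinFree.RestrExact
import Mathlib.Algebra.Category.ModuleCat.Sheaf.Quasicoherent

set_option autoImplicit false
universe u
open CategoryTheory CategoryTheory.Limits Opposite
open Groth.Agent.H45 Groth.Agent.H45.FinFree

namespace Groth.Agent.H34.ModFT

variable {C : Type u} [SmallCategory C] {J : GrothendieckTopology C} {O : Sheaf J CommRingCat.{u}}

/-- A module on a slice is globally finitely generated. -/
def FG {V : C} (N : ModSite.Mod (O.over V)) : Prop :=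
  ∃ (I : Type u) (_ : Finite I) (π : SheafOfModules.free I ⟶ N), Epi π

lemma FG.of_epi {V : C} {N N' : ModSite.Mod (O.over V)} (h : FG N) (p : N ⟶ N') [Epi p] : FG N' := by
  obtain ⟨I, hI, π, hπ⟩ := h
  exact ⟨I, hI, π ≫ p, epi_comp _ _⟩

lemma FG.ovm {V X : C} (g : V ⟶ X) {N : ModSite.Mod (O.over X)} (h : FG N) :
    FG ((ovm O g).obj N) := by
  obtain ⟨I, hI, π, hπ⟩ := h
  have : Epi ((Groth.Agent.H45.FinFree.ovm O g).map π) := (Groth.Agent.H45.FinFree.ovm O g).map_epi π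
  exact ⟨I, hI, (ovmFreeIso O g I).hom ≫ (Groth.Agent.H45.FinFree.ovm O g).map π, epi_comp _ _⟩

lemma FG.restr {V X : C} (g : V ⟶ X) {M : ModSite.Mod O} (h : FG ((ModSite.restr O X).obj M)) :
    FG ((ModSite.restr O V).obj M) := by
  have h' := h.ovm g
  exact h'.of_epi ((restrOvmIso O g).hom.app M)

/-- Local finite generation. -/
def LocFG (M : ModSite.Mod O) : Prop :=
  ∀ W : C, ∃ S ∈ J W, ∀ ⦃V : C⦄ (f : V ⟶ W), S f → FG ((ModSite.restr O V).obj M)

lemma locFG_of_isFiniteType (M : ModSite.Mod O)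
    [SheafOfModules.IsFiniteType (R := ModSite.ringSh O) M] : LocFG M := by
  obtain ⟨σ, hσ⟩ := SheafOfModules.IsFiniteType.exists_localGeneratorsData (R := ModSite.ringSh O) M
  intro W
  refine ⟨Sieve.ofObjects σ.X W, σ.coversTop W, fun V f hf => ?_⟩
  obtain ⟨i, ⟨h⟩⟩ := (Sieve.mem_ofObjects_iff ..).mp hf
  have hi := hσ.isFiniteType i
  have : FG ((ModSite.restr O (σ.X i)).obj M) :=
    ⟨(σ.generators i).I, hi.finite, (σ.generators i).π, (σ.generators i).epi⟩
  exact this.restr h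

/-- Generating sections from an epimorphism out of a free module. -/
noncomputable def genOfEpi {V : C} {N : ModSite.Mod (O.over V)} {K : Type u}
    (π : SheafOfModules.free K ⟶ N) (hπ : Epi π) : N.GeneratingSections where
  I := K
  s := SheafOfModules.freeHomEquiv _ π
  epi := by rw [Equiv.symm_apply_apply]; exact hπ

lemma isFiniteType_of_locFG (M : ModSite.Mod O) (h : LocFG M) :
    SheafOfModules.IsFiniteType (R := ModSite.ringSh O) M := by
  choose S hS hS' using h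
  let I : Type u := Σ (W : C) (V : C), {f : V ⟶ W // S W f}
  have hfg : ∀ i : I, FG ((ModSite.restr O i.2.1).obj M) := fun i => hS' i.1 i.2.2.1 i.2.2.2
  choose K hK π hπ using hfg
  let σ : SheafOfModules.LocalGeneratorsData.{u} M :=
    { I := I
      X := fun i => i.2.1
      coversTop := fun W => J.superset_covering (fun V f hf =>
        (Sieve.mem_ofObjects_iff ..).mpr ⟨⟨W, V, f, hf⟩, ⟨𝟙 _⟩⟩) (hS W)
      generators := fun i => genOfEpi (π i) (hπ i) }
  have hσ : σ.IsFiniteType :=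
    { isFiniteType := fun i => (SheafOfModules.GeneratingSections.IsFiniteType.mk (σ := σ.generators i) (hK i)) }
  constructor
  exact ⟨σ, hσ⟩


section Abstract

variable {𝒜 : Type*} [Category 𝒜] [Abelian 𝒜]

lemma epi_coprod_desc_of_shortExact (T : ShortComplex 𝒜) (hT : T.ShortExact)
    {P Q : 𝒜} (a : P ⟶ T.X₁) [Epi a] (l : Q ⟶ T.X₂) [Epi (l ≫ T.g)] :
    Epi (coprod.desc (a ≫ T.f) l) := by
  apply Preadditive.epi_of_cancel_zero
  intro Z h hh
  have h1 : (a ≫ T.f) ≫ h = 0 := by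
    have := congrArg (fun k => coprod.inl ≫ k) hh
    simpa only [coprod.inl_desc_assoc, comp_zero, Category.assoc] using this
  have h2 : l ≫ h = 0 := by
    have := congrArg (fun k => coprod.inr ≫ k) hh
    simpa only [coprod.inr_desc_assoc, comp_zero, Category.assoc] using this
  have h3 : T.f ≫ h = 0 := by
    rw [Category.assoc] at h1
    exact (cancel_epi a).1 (by rw [h1, comp_zero])
  have := hT.epi_g
  obtain ⟨k, hk⟩ : ∃ k : T.X₃ ⟶ Z, T.g ≫ k = h := ⟨hT.exact.desc h h3, hT.exact.g_desc h h3⟩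
  have h4 : (l ≫ T.g) ≫ k = 0 := by rw [Category.assoc, hk, h2]
  have h5 : k = 0 := (cancel_epi (l ≫ T.g)).1 (by rw [h4, comp_zero])
  rw [← hk, h5, comp_zero]

end Abstract

lemma isFinFreeSummandMod_free {V : C} (I : Type u) [Finite I] :
    DCoh.IsFinFreeSummandMod (ModSite.ringSh (O.over V)) (SheafOfModules.free I) := by
  obtain ⟨n, ⟨e⟩⟩ := Finite.exists_equiv_fin I
  let e' : I ≃ ULift.{u} (Fin n) := e.trans Equiv.ulift.symm
  let φ := (SheafOfModules.freeFunctor (R := ModSite.ringSh (O.over V))).mapIso (Equiv.toIso e')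
  exact ⟨n, φ.hom, φ.inv, φ.hom_inv_id⟩

lemma FG.of_shortExact {V : C} (T : ShortComplex (ModSite.Mod (O.over V))) (hT : T.ShortExact)
    (h₁ : FG T.X₁) {Q : ModSite.Mod (O.over V)} {I₃ : Type u} [Finite I₃]
    (e : SheafOfModules.free I₃ ≅ Q) (l : Q ⟶ T.X₂) [Epi (l ≫ T.g)] : FG T.X₂ := by
  obtain ⟨I₁, hI₁, a, ha⟩ := h₁
  have := epi_coprod_desc_of_shortExact T hT a l
  refine ⟨I₁ ⊕ I₃, inferInstance,
    (SheafOfModules.freeSumIso I₁ I₃).inv ≫ coprod.map (𝟙 _) e.hom ≫ coprod.desc (a ≫ T.f) l, ?_⟩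
  infer_instance

theorem locFG_of_shortExact (S : ShortComplex (ModSite.Mod O)) (hS : S.ShortExact)
    (h₁ : LocFG S.X₁) (h₃ : LocFG S.X₃) : LocFG S.X₂ := by
  intro W
  obtain ⟨S₁, hS₁, H₁⟩ := h₁ W
  obtain ⟨S₃, hS₃, H₃⟩ := h₃ W
  have key : ∀ ⦃V : C⦄ (f : V ⟶ W), (S₁ ⊓ S₃ : Sieve W) f → ∃ R ∈ J V, ∀ ⦃V' : C⦄ (g : V' ⟶ V), R g →
      FG ((ModSite.restr O V').obj S.X₂) := by
    intro V f hf
    obtain ⟨I₃, hI₃, π₃, hπ₃⟩ := H₃ f hf.2
    have : Epi S.g := hS.epi_g
    have : Epi ((ModSite.restr O V).map S.g) := (ModSite.restr O V).map_epi S.g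
    obtain ⟨R, hR, hl⟩ := local_lift_rel (SheafOfModules.free I₃) ((ModSite.restr O V).obj S.X₃)
      ((ModSite.restr O V).obj S.X₂) (isFinFreeSummandMod_free I₃) ((ModSite.restr O V).map S.g) π₃
    refine ⟨R, hR, fun V' g hg => ?_⟩
    obtain ⟨l, hl⟩ := hl g hg
    -- the restricted short exact sequence on the slice over `V'`
    let T : ShortComplex (ModSite.Mod (O.over V')) := S.map (ModSite.restr O V')
    have hT : T.ShortExact := hS.map_of_exact (ModSite.restr O V')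
    have h₁' : FG T.X₁ := (H₁ f hf.1).restr g
    let l' : (ovm O g).obj (SheafOfModules.free I₃) ⟶ T.X₂ := l ≫ (restrOvmIso O g).hom.app S.X₂
    have hl' : l' ≫ T.g = (ovm O g).map π₃ ≫ (restrOvmIso O g).hom.app S.X₃ := by
      change (l ≫ (restrOvmIso O g).hom.app S.X₂) ≫ (ModSite.restr O V').map S.g = _
      rw [Category.assoc, ← (restrOvmIso O g).hom.naturality S.g]
      change l ≫ (ovm O g).map ((ModSite.restr O V).map S.g) ≫ _ = _
      rw [← Category.assoc, hl]
    have : Epi ((ovm O g).map π₃) := (ovm O g).map_epi π₃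
    have e3 : IsIso ((restrOvmIso O g).hom.app S.X₃) := inferInstance
    have e4 : Epi ((restrOvmIso O g).hom.app S.X₃) := @IsIso.epi_of_iso _ _ _ _ _ e3
    have : Epi (l' ≫ T.g) := by rw [hl']; exact @epi_comp _ _ _ _ _ _ this _ e4
    exact FG.of_shortExact T hT h₁' (ovmFreeIso O g I₃) l'
  choose R hR hR' using key
  refine ⟨Sieve.bind (S₁ ⊓ S₃ : Sieve W) R, J.bind_covering (J.intersection_covering hS₁ hS₃) hR, ?_⟩
  rintro Z _ ⟨Y, g, f, hf, hg, rfl⟩
  exact hR' f hf g hg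

end Groth.Agent.H34.ModFT
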