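import Groth.Agent.H34.ModCoprod

/-!
# Sections of a filtered colimit of sheaves of modules, locally
-/

set_option autoImplicit false
universe u
open CategoryTheory CategoryTheory.Limits Opposite

namespace Groth.Agent.H34.ModFilt

open Groth.Agent.H45 Groth.Agent.H45.FinFree Groth.Agent.H34.ModCoprod

variable {C : Type u} [SmallCategory C] {J : GrothendieckTopology C} {O : Sheaf J CommRingCat.{u}}
variable {I : Type u} [SmallCategory I] (D : I ⥤ ModSite.Mod O) (c : Cocone D)

/-- The comparison from the presheaf colimit to the underlying presheaf of a cocone point. -/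
noncomputable def compare : colimit (D ⋙ forg O) ⟶ (forg O).obj c.pt :=
  colimit.desc (D ⋙ forg O) ((forg O).mapCocone c)

lemma ι_compare (i : I) :
    colimit.ι (D ⋙ forg O) i ≫ compare D c = (forg O).map (c.ι.app i) := by
  simp [compare]

variable {D c} (hc : IsColimit c)

include hc in
lemma isIso_shf_compare : IsIso ((shf O).map (compare D c)) := by
  let α : (D ⋙ forg O) ⋙ shf O ≅ D :=
    Functor.associator _ _ _ ≪≫ Functor.isoWhiskerLeft D (asIso (shfAdj O).counit) ≪≫
      D.rightUnitor
  let c₁ : Cocone ((D ⋙ forg O) ⋙ shf O) := (shf O).mapCocone (colimit.cocone (D ⋙ forg O))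
  have h₁ : IsColimit c₁ := isColimitOfPreserves (shf O) (colimit.isColimit (D ⋙ forg O))
  let c₂ : Cocone ((D ⋙ forg O) ⋙ shf O) := (Cocone.precompose α.hom).obj c
  have h₂ : IsColimit c₂ := (IsColimit.precomposeHomEquiv α c).symm hc
  let f : c₁ ⟶ c₂ :=
    { hom := (shf O).map (compare D c) ≫
        (show (shf O).obj ((forg O).obj c.pt) ⟶ c.pt from (shfAdj O).counit.app c.pt)
      w := by
        intro i
        change (shf O).map (colimit.ι (D ⋙ forg O) i) ≫
          (shf O).map (compare D c) ≫ (shfAdj O).counit.app c.pt =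
            α.hom.app i ≫ c.ι.app i
        rw [← Category.assoc, ← Functor.map_comp, ι_compare]
        have h1 := (shfAdj O).counit.naturality (c.ι.app i)
        have h2 : α.hom.app i = (shfAdj O).counit.app (D.obj i) := by
          simp [α]
        rw [h2]
        exact h1 }
  have h3' : IsIso f := IsColimit.hom_isIso h₁ h₂ f
  have h3 : IsIso f.hom := (Cocone.forget _).map_isIso f
  have h4 : IsIso ((shf O).map (compare D c) ≫ (shfAdj O).counit.app c.pt) := h3
  exact IsIso.of_isIso_comp_right _ ((shfAdj O).counit.app c.pt)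

include hc in
lemma locSurj_compare : LocSurj J (compare D c) :=
  ((isIso_shf_map_iff _).1 (isIso_shf_compare hc)).2

include hc in
lemma locInj_compare : LocInj J (compare D c) :=
  ((isIso_shf_map_iff _).1 (isIso_shf_compare hc)).1

variable [IsFiltered I]

/-- The evaluated presheaf colimit cocone is a colimit of sets. -/
noncomputable def isColimitEval (Y : C) :
    IsColimit ((PresheafOfModules.evaluation (O.obj ⋙ forget₂ CommRingCat.{u} RingCat.{u}) (op Y) ⋙
      forget _).mapCocone (colimit.cocone (D ⋙ forg O))) :=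
  isColimitOfPreserves _ (colimit.isColimit (D ⋙ forg O))

include hc in
/-- Every section of a filtered colimit of sheaves of modules locally comes from a term. -/
theorem exists_local_rep (X : C) (s : ((forg O).obj c.pt).obj (op X)) :
    ∃ S ∈ J X, ∀ ⦃Y : C⦄ (f : Y ⟶ X), S f →
      ∃ (i : I) (t : ((forg O).obj (D.obj i)).obj (op Y)),
        (c.ι.app i).val.app (op Y) t = res ((forg O).obj c.pt) f s := by
  obtain ⟨S, hS, h⟩ := locSurj_compare hc X s
  refine ⟨S, hS, fun Y f hf => ?_⟩
  obtain ⟨x, hx⟩ := h f hf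
  obtain ⟨i, t, ht⟩ := Types.jointly_surjective_of_isColimit (isColimitEval (D := D) Y) x
  refine ⟨i, t, ?_⟩
  rw [← hx]
  have h1 : x = (colimit.ι (D ⋙ forg O) i).app (op Y) t := ht.symm
  rw [h1]
  have := congrArg (fun m => m.app (op Y) t) (ι_compare D c i)
  exact this.symm

include hc in
/-- A section of a term of a filtered system which dies in the colimit dies locally at a later
stage. -/
theorem exists_local_eq_zero (X : C) (i : I) (t : ((forg O).obj (D.obj i)).obj (op X))
    (h : (c.ι.app i).val.app (op X) t = 0) :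
    ∃ S ∈ J X, ∀ ⦃Y : C⦄ (f : Y ⟶ X), S f →
      ∃ (j : I) (φ : i ⟶ j), (D.map φ).val.app (op Y) (res ((forg O).obj (D.obj i)) f t) = 0 := by
  let x : (colimit (D ⋙ forg O)).obj (op X) := (colimit.ι (D ⋙ forg O) i).app (op X) t
  have hx : (compare D c).app (op X) x = 0 := by
    have := congrArg (fun m => m.app (op X) t) (ι_compare D c i)
    exact this.trans h
  obtain ⟨S, hS, hS'⟩ := locInj_compare hc X x hx
  refine ⟨S, hS, fun Y f hf => ?_⟩
  have h1 : res (colimit (D ⋙ forg O)) f x = 0 := hS' f hf
  have h2 : (colimit.ι (D ⋙ forg O) i).app (op Y) (res ((forg O).obj (D.obj i)) f t) = 0 := by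
    exact (res_naturality (colimit.ι (D ⋙ forg O) i) f t).trans h1
  have h3 : ((PresheafOfModules.evaluation (O.obj ⋙ forget₂ CommRingCat.{u} RingCat.{u}) (op Y) ⋙
      forget _).mapCocone (colimit.cocone (D ⋙ forg O))).ι.app i
        (res ((forg O).obj (D.obj i)) f t) =
      ((PresheafOfModules.evaluation (O.obj ⋙ forget₂ CommRingCat.{u} RingCat.{u}) (op Y) ⋙
      forget _).mapCocone (colimit.cocone (D ⋙ forg O))).ι.app i
        (0 : ((forg O).obj (D.obj i)).obj (op Y)) := by
    refine h2.trans ?_
    exact (map_zero ((colimit.ι (D ⋙ forg O) i).app (op Y)).hom).symm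
  obtain ⟨k, φ, ψ, hk⟩ := (Types.FilteredColimit.isColimit_eq_iff _
    (isColimitEval (D := D) Y)).1 h3
  refine ⟨k, φ, ?_⟩
  refine Eq.trans ?_ (hk.trans ?_)
  · rfl
  · exact map_zero ((D.map ψ).val.app (op Y)).hom

end Groth.Agent.H34.ModFilt
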