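import Groth.Agent.H34.ModFilt
import Groth.Agent.H34.ModFP
import Groth.Agent.H45.FinFree.LocalFactor

/-!
# Morphisms from a finitely presented module into a directed colimit, locally
-/

set_option autoImplicit false
universe u
open CategoryTheory CategoryTheory.Limits Opposite

namespace Groth.Agent.H34.ModFiltHom

open Groth.Agent.H45 Groth.Agent.H45.FinFree Groth.Agent.H34.ModCoprod Groth.Agent.H34.ModFilt
  Groth.Agent.H34.ModFT

variable {C : Type u} [SmallCategory C] {J : GrothendieckTopology C} {O : Sheaf J CommRingCat.{u}}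

/-- A morphism out of a presented module, built from images of the generators satisfying the
relations, and lifting a given morphism. -/
theorem exists_lift_of_sections {W : C} {G : ModSite.Mod O} {K R : Type u} [Fintype K]
    (π : SheafOfModules.free K ⟶ (ModSite.restr O W).obj G)
    (ρ : SheafOfModules.free (R := ModSite.ringSh (O.over W)) R ⟶ SheafOfModules.free K)
    (w : ρ ≫ π = 0) (hcok : IsColimit (CokernelCofork.ofπ π w))
    {N N' : ModSite.Mod O} (ι : N ⟶ N') (g : G ⟶ N')
    (t : K → (pre ((ModSite.restr O W).obj N)).obj (op (top W)))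
    (ht : ∀ a, ((ModSite.restr O W).map ι).val.app (op (top W)) (t a) =
      ((ModSite.restr O W).map g).val.app (op (top W)) (freeHomEquivTop _ π a))
    (hz : ∀ b, ∑ a, coord a (freeHomEquivTop _ ρ b) • t a = 0) :
    ∃ a : (ModSite.restr O W).obj G ⟶ (ModSite.restr O W).obj N,
      a ≫ (ModSite.restr O W).map ι = (ModSite.restr O W).map g := by
  let γ : SheafOfModules.free K ⟶ (ModSite.restr O W).obj N := (freeHomEquivTop _).symm t
  have hγt : ∀ a, freeHomEquivTop _ γ a = t a := fun a => by
    simp only [γ, Equiv.apply_symm_apply]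
  have hγ : ρ ≫ γ = 0 := by
    apply (freeHomEquivTop _).injective
    funext b
    rw [freeHomEquivTop_comp, expand, freeHomEquivTop_zero]
    simp_rw [hγt]
    exact hz b
  let a : (ModSite.restr O W).obj G ⟶ (ModSite.restr O W).obj N :=
    hcok.desc (CokernelCofork.ofπ γ hγ)
  have ha : π ≫ a = γ := hcok.fac (CokernelCofork.ofπ γ hγ) WalkingParallelPair.one
  refine ⟨a, ?_⟩
  haveI : Epi π := epi_of_isColimit_cofork hcok
  rw [← cancel_epi π, ← Category.assoc, ha]
  apply (freeHomEquivTop _).injective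
  funext a'
  rw [freeHomEquivTop_comp, freeHomEquivTop_comp, hγt]
  exact ht a'


lemma restrOvmIso_hom_app_val_app {V W : C} (f : V ⟶ W) (G : ModSite.Mod O) (Z : Over V)
    (x : (pre ((ovm O f).obj ((ModSite.restr O W).obj G))).obj (op Z)) :
    ((restrOvmIso O f).hom.app G).val.app (op Z) x = x := rfl

/-- Restriction of a presentation to a smaller object, with control on generators and
relations. -/
theorem exists_restricted_presentation {W V : C} (f : V ⟶ W) {G : ModSite.Mod O} {K R : Type u}
    [Fintype K] [Finite R]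
    (π : SheafOfModules.free K ⟶ (ModSite.restr O W).obj G)
    (ρ : SheafOfModules.free (R := ModSite.ringSh (O.over W)) R ⟶ SheafOfModules.free K)
    (w : ρ ≫ π = 0) (hcok : IsColimit (CokernelCofork.ofπ π w)) :
    ∃ (π' : SheafOfModules.free K ⟶ (ModSite.restr O V).obj G)
      (ρ' : SheafOfModules.free (R := ModSite.ringSh (O.over V)) R ⟶ SheafOfModules.free K)
      (w' : ρ' ≫ π' = 0) (_ : IsColimit (CokernelCofork.ofπ π' w')),
      (∀ a, freeHomEquivTop _ π' a = res ((forg O).obj G) f (freeHomEquivTop _ π a)) ∧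
      (∀ a b, coord a (freeHomEquivTop _ ρ' b) =
        (O.obj.map f.op).hom (coord a (freeHomEquivTop _ ρ b))) := by
  let e := (restrOvmIso O f).app G
  have w0 := ovmRel_ovmGen f w
  have hc0 := ovmIsColimit f w hcok
  have w' : ovmRel f ρ ≫ ovmGen f π ≫ e.hom = 0 := by rw [reassoc_of% w0, zero_comp]
  have hex0 : (ShortComplex.mk _ _ w0).Exact := ShortComplex.exact_of_g_is_cokernel _ hc0
  have hepi0 : Epi (ovmGen f π) := epi_of_isColimit_cofork hc0
  have hex : (ShortComplex.mk _ _ w').Exact :=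
    ShortComplex.exact_of_iso
      (ShortComplex.isoMk (S₁ := ShortComplex.mk _ _ w0) (S₂ := ShortComplex.mk _ _ w')
        (Iso.refl _) (Iso.refl _) e (by simp) (by simp)) hex0
  have hepi : Epi (ovmGen f π ≫ e.hom) := epi_comp _ _
  refine ⟨ovmGen f π ≫ e.hom, ovmRel f ρ, w', hex.gIsCokernel, ?_, ?_⟩
  · intro a
    rw [freeHomEquivTop_comp]
    refine (restrOvmIso_hom_app_val_app f G (top V) _).trans ?_
    rw [ovmGen, freeHomEquivTop_ovm]
    exact res_restr_toTop_gtop f G _
  · intro a b
    rw [ovmRel, coord_ovm]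
    exact map_toTop_gtop f _


/-- The sections `e` over `V` generate `M` over `V`: every section over an object above `V` is
locally a linear combination of restrictions of the `e a`. -/
def SecGen (M : ModSite.Mod O) (V : C) {K : Type u} [Fintype K]
    (e : K → ((forg O).obj M).obj (op V)) : Prop :=
  ∀ ⦃V' : C⦄ (f : V' ⟶ V) (s : ((forg O).obj M).obj (op V')),
    ∃ S ∈ J V', ∀ ⦃V'' : C⦄ (h : V'' ⟶ V'), S h →
      ∃ r : K → O.obj.obj (op V''),
        res ((forg O).obj M) h s = ∑ a, r a • res ((forg O).obj M) (h ≫ f) (e a)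

/-- Value of a morphism from the unit module at a section `r`, in terms of its value at `1`. -/
lemma unit_hom_app {V : C} {N : ModSite.Mod (O.over V)}
    (φ : SheafOfModules.unit (ModSite.ringSh (O.over V)) ⟶ N) (Z : Over V)
    (r : (O.over V).obj.obj (op Z)) :
    r • res (pre N) (toTop Z) (φ.val.app (op (top V)) (1 : (O.over V).obj.obj (op (top V)))) =
      ((forg (O.over V)).map φ).app (op Z) r := by
  have h1 : r = r • (1 : (O.over V).obj.obj (op Z)) := by rw [smul_eq_mul, mul_one]
  have h2 : ((forg (O.over V)).map φ).app (op Z) r =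
      r • ((forg (O.over V)).map φ).app (op Z) (1 : (O.over V).obj.obj (op Z)) := by
    conv_lhs => rw [h1]
    exact map_smul (((forg (O.over V)).map φ).app (op Z)).hom _ _
  rw [h2]
  congr 1
  have h3 := res_naturality ((forg (O.over V)).map φ) (toTop Z)
    (1 : (O.over V).obj.obj (op (top V)))
  refine Eq.trans h3.symm ?_
  have h4 : res (pre (SheafOfModules.unit (ModSite.ringSh (O.over V)))) (toTop Z)
      (1 : (O.over V).obj.obj (op (top V))) = (1 : (O.over V).obj.obj (op Z)) :=
    map_one ((O.over V).obj.map (toTop Z).op).hom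
  exact congrArg (fun z => ((forg (O.over V)).map φ).app (op Z) z) h4

theorem secGen_of_epi {V : C} {M : ModSite.Mod O} {K : Type u} [Fintype K]
    (π : SheafOfModules.free K ⟶ (ModSite.restr O V).obj M) [Epi π] :
    SecGen M V (fun a => freeHomEquivTop _ π a) := by
  intro V' f s
  let Y : Over V := Over.mk f
  obtain ⟨S, hS, h⟩ := locSurj_of_epi π Y s
  refine ⟨Sieve.overEquiv Y S, (GrothendieckTopology.mem_over_iff _ _).1 hS, ?_⟩
  intro V'' h' hh'
  have h1 : S (Over.homMk h' : Over.mk (h' ≫ f) ⟶ Y) := (Sieve.overEquiv_iff S h').1 hh'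
  obtain ⟨x, hx⟩ := h _ h1
  let Z : Over V := Over.mk (h' ≫ f)
  let r : K → (O.over V).obj.obj (op Z) := fun a => (proj O V K a).val.app (op Z) x
  refine ⟨r, ?_⟩
  have e1 : (∑ a, proj O V K a ≫ SheafOfModules.ιFree a).val.app (op Z) x =
      ∑ a, (proj O V K a ≫ SheafOfModules.ιFree a).val.app (op Z) x :=
    sum_val_app Finset.univ _ (op Z) x
  have e2 : (∑ a, proj O V K a ≫ SheafOfModules.ιFree a).val.app (op Z) x = x :=
    congrArg (fun m => m.val.app (op Z) x) (sum_proj_ιFree O V (I := K))
  have hx1 : x = ∑ a, (proj O V K a ≫ SheafOfModules.ιFree a).val.app (op Z) x :=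
    e2.symm.trans e1
  have hx2 : ((forg (O.over V)).map π).app (op Z) x =
      ∑ a, ((forg (O.over V)).map π).app (op Z)
        ((proj O V K a ≫ SheafOfModules.ιFree a).val.app (op Z) x) := by
    conv_lhs => rw [hx1]
    exact map_sum (((forg (O.over V)).map π).app (op Z)).hom _ _
  refine hx.symm.trans (hx2.trans ?_)
  refine Finset.sum_congr rfl (fun a _ => ?_)
  exact (unit_hom_app (SheafOfModules.ιFree a ≫ π) Z (r a)).symm


lemma hom_sum_smul {A : Type u} [Ring A] {M N : ModuleCat.{u} A} (L : M ⟶ N) {K : Type*}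
    (s : Finset K) (r : K → A) (x : K → M) :
    L.hom (∑ a ∈ s, r a • x a) = ∑ a ∈ s, r a • L.hom (x a) := by
  simp [map_sum]

/-- Finitely many local properties hold simultaneously on a common covering sieve. -/
lemma exists_common_sieve {X : C} {ι : Type*} [Finite ι]
    (P : ι → ∀ ⦃Y : C⦄, (Y ⟶ X) → Prop)
    (hP : ∀ a, ∃ S ∈ J X, ∀ ⦃Y : C⦄ (f : Y ⟶ X), S f → P a f) :
    ∃ S ∈ J X, ∀ ⦃Y : C⦄ (f : Y ⟶ X), S f → ∀ a, P a f := by
  classical
  have : Fintype ι := Fintype.ofFinite ι
  choose S hS hS' using hP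
  have key : ∀ s : Finset ι, ∃ T ∈ J X, ∀ ⦃Y : C⦄ (f : Y ⟶ X), T f → ∀ a ∈ s, P a f := by
    intro s
    induction s using Finset.induction_on with
    | empty => exact ⟨⊤, J.top_mem X, fun _ _ _ a ha => absurd ha (Finset.notMem_empty a)⟩
    | insert a s ha ih =>
      obtain ⟨T, hT, hT'⟩ := ih
      refine ⟨S a ⊓ T, J.intersection_covering (hS a) hT, fun Y f hf b hb => ?_⟩
      rcases Finset.mem_insert.1 hb with rfl | hb
      · exact hS' b f hf.1
      · exact hT' f hf.2 b hb
  obtain ⟨T, hT, hT'⟩ := key Finset.univ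
  exact ⟨T, hT, fun Y f hf a => hT' f hf a (Finset.mem_univ a)⟩

section SecMap

variable {U : C} {G N N' : ModSite.Mod O}

/-- The map on sections over `V` induced by a morphism of modules on the slice over `U`,
for `f : V ⟶ U`. -/
noncomputable def secMap (a : (ModSite.restr O U).obj G ⟶ (ModSite.restr O U).obj N) {V : C}
    (f : V ⟶ U) : ((forg O).obj G).obj (op V) ⟶ ((forg O).obj N).obj (op V) :=
  ((forg (O.over U)).map a).app (op (Over.mk f))

lemma secMap_restr_map (g : G ⟶ N) {V : C} (f : V ⟶ U) :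
    secMap ((ModSite.restr O U).map g) f = ((forg O).map g).app (op V) := rfl

lemma secMap_comp (a : (ModSite.restr O U).obj G ⟶ (ModSite.restr O U).obj N)
    (b : (ModSite.restr O U).obj N ⟶ (ModSite.restr O U).obj N') {V : C} (f : V ⟶ U)
    (s : ((forg O).obj G).obj (op V)) :
    secMap (a ≫ b) f s = secMap b f (secMap a f s) := rfl

lemma res_secMap (a : (ModSite.restr O U).obj G ⟶ (ModSite.restr O U).obj N) {V V' : C}
    (f : V ⟶ U) (h : V' ⟶ V) (s : ((forg O).obj G).obj (op V)) :
    res ((forg O).obj N) h (secMap a f s) = secMap a (h ≫ f) (res ((forg O).obj G) h s) :=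
  (res_naturality ((forg (O.over U)).map a) (Over.homMk h : Over.mk (h ≫ f) ⟶ Over.mk f) s).symm

lemma secMap_sum_smul (a : (ModSite.restr O U).obj G ⟶ (ModSite.restr O U).obj N) {V : C}
    (f : V ⟶ U) {K : Type*} (s : Finset K) (r : K → O.obj.obj (op V))
    (x : K → ((forg O).obj G).obj (op V)) :
    secMap a f (∑ k ∈ s, r k • x k) = ∑ k ∈ s, r k • secMap a f (x k) :=
  hom_sum_smul (secMap a f) s r x

end SecMap

section Directed

variable {I : Type u} [Preorder I] [IsDirected I (· ≤ ·)] [Nonempty I]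
  {D : I ⥤ ModSite.Mod O} {c : Cocone D} (hc : IsColimit c)

omit [IsDirected I (· ≤ ·)] [Nonempty I] in
lemma ι_map_app {i j : I} (hij : i ≤ j) (Y : C) (t : ((forg O).obj (D.obj i)).obj (op Y)) :
    (c.ι.app j).val.app (op Y) ((D.map (homOfLE hij)).val.app (op Y) t) =
      (c.ι.app i).val.app (op Y) t := by
  have := congrArg (fun m => m.val.app (op Y) t) (c.w (homOfLE hij))
  exact this

omit [IsDirected I (· ≤ ·)] [Nonempty I] in
lemma map_map_app {i j k : I} (hij : i ≤ j) (hjk : j ≤ k) (Y : C)
    (t : ((forg O).obj (D.obj i)).obj (op Y)) :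
    (D.map (homOfLE hjk)).val.app (op Y) ((D.map (homOfLE hij)).val.app (op Y) t) =
      (D.map (homOfLE (hij.trans hjk))).val.app (op Y) t := by
  have h : D.map (homOfLE hij) ≫ D.map (homOfLE hjk) = D.map (homOfLE (hij.trans hjk)) := by
    rw [← Functor.map_comp]; rfl
  have := congrArg (fun m => m.val.app (op Y) t) h
  exact this

include hc in
theorem exists_local_rep_fin {X : C} {K : Type*} [Finite K]
    (y : K → ((forg O).obj c.pt).obj (op X)) :
    ∃ S ∈ J X, ∀ ⦃Y : C⦄ (f : Y ⟶ X), S f →
      ∃ i : I, ∀ a, ∃ t : ((forg O).obj (D.obj i)).obj (op Y),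
        (c.ι.app i).val.app (op Y) t = res ((forg O).obj c.pt) f (y a) := by
  classical
  have : Fintype K := Fintype.ofFinite K
  obtain ⟨S, hS, h⟩ := exists_common_sieve
    (fun (a : K) Y (f : Y ⟶ X) => ∃ (i : I) (t : ((forg O).obj (D.obj i)).obj (op Y)),
        (c.ι.app i).val.app (op Y) t = res ((forg O).obj c.pt) f (y a))
    (fun a => exists_local_rep hc X (y a))
  refine ⟨S, hS, fun Y f hf => ?_⟩
  choose ia ta hta using h f hf
  obtain ⟨i, hi⟩ := Finset.exists_le (Finset.univ.image ia)
  have hia : ∀ a, ia a ≤ i := fun a => hi _ (Finset.mem_image_of_mem _ (Finset.mem_univ a))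
  refine ⟨i, fun a => ⟨(D.map (homOfLE (hia a))).val.app (op Y) (ta a), ?_⟩⟩
  rw [ι_map_app]
  exact hta a

include hc in
theorem exists_local_eq_zero_fin {X : C} {K : Type*} [Finite K] (i : I)
    (z : K → ((forg O).obj (D.obj i)).obj (op X))
    (hz : ∀ b, (c.ι.app i).val.app (op X) (z b) = 0) :
    ∃ S ∈ J X, ∀ ⦃Y : C⦄ (f : Y ⟶ X), S f →
      ∃ (j : I) (hij : i ≤ j), ∀ b,
        (D.map (homOfLE hij)).val.app (op Y) (res ((forg O).obj (D.obj i)) f (z b)) = 0 := by
  classical
  have : Fintype K := Fintype.ofFinite K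
  obtain ⟨S, hS, h⟩ := exists_common_sieve
    (fun (b : K) Y (f : Y ⟶ X) => ∃ (j : I) (φ : i ⟶ j),
        (D.map φ).val.app (op Y) (res ((forg O).obj (D.obj i)) f (z b)) = 0)
    (fun b => exists_local_eq_zero hc X i (z b) (hz b))
  refine ⟨S, hS, fun Y f hf => ?_⟩
  choose jb φb hb using h f hf
  obtain ⟨j, hj⟩ := Finset.exists_le (insert i (Finset.univ.image jb))
  have hij : i ≤ j := hj _ (Finset.mem_insert_self _ _)
  have hjb : ∀ b, jb b ≤ j := fun b =>
    hj _ (Finset.mem_insert_of_mem (Finset.mem_image_of_mem _ (Finset.mem_univ b)))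
  refine ⟨j, hij, fun b => ?_⟩
  have e1 : homOfLE hij = φb b ≫ homOfLE (hjb b) := Subsingleton.elim _ _
  have hφ : D.map (homOfLE hij) = D.map (φb b) ≫ D.map (homOfLE (hjb b)) := by
    rw [← Functor.map_comp, e1]
  have h1 := congrArg (fun m => m.val.app (op Y) (res ((forg O).obj (D.obj i)) f (z b))) hφ
  refine h1.trans ?_
  have h2 := congrArg (fun w => (D.map (homOfLE (hjb b))).val.app (op Y) w) (hb b)
  refine h2.trans ?_
  exact map_zero ((D.map (homOfLE (hjb b))).val.app (op Y)).hom

include hc in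
/-- A morphism from a finitely presented module to a directed colimit lifts locally to a term. -/
theorem exists_local_lift {W : C} {G : ModSite.Mod O} {K R : Type u} [Fintype K] [Finite R]
    (π : SheafOfModules.free K ⟶ (ModSite.restr O W).obj G)
    (ρ : SheafOfModules.free (R := ModSite.ringSh (O.over W)) R ⟶ SheafOfModules.free K)
    (w : ρ ≫ π = 0) (hcok : IsColimit (CokernelCofork.ofπ π w)) (g : G ⟶ c.pt) :
    ∃ S ∈ J W, ∀ ⦃V : C⦄ (f : V ⟶ W), S f →
      ∃ (i : I) (a : (ModSite.restr O V).obj G ⟶ (ModSite.restr O V).obj (D.obj i)),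
        a ≫ (ModSite.restr O V).map (c.ι.app i) = (ModSite.restr O V).map g := by
  classical
  have : Fintype R := Fintype.ofFinite R
  let e : K → ((forg O).obj G).obj (op W) := fun a => freeHomEquivTop _ π a
  obtain ⟨S₁, hS₁, h₁⟩ := exists_local_rep_fin hc (fun a => ((forg O).map g).app (op W) (e a))
  have key : ∀ ⦃V : C⦄ (f : V ⟶ W), S₁ f → ∃ S₂ ∈ J V, ∀ ⦃V' : C⦄ (f' : V' ⟶ V), S₂ f' →
      ∃ (i : I) (a : (ModSite.restr O V').obj G ⟶ (ModSite.restr O V').obj (D.obj i)),
        a ≫ (ModSite.restr O V').map (c.ι.app i) = (ModSite.restr O V').map g := by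
    intro V f hf
    obtain ⟨i, hi⟩ := h₁ f hf
    choose t ht using hi
    obtain ⟨π', ρ', w', hcok', hπ', hρ'⟩ := exists_restricted_presentation f π ρ w hcok
    let LI : (pre ((ModSite.restr O V).obj (D.obj i))).obj (op (top V)) ⟶
        (pre ((ModSite.restr O V).obj c.pt)).obj (op (top V)) :=
      ((forg (O.over V)).map ((ModSite.restr O V).map (c.ι.app i))).app (op (top V))
    let LG : (pre ((ModSite.restr O V).obj G)).obj (op (top V)) ⟶
        (pre ((ModSite.restr O V).obj c.pt)).obj (op (top V)) :=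
      ((forg (O.over V)).map ((ModSite.restr O V).map g)).app (op (top V))
    let t' : K → (pre ((ModSite.restr O V).obj (D.obj i))).obj (op (top V)) := t
    have ht' : ∀ a, LI (t' a) = LG (freeHomEquivTop _ π' a) := by
      intro a
      refine (ht a).trans ?_
      have h1 := res_naturality ((forg O).map g) f (e a)
      refine h1.symm.trans ?_
      exact congrArg (fun x => ((forg O).map g).app (op V) x) (hπ' a).symm
    let z : R → (pre ((ModSite.restr O V).obj (D.obj i))).obj (op (top V)) :=
      fun b => ∑ a, coord a (freeHomEquivTop _ ρ' b) • t' a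
    have hz : ∀ b, LI (z b) = 0 := by
      intro b
      have h0 := sum_coord_smul_eq_zero π' ρ' w' b
      have h1 : ∑ a, coord a (freeHomEquivTop _ ρ' b) • LG (freeHomEquivTop _ π' a) = 0 :=
        (hom_sum_smul LG Finset.univ _ _).symm.trans
          ((congrArg LG h0).trans (map_zero LG.hom))
      change LI (∑ a, coord a (freeHomEquivTop _ ρ' b) • t' a) = 0
      refine (hom_sum_smul LI Finset.univ _ _).trans ?_
      refine Eq.trans (Finset.sum_congr rfl (fun a _ => ?_)) h1
      exact congrArg (fun x => coord a (freeHomEquivTop _ ρ' b) • x) (ht' a)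
    let z' : R → ((forg O).obj (D.obj i)).obj (op V) := z
    obtain ⟨S₂, hS₂, h₂⟩ := exists_local_eq_zero_fin (X := V) hc i z' hz
    refine ⟨S₂, hS₂, fun V' f' hf' => ?_⟩
    obtain ⟨j, hij, hj⟩ := h₂ f' hf'
    obtain ⟨π'', ρ'', w'', hcok'', hπ'', hρ''⟩ :=
      exists_restricted_presentation f' π' ρ' w' hcok'
    refine ⟨j, ?_⟩
    let Dij := (D.map (homOfLE hij)).val.app (op V')
    refine exists_lift_of_sections π'' ρ'' w'' hcok'' (c.ι.app j) g
      (fun a => Dij (res ((forg O).obj (D.obj i)) f' (t a))) ?_ ?_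
    · intro a
      refine (ι_map_app hij V' _).trans ?_
      have h1 := res_naturality ((forg O).map (c.ι.app i)) f' (t a)
      refine h1.trans ?_
      have h2 : res ((forg O).obj c.pt) f' (((forg O).map (c.ι.app i)).app (op V) (t a)) =
          res ((forg O).obj c.pt) f' (((forg O).map g).app (op V) (freeHomEquivTop _ π' a)) :=
        congrArg (fun x => res ((forg O).obj c.pt) f' x) (ht' a)
      refine h2.trans ?_
      have h3 := res_naturality ((forg O).map g) f' (freeHomEquivTop _ π' a)
      refine h3.symm.trans ?_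
      exact congrArg (fun x => ((forg O).map g).app (op V') x) (hπ'' a).symm
    · intro b
      have h1 := hj b
      have h2 : res ((forg O).obj (D.obj i)) f' (z b) =
          ∑ a, (O.obj.map f'.op).hom (coord a (freeHomEquivTop _ ρ' b)) •
            res ((forg O).obj (D.obj i)) f' (t a) := by
        change res ((forg O).obj (D.obj i)) f' (∑ a, coord a (freeHomEquivTop _ ρ' b) • t' a) = _
        refine (res_sum f' _ _).trans ?_
        refine Finset.sum_congr rfl (fun a _ => ?_)
        exact res_smul f' _ _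
      rw [h2] at h1
      refine Eq.trans ?_ ((hom_sum_smul Dij Finset.univ _ _).symm.trans h1)
      refine Finset.sum_congr rfl (fun a _ => ?_)
      rw [hρ'' a b]
      rfl
  choose S₂ hS₂ h₂ using key
  refine ⟨Sieve.bind S₁ (fun V f hf => S₂ f hf), J.bind_covering hS₁ (fun V f hf => hS₂ f hf), ?_⟩
  rintro V' _ ⟨V, f', f, hf, hf', rfl⟩
  exact h₂ f hf f' hf'

include hc in
/-- Two local morphisms into a term of a directed system which agree on generators after passing
to the colimit agree locally at a later stage. -/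
theorem exists_local_eq {U U' V : C} (f : V ⟶ U) (f' : V ⟶ U') {G : ModSite.Mod O}
    {K : Type u} [Fintype K] (e : K → ((forg O).obj G).obj (op V)) (he : SecGen G V e) (k : I)
    (a : (ModSite.restr O U).obj G ⟶ (ModSite.restr O U).obj (D.obj k))
    (b : (ModSite.restr O U').obj G ⟶ (ModSite.restr O U').obj (D.obj k))
    (hab : ∀ x, ((forg O).map (c.ι.app k)).app (op V) (secMap a f (e x)) =
      ((forg O).map (c.ι.app k)).app (op V) (secMap b f' (e x))) :
    ∃ S ∈ J V, ∀ ⦃V' : C⦄ (h : V' ⟶ V), S h → ∃ (j : I) (hkj : k ≤ j),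
      ∀ ⦃V'' : C⦄ (h' : V'' ⟶ V') (s : ((forg O).obj G).obj (op V'')),
        ((forg O).map (D.map (homOfLE hkj))).app (op V'') (secMap a (h' ≫ h ≫ f) s) =
          ((forg O).map (D.map (homOfLE hkj))).app (op V'') (secMap b (h' ≫ h ≫ f') s) := by
  classical
  let d : K → ((forg O).obj (D.obj k)).obj (op V) := fun x => secMap a f (e x) - secMap b f' (e x)
  have hd : ∀ x, (c.ι.app k).val.app (op V) (d x) = 0 := by
    intro x
    refine (map_sub (((forg O).map (c.ι.app k)).app (op V)).hom _ _).trans ?_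
    exact sub_eq_zero.2 (hab x)
  obtain ⟨S, hS, hS'⟩ := exists_local_eq_zero_fin (X := V) hc k d hd
  refine ⟨S, hS, fun V' h hh => ?_⟩
  obtain ⟨j, hkj, hj⟩ := hS' h hh
  refine ⟨j, hkj, fun V'' h' s => ?_⟩
  let Dkj := (forg O).map (D.map (homOfLE hkj))
  have hAB : ∀ x, Dkj.app (op V') (res ((forg O).obj (D.obj k)) h (secMap a f (e x))) =
      Dkj.app (op V') (res ((forg O).obj (D.obj k)) h (secMap b f' (e x))) := by
    intro x
    have h1 := hj x
    have h2 : res ((forg O).obj (D.obj k)) h (d x) =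
        res ((forg O).obj (D.obj k)) h (secMap a f (e x)) -
          res ((forg O).obj (D.obj k)) h (secMap b f' (e x)) := res_sub h _ _
    rw [h2] at h1
    have h3 := (map_sub (Dkj.app (op V')).hom _ _).symm.trans h1
    exact sub_eq_zero.1 h3
  obtain ⟨T, hT, hT'⟩ := he (h' ≫ h) s
  apply sect_ext_of_sieve (D.obj j) T hT
  intro V''' h'' hh''
  obtain ⟨r, hr⟩ := hT' h'' hh''
  have key : ∀ (U₀ : C) (f₀ : V ⟶ U₀)
      (a₀ : (ModSite.restr O U₀).obj G ⟶ (ModSite.restr O U₀).obj (D.obj k)),
      res ((forg O).obj (D.obj j)) h'' (Dkj.app (op V'') (secMap a₀ (h' ≫ h ≫ f₀) s)) =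
        ∑ x, r x • res ((forg O).obj (D.obj j)) (h'' ≫ h')
          (Dkj.app (op V') (res ((forg O).obj (D.obj k)) h (secMap a₀ f₀ (e x)))) := by
    intro U₀ f₀ a₀
    rw [← res_naturality Dkj h'', res_secMap, hr, secMap_sum_smul]
    refine (hom_sum_smul (Dkj.app (op V''')) Finset.univ _ _).trans ?_
    refine Finset.sum_congr rfl (fun x _ => ?_)
    congr 1
    rw [← res_naturality Dkj (h'' ≫ h'), ← res_comp, res_secMap]
    simp only [Category.assoc]
  rw [key U f a, key U' f' b]
  refine Finset.sum_congr rfl (fun x _ => ?_)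
  rw [hAB x]

end Directed

end Groth.Agent.H34.ModFiltHom
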