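import Groth.Agent.H34.ModLF
import Mathlib.Topology.Sheaves.Sheaf
import Mathlib.CategoryTheory.Sites.Spaces

set_option autoImplicit false
universe u
open CategoryTheory CategoryTheory.Limits Opposite TopologicalSpace
open Groth.Agent.H45 Groth.Agent.H45.FinFree

namespace Groth.Agent.H34.RSpace

variable {X : TopCat.{u}}

/-- From a pointwise-local property of opens (stable under shrinking) to covering sieves. -/
lemma exists_sieve_of_pointwise (P : Opens X → Prop)
    (hP : ∀ ⦃V' V : Opens X⦄, (V' ⟶ V) → P V → P V')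
    (h : ∀ x : X, ∃ U : Opens X, x ∈ U ∧ P U) (W : Opens X) :
    ∃ S ∈ Opens.grothendieckTopology X W, ∀ ⦃V : Opens X⦄ (f : V ⟶ W), S f → P V := by
  refine ⟨⟨fun V _ => P V, fun {V V'} f hV g => hP g hV⟩, ?_, fun V f hf => hf⟩
  intro x hx
  obtain ⟨U, hxU, hU⟩ := h x
  exact ⟨U ⊓ W, homOfLE inf_le_right, hP (homOfLE inf_le_left) hU, ⟨hxU, hx⟩⟩

/-- From covering sieves to a pointwise-local statement. -/
lemma exists_nhd_of_sieve (P : Opens X → Prop)
    (h : ∀ W : Opens X, ∃ S ∈ Opens.grothendieckTopology X W, ∀ ⦃V : Opens X⦄ (f : V ⟶ W), S f → P V)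
    (x : X) : ∃ U : Opens X, x ∈ U ∧ P U := by
  obtain ⟨S, hS, H⟩ := h ⊤
  obtain ⟨V, f, hf, hxV⟩ := hS x trivial
  exact ⟨V, hxV, H f hf⟩

variable (O : TopCat.Sheaf CommRingCat.{u} X)

lemma locFree_of_pointwise (r : ℕ) {F : ModSite.Mod O}
    (hF : ∀ x : X, ∃ U : Opens X, x ∈ U ∧
      Nonempty ((ModSite.restr O U).obj F ≅ SheafOfModules.free (ULift.{u} (Fin r)))) :
    ModFT.LocFree r F := by
  intro W
  refine exists_sieve_of_pointwise
    (fun U => Nonempty ((ModSite.restr O U).obj F ≅ SheafOfModules.free (ULift.{u} (Fin r))))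
    ?_ hF W
  rintro V' V h ⟨e⟩
  exact ⟨((restrOvmIso O h).app F).symm ≪≫ (ovm O h).mapIso e ≪≫ (ovmFreeIso O h _).symm⟩

end Groth.Agent.H34.RSpace
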