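import Groth.Agent.H34.ModGlue
import Groth.Agent.H34.RSpace

/-!
# Morphisms from a finitely presented module into a directed colimit on a quasi-compact
quasi-separated ringed space
-/

set_option autoImplicit false
universe u
open CategoryTheory CategoryTheory.Limits Opposite TopologicalSpace

namespace Groth.Agent.H34.ModFiltTop

open Groth.Agent.H45 Groth.Agent.H45.FinFree Groth.Agent.H34.ModCoprod Groth.Agent.H34.ModFilt
  Groth.Agent.H34.ModFT Groth.Agent.H34.ModFiltHom Groth.Agent.H34.ModGlue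

section Site

variable {C : Type u} [SmallCategory C] {J : GrothendieckTopology C} {O : Sheaf J CommRingCat.{u}}

/-- Restriction of a morphism on a slice to a smaller slice. -/
noncomputable def restrictHom {U V : C} (h : U ⟶ V) {G N : ModSite.Mod O}
    (a : (ModSite.restr O V).obj G ⟶ (ModSite.restr O V).obj N) :
    (ModSite.restr O U).obj G ⟶ (ModSite.restr O U).obj N :=
  (restrOvmIso O h).inv.app G ≫ (ovm O h).map a ≫ (restrOvmIso O h).hom.app N

lemma secMap_restrictHom {U V : C} (h : U ⟶ V) {G N : ModSite.Mod O}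
    (a : (ModSite.restr O V).obj G ⟶ (ModSite.restr O V).obj N) {W : C} (f : W ⟶ U)
    (s : ((forg O).obj G).obj (op W)) :
    secMap (restrictHom h a) f s = secMap a (f ≫ h) s := rfl

/-- Two morphisms of sheaves of modules which agree locally on sections are equal. -/
theorem hom_ext_of_locally {G F : ModSite.Mod O} (γ γ' : G ⟶ F)
    (h : ∀ (V : C) (s : ((forg O).obj G).obj (op V)), ∃ S ∈ J V, ∀ ⦃V' : C⦄ (f : V' ⟶ V), S f →
      ((forg O).map γ).app (op V') (res ((forg O).obj G) f s) =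
        ((forg O).map γ').app (op V') (res ((forg O).obj G) f s)) : γ = γ' := by
  apply (forg O).map_injective
  ext ⟨V⟩ s
  obtain ⟨S, hS, hS'⟩ := h V s
  apply sect_ext_of_sieve F S hS
  intro V' f hf
  rw [← res_naturality, ← res_naturality]
  exact hS' f hf

end Site

section Top

variable {X : TopCat.{u}} {O : Sheaf (Opens.grothendieckTopology X) CommRingCat.{u}}
variable {I : Type u} [Preorder I] [IsDirected I (· ≤ ·)] [Nonempty I]
  {D : I ⥤ ModSite.Mod O} {c : Cocone D} (hc : IsColimit c)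

include hc in
/-- Two local morphisms into a term of a directed system, defined near a quasi-compact open `W`
and agreeing on `W` after passing to the colimit, agree on `W` at a later stage. -/
theorem exists_eq_of_isCompact {G : ModSite.Mod O} (hG : LocFG G) (W : Opens X)
    (hW : IsCompact (W : Set X)) {U₁ U₂ : Opens X} (h₁ : W ≤ U₁) (h₂ : W ≤ U₂) (k : I)
    (a : (ModSite.restr O U₁).obj G ⟶ (ModSite.restr O U₁).obj (D.obj k))
    (b : (ModSite.restr O U₂).obj G ⟶ (ModSite.restr O U₂).obj (D.obj k))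
    (hab : ∀ (V : Opens X) (hV : V ≤ W) (s : ((forg O).obj G).obj (op V)),
      ((forg O).map (c.ι.app k)).app (op V) (secMap a (homOfLE (hV.trans h₁)) s) =
        ((forg O).map (c.ι.app k)).app (op V) (secMap b (homOfLE (hV.trans h₂)) s)) :
    ∃ (k' : I) (hk : k ≤ k'), ∀ (V : Opens X) (hV : V ≤ W) (s : ((forg O).obj G).obj (op V)),
      ((forg O).map (D.map (homOfLE hk))).app (op V) (secMap a (homOfLE (hV.trans h₁)) s) =
        ((forg O).map (D.map (homOfLE hk))).app (op V) (secMap b (homOfLE (hV.trans h₂)) s) := by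
  classical
  have key : ∀ y : W, ∃ (V' : Opens X) (_ : (y : X) ∈ V') (hV' : V' ≤ W) (j : I) (hkj : k ≤ j),
      ∀ (V'' : Opens X) (hV'' : V'' ≤ V') (s : ((forg O).obj G).obj (op V'')),
        ((forg O).map (D.map (homOfLE hkj))).app (op V'')
            (secMap a (homOfLE ((hV''.trans hV').trans h₁)) s) =
          ((forg O).map (D.map (homOfLE hkj))).app (op V'')
            (secMap b (homOfLE ((hV''.trans hV').trans h₂)) s) := by
    intro y
    obtain ⟨S, hS, hS'⟩ := hG W
    obtain ⟨Vy, fy, hfy, hyV⟩ := hS y.1 y.2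
    obtain ⟨K, hK, π, hπ⟩ := hS' fy hfy
    have : Fintype K := Fintype.ofFinite K
    have he := secGen_of_epi π
    have hVW : Vy ≤ W := leOfHom fy
    obtain ⟨T, hT, hT'⟩ := exists_local_eq hc (homOfLE (hVW.trans h₁)) (homOfLE (hVW.trans h₂))
      _ he k a b (fun x => hab Vy hVW _)
    obtain ⟨V', h, hh, hyV'⟩ := hT y.1 hyV
    obtain ⟨j, hkj, hj⟩ := hT' h hh
    have hV'V : V' ≤ Vy := leOfHom h
    refine ⟨V', hyV', hV'V.trans hVW, j, hkj, fun V'' hV'' s => ?_⟩
    have := hj (homOfLE hV'') s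
    have e1 : homOfLE hV'' ≫ h ≫ homOfLE (hVW.trans h₁) =
        homOfLE ((hV''.trans (hV'V.trans hVW)).trans h₁) := Subsingleton.elim _ _
    have e2 : homOfLE hV'' ≫ h ≫ homOfLE (hVW.trans h₂) =
        homOfLE ((hV''.trans (hV'V.trans hVW)).trans h₂) := Subsingleton.elim _ _
    rw [e1, e2] at this
    exact this
  choose V' hyV' hV'W j hkj hj using key
  obtain ⟨bf, hbf⟩ := hW.elim_finite_subcover (fun y : W => ((V' y : Opens X) : Set X))
    (fun y => (V' y).isOpen) (fun x hx => Set.mem_iUnion.2 ⟨⟨x, hx⟩, hyV' ⟨x, hx⟩⟩)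
  obtain ⟨k', hk'⟩ := Finset.exists_le (insert k (bf.image j))
  have hkk' : k ≤ k' := hk' _ (Finset.mem_insert_self _ _)
  have hjk' : ∀ y ∈ bf, j y ≤ k' := fun y hy =>
    hk' _ (Finset.mem_insert_of_mem (Finset.mem_image_of_mem _ hy))
  refine ⟨k', hkk', fun V hV s => ?_⟩
  let S : Sieve V :=
    { arrows := fun V'' _ => ∃ y ∈ bf, V'' ≤ V' y
      downward_closed := by
        rintro Y Z f ⟨y, hy, hY⟩ g
        exact ⟨y, hy, (leOfHom g).trans hY⟩ }
  have hS : S ∈ Opens.grothendieckTopology X V := by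
    intro x hx
    obtain ⟨y, hy, hxy⟩ : ∃ y ∈ bf, x ∈ ((V' y : Opens X) : Set X) := by
      have := hbf (hV hx)
      simpa using this
    exact ⟨V ⊓ V' y, homOfLE inf_le_left, ⟨y, hy, inf_le_right⟩, ⟨hx, hxy⟩⟩
  apply sect_ext_of_sieve (D.obj k') S hS
  rintro V'' f ⟨y, hy, hV''⟩
  have hV''V : V'' ≤ V := leOfHom f
  have step : ∀ (U₀ : Opens X) (h₀ : W ≤ U₀)
      (a₀ : (ModSite.restr O U₀).obj G ⟶ (ModSite.restr O U₀).obj (D.obj k)),
      res ((forg O).obj (D.obj k')) f
          (((forg O).map (D.map (homOfLE hkk'))).app (op V) (secMap a₀ (homOfLE (hV.trans h₀)) s)) =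
        ((forg O).map (D.map (homOfLE (hjk' y hy)))).app (op V'')
          (((forg O).map (D.map (homOfLE (hkj y)))).app (op V'')
            (secMap a₀ (homOfLE ((hV''.trans (hV'W y)).trans h₀)) (res ((forg O).obj G) f s))) := by
    intro U₀ h₀ a₀
    rw [← res_naturality, res_secMap]
    have e1 : f ≫ homOfLE (hV.trans h₀) = homOfLE ((hV''.trans (hV'W y)).trans h₀) :=
      Subsingleton.elim _ _
    rw [e1]
    exact (map_map_app (hkj y) (hjk' y hy) V'' _).symm
  rw [step U₁ h₁ a, step U₂ h₂ b, hj y V'' hV'' _]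

/-- The covering hypothesis: every open covering of `X` is refined by a finite open covering
with quasi-compact pairwise intersections. -/
def QCQS (X : TopCat.{u}) : Prop :=
  ∀ (ι : Type u) (V : ι → Opens X), iSup V = ⊤ →
    ∃ (J : Type u) (_ : Finite J) (U : J → Opens X), iSup U = ⊤ ∧ (∀ j, ∃ i, U j ≤ V i) ∧
      ∀ j j', IsCompact ((U j ⊓ U j' : Opens X) : Set X)

omit [IsDirected I (· ≤ ·)] [Nonempty I] in
lemma ι_secMap_eq {G : ModSite.Mod O} {U : Opens X} {i : I} (g : G ⟶ c.pt)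
    (a : (ModSite.restr O U).obj G ⟶ (ModSite.restr O U).obj (D.obj i))
    (ha : a ≫ (ModSite.restr O U).map (c.ι.app i) = (ModSite.restr O U).map g)
    {V : Opens X} (f : V ⟶ U) (s : ((forg O).obj G).obj (op V)) :
    ((forg O).map (c.ι.app i)).app (op V) (secMap a f s) = ((forg O).map g).app (op V) s :=
  congrArg (fun m => secMap m f s) ha

include hc in
theorem exists_lift (hX : QCQS X) (G : ModSite.Mod O)
    [SheafOfModules.IsFinitePresentation (R := ModSite.ringSh O) G] (g : G ⟶ c.pt) :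
    ∃ (i : I) (γ : G ⟶ D.obj i), γ ≫ c.ι.app i = g := by
  classical
  have hFP := locFP_of_isFinitePresentation G
  have hFG : LocFG G := hFP.locFG
  have step1 : ∀ x : X, ∃ (V : Opens X) (_ : x ∈ V) (i : I)
      (a : (ModSite.restr O V).obj G ⟶ (ModSite.restr O V).obj (D.obj i)),
      a ≫ (ModSite.restr O V).map (c.ι.app i) = (ModSite.restr O V).map g := by
    intro x
    obtain ⟨S, hS, hS'⟩ := hFP ⊤
    obtain ⟨V₀, f₀, hf₀, hxV₀⟩ := hS x trivial
    obtain ⟨K, R, hK, hR, ρ, π, w, hex, hπ⟩ := hS' f₀ hf₀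
    have : Fintype K := Fintype.ofFinite K
    obtain ⟨T, hT, hT'⟩ := exists_local_lift hc π ρ w hex.gIsCokernel g
    obtain ⟨V, f, hf, hxV⟩ := hT x hxV₀
    obtain ⟨i, a, ha⟩ := hT' f hf
    exact ⟨V, hxV, i, a, ha⟩
  choose V hxV i a ha using step1
  have hVtop : iSup V = ⊤ := by
    rw [eq_top_iff]
    intro x _
    exact Opens.mem_iSup.2 ⟨x, hxV x⟩
  obtain ⟨Jt, hJt, U, hU, hUV, hUc⟩ := hX X V hVtop
  choose xj hxj using hUV
  have : Fintype Jt := Fintype.ofFinite Jt
  obtain ⟨i₀, hi₀⟩ := Finset.exists_le (Finset.univ.image (fun j => i (xj j)))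
  have hi : ∀ j, i (xj j) ≤ i₀ := fun j =>
    hi₀ _ (Finset.mem_image_of_mem _ (Finset.mem_univ j))
  let a' : ∀ j, (ModSite.restr O (V (xj j))).obj G ⟶ (ModSite.restr O (V (xj j))).obj (D.obj i₀) :=
    fun j => a (xj j) ≫ (ModSite.restr O _).map (D.map (homOfLE (hi j)))
  have ha' : ∀ j, a' j ≫ (ModSite.restr O _).map (c.ι.app i₀) = (ModSite.restr O _).map g := by
    intro j
    rw [Category.assoc, ← Functor.map_comp, c.w, ha]
  have step3 : ∀ p : Jt × Jt, ∃ (k : I) (hk : i₀ ≤ k), ∀ (V' : Opens X)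
      (hV' : V' ≤ U p.1 ⊓ U p.2) (s : ((forg O).obj G).obj (op V')),
      ((forg O).map (D.map (homOfLE hk))).app (op V')
          (secMap (a' p.1) (homOfLE (hV'.trans (inf_le_left.trans (hxj p.1)))) s) =
        ((forg O).map (D.map (homOfLE hk))).app (op V')
          (secMap (a' p.2) (homOfLE (hV'.trans (inf_le_right.trans (hxj p.2)))) s) := by
    intro p
    refine exists_eq_of_isCompact hc hFG (U p.1 ⊓ U p.2) (hUc p.1 p.2)
      (inf_le_left.trans (hxj p.1)) (inf_le_right.trans (hxj p.2)) i₀ (a' p.1) (a' p.2) ?_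
    intro V' hV' s
    rw [ι_secMap_eq g (a' p.1) (ha' p.1), ι_secMap_eq g (a' p.2) (ha' p.2)]
  choose kp hkp hp using step3
  obtain ⟨k₀, hk₀⟩ := Finset.exists_le (insert i₀ (Finset.univ.image kp))
  have hi₀k₀ : i₀ ≤ k₀ := hk₀ _ (Finset.mem_insert_self _ _)
  have hkpk₀ : ∀ p, kp p ≤ k₀ := fun p =>
    hk₀ _ (Finset.mem_insert_of_mem (Finset.mem_image_of_mem _ (Finset.mem_univ p)))
  let g' : ∀ j, (ModSite.restr O (U j)).obj G ⟶ (ModSite.restr O (U j)).obj (D.obj k₀) :=
    fun j => restrictHom (homOfLE (hxj j))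
      (a' j ≫ (ModSite.restr O _).map (D.map (homOfLE hi₀k₀)))
  have hg'1 : ∀ j (V' : Opens X) (h : V' ≤ U j) (s : ((forg O).obj G).obj (op V')),
      secMap (g' j) (homOfLE h) s =
        ((forg O).map (D.map (homOfLE hi₀k₀))).app (op V')
          (secMap (a' j) (homOfLE (h.trans (hxj j))) s) := fun j V' h s => rfl
  have hg' : ∀ j j' (V' : Opens X) (h : V' ≤ U j) (h' : V' ≤ U j')
      (s : ((forg O).obj G).obj (op V')),
      secMap (g' j) (homOfLE h) s = secMap (g' j') (homOfLE h') s := by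
    intro j j' V' h h' s
    have e : ∀ z : ((forg O).obj (D.obj i₀)).obj (op V'),
        ((forg O).map (D.map (homOfLE hi₀k₀))).app (op V') z =
          (D.map (homOfLE (hkpk₀ (j, j')))).val.app (op V')
            ((D.map (homOfLE (hkp (j, j')))).val.app (op V') z) := fun z =>
      (map_map_app (hkp (j, j')) (hkpk₀ (j, j')) V' z).symm
    rw [hg'1, hg'1, e, e]
    have := hp (j, j') V' (le_inf h h') s
    exact congrArg (fun z => (D.map (homOfLE (hkpk₀ (j, j')))).val.app (op V') z) this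
  obtain ⟨γ, hγ⟩ := glue_hom U hU g' hg'
  refine ⟨k₀, γ, ?_⟩
  apply hom_ext_of_locally
  intro V₁ s
  let S : Sieve V₁ :=
    { arrows := fun V'' _ => ∃ j, V'' ≤ U j
      downward_closed := by
        rintro Y Z f ⟨j, hj⟩ k
        exact ⟨j, (leOfHom k).trans hj⟩ }
  have hS : S ∈ Opens.grothendieckTopology X V₁ := by
    intro x hx
    have hx' : x ∈ iSup U := by rw [hU]; trivial
    obtain ⟨j, hj⟩ := Opens.mem_iSup.1 hx'
    exact ⟨V₁ ⊓ U j, homOfLE inf_le_left, ⟨j, inf_le_right⟩, ⟨hx, hj⟩⟩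
  refine ⟨S, hS, ?_⟩
  rintro V'' f ⟨j, hj⟩
  change ((forg O).map (c.ι.app k₀)).app (op V'')
    (((forg O).map γ).app (op V'') (res ((forg O).obj G) f s)) = _
  rw [hγ j V'' hj, hg'1]
  refine (ι_map_app hi₀k₀ V'' _).trans ?_
  exact ι_secMap_eq g (a' j) (ha' j) _ _

lemma isCompact_top_of_qcqs (hX : QCQS X) : IsCompact (((⊤ : Opens X) : Opens X) : Set X) := by
  obtain ⟨Jt, hJt, U, hU, -, hUc⟩ := hX PUnit.{u + 1} (fun _ => ⊤) (by simp)
  have h1 : (((⊤ : Opens X) : Opens X) : Set X) = ⋃ j, ((U j : Opens X) : Set X) := by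
    rw [← hU]
    simp
  rw [h1]
  refine isCompact_iUnion (fun j => ?_)
  have := hUc j j
  rwa [inf_idem] at this

include hc in
theorem exists_eq (hX : QCQS X) (G : ModSite.Mod O)
    [SheafOfModules.IsFinitePresentation (R := ModSite.ringSh O) G] (k : I)
    (γ₁ γ₂ : G ⟶ D.obj k) (h : γ₁ ≫ c.ι.app k = γ₂ ≫ c.ι.app k) :
    ∃ (k' : I) (hk : k ≤ k'), γ₁ ≫ D.map (homOfLE hk) = γ₂ ≫ D.map (homOfLE hk) := by
  have hFG : LocFG G := (locFP_of_isFinitePresentation G).locFG
  obtain ⟨k', hk, hk'⟩ := exists_eq_of_isCompact hc hFG ⊤ (isCompact_top_of_qcqs hX)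
    (le_refl ⊤) (le_refl ⊤) k ((ModSite.restr O ⊤).map γ₁) ((ModSite.restr O ⊤).map γ₂)
    (fun V hV s => congrArg (fun m => ((forg O).map m).app (op V) s) h)
  refine ⟨k', hk, ?_⟩
  apply (forg O).map_injective
  ext ⟨V⟩ s
  exact hk' V le_top s

/-- `Hom(G, -)` preserves directed colimits for `G` of finite presentation on a quasi-compact
quasi-separated ringed space. -/
theorem preservesColimit_coyoneda (hX : QCQS X) (D : I ⥤ ModSite.Mod O) (G : ModSite.Mod O)
    [SheafOfModules.IsFinitePresentation (R := ModSite.ringSh O) G] :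
    PreservesColimit D (coyoneda.obj (op G)) := by
  have hc := colimit.isColimit D
  apply preservesColimit_of_preserves_colimit_cocone hc
  apply Types.FilteredColimit.isColimitOf'
  · intro x
    obtain ⟨i, γ, hγ⟩ := exists_lift hc hX G x
    exact ⟨i, γ, hγ.symm⟩
  · intro i x y hxy
    obtain ⟨k', hk, h⟩ := exists_eq hc hX G i x y hxy
    exact ⟨k', homOfLE hk, h⟩

end Top

end Groth.Agent.H34.ModFiltTop
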