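import Groth.Agent.H34.ModTens
import Mathlib.Algebra.Category.ModuleCat.Sheaf.LocallyFree

set_option autoImplicit false
set_option linter.unusedSectionVars false
universe u
open CategoryTheory CategoryTheory.Limits Opposite
open Groth.Agent.H45 Groth.Agent.H45.FinFree

namespace Groth.Agent.H34.ModGenP

variable {C : Type u} [SmallCategory C] [HasPullbacks C] {J : GrothendieckTopology C}
  {O : Sheaf J CommRingCat.{u}}

instance {V X : C} (g : V ⟶ X) : PreservesColimitsOfSize.{u, u} (ovm O g) :=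
  have : (ovm O g).IsLeftAdjoint :=
    inferInstanceAs (SheafOfModules.overMap.{u} (ModSite.ringSh O) g).IsLeftAdjoint
  inferInstance

/-- Restriction between slices preserves free modules (arbitrary index types). -/
noncomputable def ovmFreeIso' {V X : C} (g : V ⟶ X) (I : Type u) :
    SheafOfModules.free (R := ModSite.ringSh (O.over V)) I ≅
      (ovm O g).obj (SheafOfModules.free I) :=
  SheafOfModules.mapFreeIso (ovm O g) _ (ovmUnitIso O g)

variable (P : Type u → Prop)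

/-- Generated by a family of sections indexed by a type satisfying `P`. -/
def GenP {V : C} (N : ModSite.Mod (O.over V)) : Prop :=
  ∃ I : Type u, P I ∧ ∃ π : SheafOfModules.free I ⟶ N, Epi π

/-- Presented by generators and relations indexed by types satisfying `P`. -/
def PresP {V : C} (N : ModSite.Mod (O.over V)) : Prop :=
  ∃ I K : Type u, P I ∧ P K ∧
    ∃ (ρ : SheafOfModules.free (R := ModSite.ringSh (O.over V)) K ⟶ SheafOfModules.free I)
      (π : SheafOfModules.free I ⟶ N) (w : ρ ≫ π = 0), (ShortComplex.mk ρ π w).Exact ∧ Epi π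

/-- Free on a type satisfying `P`. -/
def FreeP {V : C} (N : ModSite.Mod (O.over V)) : Prop :=
  ∃ I : Type u, P I ∧ Nonempty (SheafOfModules.free I ≅ N)

variable {P}

lemma GenP.of_epi {V : C} {N N' : ModSite.Mod (O.over V)} (h : GenP P N) (p : N ⟶ N') [Epi p] :
    GenP P N' := by
  obtain ⟨I, hI, π, hπ⟩ := h
  exact ⟨I, hI, π ≫ p, epi_comp _ _⟩

lemma GenP.map_ovm {V X : C} (g : V ⟶ X) {N : ModSite.Mod (O.over X)} (h : GenP P N) :
    GenP P ((ovm O g).obj N) := by
  obtain ⟨I, hI, π, hπ⟩ := h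
  have : Epi ((ovm O g).map π) := (ovm O g).map_epi π
  exact ⟨I, hI, (ovmFreeIso' g I).hom ≫ (ovm O g).map π, epi_comp _ _⟩

lemma GenP.restr {V X : C} (g : V ⟶ X) {M : ModSite.Mod O} (h : GenP P ((ModSite.restr O X).obj M)) :
    GenP P ((ModSite.restr O V).obj M) := by
  have h' := h.map_ovm g
  have e3 : IsIso ((restrOvmIso O g).hom.app M) := inferInstance
  have e4 : Epi ((restrOvmIso O g).hom.app M) := @IsIso.epi_of_iso _ _ _ _ _ e3
  exact h'.of_epi ((restrOvmIso O g).hom.app M)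

lemma PresP.of_iso {V : C} {N N' : ModSite.Mod (O.over V)} (h : PresP P N) (e : N ≅ N') :
    PresP P N' := by
  obtain ⟨I, K, hI, hK, ρ, π, w, hex, hπ⟩ := h
  have w' : ρ ≫ π ≫ e.hom = 0 := by rw [reassoc_of% w, zero_comp]
  refine ⟨I, K, hI, hK, ρ, π ≫ e.hom, w', ?_, epi_comp _ _⟩
  exact ShortComplex.exact_of_iso
    (ShortComplex.isoMk (S₁ := ShortComplex.mk ρ π w) (S₂ := ShortComplex.mk ρ (π ≫ e.hom) w')
      (Iso.refl _) (Iso.refl _) e (by simp) (by simp)) hex

lemma PresP.of_exact' {V : C} {N P' R' : ModSite.Mod (O.over V)} {I K : Type u} (hI : P I) (hK : P K)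
    (e₁ : SheafOfModules.free I ≅ P') (e₂ : SheafOfModules.free K ≅ R')
    (ρ' : R' ⟶ P') (π' : P' ⟶ N) (w : ρ' ≫ π' = 0)
    (hex : (ShortComplex.mk ρ' π' w).Exact) [Epi π'] : PresP P N := by
  have w' : (e₂.hom ≫ ρ' ≫ e₁.inv) ≫ e₁.hom ≫ π' = 0 := by simp [w]
  refine ⟨I, K, hI, hK, e₂.hom ≫ ρ' ≫ e₁.inv, e₁.hom ≫ π', w', ?_, epi_comp _ _⟩
  exact ShortComplex.exact_of_iso
    (ShortComplex.isoMk (S₁ := ShortComplex.mk ρ' π' w)
      (S₂ := ShortComplex.mk (e₂.hom ≫ ρ' ≫ e₁.inv) (e₁.hom ≫ π') w')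
      e₂.symm e₁.symm (Iso.refl _) (by simp) (by simp)) hex

lemma PresP.map_ovm {V X : C} (g : V ⟶ X) {N : ModSite.Mod (O.over X)} (h : PresP P N) :
    PresP P ((ovm O g).obj N) := by
  obtain ⟨I, K, hI, hK, ρ, π, w, hex, hπ⟩ := h
  have hπ' : Epi (ShortComplex.mk ρ π w).g := hπ
  obtain ⟨h1, h2⟩ := ModTens.exact_map_of_rightExact (ovm O g) _ hex
  have h2' : Epi ((ovm O g).map π) := h2
  exact PresP.of_exact' hI hK (ovmFreeIso' g I) (ovmFreeIso' g K) _ _ _ h1

lemma PresP.restr {V X : C} (g : V ⟶ X) {M : ModSite.Mod O} (h : PresP P ((ModSite.restr O X).obj M)) :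
    PresP P ((ModSite.restr O V).obj M) :=
  (h.map_ovm g).of_iso ((restrOvmIso O g).app M)

lemma FreeP.map_ovm {V X : C} (g : V ⟶ X) {N : ModSite.Mod (O.over X)} (h : FreeP P N) :
    FreeP P ((ovm O g).obj N) := by
  obtain ⟨I, hI, ⟨e⟩⟩ := h
  exact ⟨I, hI, ⟨ovmFreeIso' g I ≪≫ (ovm O g).mapIso e⟩⟩

lemma FreeP.restr {V X : C} (g : V ⟶ X) {M : ModSite.Mod O} (h : FreeP P ((ModSite.restr O X).obj M)) :
    FreeP P ((ModSite.restr O V).obj M) := by
  obtain ⟨I, hI, ⟨e⟩⟩ := h.map_ovm g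
  exact ⟨I, hI, ⟨e ≪≫ (restrOvmIso O g).app M⟩⟩


/-- A property of modules on slices holds locally. -/
def LocP (Q : ∀ {V : C}, ModSite.Mod (O.over V) → Prop) (M : ModSite.Mod O) : Prop :=
  ∀ W : C, ∃ S ∈ J W, ∀ ⦃V : C⦄ (f : V ⟶ W), S f → Q ((ModSite.restr O V).obj M)

section Tensor

/-- Tensor closure for local properties. -/
lemma LocP.tensor {Q₁ Q₂ Q₃ : ∀ {V : C}, ModSite.Mod (O.over V) → Prop}
    (hiso : ∀ {V : C} {N N' : ModSite.Mod (O.over V)}, (N ≅ N') → Q₃ N → Q₃ N')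
    (h : ∀ {V : C} (A B : ModSite.Mod (O.over V)), Q₁ A → Q₂ B →
      Q₃ (((ModSite.tensorBi (O.over V)).obj A).obj B))
    {F G : ModSite.Mod O} (hF : LocP Q₁ F) (hG : LocP Q₂ G) :
    LocP Q₃ (((ModSite.tensorBi O).obj F).obj G) := by
  intro W
  obtain ⟨S₁, hS₁, H₁⟩ := hF W
  obtain ⟨S₂, hS₂, H₂⟩ := hG W
  refine ⟨S₁ ⊓ S₂, J.intersection_covering hS₁ hS₂, fun V f hf => ?_⟩
  exact hiso (Groth.Agent.H31.ExtZero.restrTensorIso O V F G).symm (h _ _ (H₁ f hf.1) (H₂ f hf.2))

variable (hprod : ∀ I I' : Type u, P I → P I' → P (I × I'))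
  (hsum : ∀ I I' : Type u, P I → P I' → P (I ⊕ I'))

include hprod in
lemma GenP.tensor {V : C} (A B : ModSite.Mod (O.over V)) (hA : GenP P A) (hB : GenP P B) :
    GenP P (((ModSite.tensorBi (O.over V)).obj A).obj B) := by
  obtain ⟨I, hI, π, hπ⟩ := hA
  obtain ⟨I', hI', π', hπ'⟩ := hB
  have := ModTens.epi_tmap (O.over V) π π'
  exact ⟨I × I', hprod I I' hI hI', (ModTens.freeTensorFreeIso (O.over V) I I').inv ≫
    ModTens.tmap (O.over V) π π', epi_comp _ _⟩

include hprod hsum in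
lemma PresP.tensor {V : C} (A B : ModSite.Mod (O.over V)) (hA : PresP P A) (hB : PresP P B) :
    PresP P (((ModSite.tensorBi (O.over V)).obj A).obj B) := by
  obtain ⟨I, K, hI, hK, ρ, π, w, hex, hπ⟩ := hA
  obtain ⟨I', K', hI', hK', ρ', π', w', hex', hπ'⟩ := hB
  obtain ⟨w'', hex''⟩ := ModTens.exact_tensor_presentations (O.over V) ρ π w hex ρ' π' w' hex'
  have := ModTens.epi_tmap (O.over V) π π'
  exact PresP.of_exact' (hprod I I' hI hI') (hsum _ _ (hprod I K' hI hK') (hprod K I' hK hI'))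
    (ModTens.freeTensorFreeIso (O.over V) I I').symm
    ((SheafOfModules.freeSumIso (I × K') (K × I')).symm ≪≫
      coprod.mapIso (ModTens.freeTensorFreeIso (O.over V) I K').symm
        (ModTens.freeTensorFreeIso (O.over V) K I').symm) _ _ w'' hex''

include hprod in
lemma FreeP.tensor {V : C} (A B : ModSite.Mod (O.over V)) (hA : FreeP P A) (hB : FreeP P B) :
    FreeP P (((ModSite.tensorBi (O.over V)).obj A).obj B) := by
  obtain ⟨I, hI, ⟨e⟩⟩ := hA
  obtain ⟨I', hI', ⟨e'⟩⟩ := hB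
  exact ⟨I × I', hprod I I' hI hI', ⟨(ModTens.freeTensorFreeIso (O.over V) I I').symm ≪≫
    ((ModSite.tensorBi (O.over V)).mapIso e).app _ ≪≫
    ((ModSite.tensorBi (O.over V)).obj A).mapIso e'⟩⟩

end Tensor


section Convert

open ModFT

lemma genP_finite_iff {V : C} (N : ModSite.Mod (O.over V)) : GenP Finite N ↔ FG N :=
  ⟨fun ⟨I, hI, π, hπ⟩ => ⟨I, hI, π, hπ⟩, fun ⟨I, hI, π, hπ⟩ => ⟨I, hI, π, hπ⟩⟩

lemma presP_finite_iff {V : C} (N : ModSite.Mod (O.over V)) : PresP Finite N ↔ FP N :=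
  ⟨fun ⟨I, K, hI, hK, ρ, π, w, h⟩ => ⟨I, K, hI, hK, ρ, π, w, h⟩,
    fun ⟨I, K, hI, hK, ρ, π, w, h⟩ => ⟨I, K, hI, hK, ρ, π, w, h⟩⟩

lemma locP_genP_finite_iff (M : ModSite.Mod O) : LocP (GenP Finite) M ↔ LocFG M := by
  constructor
  · intro h W
    obtain ⟨S, hS, H⟩ := h W
    exact ⟨S, hS, fun V f hf => (genP_finite_iff _).1 (H f hf)⟩
  · intro h W
    obtain ⟨S, hS, H⟩ := h W
    exact ⟨S, hS, fun V f hf => (genP_finite_iff _).2 (H f hf)⟩

lemma locP_presP_finite_iff (M : ModSite.Mod O) : LocP (PresP Finite) M ↔ LocFP M := by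
  constructor
  · intro h W
    obtain ⟨S, hS, H⟩ := h W
    exact ⟨S, hS, fun V f hf => (presP_finite_iff _).1 (H f hf)⟩
  · intro h W
    obtain ⟨S, hS, H⟩ := h W
    exact ⟨S, hS, fun V f hf => (presP_finite_iff _).2 (H f hf)⟩

/-- From local generators data to the covering-sieve form. -/
lemma locP_genP_of_localGeneratorsData (M : ModSite.Mod O)
    (σ : SheafOfModules.LocalGeneratorsData.{u} (R := ModSite.ringSh O) M) :
    LocP (GenP (fun _ => True)) M := by
  intro W
  refine ⟨Sieve.ofObjects σ.X W, σ.coversTop W, fun V f hf => ?_⟩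
  obtain ⟨i, ⟨h⟩⟩ := (Sieve.mem_ofObjects_iff ..).mp hf
  have : GenP (fun _ => True) ((ModSite.restr O (σ.X i)).obj M) :=
    ⟨(σ.generators i).I, trivial, (σ.generators i).π, (σ.generators i).epi⟩
  exact this.restr h

/-- From the covering-sieve form to local generators data. -/
lemma nonempty_localGeneratorsData_of_locP (M : ModSite.Mod O)
    (h : LocP (GenP (fun _ => True)) M) :
    Nonempty (SheafOfModules.LocalGeneratorsData.{u} (R := ModSite.ringSh O) M) := by
  choose S hS hS' using h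
  let I : Type u := Σ (W : C) (V : C), {f : V ⟶ W // S W f}
  have hfg : ∀ i : I, GenP (fun _ => True) ((ModSite.restr O i.2.1).obj M) :=
    fun i => hS' i.1 i.2.2.1 i.2.2.2
  choose K hK π hπ using hfg
  let σ : SheafOfModules.LocalGeneratorsData.{u} M :=
    { I := I
      X := fun i => i.2.1
      coversTop := fun W => J.superset_covering (fun V f hf =>
        (Sieve.mem_ofObjects_iff ..).mpr ⟨⟨W, V, f, hf⟩, ⟨𝟙 _⟩⟩) (hS W)
      generators := fun i => genOfEpi (π i) (hπ i) }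
  exact ⟨σ⟩

lemma PresP.of_presentation {V : C} {N : ModSite.Mod (O.over V)} (Pr : N.Presentation) :
    PresP (fun _ => True) N := by
  have hc := Pr.isColimit
  exact ⟨Pr.generators.I, Pr.relations.I, trivial, trivial, _, _, by simp,
      ShortComplex.exact_of_g_is_cokernel _ hc, epi_of_isColimit_cofork hc⟩

lemma locP_presP_of_isQuasicoherent (M : ModSite.Mod O)
    [SheafOfModules.IsQuasicoherent (R := ModSite.ringSh O) M] : LocP (PresP (fun _ => True)) M := by
  obtain ⟨σ⟩ := SheafOfModules.IsQuasicoherent.nonempty_quasicoherentData (R := ModSite.ringSh O)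
    (M := M)
  intro W
  refine ⟨Sieve.ofObjects σ.X W, σ.coversTop W, fun V f hf => ?_⟩
  obtain ⟨i, ⟨h⟩⟩ := (Sieve.mem_ofObjects_iff ..).mp hf
  have : PresP (fun _ => True) ((ModSite.restr O (σ.X i)).obj M) :=
    PresP.of_presentation (σ.presentation i)
  exact this.restr h

lemma isQuasicoherent_of_locP (M : ModSite.Mod O) (h : LocP (PresP (fun _ => True)) M) :
    SheafOfModules.IsQuasicoherent (R := ModSite.ringSh O) M := by
  choose S hS hS' using h
  let I : Type u := Σ (W : C) (V : C), {f : V ⟶ W // S W f}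
  have hfp : ∀ i : I, PresP (fun _ => True) ((ModSite.restr O i.2.1).obj M) :=
    fun i => hS' i.1 i.2.2.1 i.2.2.2
  choose G K hG hK ρ π w hex hπ using hfp
  let σ : SheafOfModules.QuasicoherentData.{u} (R := ModSite.ringSh O) M :=
    { I := I
      X := fun i => i.2.1
      coversTop := fun W => J.superset_covering (fun V f hf =>
        (Sieve.mem_ofObjects_iff ..).mpr ⟨⟨W, V, f, hf⟩, ⟨𝟙 _⟩⟩) (hS W)
      presentation := fun i => presOfFP (ρ i) (π i) (w i) (hex i) (hπ i) }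
  constructor
  exact ⟨σ⟩

end Convert


section LocallyFree

open ModFT

lemma genOfEpi_π {V : C} {N : ModSite.Mod (O.over V)} {K : Type u}
    (π : SheafOfModules.free K ⟶ N) (hπ : Epi π) : (genOfEpi π hπ).π = π :=
  Equiv.symm_apply_apply _ _

lemma FreeP.of_generators {V : C} {N : ModSite.Mod (O.over V)} (σ : N.GeneratingSections)
    (h : IsIso σ.π) : FreeP (fun _ => True) N :=
  ⟨σ.I, trivial, ⟨asIso σ.π⟩⟩

lemma locP_freeP_of_isLocallyFree (M : ModSite.Mod O)
    [SheafOfModules.IsLocallyFree (R := ModSite.ringSh O) M] : LocP (FreeP (fun _ => True)) M := by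
  obtain ⟨σ, hσ⟩ := SheafOfModules.IsLocallyFree.exists_isLocallyFreeData (R := ModSite.ringSh O)
    (M := M)
  intro W
  refine ⟨Sieve.ofObjects σ.X W, σ.coversTop W, fun V f hf => ?_⟩
  obtain ⟨i, ⟨h⟩⟩ := (Sieve.mem_ofObjects_iff ..).mp hf
  have : FreeP (fun _ => True) ((ModSite.restr O (σ.X i)).obj M) :=
    FreeP.of_generators (σ.generators i) (hσ.isIso i)
  exact this.restr h

lemma isLocallyFree_of_locP (M : ModSite.Mod O) (h : LocP (FreeP (fun _ => True)) M) :
    SheafOfModules.IsLocallyFree (R := ModSite.ringSh O) M := by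
  choose S hS hS' using h
  let I : Type u := Σ (W : C) (V : C), {f : V ⟶ W // S W f}
  have hfg : ∀ i : I, FreeP (fun _ => True) ((ModSite.restr O i.2.1).obj M) :=
    fun i => hS' i.1 i.2.2.1 i.2.2.2
  choose K hK e using hfg
  let ε : ∀ i : I, SheafOfModules.free (K i) ≅ (ModSite.restr O i.2.1).obj M := fun i => (e i).some
  have hε : ∀ i : I, Epi (ε i).hom := fun i => IsIso.epi_of_iso _
  let σ : SheafOfModules.LocalGeneratorsData.{u} M :=
    { I := I
      X := fun i => i.2.1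
      coversTop := fun W => J.superset_covering (fun V f hf =>
        (Sieve.mem_ofObjects_iff ..).mpr ⟨⟨W, V, f, hf⟩, ⟨𝟙 _⟩⟩) (hS W)
      generators := fun i => genOfEpi (ε i).hom (hε i) }
  have hσ : σ.IsLocallyFreeData :=
    { isIso := fun i => by
        have h1 : (σ.generators i).π = (ε i).hom := genOfEpi_π (ε i).hom (hε i)
        have h2 : IsIso (ε i).hom := inferInstance
        rw [h1]
        exact h2 }
  constructor
  exact ⟨σ, hσ⟩

end LocallyFree

end Groth.Agent.H34.ModGenP
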