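import Groth.Agent.H34.ModFiltHom
import Mathlib.CategoryTheory.Sites.SheafHom

/-!
# Gluing morphisms of sheaves of modules on a topological space
-/

set_option autoImplicit false
universe u
open CategoryTheory CategoryTheory.Limits Opposite TopologicalSpace

namespace Groth.Agent.H34.ModGlue

open Groth.Agent.H45 Groth.Agent.H45.FinFree Groth.Agent.H34.ModCoprod Groth.Agent.H34.ModFilt
  Groth.Agent.H34.ModFT Groth.Agent.H34.ModFiltHom

section Site

variable {C : Type u} [SmallCategory C] {J : GrothendieckTopology C} {O : Sheaf J CommRingCat.{u}}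

/-- The natural transformation of abelian presheaves underlying a morphism on a slice. -/
noncomputable def toNat {U : C} {G F : ModSite.Mod O}
    (a : (ModSite.restr O U).obj G ⟶ (ModSite.restr O U).obj F) :
    (presheafHom G.val.presheaf F.val.presheaf).obj (op U) :=
  (PresheafOfModules.toPresheaf _).map a.val

lemma toNat_app {U : C} {G F : ModSite.Mod O}
    (a : (ModSite.restr O U).obj G ⟶ (ModSite.restr O U).obj F) {V : C} (f : V ⟶ U)
    (s : ((forg O).obj G).obj (op V)) :
    ((toNat a).app (op (Over.mk f))).hom s = secMap a f s := rfl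

end Site

variable {X : TopCat.{u}} {O : Sheaf (Opens.grothendieckTopology X) CommRingCat.{u}}

/-- Morphisms of sheaves of modules on a topological space glue. -/
theorem glue_hom {G F : ModSite.Mod O} {ι : Type*} (U : ι → Opens X) (hU : iSup U = ⊤)
    (g : ∀ j, (ModSite.restr O (U j)).obj G ⟶ (ModSite.restr O (U j)).obj F)
    (hg : ∀ j j' (V : Opens X) (h : V ≤ U j) (h' : V ≤ U j')
      (s : ((forg O).obj G).obj (op V)),
      secMap (g j) (homOfLE h) s = secMap (g j') (homOfLE h') s) :
    ∃ γ : G ⟶ F, ∀ j (V : Opens X) (h : V ≤ U j) (s : ((forg O).obj G).obj (op V)),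
      ((forg O).map γ).app (op V) s = secMap (g j) (homOfLE h) s := by
  let A := G.val.presheaf
  let B := F.val.presheaf
  let P := presheafHom A B
  have hP : Presieve.IsSheaf (Opens.grothendieckTopology X) P :=
    (isSheaf_iff_isSheaf_of_type _ _).1 (Presheaf.IsSheaf.hom A B F.isSheaf)
  let π : ∀ j, U j ⟶ (⊤ : Opens X) := fun j => homOfLE le_top
  have hcov : Sieve.generate (Presieve.ofArrows U π) ∈ Opens.grothendieckTopology X ⊤ := by
    intro x _
    have hx : x ∈ iSup U := by rw [hU]; trivial
    obtain ⟨j, hj⟩ := Opens.mem_iSup.1 hx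
    exact ⟨U j, π j, Sieve.le_generate _ _ _ (Presieve.ofArrows.mk j), hj⟩
  have hsh : Presieve.IsSheafFor P (Presieve.ofArrows U π) :=
    (Presieve.isSheafFor_iff_generate _).2 (hP _ hcov)
  have hcompat : Presieve.Arrows.Compatible P π (fun j => toNat (g j)) := by
    intro j j' Z gj gj' _
    apply NatTrans.ext
    funext ⟨W⟩
    apply ConcreteCategory.hom_ext
    intro s
    exact hg j j' W.left (leOfHom (W.hom ≫ gj)) (leOfHom (W.hom ≫ gj')) s
  obtain ⟨y, hy, -⟩ := (Presieve.isSheafFor_arrows_iff P π).1 hsh _ hcompat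
  let tp : ∀ V : Opens X, V ⟶ (⊤ : Opens X) := fun V => homOfLE le_top
  let φ : A ⟶ B :=
    { app := fun V => y.app (op (Over.mk (tp V.unop)))
      naturality := by
        rintro ⟨V₁⟩ ⟨V₂⟩ ⟨f : V₂ ⟶ V₁⟩
        exact y.naturality (Over.homMk f : Over.mk (tp V₂) ⟶ Over.mk (tp V₁)).op }
  have key : ∀ j (V : Opens X) (h : V ≤ U j) (s : ((forg O).obj G).obj (op V)),
      (φ.app (op V)).hom s = secMap (g j) (homOfLE h) s := by
    intro j V h s
    have h1 := presheafHom_map_app (F := A) (G := B) (homOfLE h) (π j) (tp V)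
      (Subsingleton.elim _ _) y
    rw [hy j] at h1
    have h2 := congrArg (fun m => m.hom s) h1
    exact h2.symm
  refine ⟨⟨PresheafOfModules.homMk φ ?_⟩, fun j V h s => key j V h s⟩
  · rintro ⟨V⟩ r m
    let r' : O.obj.obj (op V) := r
    let m' : ((forg O).obj G).obj (op V) := m
    let φV : ((forg O).obj G).obj (op V) → ((forg O).obj F).obj (op V) :=
      fun z => (φ.app (op V)).hom z
    change φV (r' • m') = r' • φV m'
    let S : Sieve V :=
      { arrows := fun V' _ => ∃ j, V' ≤ U j
        downward_closed := by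
          rintro Y Z f ⟨j, hj⟩ k
          exact ⟨j, (leOfHom k).trans hj⟩ }
    have hS : S ∈ Opens.grothendieckTopology X V := by
      intro x hx
      have hx' : x ∈ iSup U := by rw [hU]; trivial
      obtain ⟨j, hj⟩ := Opens.mem_iSup.1 hx'
      exact ⟨V ⊓ U j, homOfLE inf_le_left, ⟨j, inf_le_right⟩, ⟨hx, hj⟩⟩
    apply sect_ext_of_sieve F S hS
    rintro V' f ⟨j, hj⟩
    have nat : ∀ z : ((forg O).obj G).obj (op V),
        res ((forg O).obj F) f (φV z) =
          secMap (g j) (homOfLE hj) (res ((forg O).obj G) f z) := fun z =>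
      ((congrArg (fun m => m.hom z) (φ.naturality f.op)).symm).trans (key j V' hj _)
    refine (nat _).trans ?_
    refine (congrArg (fun z => secMap (g j) (homOfLE hj) z) (res_smul f r' m')).trans ?_
    refine (map_smul (secMap (g j) (homOfLE hj)).hom _ _).trans ?_
    refine Eq.trans ?_ (res_smul f r' (φV m')).symm
    exact congrArg (fun z => (O.obj.map f.op).hom r' • z) (nat m').symm

end Groth.Agent.H34.ModGlue
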