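import Groth.Agent.H45.SheafTensor.FlatOps
import Groth.Agent.H45.SheafTensor.SheafHom
import Mathlib.CategoryTheory.Adjunction.FullyFaithful

/-!
# Invertible modules on a ringed site: tensor products and duals
-/

set_option autoImplicit false
universe u
open CategoryTheory CategoryTheory.Limits Opposite MonoidalCategory

namespace Groth.Agent.H34.ModInvert

open Groth.Agent.H45

section Cat

variable {A : Type*} [Category A]

/-- If `F ⋙ E ≅ 𝟭` and `E` is an equivalence then `F` is an equivalence. -/
lemma isEquivalence_of_comp_iso_id {F E : A ⥤ A} [E.IsEquivalence] (e : F ⋙ E ≅ 𝟭 A) :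
    F.IsEquivalence := by
  have h1 : (F ⋙ E).IsEquivalence := Functor.isEquivalence_of_iso e.symm
  exact Functor.isEquivalence_of_comp_right F E

end Cat

variable {C : Type u} [SmallCategory C] {J : GrothendieckTopology C} (O : Sheaf J CommRingCat.{u})

/-- `- ⊗ O ≅ id`. -/
noncomputable def flipUnitIso : (ModSite.tensorBi O).flip.obj (ModSite.unit O) ≅ 𝟭 _ :=
  show forg O ⋙ tensorRight ((forg O).obj (ModSite.unit O)) ⋙ shf O ≅ 𝟭 _ from
    Functor.isoWhiskerLeft (forg O)
      (Functor.isoWhiskerRight (rightUnitorNatIso (PMod O)) (shf O)) ≪≫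
      asIso (shfAdj O).counit

variable {O}

lemma isEquivalence_flip_iff (L : ModSite.Mod O) :
    ((ModSite.tensorBi O).flip.obj L).IsEquivalence ↔ ((ModSite.tensorBi O).obj L).IsEquivalence :=
  ⟨fun _ => Functor.isEquivalence_of_iso (tensorBiObjIsoFlipObj O L).symm,
    fun _ => Functor.isEquivalence_of_iso (tensorBiObjIsoFlipObj O L)⟩

/-- The tensor product of two invertible modules is invertible. -/
theorem isEquivalence_tensor (L N : ModSite.Mod O)
    (hL : ((ModSite.tensorBi O).obj L).IsEquivalence)
    (hN : ((ModSite.tensorBi O).obj N).IsEquivalence) :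
    ((ModSite.tensorBi O).obj (((ModSite.tensorBi O).obj L).obj N)).IsEquivalence := by
  rw [← isEquivalence_flip_iff] at hL hN ⊢
  have : ((ModSite.tensorBi O).flip.obj L ⋙ (ModSite.tensorBi O).flip.obj N).IsEquivalence :=
    inferInstance
  exact Functor.isEquivalence_of_iso (tensorBiFlipObjTensorIso O L N).symm

/-- The dual of an invertible module is invertible, and evaluation is an isomorphism. -/
theorem isEquivalence_dual (L : ModSite.Mod O)
    (hL : ((ModSite.tensorBi O).obj L).IsEquivalence) [ModSite.HasSheafHom L] :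
    ((ModSite.tensorBi O).obj ((ModSite.sheafHom L).obj (ModSite.unit O))).IsEquivalence ∧
      IsIso ((ModSite.sheafHomAdj L).counit.app (ModSite.unit O)) := by
  have hL' : ((ModSite.tensorBi O).flip.obj L).IsEquivalence := (isEquivalence_flip_iff L).2 hL
  have hc : IsIso (ModSite.sheafHomAdj L).counit := inferInstance
  have hc1 : IsIso ((ModSite.sheafHomAdj L).counit.app (ModSite.unit O)) := inferInstance
  refine ⟨?_, hc1⟩
  rw [← isEquivalence_flip_iff]
  let L' := (ModSite.sheafHom L).obj (ModSite.unit O)
  let ε : ((ModSite.tensorBi O).obj L').obj L ≅ ModSite.unit O :=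
    asIso ((ModSite.sheafHomAdj L).counit.app (ModSite.unit O))
  let e : (ModSite.tensorBi O).flip.obj L' ⋙ (ModSite.tensorBi O).flip.obj L ≅ 𝟭 _ :=
    (tensorBiFlipObjTensorIso O L' L).symm ≪≫ (ModSite.tensorBi O).flip.mapIso ε ≪≫ flipUnitIso O
  exact isEquivalence_of_comp_iso_id e

end Groth.Agent.H34.ModInvert
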