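import Groth.Agent.H34.ModInvert

/-!
# A module with a tensor inverse is invertible
-/

set_option autoImplicit false
universe u
open CategoryTheory CategoryTheory.Limits Opposite MonoidalCategory

namespace Groth.Agent.H34.ModInvert

open Groth.Agent.H45

variable {C : Type u} [SmallCategory C] {J : GrothendieckTopology C} {O : Sheaf J CommRingCat.{u}}

/-- If `A' ⊗ A ≅ O` then `A` is invertible. -/
theorem isEquivalence_of_tensor_iso_unit (A A' : ModSite.Mod O)
    (e : ((ModSite.tensorBi O).obj A').obj A ≅ ModSite.unit O) :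
    ((ModSite.tensorBi O).obj A).IsEquivalence := by
  rw [← isEquivalence_flip_iff]
  let F := (ModSite.tensorBi O).flip.obj A
  let E := (ModSite.tensorBi O).flip.obj A'
  let i1 : E ⋙ F ≅ 𝟭 _ :=
    (tensorBiFlipObjTensorIso O A' A).symm ≪≫ (ModSite.tensorBi O).flip.mapIso e ≪≫ flipUnitIso O
  let e' : ((ModSite.tensorBi O).obj A).obj A' ≅ ModSite.unit O :=
    (tensorBiObjIsoFlipObj O A).app A' ≪≫ e
  let i2 : F ⋙ E ≅ 𝟭 _ :=
    (tensorBiFlipObjTensorIso O A A').symm ≪≫ (ModSite.tensorBi O).flip.mapIso e' ≪≫ flipUnitIso O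
  exact (CategoryTheory.Equivalence.mk F E i2.symm i1).isEquivalence_functor

end Groth.Agent.H34.ModInvert
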