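import Groth.Agent.H34.ModFP2
import Mathlib.RingTheory.Finiteness.Basic
import Mathlib.RingTheory.OrzechProperty
import Mathlib.RingTheory.Noetherian.Orzech

set_option autoImplicit false
universe u
open CategoryTheory CategoryTheory.Limits Opposite
open Groth.Agent.H45 Groth.Agent.H45.FinFree

namespace Groth.Agent.H34.ModFT

variable {C : Type u} [SmallCategory C] {J : GrothendieckTopology C} {O : Sheaf J CommRingCat.{u}}

lemma isIso_iff_locInj_locSurj {F G : ModSite.Mod O} (φ : F ⟶ G) :
    IsIso φ ↔ LocInj J ((forg O).map φ) ∧ LocSurj J ((forg O).map φ) := by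
  rw [← isIso_iff_of_reflects_iso _ (SheafOfModules.toSheaf (ModSite.ringSh O)),
    ← isLocallyInjective_iff_locInj, ← isLocallySurjective_iff_locSurj,
    ← GrothendieckTopology.W_iff_isLocallyBijective,
    ← GrothendieckTopology.W_sheafToPresheaf_map_iff_isIso]
  rfl


lemma restr_map_app_top {F G : ModSite.Mod O} (φ : F ⟶ G) (V : C)
    (x : ((forg O).obj F).obj (op V)) :
    ((ModSite.restr O V).map φ).val.app (op (top V)) x = ((forg O).map φ).app (op V) x := rfl

lemma bijective_app_of_isIso_restr {F G : ModSite.Mod O} (φ : F ⟶ G) (V : C)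
    (h : IsIso ((ModSite.restr O V).map φ)) :
    Function.Bijective (fun x : ((forg O).obj F).obj (op V) => ((forg O).map φ).app (op V) x) := by
  let ψ := (ModSite.restr O V).map φ
  have h1 : ψ ≫ inv ψ = 𝟙 _ := IsIso.hom_inv_id ψ
  have h2 : inv ψ ≫ ψ = 𝟙 _ := IsIso.inv_hom_id ψ
  refine Function.bijective_iff_has_inverse.2 ⟨fun y => (inv ψ).val.app (op (top V)) y, ?_, ?_⟩
  · intro x
    have := congrArg (fun f => f.val.app (op (top V)) x) h1
    exact this
  · intro y
    have := congrArg (fun f => f.val.app (op (top V)) y) h2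
    exact this

theorem isIso_of_locally_isIso {F G : ModSite.Mod O} (φ : F ⟶ G)
    (h : ∀ W : C, ∃ S ∈ J W, ∀ ⦃V : C⦄ (f : V ⟶ W), S f → IsIso ((ModSite.restr O V).map φ)) :
    IsIso φ := by
  rw [isIso_iff_locInj_locSurj]
  constructor
  · intro X x hx
    obtain ⟨S, hS, H⟩ := h X
    refine ⟨S, hS, fun Y f hf => ?_⟩
    apply (bijective_app_of_isIso_restr φ Y (H f hf)).1
    change ((forg O).map φ).app (op Y) (res _ f x) = ((forg O).map φ).app (op Y) 0
    rw [res_naturality, hx, res_zero, map_zero]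
  · intro X y
    obtain ⟨S, hS, H⟩ := h X
    refine ⟨S, hS, fun Y f hf => ?_⟩
    exact (bijective_app_of_isIso_restr φ Y (H f hf)).2 _


lemma free_comp_eq_id_comm {W : C} {I : Type u} [Finite I]
    (a b : SheafOfModules.free (R := ModSite.ringSh (O.over W)) I ⟶ SheafOfModules.free I)
    (h : a ≫ b = 𝟙 _) : b ≫ a = 𝟙 _ := by
  classical
  have : Fintype I := Fintype.ofFinite I
  let Γ := (O.over W).obj.obj (op (top W))
  let N := (pre (SheafOfModules.free (R := ModSite.ringSh (O.over W)) I)).obj (op (top W))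
  let at' : N →ₗ[Γ] N := (a.val.app (op (top W))).hom
  let bt : N →ₗ[Γ] N := (b.val.app (op (top W))).hom
  let e : I → N := fun i => freeHomEquivTop _ (𝟙 (SheafOfModules.free (R := ModSite.ringSh (O.over W)) I)) i
  have hfin : Module.Finite Γ N := by
    refine ⟨⟨Finset.univ.image e, ?_⟩⟩
    rw [eq_top_iff]
    intro x _
    have hx := expand (𝟙 (SheafOfModules.free (R := ModSite.ringSh (O.over W)) I)) x
    have hx' : x = ∑ i : I, coord i x • e i := hx
    rw [hx']
    refine Submodule.sum_mem _ (fun i _ => Submodule.smul_mem _ _ (Submodule.subset_span ?_))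
    simp
  have hab : ∀ x : N, bt (at' x) = x := by
    intro x
    have := congrArg (fun f => f.val.app (op (top W)) x) h
    exact this
  have hsurj : Function.Surjective bt := fun x => ⟨at' x, hab x⟩
  have hinj : Function.Injective bt := OrzechProperty.injective_of_surjective_endomorphism bt hsurj
  have hba : ∀ x : N, at' (bt x) = x := by
    intro x
    apply hinj
    rw [hab]
  apply (freeHomEquivTop _).injective
  funext i
  rw [freeHomEquivTop_comp]
  have h1 : freeHomEquivTop _ b i = bt (e i) := by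
    change freeHomEquivTop _ b i = b.val.app (op (top W)) (freeHomEquivTop _ (𝟙 _) i)
    rw [← freeHomEquivTop_comp, Category.id_comp]
  rw [h1]
  exact hba (e i)


/-- Local freeness of rank `r` (covering-sieve form). -/
def LocFree (r : ℕ) (F : ModSite.Mod O) : Prop :=
  ∀ W : C, ∃ S ∈ J W, ∀ ⦃V : C⦄ (f : V ⟶ W), S f →
    Nonempty ((ModSite.restr O V).obj F ≅ SheafOfModules.free (ULift.{u} (Fin r)))

theorem isIso_of_epi_of_locFree (r : ℕ) {F G : ModSite.Mod O} (φ : F ⟶ G) [Epi φ]
    (hF : LocFree r F) (hG : LocFree r G) : IsIso φ := by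
  apply isIso_of_locally_isIso
  intro W
  obtain ⟨S₁, hS₁, H₁⟩ := hF W
  obtain ⟨S₂, hS₂, H₂⟩ := hG W
  have key : ∀ ⦃V : C⦄ (f : V ⟶ W), (S₁ ⊓ S₂ : Sieve W) f → ∃ R ∈ J V, ∀ ⦃V' : C⦄ (g : V' ⟶ V), R g →
      IsIso ((ModSite.restr O V').map φ) := by
    intro V f hf
    obtain ⟨eF⟩ := H₁ f hf.1
    obtain ⟨eG⟩ := H₂ f hf.2
    have hφ : Epi ((ModSite.restr O V).map φ) := (ModSite.restr O V).map_epi φ
    let ψ : SheafOfModules.free (R := ModSite.ringSh (O.over V)) (ULift.{u} (Fin r)) ⟶
        SheafOfModules.free (ULift.{u} (Fin r)) := eF.inv ≫ (ModSite.restr O V).map φ ≫ eG.hom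
    have hψ : Epi ψ := epi_comp _ _
    obtain ⟨R, hR, hl⟩ := local_lift_rel (SheafOfModules.free (ULift.{u} (Fin r)))
      (SheafOfModules.free (ULift.{u} (Fin r))) (SheafOfModules.free (ULift.{u} (Fin r)))
      (isFinFreeSummandMod_free _) ψ (𝟙 _)
    refine ⟨R, hR, fun V' g hg => ?_⟩
    obtain ⟨l, hl⟩ := hl g hg
    let ε := ovmFreeIso O g (ULift.{u} (Fin r))
    let a := ε.hom ≫ l ≫ ε.inv
    let b := ε.hom ≫ (ovm O g).map ψ ≫ ε.inv
    have hab : a ≫ b = 𝟙 _ := by
      simp only [a, b, Category.assoc, Iso.inv_hom_id_assoc]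
      rw [reassoc_of% hl, CategoryTheory.Functor.map_id, Category.id_comp, Iso.hom_inv_id]
    have hba : b ≫ a = 𝟙 _ := free_comp_eq_id_comm a b hab
    have hb : IsIso b := ⟨a, hba, hab⟩
    have h1 : IsIso ((ovm O g).map ψ) := by
      have : (ovm O g).map ψ = ε.inv ≫ b ≫ ε.hom := by simp [b]
      rw [this]; infer_instance
    have h2 : IsIso ((ovm O g).map ((ModSite.restr O V).map φ)) := by
      have : (ovm O g).map ((ModSite.restr O V).map φ) =
          (ovm O g).map eF.hom ≫ (ovm O g).map ψ ≫ (ovm O g).map eG.inv := by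
        simp only [ψ, ← Functor.map_comp, Category.assoc, Iso.hom_inv_id, Category.comp_id,
          Iso.hom_inv_id_assoc]
      rw [this]; infer_instance
    exact (NatIso.isIso_map_iff (restrOvmIso O g) φ).1 h2
  choose R hR hR' using key
  refine ⟨Sieve.bind (S₁ ⊓ S₂ : Sieve W) R, J.bind_covering (J.intersection_covering hS₁ hS₂) hR, ?_⟩
  rintro Z _ ⟨Y, g, f, hf, hg, rfl⟩
  exact hR' f hf g hg

end Groth.Agent.H34.ModFT
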