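import Groth.Agent.H34.ModPullGen1

set_option autoImplicit false
universe u
open CategoryTheory CategoryTheory.Limits Opposite TopologicalSpace

namespace Groth.Agent.H34.ModPullGen

open Groth.Agent.H45 Groth.Agent.H45.FinFree Groth.Agent.H34.ModCoprod Groth.Agent.H34.ModFiltHom
  Groth.Agent.H34.ModPushFT

section SpanSmul

variable {C : Type u} [SmallCategory C] {J : GrothendieckTopology C} {O : Sheaf J CommRingCat.{u}}
variable {T : ModSite.Mod O} {ι : Type u} {V : ι → C} {n : ∀ k, ((forg O).obj T).obj (op (V k))}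

lemma LocSpan.smul {W : C} (r : O.obj.obj (op W)) {a : ((forg O).obj T).obj (op W)}
    (ha : LocSpan T V n W a) : LocSpan T V n W (r • a) := by
  obtain ⟨S, hS, hS'⟩ := ha
  refine ⟨S, hS, fun W' g hg => ?_⟩
  refine mem_of_eq' _ (res_smul (P := (forg O).obj T) g r a) ?_
  exact Submodule.smul_mem _ _ (hS' g hg)

end SpanSmul

section Top

variable {X Y : TopCat.{u}} (f : X ⟶ Y) (O_X : TopCat.Sheaf CommRingCat.{u} X)
  (O_Y : TopCat.Sheaf CommRingCat.{u} Y)
  (c : O_Y ⟶ ((Opens.map f).sheafPushforwardContinuous CommRingCat.{u}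
      (Opens.grothendieckTopology Y) (Opens.grothendieckTopology X)).obj O_X)

/-- The inverse image functor on modules. -/
noncomputable abbrev ipull : ModSite.Mod O_Y ⥤ ModSite.Mod O_X :=
  (ModSite.RMor.ofFlat (Opens.map f) c).pull

variable {f O_X O_Y c} (G : ModSite.Mod O_Y)

/-- The canonical map `G(V) → (f^* G)(f⁻¹ V)`. -/
noncomputable def etaS {V : Opens Y} (g : ((forg O_Y).obj G).obj (op V)) :
    ((forg O_X).obj ((ipull f O_X O_Y c).obj G)).obj (op ((Opens.map f).obj V)) :=
  toZ (((forg O_Y).map ((ModSite.RMor.ofFlat (Opens.map f) c).adj.unit.app G)).app (op V) g)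

variable {G}

lemma etaS_res {V V' : Opens Y} (h : V' ⟶ V) (g : ((forg O_Y).obj G).obj (op V)) :
    etaS (c := c) G (res ((forg O_Y).obj G) h g) =
      res ((forg O_X).obj ((ipull f O_X O_Y c).obj G)) ((Opens.map f).map h) (etaS G g) := by
  have h1 := res_naturality ((forg O_Y).map ((ModSite.RMor.ofFlat (Opens.map f) c).adj.unit.app G)) h g
  exact congrArg toZ h1

lemma etaS_zero (V : Opens Y) : etaS (c := c) G (0 : ((forg O_Y).obj G).obj (op V)) = 0 :=
  map_zero (((forg O_Y).map ((ModSite.RMor.ofFlat (Opens.map f) c).adj.unit.app G)).app (op V)).hom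

lemma etaS_add {V : Opens Y} (a b : ((forg O_Y).obj G).obj (op V)) :
    etaS (c := c) G (a + b) = etaS G a + etaS G b :=
  map_add (((forg O_Y).map ((ModSite.RMor.ofFlat (Opens.map f) c).adj.unit.app G)).app (op V)).hom a b

lemma etaS_smul {V : Opens Y} (r : O_Y.obj.obj (op V)) (a : ((forg O_Y).obj G).obj (op V)) :
    etaS (c := c) G (r • a) = cU f O_X O_Y c V r • etaS G a := by
  have h1 := map_smul
    (((forg O_Y).map ((ModSite.RMor.ofFlat (Opens.map f) c).adj.unit.app G)).app (op V)).hom r a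
  exact congrArg toZ h1

variable {K : Type u} {V : Opens Y} (s : K → ((forg O_Y).obj G).obj (op V))

/-- `η` maps the span of the `s a` into the span of the `η (s a)`. -/
lemma etaS_mem_spanOf {V₃ : Opens Y} {m : ((forg O_Y).obj G).obj (op V₃)}
    (hm : m ∈ spanOf G (fun _ : K => V) s V₃) :
    etaS (c := c) G m ∈ spanOf ((ipull f O_X O_Y c).obj G) (fun _ : K => (Opens.map f).obj V)
      (fun a => etaS G (s a)) ((Opens.map f).obj V₃) := by
  refine Submodule.span_induction
    (p := fun m _ => etaS (c := c) G m ∈ spanOf ((ipull f O_X O_Y c).obj G)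
      (fun _ : K => (Opens.map f).obj V) (fun a => etaS G (s a)) ((Opens.map f).obj V₃))
    ?_ ?_ ?_ ?_ hm
  · rintro m ⟨a, φ, rfl⟩
    refine mem_of_eq' _ (etaS_res φ (s a)) ?_
    exact Submodule.subset_span ⟨a, (Opens.map f).map φ, rfl⟩
  · exact mem_of_eq' _ (etaS_zero V₃) (Submodule.zero_mem _)
  · intro a b _ _ ha hb
    exact mem_of_eq' _ (etaS_add a b) (Submodule.add_mem _ ha hb)
  · intro r a _ ha
    exact mem_of_eq' _ (etaS_smul r a) (Submodule.smul_mem _ _ ha)

/-- If the `s a` generate `G` over `V`, then `η g` is locally in the span of the `η (s a)`. -/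
lemma locSpan_etaS
    (hs : ∀ ⦃V' : Opens Y⦄ (_ : V' ⟶ V) (g : ((forg O_Y).obj G).obj (op V')),
      LocSpan G (fun _ : K => V) s V' g)
    {V₂ : Opens Y} (h : V₂ ⟶ V) (g : ((forg O_Y).obj G).obj (op V₂)) :
    LocSpan ((ipull f O_X O_Y c).obj G) (fun _ : K => (Opens.map f).obj V)
      (fun a => etaS G (s a)) ((Opens.map f).obj V₂) (etaS G g) := by
  obtain ⟨S₂, hS₂, H⟩ := hs h g
  refine ⟨Sieve.functorPushforward (Opens.map f) S₂, ?_, ?_⟩
  · intro x hx
    obtain ⟨V₃, h₃, hS, hfx⟩ := hS₂ (f x) hx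
    exact ⟨(Opens.map f).obj V₃, (Opens.map f).map h₃,
      Sieve.image_mem_functorPushforward (Opens.map f) S₂ hS, hfx⟩
  · rintro W g' ⟨V₃, h₃, ψ, hS, hfac⟩
    have h1 := etaS_mem_spanOf (c := c) s (H h₃ hS)
    have h2 := res_mem_spanOf _ _ _ ψ h1
    refine mem_of_eq' _ ?_ h2
    rw [etaS_res, ← res_comp]
    exact congrArg (fun t => res ((forg O_X).obj ((ipull f O_X O_Y c).obj G)) t (etaS G g))
      (Subsingleton.elim _ _)

/-- If the `s a` generate `G` over `V`, then the `η (s a)` generate `f^* G` over `f⁻¹ V`. -/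
theorem locSpan_pull_of_gen
    (hs : ∀ ⦃V' : Opens Y⦄ (_ : V' ⟶ V) (g : ((forg O_Y).obj G).obj (op V')),
      LocSpan G (fun _ : K => V) s V' g)
    {U' : Opens X} (φ : U' ⟶ (Opens.map f).obj V)
    (n : ((forg O_X).obj ((ipull f O_X O_Y c).obj G)).obj (op U')) :
    LocSpan ((ipull f O_X O_Y c).obj G) (fun _ : K => (Opens.map f).obj V)
      (fun a => etaS G (s a)) U' n := by
  obtain ⟨S, hS, H⟩ := locSpan_pull (ModSite.RMor.ofFlat (Opens.map f) c) G U' n
  refine LocSpan.of_local S hS (fun U'' g hg => ?_)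
  refine Submodule.span_induction
    (p := fun m _ => LocSpan ((ipull f O_X O_Y c).obj G) (fun _ : K => (Opens.map f).obj V)
      (fun a => etaS G (s a)) U'' m) ?_ ?_ ?_ ?_ (H g hg)
  · rintro m ⟨⟨V₁, g₁⟩, ψ, rfl⟩
    let V₂ : Opens Y := V₁ ⊓ V
    have hle : U'' ≤ (Opens.map f).obj V₂ := fun x hx => ⟨leOfHom ψ hx, leOfHom (g ≫ φ) hx⟩
    have h1 := (locSpan_etaS (c := c) s hs (homOfLE inf_le_right : V₂ ⟶ V)
      (res ((forg O_Y).obj G) (homOfLE inf_le_left : V₂ ⟶ V₁) g₁)).restrict (homOfLE hle)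
    refine LocSpan.of_eq ?_ h1
    rw [etaS_res, ← res_comp]
    exact congrArg (fun t => res ((forg O_X).obj ((ipull f O_X O_Y c).obj G)) t (etaS G g₁))
      (Subsingleton.elim _ _)
  · exact LocSpan.zero U''
  · intro a b _ _ ha hb
    exact ha.add hb
  · intro r a _ ha
    exact ha.smul r

end Top

/-- The inverse image of a module locally generated by sections is locally generated by
sections (ringed spaces). -/
theorem nonempty_localGeneratorsData_pull {X Y : TopCat.{u}} (f : X ⟶ Y)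
    (O_X : TopCat.Sheaf CommRingCat.{u} X) (O_Y : TopCat.Sheaf CommRingCat.{u} Y)
    (c : O_Y ⟶ ((Opens.map f).sheafPushforwardContinuous CommRingCat.{u}
      (Opens.grothendieckTopology Y) (Opens.grothendieckTopology X)).obj O_X)
    (G : ModSite.Mod O_Y)
    (hG : Nonempty (SheafOfModules.LocalGeneratorsData.{u} (R := ModSite.ringSh O_Y) G)) :
    Nonempty (SheafOfModules.LocalGeneratorsData.{u} (R := ModSite.ringSh O_X)
      ((ModSite.RMor.ofFlat (Opens.map f) c).pull.obj G)) := by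
  obtain ⟨σ⟩ := hG
  have hloc := ModGenP.locP_genP_of_localGeneratorsData G σ
  apply ModGenP.nonempty_localGeneratorsData_of_locP
  intro W
  refine RSpace.exists_sieve_of_pointwise
    (fun U => ModGenP.GenP (fun _ => True)
      ((ModSite.restr O_X U).obj ((ModSite.RMor.ofFlat (Opens.map f) c).pull.obj G)))
    (fun V' V g hV => hV.restr g) (fun x => ?_) W
  obtain ⟨V, hyV, K, -, π, hπ⟩ := RSpace.exists_nhd_of_sieve
    (fun V => ModGenP.GenP (fun _ => True) ((ModSite.restr O_Y V).obj G)) hloc (f x)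
  let s : K → ((forg O_Y).obj G).obj (op V) := fun a => freeHomEquivTop _ π a
  have hs : ∀ ⦃V' : Opens Y⦄ (_ : V' ⟶ V) (g : ((forg O_Y).obj G).obj (op V')),
      LocSpan G (fun _ : K => V) s V' g :=
    fun V' h g => locSpan_of_epi_free π h g
  exact ⟨(Opens.map f).obj V, hyV, K, trivial, _,
    epi_free_of_locSpan (fun _ => inferInstance) (fun a => etaS (c := c) G (s a))
      (fun V' φ n => locSpan_pull_of_gen (c := c) (V := V) s hs φ n)⟩

end Groth.Agent.H34.ModPullGen
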