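import Groth.Agent.H31.FreeOnGen
import Groth.Agent.H34.ModCoprod

set_option autoImplicit false
universe u
open CategoryTheory CategoryTheory.Limits Opposite

namespace Groth.Agent.H34.ModPullGen

open Groth.Agent.H45 Groth.Agent.H34.ModCoprod Groth.Agent.H31.ExtZero Groth.Agent.H31

variable {C : Type u} [SmallCategory C] {J : GrothendieckTopology C} {O : Sheaf J CommRingCat.{u}}

section Span

lemma mem_of_eq' {R M : Type*} [Semiring R] [AddCommMonoid M] [Module R M] (S : Submodule R M)
    {a b : M} (h : a = b) (hb : b ∈ S) : a ∈ S := h ▸ hb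


variable (T : ModSite.Mod O) {ι : Type u} (V : ι → C) (n : ∀ k, ((forg O).obj T).obj (op (V k)))

/-- The submodule of sections over `W` spanned by the restrictions of a family of sections. -/
noncomputable def spanOf (W : C) :
    Submodule ((O.obj ⋙ forget₂ CommRingCat RingCat).obj (op W)) (((forg O).obj T).obj (op W)) :=
  Submodule.span _ {t | ∃ (k : ι) (φ : W ⟶ V k), t = res ((forg O).obj T) φ (n k)}

lemma res_mem_spanOf {W W' : C} (g : W' ⟶ W) {t : ((forg O).obj T).obj (op W)}
    (ht : t ∈ spanOf T V n W) : res ((forg O).obj T) g t ∈ spanOf T V n W' := by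
  refine Submodule.span_induction (p := fun t _ => res ((forg O).obj T) g t ∈ spanOf T V n W')
    ?_ ?_ ?_ ?_ ht
  · rintro t ⟨k, φ, rfl⟩
    refine Submodule.subset_span ⟨k, g ≫ φ, ?_⟩
    exact (res_comp (P := (forg O).obj T) φ g (n k)).symm
  · rw [res_zero]
    exact Submodule.zero_mem _
  · intro a b _ _ ha hb
    rw [res_add]
    exact Submodule.add_mem _ ha hb
  · intro r a _ ha
    rw [res_smul]
    exact Submodule.smul_mem _ _ ha

/-- A section is locally in the span of the family. -/
def LocSpan (W : C) (t : ((forg O).obj T).obj (op W)) : Prop :=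
  ∃ S ∈ J W, ∀ ⦃W' : C⦄ (g : W' ⟶ W), S g → res ((forg O).obj T) g t ∈ spanOf T V n W'

variable {T V n}

lemma LocSpan.of_mem {W : C} {t : ((forg O).obj T).obj (op W)} (h : t ∈ spanOf T V n W) :
    LocSpan T V n W t :=
  ⟨⊤, J.top_mem W, fun _ g _ => res_mem_spanOf T V n g h⟩

lemma LocSpan.of_eq {W : C} {a b : ((forg O).obj T).obj (op W)} (h : a = b)
    (hb : LocSpan T V n W b) : LocSpan T V n W a := h ▸ hb

lemma LocSpan.restrict {W W' : C} (g : W' ⟶ W) {t : ((forg O).obj T).obj (op W)}
    (h : LocSpan T V n W t) : LocSpan T V n W' (res ((forg O).obj T) g t) := by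
  obtain ⟨S, hS, hS'⟩ := h
  refine ⟨S.pullback g, J.pullback_stable g hS, fun W'' g' hg' => ?_⟩
  rw [← res_comp]
  exact hS' (g' ≫ g) hg'

lemma LocSpan.zero (W : C) : LocSpan T V n W 0 :=
  LocSpan.of_mem (Submodule.zero_mem _)

lemma LocSpan.add {W : C} {a b : ((forg O).obj T).obj (op W)}
    (ha : LocSpan T V n W a) (hb : LocSpan T V n W b) : LocSpan T V n W (a + b) := by
  obtain ⟨S, hS, hS'⟩ := ha
  obtain ⟨S₂, hS₂, hS₂'⟩ := hb
  refine ⟨S ⊓ S₂, J.intersection_covering hS hS₂, fun W' g hg => ?_⟩
  rw [res_add]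
  exact Submodule.add_mem _ (hS' g hg.1) (hS₂' g hg.2)

lemma LocSpan.sum {W : C} {κ : Type*} (s : Finset κ) (a : κ → ((forg O).obj T).obj (op W))
    (ha : ∀ i ∈ s, LocSpan T V n W (a i)) : LocSpan T V n W (∑ i ∈ s, a i) := by
  classical
  induction s using Finset.induction_on with
  | empty => rw [Finset.sum_empty]; exact LocSpan.zero W
  | insert i s hi ih =>
    rw [Finset.sum_insert hi]
    exact (ha i (Finset.mem_insert_self i s)).add
      (ih (fun j hj => ha j (Finset.mem_insert_of_mem hj)))

lemma LocSpan.of_local {W : C} {t : ((forg O).obj T).obj (op W)} (S : Sieve W) (hS : S ∈ J W)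
    (h : ∀ ⦃W' : C⦄ (g : W' ⟶ W), S g → LocSpan T V n W' (res ((forg O).obj T) g t)) :
    LocSpan T V n W t := by
  choose R hR hR' using h
  refine ⟨Sieve.bind S (fun W' g hg => R g hg), J.bind_covering hS (fun W' g hg => hR g hg), ?_⟩
  rintro W'' g ⟨W', g', f, hf, hg', rfl⟩
  rw [res_comp]
  exact hR' f hf g' hg'

open scoped Classical in
/-- The image of any section of `freeOn (V k)` under the morphism classified by `n k` is locally in
the span. -/
lemma locSpan_freeOn (k : ι) (W : C) (y : ((forg O).obj (ModSite.freeOn O (V k))).obj (op W)) :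
    LocSpan T V n W
      (((forg O).map ((freeOnHomEquiv O (V k) T).symm (n k))).app (op W) y) := by
  set ψ : ModSite.freeOn O (V k) ⟶ T := (freeOnHomEquiv O (V k) T).symm (n k) with hψ
  let P : PMod O := (extP (ModSite.ringSh O).obj (V k)).obj
    (SheafOfModules.unit (ModSite.ringSh (O.over (V k)))).val
  have key : ∀ (W' : C) (p : P.obj (op W')),
      ψ.val.app (op W') (((extZeroIso (V k) O).inv.app (SheafOfModules.unit _)).val.app (op W')
        (((shfAdj O).unit.app P).app (op W') p)) ∈ spanOf T V n W' := by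
    intro W' p
    let Ψ : P.obj (op W') →+ ((forg O).obj T).obj (op W') :=
      (ψ.val.app (op W')).hom.toAddMonoidHom.comp
        ((((extZeroIso (V k) O).inv.app (SheafOfModules.unit _)).val.app (op W')).hom.toAddMonoidHom.comp
          (((shfAdj O).unit.app P).app (op W')).hom.toAddMonoidHom)
    show Ψ p ∈ spanOf T V n W'
    refine DirectSum.induction_on (motive := fun p => Ψ p ∈ spanOf T V n W') p ?_ (fun φ z => ?_)
      (fun a b ha hb => ?_)
    · exact mem_of_eq' _ (map_zero Ψ) (Submodule.zero_mem _)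
    · let z' : (ModSite.ringSh O).obj.obj (op W') := z
      have h1 := FreeOnGen.hom_apply_gen' O (V k) T ψ W' φ z'
      have h2 : freeOnHomEquiv O (V k) T ψ = n k := Equiv.apply_symm_apply _ _
      rw [h2] at h1
      exact mem_of_eq' _ h1 (Submodule.smul_mem _ _ (Submodule.subset_span ⟨k, φ, rfl⟩))
    · exact mem_of_eq' _ (map_add Ψ a b) (Submodule.add_mem _ ha hb)
  obtain ⟨S, hS, hloc⟩ := locSurj_unit O P W
    (((extZeroIso (V k) O).hom.app (SheafOfModules.unit _)).val.app (op W) y)
  refine ⟨S, hS, fun W' g hg => ?_⟩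
  obtain ⟨p, hp⟩ := hloc g hg
  have e : ((extZeroIso (V k) O).hom.app (SheafOfModules.unit (ModSite.ringSh (O.over (V k)))) ≫
      (extZeroIso (V k) O).inv.app (SheafOfModules.unit _)) = 𝟙 _ :=
    (extZeroIso (V k) O).hom_inv_id_app _
  have e' : ((extZeroIso (V k) O).inv.app (SheafOfModules.unit _)).val.app (op W')
      (((extZeroIso (V k) O).hom.app (SheafOfModules.unit (ModSite.ringSh (O.over (V k))))).val.app (op W')
        ((ModSite.freeOn O (V k)).val.map g.op y)) = (ModSite.freeOn O (V k)).val.map g.op y :=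
    congrArg (fun t : ModSite.freeOn O (V k) ⟶ ModSite.freeOn O (V k) =>
      t.val.app (op W') ((ModSite.freeOn O (V k)).val.map g.op y)) e
  have nat1 := PresheafOfModules.naturality_apply ψ.val g.op y
  have nat2 := PresheafOfModules.naturality_apply
    ((extZeroIso (V k) O).hom.app (SheafOfModules.unit (ModSite.ringSh (O.over (V k))))).val g.op y
  have hp' : ((shfAdj O).unit.app P).app (op W') p =
      ((extZeroIso (V k) O).hom.app (SheafOfModules.unit (ModSite.ringSh (O.over (V k))))).val.app (op W')
        ((ModSite.freeOn O (V k)).val.map g.op y) := hp.trans nat2.symm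
  have := key W' p
  rw [hp', e'] at this
  exact mem_of_eq' _ nat1.symm this


variable (T V n) in
/-- The canonical morphism from the coproduct of the `freeOn (V k)` classified by the family. -/
noncomputable def famDesc : (∐ fun k => ModSite.freeOn O (V k)) ⟶ T :=
  Sigma.desc (fun k => (freeOnHomEquiv O (V k) T).symm (n k))

variable (T V n) in
/-- If the canonical morphism is an epimorphism, every section is locally in the span. -/
theorem locSpan_of_epi [Epi (famDesc T V n)] (W : C) (t : ((forg O).obj T).obj (op W)) :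
    LocSpan T V n W t := by
  obtain ⟨S, hS, h⟩ := FinFree.locSurj_of_epi (famDesc T V n) W t
  refine LocSpan.of_local S hS (fun W' g hg => ?_)
  obtain ⟨x, hx⟩ := h g hg
  refine hx ▸ ?_
  obtain ⟨S', hS', h'⟩ := exists_local_finset_sum (fun k => ModSite.freeOn O (V k)) W' x
  refine LocSpan.of_local S' hS' (fun W'' g' hg' => ?_)
  obtain ⟨Tf, tt, htt⟩ := h' g' hg'
  have e1 : res ((forg O).obj T) g' (((forg O).map (famDesc T V n)).app (op W') x) =
      ((forg O).map (famDesc T V n)).app (op W'')
        (res ((forg O).obj (∐ fun k => ModSite.freeOn O (V k))) g' x) :=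
    (res_naturality ((forg O).map (famDesc T V n)) g' x).symm
  rw [e1, htt]
  refine (map_sum (((forg O).map (famDesc T V n)).app (op W'')).hom _ Tf).symm ▸ ?_
  refine LocSpan.sum Tf _ (fun i _ => ?_)
  have e2 : Sigma.ι (fun k => ModSite.freeOn O (V k)) i ≫ famDesc T V n =
      (freeOnHomEquiv O (V i) T).symm (n i) := Sigma.ι_desc _ _
  have e3 := congrArg (fun m : ModSite.freeOn O (V i) ⟶ T => m.val.app (op W'') (tt i)) e2
  exact LocSpan.of_eq e3 (locSpan_freeOn (T := T) (V := V) (n := n) i W'' (tt i))

end Span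

section Pull

variable {C : Type u} [SmallCategory C] {J : GrothendieckTopology C} {O : Sheaf J CommRingCat.{u}}
variable {D : Type u} [SmallCategory D] {K : GrothendieckTopology D} {O' : Sheaf K CommRingCat.{u}}
variable (f : ModSite.RMor O O') (G : ModSite.Mod O')

/-- The index type: all sections of `G`. -/
abbrev PIdx : Type u := Σ V : D, ((forg O').obj G).obj (op V)

/-- The objects over which the canonical sections of `f^* G` live. -/
abbrev pV : PIdx G → C := fun k => f.fn.obj k.1

/-- The canonical sections `η(g)` of `f^* G`. -/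
noncomputable def pSec (k : PIdx G) : ((forg O).obj (f.pull.obj G)).obj (op (pV f G k)) :=
  (f.adj.unit.app G).val.app (op k.1) k.2

instance epi_famDesc_pull : Epi (famDesc (f.pull.obj G) (pV f G) (pSec f G)) := by
  refine ⟨fun {Z} h₁ h₂ h => ?_⟩
  apply (f.adj.homEquiv G Z).injective
  rw [Adjunction.homEquiv_unit, Adjunction.homEquiv_unit]
  apply SheafOfModules.hom_ext
  apply PresheafOfModules.hom_ext
  intro V
  apply ModuleCat.hom_ext
  apply LinearMap.ext
  intro (g : ((forg O').obj G).obj (op V.unop))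
  let k : PIdx G := ⟨V.unop, g⟩
  have hk := congrArg (fun m => Sigma.ι (fun k => ModSite.freeOn O (pV f G k)) k ≫ m) h
  simp only [famDesc] at hk
  rw [← Category.assoc, ← Category.assoc, Sigma.ι_desc] at hk
  have e₁ := freeOnHomEquiv_symm_naturality O (pV f G k) (T := f.pull.obj G) (pSec f G k) h₁
  have e₂ := freeOnHomEquiv_symm_naturality O (pV f G k) (T := f.pull.obj G) (pSec f G k) h₂
  have hk' := (freeOnHomEquiv O (pV f G k) Z).symm.injective (e₁.trans (hk.trans e₂.symm))
  exact hk'

/-- Every section of `f^* G` is locally a linear combination of sections `η(g)`. -/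
theorem locSpan_pull (W : C) (t : ((forg O).obj (f.pull.obj G)).obj (op W)) :
    LocSpan (f.pull.obj G) (pV f G) (pSec f G) W t :=
  locSpan_of_epi _ _ _ W t

end Pull

end Groth.Agent.H34.ModPullGen
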