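import Groth.Agent.H34.RSpace
import Groth.Agent.H45.FinFree.LocalFactor
import Groth.Prelude.Def_ModSite2
import Mathlib.Topology.Sheaves.Points

set_option autoImplicit false
universe u
open CategoryTheory CategoryTheory.Limits Opposite TopologicalSpace
open Groth.Agent.H45 Groth.Agent.H45.FinFree

namespace Groth.Agent.H34.ModFT

variable {C : Type u} [SmallCategory C] {J : GrothendieckTopology C} {O : Sheaf J CommRingCat.{u}}

/-- If the stalk map at `p` is surjective, any section of the target near `p` is locally (near `p`)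
in the image. -/
lemma exists_local_preimage_of_stalk (p : GrothendieckTopology.Point.{u} J) {G F : ModSite.Mod O}
    (φ : G ⟶ F) (hx : Function.Surjective (ModSite.stalkMap p φ).hom)
    (U₀ : C) (y₀ : p.fiber.obj U₀) (s : ((forg O).obj F).obj (op U₀)) :
    ∃ (V : C) (f : V ⟶ U₀) (y : p.fiber.obj V) (_ : p.fiber.map f y = y₀)
      (t : ((forg O).obj G).obj (op V)), ((forg O).map φ).app (op V) t = res _ f s := by
  obtain ⟨γ, hγ⟩ := hx (ModSite.germ p F U₀ y₀ s)
  obtain ⟨U₁, y₁, t₁, rfl⟩ := p.toPresheafFiber_jointly_surjective (P := (ModSite.toAb G).obj) γ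
  have nat : (ModSite.stalkMap p φ).hom (ModSite.germ p G U₁ y₁ t₁) =
      ModSite.germ p F U₁ y₁ ((φ.val.app (op U₁)).hom t₁) :=
    p.toPresheafFiber_naturality_apply ((SheafOfModules.toSheaf (ModSite.ringSh O)).map φ).hom U₁ y₁ t₁
  have h1 : ModSite.germ p F U₁ y₁ ((φ.val.app (op U₁)).hom t₁) = ModSite.germ p F U₀ y₀ s :=
    nat.symm.trans hγ
  let W := IsCofiltered.min (Functor.elementsMk p.fiber U₁ y₁) (Functor.elementsMk p.fiber U₀ y₀)
  let a := IsCofiltered.minToLeft (Functor.elementsMk p.fiber U₁ y₁) (Functor.elementsMk p.fiber U₀ y₀)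
  let b := IsCofiltered.minToRight (Functor.elementsMk p.fiber U₁ y₁) (Functor.elementsMk p.fiber U₀ y₀)
  have hA : ModSite.germ p F U₁ y₁ ((φ.val.app (op U₁)).hom t₁) =
      ModSite.germ p F W.1 W.2 (((ModSite.toAb F).obj.map a.1.op).hom ((φ.val.app (op U₁)).hom t₁)) :=
    ((congrArg (fun t => ModSite.germ p F U₁ t ((φ.val.app (op U₁)).hom t₁)) a.2).symm).trans
      (p.toPresheafFiber_w_apply a.1 W.2 (ModSite.toAb F).obj _).symm
  have hB : ModSite.germ p F U₀ y₀ s =
      ModSite.germ p F W.1 W.2 (((ModSite.toAb F).obj.map b.1.op).hom s) :=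
    ((congrArg (fun t => ModSite.germ p F U₀ t s) b.2).symm).trans
      (p.toPresheafFiber_w_apply b.1 W.2 (ModSite.toAb F).obj _).symm
  rw [hA, hB] at h1
  obtain ⟨V, f', y, hy, hV⟩ := (p.toPresheafFiber_eq_iff' (P := (ModSite.toAb F).obj) W.1 W.2 _ _).1 h1
  refine ⟨V, f' ≫ b.1, y, ?_, res ((forg O).obj G) (f' ≫ a.1) t₁, ?_⟩
  · rw [Functor.map_comp_apply, hy]; exact b.2
  · have h2 := res_naturality ((forg O).map φ) (f' ≫ a.1) (show ((forg O).obj G).obj (op U₁) from t₁)
    refine h2.trans ?_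
    rw [res_comp, res_comp]
    exact hV


/-- If generators of `F|U₀` lift through `φ` over `U → U₀`, then `φ|U` is an epimorphism. -/
lemma epi_restr_of_lifts {G F : ModSite.Mod O} (φ : G ⟶ F) {U₀ U : C} (g : U ⟶ U₀)
    {I : Type u} [Finite I] (π : SheafOfModules.free I ⟶ (ModSite.restr O U₀).obj F) [Epi π]
    (t : I → ((forg O).obj G).obj (op U))
    (ht : ∀ i, ((forg O).map φ).app (op U) (t i) =
      res ((forg O).obj F) g (freeHomEquivTop _ π i)) :
    Epi ((ModSite.restr O U).map φ) := by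
  let N := (ovm O g).obj ((ModSite.restr O U₀).obj G)
  let τ : SheafOfModules.free I ⟶ N := (freeHomEquivTop N).symm (fun i => t i)
  have hτ : τ ≫ (ovm O g).map ((ModSite.restr O U₀).map φ) =
      (ovmFreeIso O g I).hom ≫ (ovm O g).map π := by
    apply (freeHomEquivTop _).injective
    funext i
    rw [freeHomEquivTop_comp, freeHomEquivTop_ovm, res_restr_toTop_gtop]
    have h1 : freeHomEquivTop N τ i = t i :=
      congrFun ((freeHomEquivTop N).apply_symm_apply (fun i => t i)) i
    rw [h1]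
    exact ht i
  have h2 : Epi ((ovm O g).map π) := (ovm O g).map_epi π
  have h3 : Epi (τ ≫ (ovm O g).map ((ModSite.restr O U₀).map φ)) := by
    rw [hτ]; exact epi_comp _ _
  have h4 : Epi ((ovm O g).map ((ModSite.restr O U₀).map φ)) := epi_of_epi τ _
  have nat := (restrOvmIso O g).hom.naturality φ
  have e3 : IsIso ((restrOvmIso O g).hom.app F) := inferInstance
  have e4 : Epi ((restrOvmIso O g).hom.app F) := @IsIso.epi_of_iso _ _ _ _ _ e3
  have h5 : Epi ((restrOvmIso O g).hom.app G ≫ (ModSite.restr O U).map φ) := by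
    rw [← nat]
    exact @epi_comp _ _ _ _ _ _ h4 _ e4
  exact epi_of_epi ((restrOvmIso O g).hom.app G) _

end Groth.Agent.H34.ModFT

namespace Groth.Agent.H34.RSpace

open Groth.Agent.H34.ModFT

lemma mem_finset_inf_opens {X : TopCat.{u}} {ι : Type*} (s : Finset ι) (V : ι → Opens X) (x : X)
    (h : ∀ i ∈ s, x ∈ V i) : x ∈ s.inf V := by
  classical
  induction s using Finset.induction_on with
  | empty => simp
  | insert i s hi ih =>
    rw [Finset.inf_insert]
    exact ⟨h i (Finset.mem_insert_self i s), ih (fun j hj => h j (Finset.mem_insert_of_mem hj))⟩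

theorem exists_epi_restr_of_stalkMap_surjective {X : TopCat.{u}} (O : TopCat.Sheaf CommRingCat.{u} X)
    {G F : ModSite.Mod O} (φ : G ⟶ F) [SheafOfModules.IsFiniteType (R := ModSite.ringSh O) F] (x : X)
    (hx : Function.Surjective (ModSite.stalkMap (Opens.pointGrothendieckTopology x) φ).hom) :
    ∃ U : Opens X, x ∈ U ∧ Epi ((ModSite.restr O U).map φ) := by
  classical
  obtain ⟨U₀, hxU₀, I, hI, π, hπ⟩ := exists_nhd_of_sieve
    (fun U => FG ((ModSite.restr O U).obj F)) (locFG_of_isFiniteType F) x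
  have : Fintype I := Fintype.ofFinite I
  let p := Opens.pointGrothendieckTopology x
  have key : ∀ i : I, ∃ (V : Opens X) (f : V ⟶ U₀) (_ : x ∈ V)
      (t : ((forg O).obj G).obj (op V)),
      ((forg O).map φ).app (op V) t = res _ f (freeHomEquivTop _ π i) := by
    intro i
    obtain ⟨V, f, y, _, t, ht⟩ :=
      exists_local_preimage_of_stalk p φ hx U₀ ⟨⟨hxU₀⟩⟩ (freeHomEquivTop _ π i)
    exact ⟨V, f, y.down.down, t, ht⟩
  choose V f hxV t ht using key
  let U : Opens X := (Finset.univ.inf V) ⊓ U₀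
  have hxU : x ∈ U := ⟨mem_finset_inf_opens _ V x (fun i _ => hxV i), hxU₀⟩
  let g : U ⟶ U₀ := homOfLE inf_le_right
  have hUV : ∀ i, U ≤ V i := fun i => inf_le_left.trans (Finset.inf_le (Finset.mem_univ i))
  refine ⟨U, hxU, epi_restr_of_lifts φ g π (fun i => res _ (homOfLE (hUV i)) (t i)) ?_⟩
  intro i
  rw [res_naturality, ht]
  exact (res_comp (P := (forg O).obj F) (f i) (homOfLE (hUV i)) _).symm

end Groth.Agent.H34.RSpace
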