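import Groth.Agent.H34.ModFiltHom
import Groth.Agent.H34.RSpace
import Groth.Agent.H34.ModStalk
import Mathlib.CategoryTheory.Sites.LocallySurjective
import Mathlib.Topology.Maps.Basic
import Mathlib.Topology.Sheaves.SheafCondition.Sites

/-!
# Finite type and push-forward along a closed embedding of ringed spaces
-/

set_option autoImplicit false
universe u
open CategoryTheory CategoryTheory.Limits Opposite TopologicalSpace

namespace Groth.Agent.H34.ModPushFT

open Groth.Agent.H45 Groth.Agent.H45.FinFree Groth.Agent.H34.ModCoprod Groth.Agent.H34.ModFilt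
  Groth.Agent.H34.ModFT Groth.Agent.H34.ModFiltHom Groth.Agent.H34.RSpace

section Site

variable {C : Type u} [SmallCategory C] {J : GrothendieckTopology C} {O : Sheaf J CommRingCat.{u}}

/-- Generating sections give an epimorphism from a free module. -/
theorem epi_of_secGen {V : C} {M : ModSite.Mod O} {K : Type u} [Fintype K]
    (e : K → ((forg O).obj M).obj (op V)) (he : SecGen M V e) :
    Epi ((freeHomEquivTop ((ModSite.restr O V).obj M)).symm
      (fun a => (e a : (pre ((ModSite.restr O V).obj M)).obj (op (top V))))) := by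
  let e' : K → (pre ((ModSite.restr O V).obj M)).obj (op (top V)) := e
  set π := (freeHomEquivTop ((ModSite.restr O V).obj M)).symm e' with hπdef
  have hπ : ∀ a, freeHomEquivTop _ π a = e' a := fun a =>
    congrFun (Equiv.apply_symm_apply (freeHomEquivTop ((ModSite.restr O V).obj M)) e') a
  apply epi_of_locSurj
  intro Y s
  obtain ⟨S, hS, h⟩ := he Y.hom s
  refine ⟨(Sieve.overEquiv Y).symm S, ?_, ?_⟩
  · have h0 : (Sieve.overEquiv Y) ((Sieve.overEquiv Y).symm S) = S :=
      OrderIso.apply_symm_apply _ _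
    rw [GrothendieckTopology.mem_over_iff, h0]
    exact hS
  · intro Z g hg
    have hg' : S g.left := by
      have := (Sieve.overEquiv_symm_iff S g).1 hg
      exact this
    obtain ⟨r, hr⟩ := h g.left hg'
    refine ⟨∑ a, ((forg (O.over V)).map (SheafOfModules.ιFree a)).app (op Z) (r a), ?_⟩
    have h1 : ((forg (O.over V)).map π).app (op Z)
        (∑ a, ((forg (O.over V)).map (SheafOfModules.ιFree a)).app (op Z) (r a)) =
        ∑ a, ((forg (O.over V)).map π).app (op Z)
          (((forg (O.over V)).map (SheafOfModules.ιFree a)).app (op Z) (r a)) :=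
      map_sum (((forg (O.over V)).map π).app (op Z)).hom _ _
    refine h1.trans ?_
    refine Eq.trans ?_ hr.symm
    refine Finset.sum_congr rfl (fun a _ => ?_)
    have h2 := unit_hom_app (SheafOfModules.ιFree a ≫ π) Z (r a)
    refine Eq.trans ?_ (h2.symm.trans ?_)
    · rfl
    · have h3 : (SheafOfModules.ιFree a ≫ π).val.app (op (top V))
          (1 : (O.over V).obj.obj (op (top V))) = e' a := hπ a
      rw [h3]
      have h4 : Z.hom = g.left ≫ Y.hom := (Over.w g).symm
      change r a • res ((forg O).obj M) Z.hom (e a) = _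
      rw [h4]

end Site

section Top

variable {X : TopCat.{u}} {O : TopCat.Sheaf CommRingCat.{u} X}

/-- Topological form of generation by finitely many sections. -/
def TopGen (M : ModSite.Mod O) (U : Opens X) {K : Type u} [Fintype K]
    (e : K → ((forg O).obj M).obj (op U)) : Prop :=
  ∀ (U' : Opens X) (hU' : U' ≤ U) (s : ((forg O).obj M).obj (op U')) (y : X), y ∈ U' →
    ∃ (U'' : Opens X) (hU'' : U'' ≤ U'), y ∈ U'' ∧ ∃ r : K → O.obj.obj (op U''),
      res ((forg O).obj M) (homOfLE hU'') s =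
        ∑ a, r a • res ((forg O).obj M) (homOfLE (hU''.trans hU')) (e a)

lemma topGen_of_secGen {M : ModSite.Mod O} {U : Opens X} {K : Type u} [Fintype K]
    {e : K → ((forg O).obj M).obj (op U)} (h : SecGen M U e) : TopGen M U e := by
  intro U' hU' s y hy
  obtain ⟨S, hS, hS'⟩ := h (homOfLE hU') s
  obtain ⟨V, g, hg, hyV⟩ := hS y hy
  obtain ⟨r, hr⟩ := hS' g hg
  exact ⟨V, leOfHom g, hyV, r, hr⟩

lemma secGen_of_topGen {M : ModSite.Mod O} {U : Opens X} {K : Type u} [Fintype K]
    {e : K → ((forg O).obj M).obj (op U)} (h : TopGen M U e) : SecGen M U e := by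
  intro V' f s
  refine ⟨⟨fun V'' g => ∃ r : K → O.obj.obj (op V''),
      res ((forg O).obj M) g s = ∑ a, r a • res ((forg O).obj M) (g ≫ f) (e a), ?_⟩, ?_, ?_⟩
  · rintro V₁ V₂ g ⟨r, hr⟩ g'
    refine ⟨fun a => (O.obj.map g'.op).hom (r a), ?_⟩
    rw [res_comp, hr, res_sum]
    refine Finset.sum_congr rfl (fun a _ => ?_)
    rw [res_smul, ← res_comp]
    rfl
  · intro y hy
    obtain ⟨U'', hU'', hyU'', r, hr⟩ := h V' (leOfHom f) s y hy
    exact ⟨U'', homOfLE hU'', ⟨r, hr⟩, hyU''⟩
  · intro V'' g hg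
    exact hg

/-- Finite type on a ringed space, in terms of generating sections near every point. -/
theorem isFiniteType_iff_topGen (M : ModSite.Mod O) :
    SheafOfModules.IsFiniteType (R := ModSite.ringSh O) M ↔
      ∀ x : X, ∃ (U : Opens X) (_ : x ∈ U) (K : Type u) (_ : Fintype K)
        (e : K → ((forg O).obj M).obj (op U)), TopGen M U e := by
  constructor
  · intro hM x
    obtain ⟨U, hxU, I, hI, π, hπ⟩ := exists_nhd_of_sieve
      (fun U => FG ((ModSite.restr O U).obj M)) (locFG_of_isFiniteType M) x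
    have : Fintype I := Fintype.ofFinite I
    exact ⟨U, hxU, I, inferInstance, fun a => freeHomEquivTop _ π a,
      topGen_of_secGen (secGen_of_epi π)⟩
  · intro h
    apply isFiniteType_of_locFG
    intro W
    refine exists_sieve_of_pointwise (fun U => FG ((ModSite.restr O U).obj M))
      (fun V' V g hV => hV.restr g) (fun x => ?_) W
    obtain ⟨U, hxU, K, hK, e, he⟩ := h x
    exact ⟨U, hxU, K, inferInstance, _, epi_of_secGen e (secGen_of_topGen he)⟩

end Top

section TopLemmas

variable {Z X : TopCat.{u}} (i : Z ⟶ X)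

lemma exists_opens_preimage (hi : Topology.IsInducing i) (V' : Opens Z) (U : Opens X)
    (h : V' ≤ (Opens.map i).obj U) :
    ∃ U₁ : Opens X, U₁ ≤ U ∧ V' = (Opens.map i).obj U₁ := by
  obtain ⟨t, ht, hVt⟩ := hi.isOpen_iff.1 V'.2
  refine ⟨⟨t, ht⟩ ⊓ U, inf_le_right, ?_⟩
  apply Opens.ext
  ext z
  constructor
  · intro hz
    refine ⟨?_, h hz⟩
    have : z ∈ i ⁻¹' t := by rw [hVt]; exact hz
    exact this
  · rintro ⟨hz, -⟩
    have : z ∈ i ⁻¹' t := hz
    rw [hVt] at this
    exact this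

variable {O_Z : TopCat.Sheaf CommRingCat.{u} Z}

lemma subsingleton_of_eq_bot (F : ModSite.Mod O_Z) (W : Opens Z) (h : W = ⊥) :
    Subsingleton (((forg O_Z).obj F).obj (op W)) := by
  let F' : TopCat.Sheaf AddCommGrpCat.{u} Z := ⟨F.val.presheaf, F.isSheaf⟩
  have hT : IsTerminal (F'.obj.obj (op W)) := TopCat.Sheaf.isTerminalOfEqEmpty F' h
  have hZ : IsZero (F'.obj.obj (op W)) := hT.isZero
  exact AddCommGrpCat.subsingleton_of_isZero hZ

end TopLemmas

section Push

variable {Z X : TopCat.{u}} (i : Z ⟶ X) (O_Z : TopCat.Sheaf CommRingCat.{u} Z)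
  (O_X : TopCat.Sheaf CommRingCat.{u} X)
  (c : O_X ⟶ ((Opens.map i).sheafPushforwardContinuous CommRingCat.{u}
      (Opens.grothendieckTopology X) (Opens.grothendieckTopology Z)).obj O_Z)

noncomputable abbrev ipush : ModSite.Mod O_Z ⥤ ModSite.Mod O_X :=
  (ModSite.RMor.ofFlat (Opens.map i) c).push

/-- The ring map on sections. -/
noncomputable abbrev cU (U : Opens X) :
    O_X.obj.obj (op U) →+* O_Z.obj.obj (op ((Opens.map i).obj U)) :=
  (c.hom.app (op U)).hom

variable {i O_Z O_X c}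

lemma cU_res {U U' : Opens X} (h : U' ⟶ U) (t : O_X.obj.obj (op U)) :
    cU i O_Z O_X c U' ((O_X.obj.map h.op).hom t) =
      (O_Z.obj.map ((Opens.map i).map h).op).hom (cU i O_Z O_X c U t) :=
  ConcreteCategory.congr_hom (c.hom.naturality h.op) t

lemma exists_common_lift (hc : Sheaf.IsLocallySurjective c) {K : Type u} [Fintype K]
    (U₁ : Opens X) (r : K → O_Z.obj.obj (op ((Opens.map i).obj U₁))) (y : X) (hy : y ∈ U₁) :
    ∃ (U'' : Opens X) (hU'' : U'' ≤ U₁), y ∈ U'' ∧ ∃ t : K → O_X.obj.obj (op U''),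
      ∀ a, cU i O_Z O_X c U'' (t a) =
        (O_Z.obj.map ((Opens.map i).map (homOfLE hU'')).op).hom (r a) := by
  classical
  have key : ∀ a, ∃ (V : Opens X) (hV : V ≤ U₁) (_ : y ∈ V) (t : O_X.obj.obj (op V)),
      cU i O_Z O_X c V t = (O_Z.obj.map ((Opens.map i).map (homOfLE hV)).op).hom (r a) := by
    intro a
    have hS := Presheaf.imageSieve_mem (Opens.grothendieckTopology X) c.hom (U := op U₁) (r a)
    obtain ⟨V, g, ⟨t, ht⟩, hyV⟩ := hS y hy
    exact ⟨V, leOfHom g, hyV, t, ht⟩
  choose V hV hyV t ht using key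
  let U'' : Opens X := (Finset.univ.inf V) ⊓ U₁
  have hU''V : ∀ a, U'' ≤ V a := fun a => inf_le_left.trans (Finset.inf_le (Finset.mem_univ a))
  refine ⟨U'', inf_le_right, ⟨Groth.Agent.H34.RSpace.mem_finset_inf_opens _ V y (fun a _ => hyV a), hy⟩,
    fun a => (O_X.obj.map (homOfLE (hU''V a)).op).hom (t a), fun a => ?_⟩
  rw [cU_res, ht a]
  rw [← RingHom.comp_apply, ← CommRingCat.hom_comp, ← Functor.map_comp]
  rfl

/-- A section of the push-forward is a section over the preimage. -/
def toZ {F : ModSite.Mod O_Z} {U : Opens X}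
    (s : ((forg O_X).obj ((ipush i O_Z O_X c).obj F)).obj (op U)) :
    ((forg O_Z).obj F).obj (op ((Opens.map i).obj U)) := s

def ofZ {F : ModSite.Mod O_Z} {U : Opens X}
    (s : ((forg O_Z).obj F).obj (op ((Opens.map i).obj U))) :
    ((forg O_X).obj ((ipush i O_Z O_X c).obj F)).obj (op U) := s

lemma toZ_res {F : ModSite.Mod O_Z} {U U' : Opens X} (h : U' ⟶ U)
    (s : ((forg O_X).obj ((ipush i O_Z O_X c).obj F)).obj (op U)) :
    toZ (res ((forg O_X).obj ((ipush i O_Z O_X c).obj F)) h s) =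
      res ((forg O_Z).obj F) ((Opens.map i).map h) (toZ s) := rfl

lemma toZ_smul {F : ModSite.Mod O_Z} {U : Opens X} (r : O_X.obj.obj (op U))
    (s : ((forg O_X).obj ((ipush i O_Z O_X c).obj F)).obj (op U)) :
    toZ (r • s) = cU i O_Z O_X c U r • toZ s := rfl

lemma toZ_sum {F : ModSite.Mod O_Z} {U : Opens X} {ι : Type*} (t : Finset ι)
    (s : ι → ((forg O_X).obj ((ipush i O_Z O_X c).obj F)).obj (op U)) :
    toZ (∑ a ∈ t, s a) = ∑ a ∈ t, toZ (s a) := rfl


theorem isFiniteType_of_push (hi : Topology.IsInducing i) (F : ModSite.Mod O_Z)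
    (h : SheafOfModules.IsFiniteType (R := ModSite.ringSh O_X) ((ipush i O_Z O_X c).obj F)) :
    SheafOfModules.IsFiniteType (R := ModSite.ringSh O_Z) F := by
  rw [isFiniteType_iff_topGen] at h ⊢
  intro z
  obtain ⟨U, hxU, K, hK, e, he⟩ := h (i z)
  refine ⟨(Opens.map i).obj U, hxU, K, hK, fun a => toZ (e a), ?_⟩
  intro V' hV' s z' hz'
  obtain ⟨U₁, hU₁, rfl⟩ := exists_opens_preimage i hi V' U hV'
  obtain ⟨U'', hU'', hyU'', r, hr⟩ := he U₁ hU₁ (ofZ s) (i z') hz'
  refine ⟨(Opens.map i).obj U'', ((Opens.map i).map (homOfLE hU'')).le, hyU'',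
    fun a => cU i O_Z O_X c U'' (r a), ?_⟩
  exact congrArg toZ hr

theorem isFiniteType_push (hi : Topology.IsClosedEmbedding i)
    (hc : Sheaf.IsLocallySurjective c) (F : ModSite.Mod O_Z)
    (h : SheafOfModules.IsFiniteType (R := ModSite.ringSh O_Z) F) :
    SheafOfModules.IsFiniteType (R := ModSite.ringSh O_X) ((ipush i O_Z O_X c).obj F) := by
  rw [isFiniteType_iff_topGen] at h ⊢
  let Uc : Opens X := ⟨(Set.range i)ᶜ, hi.isClosed_range.isOpen_compl⟩
  have hbot : ∀ U' : Opens X, U' ≤ Uc → (Opens.map i).obj U' = ⊥ := by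
    intro U' hU'
    apply Opens.ext
    ext z
    simp only [Opens.coe_bot, Set.mem_empty_iff_false, iff_false]
    intro hz
    exact hU' hz ⟨z, rfl⟩
  intro x
  by_cases hx : x ∈ Set.range i
  · obtain ⟨z, rfl⟩ := hx
    obtain ⟨V, hzV, K, hK, e, he⟩ := h z
    obtain ⟨U₀, -, rfl⟩ := exists_opens_preimage i hi.isInducing V ⊤ le_top
    refine ⟨U₀, hzV, K, hK, fun a => ofZ (e a), ?_⟩
    intro U' hU' s y hy
    by_cases hy' : y ∈ Set.range i
    · obtain ⟨z', rfl⟩ := hy'
      obtain ⟨V'', hV'', hz'V'', r, hr⟩ := he ((Opens.map i).obj U')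
        ((Opens.map i).map (homOfLE hU')).le (toZ s) z' hy
      obtain ⟨U₁, hU₁, rfl⟩ := exists_opens_preimage i hi.isInducing V'' U' hV''
      obtain ⟨U'', hU'', hyU'', t, ht⟩ := exists_common_lift hc U₁ r (i z') hz'V''
      refine ⟨U'', hU''.trans hU₁, hyU'', t, ?_⟩
      have h1 := congrArg (res ((forg O_Z).obj F) ((Opens.map i).map (homOfLE hU''))) hr
      rw [res_sum] at h1
      change res ((forg O_Z).obj F) ((Opens.map i).map (homOfLE (hU''.trans hU₁))) (toZ s) =
        ∑ a, cU i O_Z O_X c U'' (t a) •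
          res ((forg O_Z).obj F) ((Opens.map i).map (homOfLE ((hU''.trans hU₁).trans hU'))) (e a)
      rw [← res_comp] at h1
      refine h1.trans (Finset.sum_congr rfl (fun a _ => ?_))
      rw [res_smul, ← res_comp, ht a]
      rfl
    · have hb := hbot (U' ⊓ Uc) inf_le_right
      have := subsingleton_of_eq_bot F _ hb
      exact ⟨U' ⊓ Uc, inf_le_left, ⟨hy, hy'⟩, fun _ => 0,
        Subsingleton.elim (α := ((forg O_Z).obj F).obj (op ((Opens.map i).obj (U' ⊓ Uc)))) _ _⟩
  · refine ⟨Uc, hx, PEmpty.{u + 1}, inferInstance, fun a => a.elim, ?_⟩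
    intro U' hU' s y hy
    have hb := hbot U' hU'
    have := subsingleton_of_eq_bot F _ hb
    exact ⟨U', le_rfl, hy, fun a => a.elim,
      Subsingleton.elim (α := ((forg O_Z).obj F).obj (op ((Opens.map i).obj U'))) _ _⟩

end Push

end Groth.Agent.H34.ModPushFT
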