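import Groth.Agent.H34.ModPullGen0
import Groth.Agent.H34.ModPushFT
import Groth.Agent.H34.ModGenP

set_option autoImplicit false
universe u
open CategoryTheory CategoryTheory.Limits Opposite TopologicalSpace

namespace Groth.Agent.H34.ModPullGen

open Groth.Agent.H45 Groth.Agent.H45.FinFree Groth.Agent.H34.ModCoprod Groth.Agent.H34.ModFiltHom

section SiteFree

variable {C : Type u} [SmallCategory C] {J : GrothendieckTopology C} {O : Sheaf J CommRingCat.{u}}

/-- If `π : free K ⟶ M|_V` is an epimorphism, every section of `M` over an object above `V` is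
locally in the span of the sections classified by `π`. -/
theorem locSpan_of_epi_free {V : C} {M : ModSite.Mod O} {K : Type u}
    (π : SheafOfModules.free K ⟶ (ModSite.restr O V).obj M) [Epi π] {V' : C} (f : V' ⟶ V)
    (s : ((forg O).obj M).obj (op V')) :
    LocSpan M (fun _ : K => V) (fun a => freeHomEquivTop _ π a) V' s := by
  let Y : Over V := Over.mk f
  obtain ⟨S, hS, h⟩ := locSurj_of_epi π Y s
  refine LocSpan.of_local (Sieve.overEquiv Y S) ((GrothendieckTopology.mem_over_iff _ _).1 hS)
    (fun V'' h' hh' => ?_)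
  have h1 : S (Over.homMk h' : Over.mk (h' ≫ f) ⟶ Y) := (Sieve.overEquiv_iff S h').1 hh'
  obtain ⟨x, hx⟩ := h _ h1
  let Z : Over V := Over.mk (h' ≫ f)
  obtain ⟨S', hS', hx'⟩ := exists_local_finset_sum (O := O.over V)
    (fun _ : K => SheafOfModules.unit (ModSite.ringSh (O.over V))) Z x
  refine ⟨Sieve.overEquiv Z S', (GrothendieckTopology.mem_over_iff _ _).1 hS', fun V₃ h₃ hh₃ => ?_⟩
  have h2 : S' (Over.homMk h₃ : Over.mk (h₃ ≫ Z.hom) ⟶ Z) := (Sieve.overEquiv_iff S' h₃).1 hh₃
  obtain ⟨T, t, ht⟩ := hx' _ h2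
  let Z₃ : Over V := Over.mk (h₃ ≫ Z.hom)
  let g₃ : Z₃ ⟶ Z := Over.homMk h₃
  -- the restriction of `s` to `V₃` is `π` applied to the restriction of `x`
  have e1 : res ((forg O).obj M) h₃ (res ((forg O).obj M) h' s) =
      ((forg (O.over V)).map π).app (op Z₃)
        (res ((forg (O.over V)).obj (SheafOfModules.free K)) g₃ x) := by
    have := res_naturality ((forg (O.over V)).map π) g₃ x
    refine Eq.trans ?_ this.symm
    exact congrArg (fun m => res ((forg O).obj M) h₃ m) hx.symm
  have e2 : ((forg (O.over V)).map π).app (op Z₃)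
        (res ((forg (O.over V)).obj (SheafOfModules.free K)) g₃ x) =
      ∑ i ∈ T, ((forg (O.over V)).map π).app (op Z₃)
        ((SheafOfModules.ιFree (R := ModSite.ringSh (O.over V)) i).val.app (op Z₃) (t i)) := by
    refine (congrArg (fun m => ((forg (O.over V)).map π).app (op Z₃) m) ht).trans ?_
    exact map_sum (((forg (O.over V)).map π).app (op Z₃)).hom _ T
  refine mem_of_eq' _ (e1.trans e2) ?_
  refine Submodule.sum_mem _ (fun i _ => ?_)
  have e3 := unit_hom_app (SheafOfModules.ιFree i ≫ π) Z₃ (t i)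
  refine mem_of_eq' _ e3.symm ?_
  refine Submodule.smul_mem _ _ (Submodule.subset_span ⟨i, Z₃.hom, ?_⟩)
  rfl

/-- Conversely (when maps to `V` are unique), sections in whose local span everything lies
generate: the classifying map from the free module is an epimorphism. -/
theorem epi_free_of_locSpan {V : C} (hV : ∀ W : C, Subsingleton (W ⟶ V)) {M : ModSite.Mod O}
    {K : Type u} (e : K → ((forg O).obj M).obj (op V))
    (he : ∀ ⦃V' : C⦄ (_ : V' ⟶ V) (s : ((forg O).obj M).obj (op V')),
      LocSpan M (fun _ : K => V) e V' s) :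
    Epi ((freeHomEquivTop ((ModSite.restr O V).obj M)).symm
      (fun a => (e a : (pre ((ModSite.restr O V).obj M)).obj (op (top V))))) := by
  let e' : K → (pre ((ModSite.restr O V).obj M)).obj (op (top V)) := e
  set π := (freeHomEquivTop ((ModSite.restr O V).obj M)).symm e' with hπdef
  have hπ : ∀ a, freeHomEquivTop _ π a = e' a := fun a =>
    congrFun (Equiv.apply_symm_apply (freeHomEquivTop ((ModSite.restr O V).obj M)) e') a
  apply epi_of_locSurj
  intro Y s
  obtain ⟨S, hS, h⟩ := he Y.hom s
  refine ⟨(Sieve.overEquiv Y).symm S, ?_, ?_⟩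
  · have h0 : (Sieve.overEquiv Y) ((Sieve.overEquiv Y).symm S) = S :=
      OrderIso.apply_symm_apply _ _
    rw [GrothendieckTopology.mem_over_iff, h0]
    exact hS
  · intro Z g hg
    have hg' : S g.left := by
      have := (Sieve.overEquiv_symm_iff S g).1 hg
      exact this
    have hmem := h g.left hg'
    refine Submodule.span_induction
      (p := fun (m : ((forg O).obj M).obj (op Z.left)) _ =>
        ∃ x : ((forg (O.over V)).obj (SheafOfModules.free K)).obj (op Z),
        (((forg (O.over V)).map π).app (op Z) x : ((forg O).obj M).obj (op Z.left)) = m)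
      ?_ ?_ ?_ ?_ hmem
    · rintro m ⟨a, φ, rfl⟩
      refine ⟨((forg (O.over V)).map (SheafOfModules.ιFree a)).app (op Z)
        (1 : (O.over V).obj.obj (op Z)), ?_⟩
      have h2 := unit_hom_app (SheafOfModules.ιFree a ≫ π) Z (1 : (O.over V).obj.obj (op Z))
      refine Eq.trans ?_ (h2.symm.trans ?_)
      · rfl
      · have h3 : (SheafOfModules.ιFree a ≫ π).val.app (op (top V))
            (1 : (O.over V).obj.obj (op (top V))) = e' a := hπ a
        rw [h3]
        have h4 : Z.hom = φ := (hV _).elim _ _
        change (1 : O.obj.obj (op Z.left)) • res ((forg O).obj M) Z.hom (e a) = _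
        rw [h4]
        exact one_smul _ _
    · exact ⟨0, map_zero _⟩
    · rintro a b _ _ ⟨x, hx⟩ ⟨y, hy⟩
      exact ⟨x + y, (map_add (((forg (O.over V)).map π).app (op Z)).hom x y).trans
        (congrArg₂ (· + ·) hx hy)⟩
    · rintro r a _ ⟨x, hx⟩
      let r' : (O.over V).obj.obj (op Z) := r
      refine ⟨r' • x, (map_smul (((forg (O.over V)).map π).app (op Z)).hom r' x).trans ?_⟩
      exact congrArg (fun m : ((forg O).obj M).obj (op Z.left) => r • m) hx

end SiteFree

end Groth.Agent.H34.ModPullGen
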