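import Groth.Agent.H34.ModFiltHom
import Groth.Agent.H34.RSpace
import Groth.Agent.H34.ModGenP
import Mathlib.Topology.Sheaves.Stalks
import Mathlib.LinearAlgebra.Dimension.Free
import Mathlib.LinearAlgebra.Dimension.StrongRankCondition
import Mathlib.SetTheory.Cardinal.Finite
import Mathlib.Topology.LocallyConstant.Basic

/-!
# The rank of a locally free module on a ringed space with nonzero stalks
-/

set_option autoImplicit false
universe u
open CategoryTheory CategoryTheory.Limits Opposite TopologicalSpace
open scoped Classical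

namespace Groth.Agent.H34.ModRank

open Groth.Agent.H45 Groth.Agent.H45.FinFree Groth.Agent.H34.ModCoprod Groth.Agent.H34.ModFilt
  Groth.Agent.H34.ModFT Groth.Agent.H34.ModFiltHom Groth.Agent.H34.RSpace

section Slice

variable {X : TopCat.{u}} {O : Sheaf (Opens.grothendieckTopology X) CommRingCat.{u}} {W : Opens X}

/-- Every section of a free module over `W` is, near any point, a finite combination of the
generators. -/
lemma exists_nbhd_finset_sum {I : Type u} (x : X) (hx : x ∈ W)
    (s : (pre (SheafOfModules.free (R := ModSite.ringSh (O.over W)) I)).obj (op (top W))) :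
    ∃ (Y : Over W) (f : Y ⟶ top W) (_ : x ∈ Y.left) (T : Finset I)
      (t : I → (O.over W).obj.obj (op Y)),
      res (pre (SheafOfModules.free (R := ModSite.ringSh (O.over W)) I)) f s =
        ∑ i ∈ T, (SheafOfModules.ιFree (R := ModSite.ringSh (O.over W)) i).val.app (op Y) (t i) := by
  classical
  obtain ⟨S, hS, h⟩ := exists_local_finset_sum
    (F := fun _ : I => SheafOfModules.unit (ModSite.ringSh (O.over W))) (top W) s
  have hS' := (GrothendieckTopology.mem_over_iff _ _).1 hS
  obtain ⟨V, g, hg, hxV⟩ := hS' x hx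
  have hg' := (Sieve.overEquiv_iff S g).1 hg
  obtain ⟨T, t, ht⟩ := h _ hg'
  exact ⟨_, _, hxV, T, t, ht⟩

variable (O W) in
/-- The stalk of the structure sheaf. -/
abbrev Rx (x : X) : Type u := TopCat.Presheaf.stalk (C := CommRingCat.{u}) O.obj x

/-- Germ of a section of the structure sheaf of the slice. -/
noncomputable def ev (x : X) (Y : Over W) (hY : x ∈ Y.left) :
    (O.over W).obj.obj (op Y) →+* Rx O x :=
  (TopCat.Presheaf.germ (C := CommRingCat.{u}) O.obj Y.left x hY).hom

lemma ev_res (x : X) {Y Y' : Over W} (f : Y' ⟶ Y) (hY' : x ∈ Y'.left)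
    (r : (O.over W).obj.obj (op Y)) :
    ev x Y' hY' (((O.over W).obj.map f.op).hom r) = ev x Y (leOfHom f.left hY') r :=
  TopCat.Presheaf.germ_res_apply (C := CommRingCat.{u}) O.obj f.left x hY' r

/-- The matrix entry of a morphism of free modules at a point. -/
noncomputable def entry (x : X) (hx : x ∈ W) {I I' : Type u}
    (α : SheafOfModules.free (R := ModSite.ringSh (O.over W)) I ⟶ SheafOfModules.free I')
    (i : I) (j : I') : Rx O x :=
  ev x (top W) hx (coord j (freeHomEquivTop _ α i))

/-- Local formula for coordinates. -/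
lemma res_coord {I : Type u} (Y : Over W) (f : Y ⟶ top W)
    (s : (pre (SheafOfModules.free (R := ModSite.ringSh (O.over W)) I)).obj (op (top W)))
    (T : Finset I) (t : I → (O.over W).obj.obj (op Y))
    (hs : res (pre (SheafOfModules.free (R := ModSite.ringSh (O.over W)) I)) f s =
        ∑ i ∈ T, (SheafOfModules.ιFree (R := ModSite.ringSh (O.over W)) i).val.app (op Y) (t i))
    (j : I) :
    ((O.over W).obj.map f.op).hom (coord j s) = ∑ i ∈ T.filter (· = j), t i := by
  classical
  have h1 : ((O.over W).obj.map f.op).hom (coord j s) =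
      (proj O W I j).val.app (op Y)
        (res (pre (SheafOfModules.free (R := ModSite.ringSh (O.over W)) I)) f s) :=
    (res_naturality ((forg (O.over W)).map (proj O W I j)) f s).symm
  rw [h1, hs]
  refine (map_sum ((proj O W I j).val.app (op Y)).hom _ T).trans ?_
  have h2 : ∀ i ∈ T, ((proj O W I j).val.app (op Y)).hom
      ((SheafOfModules.ιFree (R := ModSite.ringSh (O.over W)) i).val.app (op Y) (t i)) =
      if i = j then t i else 0 := by
    intro i _
    have h3 := congrArg (fun m => m.val.app (op Y) (t i)) (ιFree_proj (O := O) (W := W) j i)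
    refine Eq.trans ?_ (h3.trans ?_)
    · rfl
    · split_ifs with hij
      · rfl
      · rfl
  rw [Finset.sum_congr rfl h2, Finset.sum_filter]
  refine Finset.sum_congr rfl (fun i _ => ?_)
  by_cases h : i = j
  · exact (if_pos h).trans (if_pos h).symm
  · exact (if_neg h).trans (if_neg h).symm


lemma entry_eq (x : X) (hx : x ∈ W) {I I' : Type u}
    (α : SheafOfModules.free (R := ModSite.ringSh (O.over W)) I ⟶ SheafOfModules.free I')
    (i : I) (Y : Over W) (f : Y ⟶ top W) (hxY : x ∈ Y.left) (T : Finset I')
    (t : I' → (O.over W).obj.obj (op Y))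
    (hs : res (pre (SheafOfModules.free (R := ModSite.ringSh (O.over W)) I')) f
        (freeHomEquivTop _ α i) =
        ∑ j ∈ T, (SheafOfModules.ιFree (R := ModSite.ringSh (O.over W)) j).val.app (op Y) (t j))
    (j : I') :
    entry x hx α i j = ev x Y hxY (∑ j' ∈ T.filter (· = j), t j') := by
  unfold entry
  rw [← res_coord Y f _ T t hs j]
  exact (ev_res x f hxY _).symm

lemma entry_eq_of_mem (x : X) (hx : x ∈ W) {I I' : Type u}
    (α : SheafOfModules.free (R := ModSite.ringSh (O.over W)) I ⟶ SheafOfModules.free I')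
    (i : I) (Y : Over W) (f : Y ⟶ top W) (hxY : x ∈ Y.left) (T : Finset I')
    (t : I' → (O.over W).obj.obj (op Y))
    (hs : res (pre (SheafOfModules.free (R := ModSite.ringSh (O.over W)) I')) f
        (freeHomEquivTop _ α i) =
        ∑ j ∈ T, (SheafOfModules.ιFree (R := ModSite.ringSh (O.over W)) j).val.app (op Y) (t j))
    (j : I') (hj : j ∈ T) :
    entry x hx α i j = ev x Y hxY (t j) := by
  rw [entry_eq x hx α i Y f hxY T t hs j]
  congr 1
  rw [Finset.filter_eq' T j, if_pos hj, Finset.sum_singleton]

lemma entry_eq_zero_of_notMem (x : X) (hx : x ∈ W) {I I' : Type u}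
    (α : SheafOfModules.free (R := ModSite.ringSh (O.over W)) I ⟶ SheafOfModules.free I')
    (i : I) (Y : Over W) (f : Y ⟶ top W) (hxY : x ∈ Y.left) (T : Finset I')
    (t : I' → (O.over W).obj.obj (op Y))
    (hs : res (pre (SheafOfModules.free (R := ModSite.ringSh (O.over W)) I')) f
        (freeHomEquivTop _ α i) =
        ∑ j ∈ T, (SheafOfModules.ιFree (R := ModSite.ringSh (O.over W)) j).val.app (op Y) (t j))
    (j : I') (hj : j ∉ T) :
    entry x hx α i j = 0 := by
  rw [entry_eq x hx α i Y f hxY T t hs j, Finset.filter_eq' T j, if_neg hj, Finset.sum_empty,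
    map_zero]

lemma finite_support_entry (x : X) (hx : x ∈ W) {I I' : Type u}
    (α : SheafOfModules.free (R := ModSite.ringSh (O.over W)) I ⟶ SheafOfModules.free I')
    (i : I) : (Function.support (entry x hx α i)).Finite := by
  obtain ⟨Y, f, hxY, T, t, hs⟩ := exists_nbhd_finset_sum x hx (freeHomEquivTop _ α i)
  refine T.finite_toSet.subset (fun j hj => ?_)
  by_contra hjT
  exact hj (entry_eq_zero_of_notMem x hx α i Y f hxY T t hs j hjT)

/-- The row of the matrix of a morphism of free modules at a point. -/
noncomputable def row (x : X) (hx : x ∈ W) {I I' : Type u}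
    (α : SheafOfModules.free (R := ModSite.ringSh (O.over W)) I ⟶ SheafOfModules.free I')
    (i : I) : I' →₀ Rx O x :=
  Finsupp.ofSupportFinite (entry x hx α i) (finite_support_entry x hx α i)

lemma row_apply (x : X) (hx : x ∈ W) {I I' : Type u}
    (α : SheafOfModules.free (R := ModSite.ringSh (O.over W)) I ⟶ SheafOfModules.free I')
    (i : I) (j : I') : row x hx α i j = entry x hx α i j := rfl


lemma entry_id (x : X) (hx : x ∈ W) {I : Type u} (i j : I) :
    entry x hx (𝟙 (SheafOfModules.free (R := ModSite.ringSh (O.over W)) I)) i j =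
      if i = j then 1 else 0 := by
  unfold entry
  have h1 : coord j (freeHomEquivTop _
      (𝟙 (SheafOfModules.free (R := ModSite.ringSh (O.over W)) I)) i) =
      (SheafOfModules.ιFree (R := ModSite.ringSh (O.over W)) i ≫ proj O W I j).val.app
        (op (top W)) (1 : (O.over W).obj.obj (op (top W))) := by
    rw [freeHomEquivTop_apply, Category.comp_id]
    rfl
  rw [h1, ιFree_proj]
  by_cases h : i = j
  · simp only [if_pos h]
    exact map_one (ev x (top W) hx)
  · simp only [if_neg h]
    exact map_zero (ev x (top W) hx)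

lemma entry_comp (x : X) (hx : x ∈ W) {I I' I'' : Type u}
    (α : SheafOfModules.free (R := ModSite.ringSh (O.over W)) I ⟶ SheafOfModules.free I')
    (β : SheafOfModules.free (R := ModSite.ringSh (O.over W)) I' ⟶ SheafOfModules.free I'')
    (i : I) (l : I'') :
    entry x hx (α ≫ β) i l = (row x hx α i).sum (fun j a => a * entry x hx β j l) := by
  obtain ⟨Y, f, hxY, T, t, hs⟩ := exists_nbhd_finset_sum x hx (freeHomEquivTop _ α i)
  have hsupp : (row x hx α i).support ⊆ T := by
    intro j hj
    by_contra hjT
    rw [Finsupp.mem_support_iff, row_apply] at hj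
    exact hj (entry_eq_zero_of_notMem x hx α i Y f hxY T t hs j hjT)
  rw [Finsupp.sum_of_support_subset _ hsupp (fun j a => a * entry x hx β j l)
    (fun j _ => zero_mul _)]
  have hf : f = toTop Y := by
    apply Over.OverMorphism.ext
    exact Subsingleton.elim _ _
  subst hf
  -- the left hand side
  have h1 : entry x hx (α ≫ β) i l =
      ev x Y hxY (((O.over W).obj.map (toTop Y).op).hom
        (coord l (β.val.app (op (top W)) (freeHomEquivTop _ α i)))) := by
    unfold entry
    rw [freeHomEquivTop_comp]
    exact (ev_res x (toTop Y) hxY _).symm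
  have h2 : ((O.over W).obj.map (toTop Y).op).hom
        (coord l (β.val.app (op (top W)) (freeHomEquivTop _ α i))) =
      ∑ j ∈ T, t j * ((O.over W).obj.map (toTop Y).op).hom
        (coord l (freeHomEquivTop _ β j)) := by
    have e1 : ((O.over W).obj.map (toTop Y).op).hom
        (coord l (β.val.app (op (top W)) (freeHomEquivTop _ α i))) =
        (β ≫ proj O W I'' l).val.app (op Y)
          (res (pre (SheafOfModules.free (R := ModSite.ringSh (O.over W)) I')) (toTop Y)
            (freeHomEquivTop _ α i)) :=
      (res_naturality ((forg (O.over W)).map (β ≫ proj O W I'' l)) (toTop Y) _).symm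
    rw [e1, hs]
    refine (map_sum ((β ≫ proj O W I'' l).val.app (op Y)).hom _ T).trans ?_
    refine Finset.sum_congr rfl (fun j _ => ?_)
    have e2 := unit_hom_app (SheafOfModules.ιFree j ≫ β ≫ proj O W I'' l) Y (t j)
    refine Eq.trans ?_ (e2.symm.trans ?_)
    · rfl
    · rfl
  rw [h1, h2, map_sum]
  refine Finset.sum_congr rfl (fun j hj => ?_)
  rw [map_mul, row_apply, entry_eq_of_mem x hx α i Y (toTop Y) hxY T t hs j hj]
  congr 1
  exact ev_res x (toTop Y) hxY _


/-- The linear map on finitely supported functions induced by a morphism of free modules. -/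
noncomputable def lc (x : X) (hx : x ∈ W) {I I' : Type u}
    (α : SheafOfModules.free (R := ModSite.ringSh (O.over W)) I ⟶ SheafOfModules.free I') :
    (I →₀ Rx O x) →ₗ[Rx O x] (I' →₀ Rx O x) :=
  Finsupp.linearCombination (Rx O x) (row x hx α)

lemma row_comp (x : X) (hx : x ∈ W) {I I' I'' : Type u}
    (α : SheafOfModules.free (R := ModSite.ringSh (O.over W)) I ⟶ SheafOfModules.free I')
    (β : SheafOfModules.free (R := ModSite.ringSh (O.over W)) I' ⟶ SheafOfModules.free I'')
    (i : I) :
    row x hx (α ≫ β) i = (row x hx α i).sum (fun j a => a • row x hx β j) := by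
  ext l
  rw [row_apply, entry_comp, Finsupp.sum_apply]
  rfl

lemma lc_comp (x : X) (hx : x ∈ W) {I I' I'' : Type u}
    (α : SheafOfModules.free (R := ModSite.ringSh (O.over W)) I ⟶ SheafOfModules.free I')
    (β : SheafOfModules.free (R := ModSite.ringSh (O.over W)) I' ⟶ SheafOfModules.free I'') :
    lc x hx (α ≫ β) = lc x hx β ∘ₗ lc x hx α := by
  apply Finsupp.lhom_ext
  intro i b
  rw [LinearMap.comp_apply]
  unfold lc
  rw [Finsupp.linearCombination_single, Finsupp.linearCombination_single, map_smul,
    Finsupp.linearCombination_apply, row_comp]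

lemma lc_id (x : X) (hx : x ∈ W) {I : Type u} :
    lc x hx (𝟙 (SheafOfModules.free (R := ModSite.ringSh (O.over W)) I)) = LinearMap.id := by
  apply Finsupp.lhom_ext
  intro i b
  unfold lc
  rw [Finsupp.linearCombination_single, LinearMap.id_apply]
  have : row x hx (𝟙 (SheafOfModules.free (R := ModSite.ringSh (O.over W)) I)) i =
      Finsupp.single i 1 := by
    ext j
    rw [row_apply, entry_id, Finsupp.single_apply]
  rw [this, Finsupp.smul_single, smul_eq_mul, mul_one]

/-- Isomorphic free modules over a neighbourhood of a point with nonzero stalk have index sets of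
the same cardinality. -/
theorem mk_eq_of_iso (x : X) (hx : x ∈ W) [Nontrivial (Rx O x)] {I I' : Type u}
    (α : SheafOfModules.free (R := ModSite.ringSh (O.over W)) I ≅ SheafOfModules.free I') :
    Cardinal.mk I = Cardinal.mk I' := by
  let e : (I →₀ Rx O x) ≃ₗ[Rx O x] (I' →₀ Rx O x) :=
    LinearEquiv.ofLinearMap (lc x hx α.hom) (lc x hx α.inv)
      (by rw [← lc_comp, α.inv_hom_id, lc_id]) (by rw [← lc_comp, α.hom_inv_id, lc_id])
  have h := e.rank_eq
  rw [rank_finsupp_self', rank_finsupp_self'] at h
  exact h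

end Slice


section Main

open Groth.Agent.H34.ModGenP

variable {X : TopCat.{u}} (O : Sheaf (Opens.grothendieckTopology X) CommRingCat.{u})

/-- Two trivialisations of a module near a point with nonzero stalk have index sets of the same
cardinality. -/
theorem mk_eq_of_two_trivialisations (F : ModSite.Mod O) (x : X) [Nontrivial (Rx O x)]
    {U U' : Opens X} (hxU : x ∈ U) (hxU' : x ∈ U') {I I' : Type u}
    (θ : (ModSite.restr O U).obj F ≅ SheafOfModules.free I)
    (θ' : (ModSite.restr O U').obj F ≅ SheafOfModules.free I') :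
    Cardinal.mk I = Cardinal.mk I' := by
  have h1 : FreeP (fun K : Type u => Cardinal.mk K = Cardinal.mk I) ((ModSite.restr O U).obj F) :=
    ⟨I, rfl, ⟨θ.symm⟩⟩
  have h2 : FreeP (fun K : Type u => Cardinal.mk K = Cardinal.mk I')
      ((ModSite.restr O U').obj F) := ⟨I', rfl, ⟨θ'.symm⟩⟩
  obtain ⟨K, hK, ⟨e⟩⟩ := h1.restr (homOfLE (inf_le_left : U ⊓ U' ≤ U))
  obtain ⟨K', hK', ⟨e'⟩⟩ := h2.restr (homOfLE (inf_le_right : U ⊓ U' ≤ U'))
  have h3 := mk_eq_of_iso (W := U ⊓ U') x ⟨hxU, hxU'⟩ (e ≪≫ e'.symm)
  rw [← hK, ← hK', h3]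

theorem exists_locallyConstant_rank (hO : ∀ x : X, Nontrivial (Rx O x)) (F : ModSite.Mod O)
    [SheafOfModules.IsLocallyFree (R := ModSite.ringSh O) F] :
    ∃ rk : X → ℕ∞, IsLocallyConstant rk ∧
      ∀ (x : X) (U : Opens X) (I : Type u), x ∈ U →
        Nonempty ((ModSite.restr O U).obj F ≅ SheafOfModules.free I) → ENat.card I = rk x := by
  have hloc : ∀ x : X, ∃ U : Opens X, x ∈ U ∧
      FreeP (fun _ => True) ((ModSite.restr O U).obj F) :=
    fun x => exists_nhd_of_sieve (fun U => FreeP (fun _ => True) ((ModSite.restr O U).obj F))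
      (locP_freeP_of_isLocallyFree F) x
  choose U hxU hU using hloc
  choose I _ hI using hU
  have key : ∀ (x : X) (V : Opens X) (K : Type u), x ∈ V →
      Nonempty ((ModSite.restr O V).obj F ≅ SheafOfModules.free K) →
      ∀ y : X, y ∈ V → ENat.card K = ENat.card (I y) := by
    rintro x V K - ⟨θ⟩ y hyV
    obtain ⟨e⟩ := hI y
    have := hO y
    have h := mk_eq_of_two_trivialisations O F y hyV (hxU y) θ e.symm
    unfold ENat.card
    rw [h]
  refine ⟨fun x => ENat.card (I x), ?_, fun x V K hxV hθ => key x V K hxV hθ x hxV⟩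
  rw [IsLocallyConstant.iff_exists_open]
  intro x
  refine ⟨U x, (U x).2, hxU x, fun y hy => ?_⟩
  obtain ⟨e⟩ := hI x
  exact ((key x (U x) (I x) (hxU x) ⟨e.symm⟩ y hy).symm.trans
    (key x (U x) (I x) (hxU x) ⟨e.symm⟩ x (hxU x)))

end Main

end Groth.Agent.H34.ModRank
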