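import Groth.Agent.H34.ModStalkFree
import Mathlib.RingTheory.LocalRing.Module
import Mathlib.LinearAlgebra.Matrix.ToLin
import Mathlib.Topology.Sheaves.Stalks

/-!
# A direct summand of a finite locally free module on a locally ringed space is locally free
-/

set_option autoImplicit false
universe u
open CategoryTheory CategoryTheory.Limits Opposite

namespace Groth.Agent.H34.ModRetract

open Groth.Agent.H45 Groth.Agent.H45.FinFree Groth.Agent.H34.ModCoprod Groth.Agent.H34.ModFilt
  Groth.Agent.H34.ModFT Groth.Agent.H34.ModFiltHom Groth.Agent.H34.ModStalkFree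

theorem exists_factor_of_idempotent {R : Type u} [CommRing R] [IsLocalRing R] {K : Type*}
    [Fintype K] [DecidableEq K]
    (M : Matrix K K R) (hM : M * M = M) :
    ∃ (r : ℕ) (A : Matrix K (Fin r) R) (B : Matrix (Fin r) K R),
      A * B = M ∧ B * A = 1 := by
  let f : (K → R) →ₗ[R] (K → R) := Matrix.toLin' M
  have hf : f ∘ₗ f = f := by
    rw [← Matrix.toLin'_mul, hM]
  let P := LinearMap.range f
  let corestr : (K → R) →ₗ[R] P := f.rangeRestrict
  let incl : P →ₗ[R] (K → R) := P.subtype
  have h1 : incl ∘ₗ corestr = f := LinearMap.subtype_comp_codRestrict _ _ _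
  have h2 : corestr ∘ₗ incl = LinearMap.id := by
    apply LinearMap.ext
    rintro ⟨y, z, rfl⟩
    apply Subtype.ext
    change f (f z) = f z
    exact LinearMap.congr_fun hf z
  have hproj : Module.Projective R P := Module.Projective.of_split incl corestr h2
  have hfin : Module.Finite R P := inferInstance
  have hfree : Module.Free R P := Module.free_of_flat_of_isLocalRing
  let r := Module.finrank R P
  let b : Module.Basis (Fin r) R P := Module.finBasis R P
  let φ : P ≃ₗ[R] (Fin r → R) := b.equivFun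
  refine ⟨r, LinearMap.toMatrix' (incl ∘ₗ φ.symm.toLinearMap),
    LinearMap.toMatrix' (φ.toLinearMap ∘ₗ corestr), ?_, ?_⟩
  · rw [← LinearMap.toMatrix'_comp]
    have : (incl ∘ₗ φ.symm.toLinearMap) ∘ₗ (φ.toLinearMap ∘ₗ corestr) = f := by
      rw [← h1]
      ext v
      simp
    rw [this]
    exact LinearMap.toMatrix'_toLin' M
  · rw [← LinearMap.toMatrix'_comp]
    have : (φ.toLinearMap ∘ₗ corestr) ∘ₗ (incl ∘ₗ φ.symm.toLinearMap) = LinearMap.id := by
      apply LinearMap.ext
      intro v
      have h3 : corestr (incl (φ.symm v)) = φ.symm v := LinearMap.congr_fun h2 (φ.symm v)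
      change φ (corestr (incl (φ.symm v))) = v
      rw [h3, LinearEquiv.apply_symm_apply]
    rw [this]
    exact LinearMap.toMatrix'_id


section Site

variable {C : Type u} [SmallCategory C] {J : GrothendieckTopology C} {O : Sheaf J CommRingCat.{u}}

/-- Coordinates of a composition of endomorphisms of a finite free module. -/
lemma coord_comp {W : C} {I : Type u} [Fintype I]
    (ρ σ : SheafOfModules.free (R := ModSite.ringSh (O.over W)) I ⟶ SheafOfModules.free I)
    (b d : I) :
    coord d (freeHomEquivTop _ (ρ ≫ σ) b) =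
      ∑ a, coord a (freeHomEquivTop _ ρ b) * coord d (freeHomEquivTop _ σ a) := by
  rw [freeHomEquivTop_comp, expand]
  refine (hom_sum_smul (((forg (O.over W)).map (proj O W I d)).app (op (top W)))
    Finset.univ _ _).trans ?_
  rfl

/-- The presentation of a retract of a finite free module on a slice by the complementary
idempotent. -/
theorem exists_idempotent_presentation {W : C} {F H : ModSite.Mod O} {n : ℕ}
    (θ : (ModSite.restr O W).obj H ≅ SheafOfModules.free (ULift.{u} (Fin n)))
    (i : F ⟶ H) (p : H ⟶ F) (hip : i ≫ p = 𝟙 F) :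
    ∃ (π : SheafOfModules.free (ULift.{u} (Fin n)) ⟶ (ModSite.restr O W).obj F)
      (ρ : SheafOfModules.free (R := ModSite.ringSh (O.over W)) (ULift.{u} (Fin n)) ⟶
        SheafOfModules.free (ULift.{u} (Fin n)))
      (w : ρ ≫ π = 0) (_ : IsColimit (CokernelCofork.ofπ π w)), ρ ≫ ρ = ρ := by
  let pW := (ModSite.restr O W).map p
  let iW := (ModSite.restr O W).map i
  have hipW : iW ≫ pW = 𝟙 _ := by
    rw [← Functor.map_comp, hip, CategoryTheory.Functor.map_id]
  let π := θ.inv ≫ pW
  let E := θ.inv ≫ pW ≫ iW ≫ θ.hom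
  have hEπ : E ≫ π = π := by
    simp only [E, π, Category.assoc, Iso.hom_inv_id_assoc]
    rw [hipW, Category.comp_id]
  have hEE : E ≫ E = E := by
    simp only [E, Category.assoc, Iso.hom_inv_id_assoc]
    rw [reassoc_of% hipW]
  let ρ := 𝟙 _ - E
  have w : ρ ≫ π = 0 := by
    simp only [ρ, Preadditive.sub_comp, Category.id_comp, hEπ, sub_self]
  have hρρ : ρ ≫ ρ = ρ := by
    simp only [ρ, Preadditive.sub_comp, Preadditive.comp_sub, Category.id_comp, Category.comp_id,
      hEE, sub_self, sub_zero]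
  have hepi : Epi π := by
    have : IsSplitEpi pW := ⟨⟨iW, hipW⟩⟩
    infer_instance
  refine ⟨π, ρ, w, ?_, hρρ⟩
  refine CokernelCofork.IsColimit.ofπ _ _ (fun {Z} q _ => iW ≫ θ.hom ≫ q) (fun {Z} q hq => ?_)
    (fun {Z} q hq m hm => ?_)
  · have h1 : E ≫ q = q := by
      have : (𝟙 _ - E) ≫ q = 0 := hq
      rw [Preadditive.sub_comp, Category.id_comp, sub_eq_zero] at this
      exact this.symm
    simp only [π, Category.assoc]
    simpa only [E, Category.assoc] using h1
  · rw [← cancel_epi π, hm]
    have h1 : E ≫ q = q := by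
      have : (𝟙 _ - E) ≫ q = 0 := hq
      rw [Preadditive.sub_comp, Category.id_comp, sub_eq_zero] at this
      exact this.symm
    simp only [π, Category.assoc]
    simpa only [E, Category.assoc] using h1.symm

/-- The coordinate matrix of an endomorphism of a finite free module: row `b` holds the
coordinates of the image of the `b`-th generator. -/
noncomputable def cmat {W : C} {K : Type u}
    (ρ : SheafOfModules.free (R := ModSite.ringSh (O.over W)) K ⟶ SheafOfModules.free K) :
    Matrix K K ((O.over W).obj.obj (op (top W))) :=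
  fun b a => coord a (freeHomEquivTop _ ρ b)

lemma cmat_mul_self {W : C} {K : Type u} [Fintype K]
    (ρ : SheafOfModules.free (R := ModSite.ringSh (O.over W)) K ⟶ SheafOfModules.free K)
    (hρ : ρ ≫ ρ = ρ) : cmat ρ * cmat ρ = cmat ρ := by
  ext b d
  rw [Matrix.mul_apply]
  change ∑ a, coord a (freeHomEquivTop _ ρ b) * coord d (freeHomEquivTop _ ρ a) =
    coord d (freeHomEquivTop _ ρ b)
  rw [← coord_comp, hρ]

/-- A module presented by an idempotent matrix whose complement factors through rank `r`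
is free of rank `r`. -/
theorem nonempty_iso_free_of_matrices {W : C} {F : ModSite.Mod O} {K : Type u} [Fintype K]
    [DecidableEq K]
    (π : SheafOfModules.free K ⟶ (ModSite.restr O W).obj F)
    (ρ : SheafOfModules.free (R := ModSite.ringSh (O.over W)) K ⟶ SheafOfModules.free K)
    (w : ρ ≫ π = 0) (hcok : IsColimit (CokernelCofork.ofπ π w)) (r : ℕ)
    (A : Matrix K (Fin r) ((O.over W).obj.obj (op (top W))))
    (B : Matrix (Fin r) K ((O.over W).obj.obj (op (top W))))
    (hAB : A * B = 1 - cmat ρ) (hBA : B * A = 1) :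
    Nonempty ((ModSite.restr O W).obj F ≅ SheafOfModules.free (ULift.{u} (Fin r))) := by
  let e : K → (pre ((ModSite.restr O W).obj F)).obj (op (top W)) := fun a => freeHomEquivTop _ π a
  have hrel : ∀ b, ∑ a, cmat ρ b a • e a = 0 := sum_coord_smul_eq_zero π ρ w
  refine nonempty_iso_free_of_sections π ρ w hcok r (fun i => ∑ a, B i a • e a)
    (fun a i => A a i) (fun i a => B i a) ?_ (fun i => rfl) ?_ ?_
  · intro a
    change e a = ∑ i, A a i • ∑ b, B i b • e b
    simp_rw [Finset.smul_sum, smul_smul]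
    rw [Finset.sum_comm]
    simp_rw [← Finset.sum_smul]
    have h1 : ∀ b, ∑ i, A a i * B i b = (1 - cmat ρ) a b := fun b => by
      rw [← hAB, Matrix.mul_apply]
    simp_rw [h1, Matrix.sub_apply, sub_smul, Finset.sum_sub_distrib, hrel a, sub_zero,
      Matrix.one_apply, ite_smul, one_smul, zero_smul]
    simp
  · intro i j
    have := congrFun (congrFun hBA i) j
    rw [Matrix.mul_apply, Matrix.one_apply] at this
    exact this
  · intro b i
    have h1 : cmat ρ * A = 0 := by
      have : cmat ρ = 1 - A * B := by rw [hAB]; abel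
      rw [this, Matrix.sub_mul, Matrix.one_mul, Matrix.mul_assoc, hBA, Matrix.mul_one, sub_self]
    have := congrFun (congrFun h1 b) i
    rw [Matrix.mul_apply] at this
    exact this

end Site

section Top

open TopologicalSpace

variable {X : TopCat.{u}}

lemma mem_finset_inf_opens' {ι : Type*} (s : Finset ι) (V : ι → Opens X) (x : X)
    (h : ∀ i ∈ s, x ∈ V i) : x ∈ s.inf V := by
  classical
  induction s using Finset.induction_on with
  | empty => simp
  | insert i s hi ih =>
    rw [Finset.inf_insert]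
    exact ⟨h i (Finset.mem_insert_self i s), ih (fun j hj => h j (Finset.mem_insert_of_mem hj))⟩

variable (P : TopCat.Presheaf CommRingCat.{u} X) (x : X)

/-- Finitely many elements of a stalk are germs of sections over a common neighbourhood. -/
lemma exists_common_sections (U₀ : Opens X) (hx₀ : x ∈ U₀) {ι : Type*} [Finite ι]
    (f : ι → P.stalk x) :
    ∃ (V : Opens X) (_ : V ≤ U₀) (hx : x ∈ V) (r : ι → P.obj (op V)),
      ∀ i, P.germ V x hx (r i) = f i := by
  classical
  have : Fintype ι := Fintype.ofFinite ι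
  have h := fun i => P.exists_germ_eq (f i)
  choose U m s hs using h
  let V : Opens X := U₀ ⊓ Finset.univ.inf U
  have hxV : x ∈ V := ⟨hx₀, mem_finset_inf_opens' _ _ _ (fun i _ => m i)⟩
  have hVU : ∀ i, V ≤ U i := fun i => inf_le_right.trans (Finset.inf_le (Finset.mem_univ i))
  refine ⟨V, inf_le_left, hxV, fun i => P.map (homOfLE (hVU i)).op (s i), fun i => ?_⟩
  rw [TopCat.Presheaf.germ_res_apply]
  exact hs i

/-- Finitely many equalities of germs hold on a common neighbourhood. -/
lemma exists_common_eq_sections (V : Opens X) (hx : x ∈ V) {ι : Type*} [Finite ι]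
    (s t : ι → P.obj (op V)) (h : ∀ i, P.germ V x hx (s i) = P.germ V x hx (t i)) :
    ∃ (V' : Opens X) (hV' : V' ≤ V) (_ : x ∈ V'),
      ∀ i, P.map (homOfLE hV').op (s i) = P.map (homOfLE hV').op (t i) := by
  classical
  have : Fintype ι := Fintype.ofFinite ι
  have h' := fun i => P.germ_eq x hx hx (s i) (t i) (h i)
  choose W m iU iV hW using h'
  let V' : Opens X := V ⊓ Finset.univ.inf W
  have hxV' : x ∈ V' := ⟨hx, mem_finset_inf_opens' _ _ _ (fun i _ => m i)⟩
  have hV'W : ∀ i, V' ≤ W i := fun i => inf_le_right.trans (Finset.inf_le (Finset.mem_univ i))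
  refine ⟨V', inf_le_left, hxV', fun i => ?_⟩
  have e1 : homOfLE (inf_le_left : V' ≤ V) = homOfLE (hV'W i) ≫ iU i := Subsingleton.elim _ _
  have e2 : homOfLE (inf_le_left : V' ≤ V) = homOfLE (hV'W i) ≫ iV i := Subsingleton.elim _ _
  have h1 : P.map (homOfLE (inf_le_left : V' ≤ V)).op (s i) =
      P.map (homOfLE (hV'W i)).op (P.map (iU i).op (s i)) := by
    rw [e1, op_comp, Functor.map_comp, ConcreteCategory.comp_apply]
  have h2 : P.map (homOfLE (inf_le_left : V' ≤ V)).op (t i) =
      P.map (homOfLE (hV'W i)).op (P.map (iV i).op (t i)) := by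
    rw [e2, op_comp, Functor.map_comp, ConcreteCategory.comp_apply]
  rw [h1, h2, hW i]

theorem exists_nbhd_matrices [IsLocalRing (P.stalk x)] (U : Opens X) (hxU : x ∈ U)
    {K : Type*} [Fintype K] [DecidableEq K]
    (M : Matrix K K (P.obj (op U))) (hM : M * M = M) :
    ∃ (V : Opens X) (hV : V ≤ U) (_ : x ∈ V) (r : ℕ) (A : Matrix K (Fin r) (P.obj (op V)))
      (B : Matrix (Fin r) K (P.obj (op V))),
      A * B = M.map (P.map (homOfLE hV).op).hom ∧ B * A = 1 := by
  classical
  let g : P.obj (op U) →+* P.stalk x := (P.germ U x hxU).hom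
  have hM' : M.map g * M.map g = M.map g := by rw [← Matrix.map_mul, hM]
  obtain ⟨r, A₀, B₀, hAB₀, hBA₀⟩ := exists_factor_of_idempotent (M.map g) hM'
  obtain ⟨V, hVU, hxV, s, hs⟩ := exists_common_sections P x U hxU
    (ι := (K × Fin r) ⊕ (Fin r × K))
    (fun j => Sum.elim (fun q => A₀ q.1 q.2) (fun q => B₀ q.1 q.2) j)
  let gV : P.obj (op V) →+* P.stalk x := (P.germ V x hxV).hom
  let A₁ : Matrix K (Fin r) (P.obj (op V)) := fun a i => s (Sum.inl (a, i))
  let B₁ : Matrix (Fin r) K (P.obj (op V)) := fun i a => s (Sum.inr (i, a))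
  have hA₁ : A₁.map gV = A₀ := by
    ext a i
    exact hs (Sum.inl (a, i))
  have hB₁ : B₁.map gV = B₀ := by
    ext i a
    exact hs (Sum.inr (i, a))
  obtain ⟨V', hV', hxV', heq⟩ := exists_common_eq_sections P x V hxV
    (ι := (K × K) ⊕ (Fin r × Fin r))
    (fun j => Sum.elim (fun q => (A₁ * B₁) q.1 q.2) (fun q => (B₁ * A₁) q.1 q.2) j)
    (fun j => Sum.elim (fun q => P.map (homOfLE hVU).op (M q.1 q.2))
      (fun q => (1 : Matrix (Fin r) (Fin r) (P.obj (op V))) q.1 q.2) j) (by
    rintro (⟨a, b⟩ | ⟨i, j⟩)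
    · change gV ((A₁ * B₁) a b) = P.germ V x hxV (P.map (homOfLE hVU).op (M a b))
      rw [TopCat.Presheaf.germ_res_apply]
      have h1 : (A₁ * B₁).map gV = M.map g := by
        rw [Matrix.map_mul, hA₁, hB₁, hAB₀]
      exact congrFun (congrFun h1 a) b
    · change gV ((B₁ * A₁) i j) = gV ((1 : Matrix (Fin r) (Fin r) (P.obj (op V))) i j)
      have h1 : (B₁ * A₁).map gV = (1 : Matrix (Fin r) (Fin r) (P.obj (op V))).map gV := by
        rw [Matrix.map_mul, hA₁, hB₁, hBA₀, Matrix.map_one _ (map_zero gV) (map_one gV)]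
      exact congrFun (congrFun h1 i) j)
  let res : P.obj (op V) →+* P.obj (op V') := (P.map (homOfLE hV').op).hom
  refine ⟨V', hV'.trans hVU, hxV', r, A₁.map res, B₁.map res, ?_, ?_⟩
  · rw [← Matrix.map_mul]
    ext a b
    refine (heq (Sum.inl (a, b))).trans ?_
    change P.map (homOfLE hV').op (P.map (homOfLE hVU).op (M a b)) = _
    rw [← ConcreteCategory.comp_apply, ← Functor.map_comp]
    rfl
  · rw [← Matrix.map_mul]
    ext i j
    refine (heq (Sum.inr (i, j))).trans ?_
    change res ((1 : Matrix (Fin r) (Fin r) (P.obj (op V))) i j) = _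
    have h1 : (1 : Matrix (Fin r) (Fin r) (P.obj (op V))).map res = 1 :=
      Matrix.map_one _ (map_zero res) (map_one res)
    exact congrFun (congrFun h1 i) j


/-- A direct summand of a finite locally free module on a ringed space with local stalks is
finite locally free. -/
theorem locallyFree_of_retract (O : Sheaf (Opens.grothendieckTopology X) CommRingCat.{u})
    (hO : ∀ x : X, IsLocalRing (TopCat.Presheaf.stalk (C := CommRingCat.{u}) O.obj x))
    {F H : ModSite.Mod O}
    (hH : ∀ x : X, ∃ (U : Opens X) (n : ℕ), x ∈ U ∧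
      Nonempty ((ModSite.restr O U).obj H ≅ SheafOfModules.free (ULift.{u} (Fin n))))
    (i : F ⟶ H) (p : H ⟶ F) (hip : i ≫ p = 𝟙 F) (x : X) :
    ∃ (U : Opens X) (n : ℕ), x ∈ U ∧
      Nonempty ((ModSite.restr O U).obj F ≅ SheafOfModules.free (ULift.{u} (Fin n))) := by
  classical
  obtain ⟨U, n, hxU, ⟨θ⟩⟩ := hH x
  obtain ⟨π, ρ, w, hcok, hρρ⟩ := exists_idempotent_presentation θ i p hip
  have : IsLocalRing (TopCat.Presheaf.stalk (C := CommRingCat.{u}) O.obj x) := hO x
  let M : Matrix (ULift.{u} (Fin n)) (ULift.{u} (Fin n))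
    ((O.obj : TopCat.Presheaf CommRingCat.{u} X).obj (op U)) :=
    (1 - cmat ρ : Matrix (ULift.{u} (Fin n)) (ULift.{u} (Fin n))
      ((O.over U).obj.obj (op (top U))))
  have hM : M * M = M := by
    have hc : cmat ρ * cmat ρ = cmat ρ := cmat_mul_self ρ hρρ
    change (1 - cmat ρ) * (1 - cmat ρ) = 1 - cmat ρ
    rw [Matrix.sub_mul, Matrix.mul_sub, Matrix.mul_sub, Matrix.one_mul, Matrix.one_mul,
      Matrix.mul_one, hc, sub_self, sub_zero]
  obtain ⟨V, hV, hxV, r, A, B, hAB, hBA⟩ :=
    exists_nbhd_matrices (O.obj : TopCat.Presheaf CommRingCat.{u} X) x U hxU M hM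
  obtain ⟨π', ρ', w', hcok', -, hρ'⟩ :=
    exists_restricted_presentation (homOfLE hV) π ρ w hcok
  refine ⟨V, r, hxV, nonempty_iso_free_of_matrices π' ρ' w' hcok' r A B ?_ hBA⟩
  refine hAB.trans ?_
  let res : (O.obj : TopCat.Presheaf CommRingCat.{u} X).obj (op U) →+*
    (O.obj : TopCat.Presheaf CommRingCat.{u} X).obj (op V) := (O.obj.map (homOfLE hV).op).hom
  have h1 : (1 : Matrix (ULift.{u} (Fin n)) (ULift.{u} (Fin n)) _).map res = 1 :=
    Matrix.map_one _ (map_zero res) (map_one res)
  let cU : Matrix (ULift.{u} (Fin n)) (ULift.{u} (Fin n))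
    ((O.obj : TopCat.Presheaf CommRingCat.{u} X).obj (op U)) := cmat ρ
  let cV : Matrix (ULift.{u} (Fin n)) (ULift.{u} (Fin n))
    ((O.obj : TopCat.Presheaf CommRingCat.{u} X).obj (op V)) := cmat ρ'
  have h2 : cU.map res = cV := by
    ext b a
    exact (hρ' a b).symm
  change (1 - cU).map res = 1 - cV
  rw [Matrix.map_sub (f := res) (fun a b => map_sub res a b), h1, h2]

end Top

end Groth.Agent.H34.ModRetract
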