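import Groth.Agent.H34.ModFiltHom
import Groth.Agent.H45.SheafTensor.PointStalkFlat

/-!
# A finitely presented module with a free stalk is free near the point
-/

set_option autoImplicit false
universe u
open CategoryTheory CategoryTheory.Limits Opposite

namespace Groth.Agent.H34.ModStalkFree

open Groth.Agent.H45 Groth.Agent.H45.FinFree Groth.Agent.H34.ModCoprod Groth.Agent.H34.ModFilt
  Groth.Agent.H34.ModFT Groth.Agent.H34.ModFiltHom

section Generic

variable {C : Type u} [SmallCategory C] {J : GrothendieckTopology C}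
  (p : GrothendieckTopology.Point.{u} J)
  {A : Type (u + 1)} [Category.{u} A] [HasColimitsOfSize.{u, u} A]
  {FC : A → A → Type*} {CC : A → Type u}
  [∀ (X Y : A), FunLike (FC X Y) (CC X) (CC Y)]
  [ConcreteCategory.{u} A FC] [PreservesFilteredColimitsOfSize.{u, u} (forget A)]

/-- Finitely many equalities of germs hold on a common neighbourhood. -/
theorem exists_common_eq (P : Cᵒᵖ ⥤ A) (X₀ : C) (x₀ : p.fiber.obj X₀) {ι : Type*} [Finite ι]
    (s t : ι → ToType (P.obj (op X₀)))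
    (h : ∀ i, p.toPresheafFiber X₀ x₀ P (s i) = p.toPresheafFiber X₀ x₀ P (t i)) :
    ∃ (X : C) (g : X ⟶ X₀) (x : p.fiber.obj X) (_ : p.fiber.map g x = x₀),
      ∀ i, P.map g.op (s i) = P.map g.op (t i) := by
  classical
  have : Fintype ι := Fintype.ofFinite ι
  have key : ∀ T : Finset ι, ∃ (X : C) (g : X ⟶ X₀) (x : p.fiber.obj X) (_ : p.fiber.map g x = x₀),
      ∀ i ∈ T, P.map g.op (s i) = P.map g.op (t i) := by
    intro T
    induction T using Finset.induction_on with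
    | empty => exact ⟨X₀, 𝟙 X₀, x₀, by simp, fun i hi => absurd hi (Finset.notMem_empty i)⟩
    | insert a T ha ih =>
      obtain ⟨X, g, x, hx, hX⟩ := ih
      have h1 : p.toPresheafFiber X x P (P.map g.op (s a)) =
          p.toPresheafFiber X x P (P.map g.op (t a)) := by
        rw [p.toPresheafFiber_w_apply g x P (s a), p.toPresheafFiber_w_apply g x P (t a), hx]
        exact h a
      obtain ⟨Y, g', y, hy, hY⟩ := (p.toPresheafFiber_eq_iff' (P := P) X x _ _).1 h1
      refine ⟨Y, g' ≫ g, y, ?_, fun i hi => ?_⟩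
      · rw [Functor.map_comp_apply, hy, hx]
      · rw [op_comp, Functor.map_comp, ConcreteCategory.comp_apply, ConcreteCategory.comp_apply]
        rcases Finset.mem_insert.1 hi with rfl | hi
        · exact hY
        · exact congrArg (P.map g'.op) (hX i hi)
  obtain ⟨X, g, x, hx, hX⟩ := key Finset.univ
  exact ⟨X, g, x, hx, fun i => hX i (Finset.mem_univ i)⟩

/-- Finitely many equalities of germs for two presheaves hold on a common neighbourhood. -/
theorem exists_common_eq₂ {A' : Type (u + 1)} [Category.{u} A'] [HasColimitsOfSize.{u, u} A']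
    {FC' : A' → A' → Type*} {CC' : A' → Type u}
    [∀ (X Y : A'), FunLike (FC' X Y) (CC' X) (CC' Y)]
    [ConcreteCategory.{u} A' FC'] [PreservesFilteredColimitsOfSize.{u, u} (forget A')]
    (P : Cᵒᵖ ⥤ A) (Q : Cᵒᵖ ⥤ A') (X₀ : C) (x₀ : p.fiber.obj X₀) {ι ι' : Type*} [Finite ι]
    [Finite ι']
    (s t : ι → ToType (P.obj (op X₀))) (s' t' : ι' → ToType (Q.obj (op X₀)))
    (h : ∀ i, p.toPresheafFiber X₀ x₀ P (s i) = p.toPresheafFiber X₀ x₀ P (t i))
    (h' : ∀ i, p.toPresheafFiber X₀ x₀ Q (s' i) = p.toPresheafFiber X₀ x₀ Q (t' i)) :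
    ∃ (X : C) (g : X ⟶ X₀) (x : p.fiber.obj X) (_ : p.fiber.map g x = x₀),
      (∀ i, P.map g.op (s i) = P.map g.op (t i)) ∧
        ∀ i, Q.map g.op (s' i) = Q.map g.op (t' i) := by
  obtain ⟨X₁, g₁, x₁, hx₁, H₁⟩ := exists_common_eq p P X₀ x₀ s t h
  have h'' : ∀ i, p.toPresheafFiber X₁ x₁ Q (Q.map g₁.op (s' i)) =
      p.toPresheafFiber X₁ x₁ Q (Q.map g₁.op (t' i)) := by
    intro i
    rw [p.toPresheafFiber_w_apply g₁ x₁ Q (s' i), p.toPresheafFiber_w_apply g₁ x₁ Q (t' i), hx₁]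
    exact h' i
  obtain ⟨X₂, g₂, x₂, hx₂, H₂⟩ := exists_common_eq p Q X₁ x₁ _ _ h''
  refine ⟨X₂, g₂ ≫ g₁, x₂, ?_, fun i => ?_, fun i => ?_⟩
  · rw [Functor.map_comp_apply, hx₂, hx₁]
  · rw [op_comp, Functor.map_comp, ConcreteCategory.comp_apply, ConcreteCategory.comp_apply]
    exact congrArg (P.map g₂.op) (H₁ i)
  · rw [op_comp, Functor.map_comp, ConcreteCategory.comp_apply, ConcreteCategory.comp_apply]
    exact H₂ i

end Generic

section Alg

variable {R : Type u} [CommRing R] {M : Type u} [AddCommGroup M] [Module R M] {r : ℕ}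
  (hx : M ≃ₗ[R] (Fin r → R))

lemma eq_sum_basis (m : M) : m = ∑ i, hx m i • hx.symm (Pi.single i 1) := by
  apply hx.injective
  rw [map_sum]
  simp_rw [map_smul, LinearEquiv.apply_symm_apply]
  funext j
  simp [Finset.sum_apply, Pi.single_apply]

lemma coeff_eq_zero (c : Fin r → R) (h : ∑ i, c i • hx.symm (Pi.single i 1) = 0) (i : Fin r) :
    c i = 0 := by
  have h1 := congrArg hx h
  rw [map_sum, map_zero] at h1
  simp_rw [map_smul, LinearEquiv.apply_symm_apply] at h1
  have h2 := congrFun h1 i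
  simpa [Finset.sum_apply, Pi.single_apply] using h2

variable {K : Type*} [Fintype K] (ε : K → M)

lemma sum_mul_coeff (c : K → R) (m : M) (h : ∑ a, c a • ε a = m) (i : Fin r) :
    ∑ a, c a * hx (ε a) i = hx m i := by
  have h1 := congrArg hx h
  rw [map_sum] at h1
  simp_rw [map_smul] at h1
  have h2 := congrFun h1 i
  simpa [Finset.sum_apply] using h2

end Alg


section Main

variable {C : Type u} [SmallCategory C] {J : GrothendieckTopology C} {O : Sheaf J CommRingCat.{u}}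
  (p : GrothendieckTopology.Point.{u} J)

lemma exists_common_pgM_eq (F : ModSite.Mod O) (X₀ : C) (x₀ : p.fiber.obj X₀) {ι : Type*}
    [Finite ι] (s t : ι → ((forg O).obj F).obj (op X₀))
    (h : ∀ i, pgM p F X₀ x₀ (s i) = pgM p F X₀ x₀ (t i)) :
    ∃ (X : C) (g : X ⟶ X₀) (x : p.fiber.obj X) (_ : p.fiber.map g x = x₀),
      ∀ i, res ((forg O).obj F) g (s i) = res ((forg O).obj F) g (t i) :=
  exists_common_eq p (ModSite.toAb F).obj X₀ x₀ s t h

lemma exists_common_pgR_eq (X₀ : C) (x₀ : p.fiber.obj X₀) {ι : Type*}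
    [Finite ι] (s t : ι → O.obj.obj (op X₀))
    (h : ∀ i, pgR p X₀ x₀ (s i) = pgR p X₀ x₀ (t i)) :
    ∃ (X : C) (g : X ⟶ X₀) (x : p.fiber.obj X) (_ : p.fiber.map g x = x₀),
      ∀ i, (O.obj.map g.op).hom (s i) = (O.obj.map g.op).hom (t i) :=
  exists_common_eq p O.obj X₀ x₀ s t h

lemma exists_pgR_common' (X₀ : C) (x₀ : p.fiber.obj X₀) {ι : Type*} [Finite ι]
    (f : ι → ModSite.stalkRing p O) :
    ∃ (X : C) (g : X ⟶ X₀) (x : p.fiber.obj X) (_ : p.fiber.map g x = x₀)
      (r : ι → O.obj.obj (op X)), ∀ i, pgR p X x (r i) = f i := by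
  classical
  have : Fintype ι := Fintype.ofFinite ι
  let e := Fintype.equivFin ι
  obtain ⟨X, g, x, hx, r, hr⟩ := exists_pgR_common p X₀ x₀ (Fintype.card ι) (fun k => f (e.symm k))
  refine ⟨X, g, x, hx, fun i => r (e i), fun i => ?_⟩
  rw [hr, Equiv.symm_apply_apply]

lemma exists_pgM_common' (F : ModSite.Mod O) (X₀ : C) (x₀ : p.fiber.obj X₀) {ι : Type*} [Finite ι]
    (f : ι → ModSite.stalkAb p F) :
    ∃ (X : C) (g : X ⟶ X₀) (x : p.fiber.obj X) (_ : p.fiber.map g x = x₀)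
      (r : ι → ((forg O).obj F).obj (op X)), ∀ i, pgM p F X x (r i) = f i := by
  classical
  have : Fintype ι := Fintype.ofFinite ι
  let e := Fintype.equivFin ι
  obtain ⟨X, g, x, hx, r, hr⟩ :=
    exists_pgM_common p F X₀ x₀ (Fintype.card ι) (fun k => f (e.symm k))
  refine ⟨X, g, x, hx, fun i => r (e i), fun i => ?_⟩
  rw [hr, Equiv.symm_apply_apply]

/-- The stalk is generated by the germs of a generating family of sections. -/
lemma exists_germ_eq_sum (F : ModSite.Mod O) (V : C) (y : p.fiber.obj V) {K : Type u} [Fintype K]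
    (e : K → ((forg O).obj F).obj (op V)) (he : SecGen F V e) (m : ModSite.stalkAb p F) :
    ∃ β : K → ModSite.stalkRing p O, m = ∑ a, β a • pgM p F V y (e a) := by
  obtain ⟨U₁, y₁, t₀, rfl⟩ := p.toPresheafFiber_jointly_surjective (P := (ModSite.toAb F).obj) m
  let t : ((forg O).obj F).obj (op U₁) := t₀
  change ∃ β : K → ModSite.stalkRing p O, pgM p F U₁ y₁ t = ∑ a, β a • pgM p F V y (e a)
  let W := IsCofiltered.min (Functor.elementsMk p.fiber V y) (Functor.elementsMk p.fiber U₁ y₁)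
  let gV := IsCofiltered.minToLeft (Functor.elementsMk p.fiber V y)
    (Functor.elementsMk p.fiber U₁ y₁)
  let gU := IsCofiltered.minToRight (Functor.elementsMk p.fiber V y)
    (Functor.elementsMk p.fiber U₁ y₁)
  obtain ⟨S, hS, hS'⟩ := he gV.1 (res ((forg O).obj F) gU.1 t)
  obtain ⟨Y, f, hf, y', hy'⟩ := p.jointly_surjective S hS W.2
  obtain ⟨ρ, hρ⟩ := hS' f hf
  refine ⟨fun a => pgR p Y y' (ρ a), ?_⟩
  have h1 : pgM p F Y y' (res ((forg O).obj F) f (res ((forg O).obj F) gU.1 t)) =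
      pgM p F U₁ y₁ t :=
    (pgM_res p F f y' _).trans
      ((congrArg (fun z => pgM p F W.1 z (res ((forg O).obj F) gU.1 t)) hy').trans
        ((pgM_res p F gU.1 W.2 t).trans (congrArg (fun z => pgM p F U₁ z t) gU.2)))
  refine h1.symm.trans ?_
  rw [hρ, pgM_sum]
  refine Finset.sum_congr rfl (fun a _ => ?_)
  refine (pgM_smul p F Y y' _ _).trans ?_
  congr 1
  refine (pgM_res p F (f ≫ gV.1) y' (e a)).trans ?_
  have h2 : p.fiber.map (f ≫ gV.1) y' = y := by
    rw [Functor.map_comp_apply, hy']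
    exact gV.2
  exact congrArg (fun z => pgM p F V z (e a)) h2

end Main

section Iso

lemma sum_smul_sum_eq {A : Type*} [CommRing A] {M : Type*} [AddCommGroup M] [Module A M]
    {K : Type*} [Fintype K] {r : ℕ} (B : K → A) (Aa : K → Fin r → A) (G : Fin r → M) (i : Fin r)
    (h : ∀ j, ∑ a, B a * Aa a j = if i = j then 1 else 0) :
    ∑ a, B a • ∑ j, Aa a j • G j = G i := by
  simp_rw [Finset.smul_sum, smul_smul]
  rw [Finset.sum_comm]
  simp_rw [← Finset.sum_smul, h]
  simp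

variable {C : Type u} [SmallCategory C] {J : GrothendieckTopology C} {O : Sheaf J CommRingCat.{u}}

/-- The `i`-th standard generator of a finite free module on a slice. -/
noncomputable def gen (W : C) (r : ℕ) (i : Fin r) :
    (pre (SheafOfModules.free (R := ModSite.ringSh (O.over W)) (ULift.{u} (Fin r)))).obj
      (op (top W)) :=
  freeHomEquivTop _ (𝟙 _) ⟨i⟩

lemma symm_app_gen {W : C} {r : ℕ} {N : ModSite.Mod (O.over W)}
    (μ : ULift.{u} (Fin r) → (pre N).obj (op (top W))) (i : Fin r) :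
    ((freeHomEquivTop N).symm μ).val.app (op (top W)) (gen (O := O) W r i) = μ ⟨i⟩ := by
  have := congrFun ((freeHomEquivTop N).apply_symm_apply μ) (ULift.up i)
  refine Eq.trans ?_ this
  change _ = freeHomEquivTop N (𝟙 _ ≫ (freeHomEquivTop N).symm μ) ⟨i⟩
  rw [freeHomEquivTop_comp]
  rfl

/-- A presented module whose generators are interchangeable with `r` sections is free of
rank `r`. -/
theorem nonempty_iso_free_of_sections {W : C} {F : ModSite.Mod O} {K R : Type u} [Fintype K]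
    (π : SheafOfModules.free K ⟶ (ModSite.restr O W).obj F)
    (ρ : SheafOfModules.free (R := ModSite.ringSh (O.over W)) R ⟶ SheafOfModules.free K)
    (w : ρ ≫ π = 0) (hcok : IsColimit (CokernelCofork.ofπ π w)) (r : ℕ)
    (s : Fin r → (pre ((ModSite.restr O W).obj F)).obj (op (top W)))
    (A : K → Fin r → (O.over W).obj.obj (op (top W)))
    (B : Fin r → K → (O.over W).obj.obj (op (top W)))
    (E1 : ∀ a, freeHomEquivTop _ π a = ∑ i, A a i • s i)
    (E2 : ∀ i, s i = ∑ a, B i a • freeHomEquivTop _ π a)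
    (E3 : ∀ i j, ∑ a, B i a * A a j = if i = j then 1 else 0)
    (E4 : ∀ b i, ∑ a, coord a (freeHomEquivTop _ ρ b) * A a i = 0) :
    Nonempty ((ModSite.restr O W).obj F ≅ SheafOfModules.free (ULift.{u} (Fin r))) := by
  classical
  let Fr := SheafOfModules.free (R := ModSite.ringSh (O.over W)) (ULift.{u} (Fin r))
  let ψ : Fr ⟶ (ModSite.restr O W).obj F := (freeHomEquivTop _).symm (fun i => s i.down)
  have hψ : ∀ i, ψ.val.app (op (top W)) (gen W r i) = s i := fun i => symm_app_gen _ i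
  let φ₀ : SheafOfModules.free K ⟶ Fr :=
    (freeHomEquivTop _).symm (fun a => ∑ i, A a i • gen W r i)
  have hφ₀ : ∀ a, freeHomEquivTop _ φ₀ a = ∑ i, A a i • gen W r i := fun a => by
    simp only [φ₀, Equiv.apply_symm_apply]
  have hρφ₀ : ρ ≫ φ₀ = 0 := by
    apply (freeHomEquivTop _).injective
    funext b
    rw [freeHomEquivTop_comp, expand, freeHomEquivTop_zero]
    simp_rw [hφ₀, Finset.smul_sum, smul_smul]
    rw [Finset.sum_comm]
    refine Finset.sum_eq_zero (fun i _ => ?_)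
    rw [← Finset.sum_smul, E4 b i, zero_smul]
  let φ : (ModSite.restr O W).obj F ⟶ Fr := hcok.desc (CokernelCofork.ofπ φ₀ hρφ₀)
  have hφ : π ≫ φ = φ₀ := hcok.fac (CokernelCofork.ofπ φ₀ hρφ₀) WalkingParallelPair.one
  have hφe : ∀ a, φ.val.app (op (top W)) (freeHomEquivTop _ π a) = ∑ i, A a i • gen W r i := by
    intro a
    rw [← freeHomEquivTop_comp, hφ, hφ₀]
  have hepi : Epi π := epi_of_isColimit_cofork hcok
  let Lψ := ((forg (O.over W)).map ψ).app (op (top W))
  let Lφ := ((forg (O.over W)).map φ).app (op (top W))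
  have hψ' : ∀ i, Lψ (gen W r i) = s i := hψ
  have hφe' : ∀ a, Lφ (freeHomEquivTop _ π a) = ∑ i, A a i • gen W r i := hφe
  have h1 : φ ≫ ψ = 𝟙 _ := by
    rw [← cancel_epi π, ← Category.assoc, hφ, Category.comp_id]
    apply (freeHomEquivTop _).injective
    funext a
    rw [freeHomEquivTop_comp, hφ₀, E1 a]
    refine (hom_sum_smul Lψ Finset.univ _ _).trans ?_
    refine Finset.sum_congr rfl (fun i _ => ?_)
    exact congrArg (fun z => A a i • z) (hψ' i)
  have h2 : ψ ≫ φ = 𝟙 _ := by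
    apply (freeHomEquivTop _).injective
    funext ⟨i⟩
    rw [freeHomEquivTop_comp]
    have e1 : freeHomEquivTop _ ψ ⟨i⟩ = s i := by
      simp only [ψ, Equiv.apply_symm_apply]
    rw [e1, E2 i]
    refine (hom_sum_smul Lφ Finset.univ _ _).trans ?_
    refine Eq.trans (Finset.sum_congr rfl (fun a _ =>
      congrArg (fun z => B i a • z) (hφe' a))) ?_
    exact sum_smul_sum_eq (B i) A (gen W r) i (E3 i)
  exact ⟨⟨φ, ψ, h1, h2⟩⟩

end Iso

section Final

variable {C : Type u} [SmallCategory C] {J : GrothendieckTopology C} {O : Sheaf J CommRingCat.{u}}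
  (p : GrothendieckTopology.Point.{u} J)

lemma pgR_one (X : C) (x : p.fiber.obj X) : pgR (O := O) p X x 1 = 1 :=
  map_one (p.toPresheafFiber X x O.obj).hom

/-- A locally finitely presented module whose stalk at a point is free of rank `r` is free of
rank `r` on a neighbourhood of the point. -/
theorem exists_nbhd_iso_free (F : ModSite.Mod O) (hFP : LocFP F) (r : ℕ)
    (hx : ModSite.stalkMod p F ≃ₗ[ModSite.stalkRing p O] (Fin r → ModSite.stalkRing p O)) :
    ∃ (V : C) (_ : p.fiber.obj V),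
      Nonempty ((ModSite.restr O V).obj F ≅ SheafOfModules.free (ULift.{u} (Fin r))) := by
  classical
  obtain ⟨⟨X₀, x₀⟩⟩ := IsCofiltered.nonempty (C := p.fiber.Elements)
  obtain ⟨S, hS, hS'⟩ := hFP X₀
  obtain ⟨U₁, f₁, hf₁, y₁, -⟩ := p.jointly_surjective S hS x₀
  obtain ⟨K, R, hK, hR, ρ, π, w, hex, hπ⟩ := hS' f₁ hf₁
  have : Fintype K := Fintype.ofFinite K
  have : Fintype R := Fintype.ofFinite R
  let e : K → ((forg O).obj F).obj (op U₁) := fun a => freeHomEquivTop _ π a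
  let c : K → R → O.obj.obj (op U₁) := fun a b => coord a (freeHomEquivTop _ ρ b)
  have hrel : ∀ b, ∑ a, c a b • e a = 0 := sum_coord_smul_eq_zero π ρ w
  have he : SecGen F U₁ e := secGen_of_epi π
  -- stalk data
  let ε : K → ModSite.stalkAb p F := fun a => pgM p F U₁ y₁ (e a)
  let bb : Fin r → ModSite.stalkAb p F := fun i => hx.symm (Pi.single i 1)
  let α : K → Fin r → ModSite.stalkRing p O := fun a i => hx (ε a) i
  have hgen := fun i => exists_germ_eq_sum p F U₁ y₁ e he (bb i)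
  choose βm hβ using hgen
  have G1 : ∀ a, ε a = ∑ i, α a i • bb i := fun a => eq_sum_basis hx (ε a)
  have G3 : ∀ i j, ∑ a, βm i a * α a j = if i = j then 1 else 0 := by
    intro i j
    have h1 := sum_mul_coeff hx ε (βm i) (bb i) (hβ i).symm j
    rw [h1]
    have h2 : hx (bb i) = Pi.single i 1 := hx.apply_symm_apply _
    rw [h2, Pi.single_apply]
    simp only [eq_comm]
  have G4 : ∀ b i, ∑ a, pgR p U₁ y₁ (c a b) * α a i = 0 := by
    intro b i
    have h0 : ∑ a, pgR p U₁ y₁ (c a b) • ε a = 0 := by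
      have := congrArg (pgM p F U₁ y₁) (hrel b)
      rw [pgM_sum, pgM_zero] at this
      refine Eq.trans (Finset.sum_congr rfl (fun a _ => ?_)) this
      exact (pgM_smul p F U₁ y₁ _ _).symm
    have h1 := sum_mul_coeff hx ε (fun a => pgR p U₁ y₁ (c a b)) 0 h0 i
    rw [h1, map_zero]
    rfl
  -- representatives
  obtain ⟨U₂, g₂, y₂, hy₂, s₂, hs₂⟩ := exists_pgM_common' p F U₁ y₁ bb
  obtain ⟨U₃, g₃, y₃, hy₃, AB, hAB⟩ := exists_pgR_common' (O := O) p U₂ y₂
    (Sum.elim (fun q : K × Fin r => α q.1 q.2) (fun q : Fin r × K => βm q.1 q.2))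
  let h₃₁ : U₃ ⟶ U₁ := g₃ ≫ g₂
  have hy₃₁ : p.fiber.map h₃₁ y₃ = y₁ := by
    rw [Functor.map_comp_apply, hy₃, hy₂]
  let e₃ : K → ((forg O).obj F).obj (op U₃) := fun a => res ((forg O).obj F) h₃₁ (e a)
  let s₃ : Fin r → ((forg O).obj F).obj (op U₃) := fun i => res ((forg O).obj F) g₃ (s₂ i)
  let A₃ : K → Fin r → O.obj.obj (op U₃) := fun a i => AB (Sum.inl (a, i))
  let B₃ : Fin r → K → O.obj.obj (op U₃) := fun i a => AB (Sum.inr (i, a))
  let c₃ : K → R → O.obj.obj (op U₃) := fun a b => (O.obj.map h₃₁.op).hom (c a b)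
  have ge : ∀ a, pgM p F U₃ y₃ (e₃ a) = ε a := fun a =>
    (pgM_res p F h₃₁ y₃ (e a)).trans (congrArg (fun z => pgM p F U₁ z (e a)) hy₃₁)
  have gs : ∀ i, pgM p F U₃ y₃ (s₃ i) = bb i := fun i =>
    (pgM_res p F g₃ y₃ (s₂ i)).trans
      ((congrArg (fun z => pgM p F U₂ z (s₂ i)) hy₃).trans (hs₂ i))
  have gA : ∀ a i, pgR p U₃ y₃ (A₃ a i) = α a i := fun a i => hAB (Sum.inl (a, i))
  have gB : ∀ i a, pgR p U₃ y₃ (B₃ i a) = βm i a := fun i a => hAB (Sum.inr (i, a))
  have gc : ∀ a b, pgR p U₃ y₃ (c₃ a b) = pgR p U₁ y₁ (c a b) := fun a b =>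
    (pgR_res p h₃₁ y₃ (c a b)).trans (congrArg (fun z => pgR p U₁ z (c a b)) hy₃₁)
  -- equations
  let sM : K ⊕ Fin r → ((forg O).obj F).obj (op U₃) := Sum.elim e₃ s₃
  let tM : K ⊕ Fin r → ((forg O).obj F).obj (op U₃) :=
    Sum.elim (fun a => ∑ i, A₃ a i • s₃ i) (fun i => ∑ a, B₃ i a • e₃ a)
  let sR : (Fin r × Fin r) ⊕ (R × Fin r) → O.obj.obj (op U₃) :=
    Sum.elim (fun q => ∑ a, B₃ q.1 a * A₃ a q.2) (fun q => ∑ a, c₃ a q.1 * A₃ a q.2)
  let tR : (Fin r × Fin r) ⊕ (R × Fin r) → O.obj.obj (op U₃) :=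
    Sum.elim (fun q => if q.1 = q.2 then 1 else 0) (fun _ => 0)
  have hMg : ∀ q, pgM p F U₃ y₃ (sM q) = pgM p F U₃ y₃ (tM q) := by
    rintro (a | i)
    · change pgM p F U₃ y₃ (e₃ a) = pgM p F U₃ y₃ (∑ i, A₃ a i • s₃ i)
      rw [ge, pgM_sum, G1 a]
      refine Finset.sum_congr rfl (fun i _ => ?_)
      rw [pgM_smul, gA, gs]
    · change pgM p F U₃ y₃ (s₃ i) = pgM p F U₃ y₃ (∑ a, B₃ i a • e₃ a)
      rw [gs, pgM_sum, hβ i]
      refine Finset.sum_congr rfl (fun a _ => ?_)
      rw [pgM_smul, gB, ge]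
  have hRg : ∀ q, pgR p U₃ y₃ (sR q) = pgR p U₃ y₃ (tR q) := by
    rintro (⟨i, j⟩ | ⟨b, i⟩)
    · change pgR p U₃ y₃ (∑ a, B₃ i a * A₃ a j) = pgR p U₃ y₃ (if i = j then 1 else 0)
      rw [pgR_sum]
      simp_rw [pgR_mul, gA, gB]
      rw [G3 i j]
      split_ifs
      · exact (pgR_one p U₃ y₃).symm
      · exact (pgR_zero p U₃ y₃).symm
    · change pgR p U₃ y₃ (∑ a, c₃ a b * A₃ a i) = pgR p U₃ y₃ 0
      rw [pgR_sum, pgR_zero]
      simp_rw [pgR_mul, gA, gc]
      exact G4 b i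
  obtain ⟨U, g, y, hy, hM, hR'⟩ := exists_common_eq₂ p (ModSite.toAb F).obj O.obj U₃ y₃
    sM tM sR tR hMg hRg
  have hM' : ∀ q, res ((forg O).obj F) g (sM q) = res ((forg O).obj F) g (tM q) := hM
  have hR'' : ∀ q, (O.obj.map g.op).hom (sR q) = (O.obj.map g.op).hom (tR q) := hR'
  let h : U ⟶ U₁ := g ≫ h₃₁
  obtain ⟨π', ρ', w', hcok', hπ', hρ'⟩ :=
    exists_restricted_presentation h π ρ w hex.gIsCokernel
  let sU : Fin r → (pre ((ModSite.restr O U).obj F)).obj (op (top U)) :=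
    fun i => res ((forg O).obj F) g (s₃ i)
  let AU : K → Fin r → (O.over U).obj.obj (op (top U)) :=
    fun a i => (O.obj.map g.op).hom (A₃ a i)
  let BU : Fin r → K → (O.over U).obj.obj (op (top U)) :=
    fun i a => (O.obj.map g.op).hom (B₃ i a)
  have hπ'' : ∀ a, freeHomEquivTop _ π' a = res ((forg O).obj F) g (e₃ a) := fun a =>
    (hπ' a).trans (res_comp h₃₁ g (e a))
  refine ⟨U, y, nonempty_iso_free_of_sections π' ρ' w' hcok' r sU AU BU ?_ ?_ ?_ ?_⟩
  · intro a
    refine (hπ'' a).trans ((hM' (Sum.inl a)).trans ?_)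
    exact (res_sum g _ _).trans (Finset.sum_congr rfl (fun i _ => res_smul g _ _))
  · intro i
    refine (hM' (Sum.inr i)).trans ?_
    refine (res_sum g _ _).trans (Finset.sum_congr rfl (fun a _ => ?_))
    refine (res_smul g _ _).trans ?_
    exact congrArg (fun z : (pre ((ModSite.restr O U).obj F)).obj (op (top U)) => BU i a • z)
      (hπ'' a).symm
  · intro i j
    have h1 := hR'' (Sum.inl (i, j))
    have h2 : (O.obj.map g.op).hom (∑ a, B₃ i a * A₃ a j) = ∑ a, BU i a * AU a j := by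
      rw [map_sum]
      exact Finset.sum_congr rfl (fun a _ => map_mul _ _ _)
    refine h2.symm.trans (h1.trans ?_)
    change (O.obj.map g.op).hom (if i = j then 1 else 0) = _
    split_ifs
    · exact map_one _
    · exact map_zero _
  · intro b i
    have h1 := hR'' (Sum.inr (b, i))
    have h2 : (O.obj.map g.op).hom (∑ a, c₃ a b * A₃ a i) =
        ∑ a, coord a (freeHomEquivTop _ ρ' b) * AU a i := by
      rw [map_sum]
      refine Finset.sum_congr rfl (fun a _ => ?_)
      rw [map_mul, hρ' a b]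
      congr 1
      exact (congrArg (fun m => m.hom (c a b)) (O.obj.map_comp h₃₁.op g.op)).symm
    refine h2.symm.trans (h1.trans ?_)
    exact map_zero _

end Final

end Groth.Agent.H34.ModStalkFree
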