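import Groth.Agent.H34.ModFP2
import Groth.Agent.H5.TensorUnit
import Groth.Agent.H31.RestrTensor

set_option autoImplicit false
universe u
open CategoryTheory CategoryTheory.Limits Opposite
open Groth.Agent.H45 Groth.Agent.H45.FinFree

namespace Groth.Agent.H34.ModTens

variable {C : Type u} [SmallCategory C] {J : GrothendieckTopology C} (O : Sheaf J CommRingCat.{u})

/-- The tensor product of two morphisms. -/
noncomputable def tmap {A A' B B' : ModSite.Mod O} (f : A ⟶ A') (g : B ⟶ B') :
    ((ModSite.tensorBi O).obj A).obj B ⟶ ((ModSite.tensorBi O).obj A').obj B' :=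
  ((ModSite.tensorBi O).map f).app B ≫ ((ModSite.tensorBi O).obj A').map g

instance (B : ModSite.Mod O) : PreservesFiniteColimits ((ModSite.tensorBi O).flip.obj B) :=
  PreservesColimitsOfSize.preservesFiniteColimits _

instance (A : ModSite.Mod O) : PreservesFiniteColimits ((ModSite.tensorBi O).obj A) :=
  PreservesColimitsOfSize.preservesFiniteColimits _

lemma epi_tmap {A A' B B' : ModSite.Mod O} (f : A ⟶ A') (g : B ⟶ B') [Epi f] [Epi g] :
    Epi (tmap O f g) := by
  have h1 : Epi (((ModSite.tensorBi O).map f).app B) :=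
    ((ModSite.tensorBi O).flip.obj B).map_epi f
  have h2 : Epi (((ModSite.tensorBi O).obj A').map g) := ((ModSite.tensorBi O).obj A').map_epi g
  exact epi_comp _ _

/-- `O ⊗ O ≅ O`. -/
noncomputable def unitTensorUnitIso :
    ((ModSite.tensorBi O).obj (ModSite.unit O)).obj (ModSite.unit O) ≅ ModSite.unit O :=
  (Groth.Agent.H5.TensorUnit.tensorRightUnitIso O).app (ModSite.unit O)

/-- `O ⊗ free I' ≅ free I'`. -/
noncomputable def unitTensorFreeIso (I' : Type u) :
    ((ModSite.tensorBi O).obj (ModSite.unit O)).obj (SheafOfModules.free I') ≅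
      SheafOfModules.free (R := ModSite.ringSh O) I' :=
  PreservesCoproduct.iso ((ModSite.tensorBi O).obj (ModSite.unit O)) _ ≪≫
    Sigma.mapIso (fun _ => unitTensorUnitIso O)

/-- An iterated coproduct of copies of the unit. -/
noncomputable def sigmaUnitIso (I I' : Type u) :
    (∐ fun _ : I => SheafOfModules.free (R := ModSite.ringSh O) I') ≅
      SheafOfModules.free (R := ModSite.ringSh O) (I × I') :=
  (@sigmaSigmaIso _ _ _ (fun _ : I => I') (fun _ _ => ModSite.unit O) (fun _ => inferInstance)
      inferInstance : (∐ fun _ : I => ∐ fun _ : I' => ModSite.unit O) ≅ _) ≪≫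
    (Sigma.whiskerEquiv (f := fun _ : (Σ _ : I, I') => ModSite.unit O)
      (g := fun _ : I × I' => ModSite.unit O) (Equiv.sigmaEquivProd I I') (fun _ => Iso.refl _))

/-- `free I ⊗ free I' ≅ free (I × I')`. -/
noncomputable def freeTensorFreeIso (I I' : Type u) :
    ((ModSite.tensorBi O).obj (SheafOfModules.free I)).obj (SheafOfModules.free I') ≅
      SheafOfModules.free (R := ModSite.ringSh O) (I × I') :=
  (PreservesCoproduct.iso ((ModSite.tensorBi O).flip.obj (SheafOfModules.free I')) _ ≪≫
    Sigma.mapIso (fun _ => unitTensorFreeIso O I')) ≪≫ sigmaUnitIso O I I'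


instance additive_tensorBi_obj (A : ModSite.Mod O) : ((ModSite.tensorBi O).obj A).Additive :=
  haveI := preservesBinaryBiproducts_of_preservesBinaryCoproducts ((ModSite.tensorBi O).obj A)
  Functor.additive_of_preservesBinaryBiproducts _

instance additive_tensorBi_flip_obj (B : ModSite.Mod O) :
    ((ModSite.tensorBi O).flip.obj B).Additive :=
  haveI := preservesBinaryBiproducts_of_preservesBinaryCoproducts ((ModSite.tensorBi O).flip.obj B)
  Functor.additive_of_preservesBinaryBiproducts _

section RightExact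

variable {𝒜 ℬ : Type*} [Category 𝒜] [Abelian 𝒜] [Category ℬ] [Abelian ℬ]

/-- A right exact functor preserves right exact sequences. -/
lemma exact_map_of_rightExact (F : 𝒜 ⥤ ℬ) [F.Additive] [PreservesFiniteColimits F]
    (S : ShortComplex 𝒜) (hS : S.Exact) [Epi S.g] : (S.map F).Exact ∧ Epi (F.map S.g) := by
  have hc := CokernelCofork.mapIsColimit _ hS.gIsCokernel F
  exact ⟨ShortComplex.exact_of_g_is_cokernel _ hc, F.map_epi S.g⟩

end RightExact

/-- Tensor product of two presentations. -/
lemma exact_tensor_presentations {R P F R' P' G : ModSite.Mod O}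
    (ρ : R ⟶ P) (π : P ⟶ F) (w : ρ ≫ π = 0) (hex : (ShortComplex.mk ρ π w).Exact) [Epi π]
    (ρ' : R' ⟶ P') (π' : P' ⟶ G) (w' : ρ' ≫ π' = 0) (hex' : (ShortComplex.mk ρ' π' w').Exact)
    [Epi π'] :
    ∃ w'' : coprod.desc (((ModSite.tensorBi O).obj P).map ρ')
        (((ModSite.tensorBi O).map ρ).app P') ≫ tmap O π π' = 0,
      (ShortComplex.mk _ _ w'').Exact := by
  have hπ' : Epi (ShortComplex.mk ρ' π' w').g := ‹Epi π'›
  have hπ : Epi (ShortComplex.mk ρ π w).g := ‹Epi π›
  obtain ⟨h1, h1'⟩ := exact_map_of_rightExact ((ModSite.tensorBi O).obj P) _ hex'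
  obtain ⟨h2, h2'⟩ := exact_map_of_rightExact ((ModSite.tensorBi O).flip.obj G) _ hex
  have h3 : Epi (((ModSite.tensorBi O).obj R).map π') := ((ModSite.tensorBi O).obj R).map_epi π'
  have hA : ((ModSite.tensorBi O).map ρ).app P' ≫ ((ModSite.tensorBi O).obj P).map π' =
      ((ModSite.tensorBi O).obj R).map π' ≫ ((ModSite.tensorBi O).map ρ).app G :=
    (((ModSite.tensorBi O).map ρ).naturality π').symm
  have h2'' : Epi (((ModSite.tensorBi O).map π).app G) := h2'
  have key := ModFT.exact_coprod_desc_of_presentation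
    (((ModSite.tensorBi O).obj P).map ρ') (((ModSite.tensorBi O).obj P).map π')
    (by rw [← Functor.map_comp, w', Functor.map_zero]) h1
    (((ModSite.tensorBi O).map ρ).app G) (((ModSite.tensorBi O).map π).app G)
    (by
      change ((ModSite.tensorBi O).flip.obj G).map ρ ≫ ((ModSite.tensorBi O).flip.obj G).map π = 0
      rw [← Functor.map_comp, w, Functor.map_zero]) h2
    (((ModSite.tensorBi O).obj R).map π') (((ModSite.tensorBi O).map ρ).app P') hA
  have e : ((ModSite.tensorBi O).obj P).map π' ≫ ((ModSite.tensorBi O).map π).app G = tmap O π π' :=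
    ((ModSite.tensorBi O).map π).naturality π'
  have H : ∀ (g : ((ModSite.tensorBi O).obj P).obj P' ⟶ ((ModSite.tensorBi O).obj F).obj G)
      (_ : ((ModSite.tensorBi O).obj P).map π' ≫ ((ModSite.tensorBi O).map π).app G = g),
      ∃ w'' : coprod.desc (((ModSite.tensorBi O).obj P).map ρ')
        (((ModSite.tensorBi O).map ρ).app P') ≫ g = 0, (ShortComplex.mk _ _ w'').Exact := by
    intro g hg
    subst hg
    exact key
  exact H _ e

end Groth.Agent.H34.ModTens
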