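import Mathlib.Algebra.Group.Hom.Defs
import Mathlib.Algebra.Group.Basic
import Mathlib.Tactic.Common
import Mathlib.Order.Basic

/-!
# The Moore horn-filling algorithm, in abstract algebraic form
-/

set_option autoImplicit false

namespace Groth.Agent.H34

section

variable {G0 G1 G2 H1 H2 : Type*} [Group G0] [Group G1] [Group G2] [Group H1] [Group H2]
  (N : ℕ)
  (d1 : ℕ → G2 →* G1) (d0 : ℕ → G1 →* G0) (s1 : ℕ → G1 →* G2) (s0 : ℕ → G0 →* G1)
  (dH : ℕ → H2 →* H1) (sH : ℕ → H1 →* H2) (f1 : G1 →* H1) (f2 : G2 →* H2)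

/-- One step of the algorithm preserves the image in `H2`. -/
lemma filler_step_f
    (F1 : ∀ j, j ≤ N → ∀ y, f1 (d1 j y) = dH j (f2 y))
    (F2 : ∀ j, j < N → ∀ x, f2 (s1 j x) = sH j (f1 x))
    (x : ℕ → G1) (w : H2) (u : G2) (hu : f2 u = w) (r a : ℕ) (hr : r ≤ N) (ha : a < N)
    (hwr : dH r w = f1 (x r)) :
    f2 (u * s1 a ((d1 r u)⁻¹ * x r)) = w := by
  rw [map_mul, F2 a ha, map_mul, map_inv, F1 r hr, hu, hwr, inv_mul_cancel, map_one, mul_one]

include N in
/-- The Moore horn-filling algorithm. -/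
theorem exists_filler
    (I1 : ∀ i j, i ≤ j → j < N → ∀ x, d0 i (d1 (j + 1) x) = d0 j (d1 i x))
    (I2 : ∀ i j, i ≤ j → j + 1 < N → ∀ x, d1 i (s1 (j + 1) x) = s0 j (d0 i x))
    (I3 : ∀ j, j < N → ∀ x, d1 j (s1 j x) = x)
    (I4 : ∀ j, j < N → ∀ x, d1 (j + 1) (s1 j x) = x)
    (I5 : ∀ i j, j < i → i < N → ∀ x, d1 (i + 1) (s1 j x) = s0 j (d0 i x))
    (F1 : ∀ j, j ≤ N → ∀ y, f1 (d1 j y) = dH j (f2 y))
    (F2 : ∀ j, j < N → ∀ x, f2 (s1 j x) = sH j (f1 x))
    (k : ℕ) (hk : k ≤ N) (x : ℕ → G1)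
    (compat : ∀ i j, i ≤ j → j < N → i ≠ k → j + 1 ≠ k → d0 i (x (j + 1)) = d0 j (x i))
    (w : H2) (hw : ∀ j, j ≤ N → j ≠ k → dH j w = f1 (x j))
    (z : G2) (hz : f2 z = w) :
    ∃ y : G2, f2 y = w ∧ ∀ j, j ≤ N → j ≠ k → d1 j y = x j := by
  -- Phase 1
  have P1 : ∀ r, r ≤ k → ∃ u : G2, f2 u = w ∧ ∀ j, j < r → d1 j u = x j := by
    intro r
    induction r with
    | zero => intro _; exact ⟨z, hz, fun j hj => absurd hj (Nat.not_lt_zero _)⟩
    | succ r ih =>
      intro hr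
      obtain ⟨u, hu, huj⟩ := ih (by omega)
      have hrN : r < N := by omega
      refine ⟨u * s1 r ((d1 r u)⁻¹ * x r), ?_, ?_⟩
      · exact filler_step_f N d1 s1 dH sH f1 f2 F1 F2 x w u hu r r (by omega) hrN
          (hw r (by omega) (by omega))
      · intro j hj
        rw [map_mul]
        rcases Nat.lt_succ_iff_lt_or_eq.mp hj with hjr | rfl
        · -- `j < r`
          obtain ⟨r', rfl⟩ : ∃ r', r = r' + 1 := ⟨r - 1, by omega⟩
          rw [I2 j r' (by omega) (by omega), map_mul, map_inv, I1 j r' (by omega) (by omega),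
            huj j hjr, compat j r' (by omega) (by omega) (by omega) (by omega), inv_mul_cancel,
            map_one, mul_one]
        · rw [I3 j hrN, mul_inv_cancel_left]
  -- Phase 2
  have P2 : ∀ t, k + t ≤ N → ∃ u : G2, f2 u = w ∧ (∀ j, j < k → d1 j u = x j) ∧
      (∀ j, N - t < j → j ≤ N → d1 j u = x j) := by
    intro t
    induction t with
    | zero =>
      intro _
      obtain ⟨u, hu, huj⟩ := P1 k (Nat.le_refl k)
      exact ⟨u, hu, huj, fun j h1 h2 => by omega⟩
    | succ t ih =>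
      intro ht
      obtain ⟨u, hu, hlow, hhigh⟩ := ih (by omega)
      obtain ⟨q', hq'⟩ : ∃ q', N - t = q' + 1 := ⟨N - t - 1, by omega⟩
      have hq'N : q' < N := by omega
      have hkq : k ≤ q' := by omega
      refine ⟨u * s1 q' ((d1 (q' + 1) u)⁻¹ * x (q' + 1)), ?_, ?_, ?_⟩
      · exact filler_step_f N d1 s1 dH sH f1 f2 F1 F2 x w u hu (q' + 1) q' (by omega) hq'N
          (hw (q' + 1) (by omega) (by omega))
      · intro j hj
        rw [map_mul]
        obtain ⟨q'', rfl⟩ : ∃ q'', q' = q'' + 1 := ⟨q' - 1, by omega⟩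
        rw [I2 j q'' (by omega) (by omega), map_mul, map_inv,
          I1 j (q'' + 1) (by omega) (by omega), hlow j hj,
          compat j (q'' + 1) (by omega) (by omega) (by omega) (by omega), inv_mul_cancel,
          map_one, mul_one]
      · intro j hj1 hj2
        rw [map_mul]
        have hjq : q' + 1 ≤ j := by omega
        rcases Nat.eq_or_lt_of_le hjq with rfl | hlt
        · rw [I4 q' hq'N, mul_inv_cancel_left]
        · obtain ⟨i, rfl⟩ : ∃ i, j = i + 1 := ⟨j - 1, by omega⟩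
          have hji : d1 (i + 1) u = x (i + 1) := hhigh (i + 1) (by omega) hj2
          rw [I5 i q' (by omega) (by omega), map_mul, map_inv,
            ← I1 (q' + 1) i (by omega) (by omega), hji,
            compat (q' + 1) i (by omega) (by omega) (by omega) (by omega), inv_mul_cancel,
            map_one, mul_one]
  obtain ⟨u, hu, hlow, hhigh⟩ := P2 (N - k) (by omega)
  refine ⟨u, hu, fun j hjN hjk => ?_⟩
  rcases Nat.lt_or_gt_of_ne hjk with h | h
  · exact hlow j h
  · exact hhigh j (by omega) hjN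

end

end Groth.Agent.H34
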