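import Groth.Agent.H34.SibCover

/-!
# Postnikov towers in `D^b(A)` and siblings

If `F, F' : D^b(A) ⥤ D` are triangulated with `F ∘ i ≅ F' ∘ i` and
`Hom(F X, (F Y)[q]) = 0` for `X, Y` in `A` and `q < 0`, then for every object `K` which admits
a Postnikov tower (a filtration with graded pieces `N_j[-j]` in decreasing degrees), we have
`F K ≅ F' K`.
-/

universe w v u v' u'

open CategoryTheory Limits Pretriangulated Triangulated DerivedCategory ZeroObject

set_option linter.unusedSectionVars false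

namespace Groth.Agent.H34.Postnikov

open Groth.Agent.H34.BijHom Groth.Agent.H34 Groth.Agent.H34.ShTrans Groth.Agent.H34.Sibling
  Groth.Agent.H34.SibHeart Groth.Agent.H34.SibLevel Groth.Agent.H34.SibCover

variable {A : Type u} [Category.{v} A] [Abelian A] [HasDerivedCategory.{w} A]

/-- A Postnikov tower for `K` with all graded pieces in degrees `≤ b`. -/
inductive Tower : DerivedCategory.Bounded A → ℤ → Type (max u v w)
  | zero (K : DerivedCategory.Bounded A) (b : ℤ) (h : IsZero K) : Tower K b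
  | step {K Q : DerivedCategory.Bounded A} {b : ℤ} (N : A) (ι : PB N b ⟶ K) (π : K ⟶ Q)
      (δ : Q ⟶ (PB N b)⟦(1 : ℤ)⟧)
      (hT : Triangle.mk ι π δ ∈ distTriang (DerivedCategory.Bounded A))
      (t : Tower Q (b - 1)) : Tower K b

variable {D : Type u'} [Category.{v'} D] [Preadditive D] [HasZeroObject D] [HasShift D ℤ]
  [∀ n : ℤ, (shiftFunctor D n).Additive] [Pretriangulated D]
  (F F' : DerivedCategory.Bounded A ⥤ D) [F.CommShift ℤ] [F.IsTriangulated]
  [F'.CommShift ℤ] [F'.IsTriangulated]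
  (a : DEquiv.singleB A ⋙ F ≅ DEquiv.singleB A ⋙ F')

/-- Compatibility of a morphism `F K ⟶ F' K` with the top piece of a tower. -/
def Compat : ∀ {K : DerivedCategory.Bounded A} {b : ℤ}, Tower K b →
    (F.obj K ⟶ F'.obj K) → Prop
  | _, _, .zero _ _ _, _ => True
  | _, b, .step N ι _ _ _ _, φ => F.map ι ≫ φ = aS F F' a N (-b) ≫ F'.map ι

include a in
/-- Naturality of `aS` with respect to morphisms between heart objects placed in the same
degree (no full faithfulness needed). -/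
lemma aS_nat_same (M M' : A) (m : ℤ)
    (g : ((DEquiv.singleB A).obj M)⟦m⟧ ⟶ ((DEquiv.singleB A).obj M')⟦m⟧) :
    F.map g ≫ aS F F' a M' m = aS F F' a M m ≫ F'.map g := by
  obtain ⟨g₀, rfl⟩ := (shiftFunctor _ m).map_surjective g
  obtain ⟨φ, rfl⟩ := (DEquiv.singleB A).map_surjective g₀
  exact sh_nat F F' m _ _ _ (aH_nat F F' a φ)

include a in
lemma aS_nat_shift (N' N : A) (k b : ℤ) (hk : k = b - 1) (g : PB N' k ⟶ (PB N b)⟦(1 : ℤ)⟧) :
    F.map g ≫ sh F F' 1 (aS F F' a N (-b)) = aS F F' a N' (-k) ≫ F'.map g := by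
  have hadd : -b + 1 = -k := by omega
  have h1 := sh_add F F' hadd (aH F F' a N)
  let e := (shiftFunctorAdd' (DerivedCategory.Bounded A) (-b) 1 (-k) hadd).app
    ((DEquiv.singleB A).obj N)
  have h2 := aS_nat_same F F' a N' N (-k) (g ≫ e.inv)
  have h1' : F.map e.hom ≫ sh F F' 1 (aS F F' a N (-b)) = aS F F' a N (-k) ≫ F'.map e.hom := h1
  have hg : g = (g ≫ e.inv) ≫ e.hom := by simp
  rw [hg, F.map_comp, Category.assoc, h1', ← Category.assoc, h2, Category.assoc, ← F'.map_comp]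

variable (h2 : ∀ (X Y : A) (q : ℤ), q < 0 →
      ∀ f : F.obj ((DEquiv.singleB A).obj X) ⟶
        (shiftFunctor D q).obj (F.obj ((DEquiv.singleB A).obj Y)), f = 0)

include a h2 in
/-- Vanishing of `Hom(F (N[k]), F' (M[m]))` for `m < k`. -/
lemma hom_shift_eq_zero (N M : A) (k m : ℤ) (hkm : m - k < 0)
    (u : F.obj (((DEquiv.singleB A).obj N)⟦k⟧) ⟶ F'.obj (((DEquiv.singleB A).obj M)⟦m⟧)) :
    u = 0 := by
  -- transport to a morphism `(F N)[k] ⟶ (F M)[m]`
  let u' : (F.obj ((DEquiv.singleB A).obj N))⟦k⟧ ⟶ (F.obj ((DEquiv.singleB A).obj M))⟦m⟧ :=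
    (F.commShiftIso k).inv.app _ ≫ u ≫ (F'.commShiftIso m).hom.app _ ≫
      (inv (aH F F' a M))⟦m⟧'
  have hu' : u' = 0 := by
    apply (shiftFunctor D (-k)).map_injective
    rw [Functor.map_zero]
    let e₁ := shiftShiftNeg (F.obj ((DEquiv.singleB A).obj N)) k
    let e₂ := (shiftFunctorAdd' D m (-k) (m - k) (by omega)).app
      (F.obj ((DEquiv.singleB A).obj M))
    have := h2 N M (m - k) hkm (e₁.inv ≫ u'⟦-k⟧' ≫ e₂.inv)
    have h3 : u'⟦-k⟧' = e₁.hom ≫ (e₁.inv ≫ u'⟦-k⟧' ≫ e₂.inv) ≫ e₂.hom := by simp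
    rw [h3, this, zero_comp, comp_zero]
  have hu : u = (F.commShiftIso k).hom.app _ ≫ u' ≫ (aH F F' a M)⟦m⟧' ≫
      (F'.commShiftIso m).inv.app _ := by
    simp [u', ← Functor.map_comp]
  rw [hu, hu', zero_comp, comp_zero]

include a h2 in
/-- Vanishing of `Hom(F K, F' (M[m]))` when `K` has a tower in degrees `≤ b` with `m + b < 0`. -/
lemma tower_hom_eq_zero {K : DerivedCategory.Bounded A} {b : ℤ} (t : Tower K b) (M : A) (m : ℤ)
    (hm : m + b < 0) (u : F.obj K ⟶ F'.obj (((DEquiv.singleB A).obj M)⟦m⟧)) : u = 0 := by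
  induction t with
  | zero K b h => exact (F.map_isZero h).eq_of_src _ _
  | step N ι π δ hT t ih =>
    have h1 : F.map ι ≫ u = 0 := hom_shift_eq_zero F F' a h2 N M _ m (by omega) _
    obtain ⟨u', hu'⟩ := exact_yo_G F _ hT u h1
    have hu'' : u = F.map π ≫ u' := hu'
    rw [hu'', ih (by omega) u', comp_zero]

include a h2 in
/-- The key commutative square. -/
lemma square {Q : DerivedCategory.Bounded A} {b b₁ : ℤ} (hb : b₁ = b - 1) (tQ : Tower Q b₁)
    (φ : F.obj Q ⟶ F'.obj Q) (hφ : Compat F F' a tQ φ) (N : A) (δ : Q ⟶ (PB N b)⟦(1 : ℤ)⟧) :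
    F.map δ ≫ sh F F' 1 (aS F F' a N (-b)) = φ ≫ F'.map δ := by
  cases tQ with
  | zero _ _ h => exact (F.map_isZero h).eq_of_src _ _
  | step N' ι' π' δ' hT' tQ' =>
    rename_i Q'
    have hc : F.map ι' ≫ φ = aS F F' a N' (-b₁) ≫ F'.map ι' := hφ
    rw [← sub_eq_zero]
    have h1 : F.map ι' ≫ (F.map δ ≫ sh F F' 1 (aS F F' a N (-b)) - φ ≫ F'.map δ) = 0 := by
      rw [Preadditive.comp_sub, ← Category.assoc, ← Category.assoc, hc, ← F.map_comp,
        aS_nat_shift F F' a N' N b₁ b hb (ι' ≫ δ), F'.map_comp, Category.assoc, sub_self]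
    obtain ⟨(Δ' : F.obj Q' ⟶ F'.obj ((PB N b)⟦(1 : ℤ)⟧)), hΔ'⟩ := exact_yo_G F _ hT' _ h1
    have hΔ'' : F.map δ ≫ sh F F' 1 (aS F F' a N (-b)) - φ ≫ F'.map δ = F.map π' ≫ Δ' := hΔ'
    -- `Δ'` vanishes
    let e := (shiftFunctorAdd' (DerivedCategory.Bounded A) (-b) 1 (-b + 1) rfl).app
      ((DEquiv.singleB A).obj N)
    have h0 := tower_hom_eq_zero F F' a h2 tQ' N (-b + 1) (by omega) (Δ' ≫ F'.map e.inv)
    have hΔ0 : Δ' = 0 := by
      have : Δ' = (Δ' ≫ F'.map e.inv) ≫ F'.map e.hom := by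
        rw [Category.assoc, ← F'.map_comp, Iso.inv_hom_id, F'.map_id, Category.comp_id]
      rw [this]
      exact (congrArg (· ≫ F'.map e.hom) h0).trans zero_comp
    rw [hΔ'', hΔ0, comp_zero]

include a h2 in
/-- For an object with a Postnikov tower, `F K ≅ F' K`, compatibly with the top piece. -/
theorem exists_iso_of_tower {K : DerivedCategory.Bounded A} {b : ℤ} (t : Tower K b) :
    ∃ φ : F.obj K ⟶ F'.obj K, IsIso φ ∧ Compat F F' a t φ := by
  induction t with
  | zero K b h =>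
    exact ⟨((F.map_isZero h).iso (F'.map_isZero h)).hom, inferInstance, trivial⟩
  | step N ι π δ hT tQ ih =>
    rename_i K Q b
    obtain ⟨φQ, hφQ, hcompat⟩ := ih
    have hsq := square F F' a h2 rfl tQ φQ hcompat N δ
    have comm : (F.mapTriangle.obj (Triangle.mk ι π δ)).mor₃ ≫ (aS F F' a N (-b))⟦(1 : ℤ)⟧' =
        φQ ≫ (F'.mapTriangle.obj (Triangle.mk ι π δ)).mor₃ := by
      have h3 := sh_comm F F' 1 (aS F F' a N (-b))
      change (F.map δ ≫ (F.commShiftIso (1 : ℤ)).hom.app (PB N b)) ≫ (aS F F' a N (-b))⟦(1 : ℤ)⟧' =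
        φQ ≫ (F'.map δ ≫ (F'.commShiftIso (1 : ℤ)).hom.app (PB N b))
      rw [Category.assoc, ← h3, ← Category.assoc, hsq, Category.assoc]
    obtain ⟨(c : F.obj K ⟶ F'.obj K), h1, h2'⟩ := complete_distinguished_triangle_morphism₂ _ _
      (F.map_distinguished _ hT) (F'.map_distinguished _ hT) (aS F F' a N (-b)) φQ comm
    refine ⟨c, ?_, h1⟩
    let ψ : F.mapTriangle.obj (Triangle.mk ι π δ) ⟶ F'.mapTriangle.obj (Triangle.mk ι π δ) :=
      { hom₁ := aS F F' a N (-b)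
        hom₂ := c
        hom₃ := φQ
        comm₁ := h1
        comm₂ := h2'
        comm₃ := comm }
    exact isIso₂_of_isIso₁₃ ψ (F.map_distinguished _ hT) (F'.map_distinguished _ hT)
      (inferInstanceAs (IsIso (aS F F' a N (-b)))) hφQ

end Groth.Agent.H34.Postnikov
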