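import Groth.Agent.H34.Postnikov
import Mathlib.Algebra.Homology.Embedding.StupidTrunc
import Mathlib.Algebra.Homology.Embedding.HomEquiv
import Mathlib.Algebra.Homology.Embedding.CochainComplex
import Mathlib.Algebra.Homology.HomologicalComplexAbelian
import Mathlib.Algebra.Homology.HomologicalComplexLimits
import Mathlib.Algebra.Homology.ShortComplex.ExactFunctor
import Mathlib.Algebra.Homology.DerivedCategory.ShortExact

/-!
# Existence of Postnikov towers in `D^b(A)` (via stupid truncations)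

The first part (kernel of `K ⟶ σ_{≤ m} K`) follows helper45's `H45/KFlat/StupidFiltration`.
-/

universe w v u

open CategoryTheory Limits Pretriangulated Triangulated DerivedCategory ZeroObject

set_option linter.unusedSectionVars false

namespace Groth.Agent.H34.PostnikovExists

open Groth.Agent.H34 Groth.Agent.H34.Sibling Groth.Agent.H34.SibLevel Groth.Agent.H34.SibCover
  Groth.Agent.H34.Postnikov HomologicalComplex

variable {A : Type u} [Category.{v} A] [Abelian A]

section Kernel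

variable {K Q : CochainComplex A ℤ} (π : K ⟶ Q)

lemma kernel_eval_exact (q : ℤ) :
    (ShortComplex.mk ((kernel.ι π).f q) (π.f q)
      (by rw [← HomologicalComplex.comp_f, kernel.condition, HomologicalComplex.zero_f])).Exact :=
  (ShortComplex.exact_of_f_is_kernel (ShortComplex.mk (kernel.ι π) π (kernel.condition π))
    (kernelIsKernel π)).map (eval A (ComplexShape.up ℤ) q)

lemma isIso_kernel_ι_f_of_isZero (q : ℤ) (h : IsZero (Q.X q)) : IsIso ((kernel.ι π).f q) := by
  have hex := kernel_eval_exact π q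
  have : Epi ((kernel.ι π).f q) := hex.epi_f (h.eq_of_tgt _ _)
  exact isIso_of_mono_of_epi _

lemma isZero_kernel_X_of_mono (q : ℤ) [Mono (π.f q)] : IsZero ((kernel π).X q) := by
  have hex := kernel_eval_exact π q
  have h0 : (kernel.ι π).f q = 0 := hex.mono_g_iff.1 (inferInstanceAs (Mono (π.f q)))
  exact IsZero.of_mono_eq_zero _ h0

end Kernel

section Trunc

variable (K : CochainComplex A ℤ)

lemma hasLift_id_embeddingUpIntLE (m : ℤ) :
    (ComplexShape.embeddingUpIntLE m).HasLift
      (𝟙 (K.restriction (ComplexShape.embeddingUpIntLE m))) :=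
  fun _ hj => hj.false_of_isTruncLE.elim

/-- The projection onto the stupid truncation `σ_{≤ m} K`. -/
noncomputable def πStupidLE (m : ℤ) : K ⟶ K.stupidTrunc (ComplexShape.embeddingUpIntLE m) :=
  (ComplexShape.embeddingUpIntLE m).liftExtend
    (𝟙 (K.restriction (ComplexShape.embeddingUpIntLE m))) (hasLift_id_embeddingUpIntLE K m)

lemma isIso_πStupidLE_f (m q : ℤ) (hq : q ≤ m) : IsIso ((πStupidLE K m).f q) := by
  obtain ⟨k, hk⟩ : ∃ k : ℕ, (ComplexShape.embeddingUpIntLE m).f k = q :=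
    ⟨(m - q).toNat, by simp [ComplexShape.embeddingUpIntLE_f]; lia⟩
  exact ((ComplexShape.embeddingUpIntLE m).isIso_liftExtend_f_iff _
    (hasLift_id_embeddingUpIntLE K m) hk).2 inferInstance

lemma isZero_stupidTruncLE_X (m q : ℤ) (hq : m < q) :
    IsZero ((K.stupidTrunc (ComplexShape.embeddingUpIntLE m)).X q) :=
  K.isZero_stupidTrunc_X _ q (fun k hk => by
    simp [ComplexShape.embeddingUpIntLE_f] at hk
    lia)

instance (m : ℤ) : Epi (πStupidLE K m) := by
  apply HomologicalComplex.epi_of_epi_f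
  intro q
  by_cases hq : q ≤ m
  · have := isIso_πStupidLE_f K m q hq
    infer_instance
  · exact (isZero_stupidTruncLE_X K m q (by omega)).epi _

/-- The stupid truncation `σ_{≥ a} K`, as a subcomplex of `K`. -/
noncomputable def sigmaGE (a : ℤ) : CochainComplex A ℤ := kernel (πStupidLE K (a - 1))

/-- The inclusion `σ_{≥ a} K ⟶ K`. -/
noncomputable def ιSigmaGE (a : ℤ) : sigmaGE K a ⟶ K := kernel.ι (πStupidLE K (a - 1))

instance (a : ℤ) : Mono (ιSigmaGE K a) := inferInstanceAs (Mono (kernel.ι _))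

lemma isIso_ιSigmaGE_f (a q : ℤ) (hq : a ≤ q) : IsIso ((ιSigmaGE K a).f q) :=
  isIso_kernel_ι_f_of_isZero _ q (isZero_stupidTruncLE_X K (a - 1) q (by lia))

lemma isZero_sigmaGE_X (a q : ℤ) (hq : q < a) : IsZero ((sigmaGE K a).X q) := by
  have := isIso_πStupidLE_f K (a - 1) q (by lia)
  exact isZero_kernel_X_of_mono _ q

/-- The short exact sequence `0 ⟶ σ_{≥ b} K ⟶ K ⟶ σ_{≤ b - 1} K ⟶ 0`. -/
noncomputable def stupidSES (b : ℤ) : ShortComplex (CochainComplex A ℤ) :=
  ShortComplex.mk (ιSigmaGE K b) (πStupidLE K (b - 1)) (kernel.condition _)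

lemma stupidSES_shortExact (b : ℤ) : (stupidSES K b).ShortExact where
  exact := ShortComplex.exact_of_f_is_kernel _ (kernelIsKernel _)
  mono_f := inferInstanceAs (Mono (ιSigmaGE K b))
  epi_g := inferInstanceAs (Epi (πStupidLE K (b - 1)))

lemma isStrictlyGE_sigmaGE (b : ℤ) : (sigmaGE K b).IsStrictlyGE b := by
  rw [CochainComplex.isStrictlyGE_iff]
  intro i hi
  exact isZero_sigmaGE_X K b i hi

lemma isStrictlyLE_sigmaGE (b : ℤ) [K.IsStrictlyLE b] : (sigmaGE K b).IsStrictlyLE b := by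
  rw [CochainComplex.isStrictlyLE_iff]
  intro i hi
  have := isIso_ιSigmaGE_f K b i (by omega)
  exact (K.isZero_of_isStrictlyLE b i hi).of_iso (asIso ((ιSigmaGE K b).f i))

lemma isStrictlyLE_stupidTrunc (m : ℤ) :
    CochainComplex.IsStrictlyLE (K.stupidTrunc (ComplexShape.embeddingUpIntLE m)) m := by
  rw [CochainComplex.isStrictlyLE_iff]
  intro i hi
  exact isZero_stupidTruncLE_X K m i hi

lemma isStrictlyGE_stupidTrunc (m a : ℤ) [K.IsStrictlyGE a] :
    CochainComplex.IsStrictlyGE (K.stupidTrunc (ComplexShape.embeddingUpIntLE m)) a := by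
  rw [CochainComplex.isStrictlyGE_iff]
  intro i hi
  by_cases him : i ≤ m
  · have := isIso_πStupidLE_f K m i him
    exact (K.isZero_of_isStrictlyGE a i hi).of_iso (asIso ((πStupidLE K m).f i)).symm
  · exact isZero_stupidTruncLE_X K m i (by omega)

end Trunc

variable [HasDerivedCategory.{w} A]

/-- Existence of a Postnikov tower for the image of a bounded complex. -/
theorem exists_tower_of_complex (d : ℕ) :
    ∀ (C : CochainComplex A ℤ) (lo b : ℤ), C.IsStrictlyGE lo → C.IsStrictlyLE b → b - lo < d →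
      ∀ (K : DerivedCategory.Bounded A) (_ : K.obj ≅ Q.obj C), Nonempty (Tower K b) := by
  induction d with
  | zero =>
    intro C lo b hlo hb hd K e
    have h1 : (Q.obj C).IsGE lo := inferInstance
    have h2 : (Q.obj C).IsLE b := inferInstance
    have hz : IsZero (Q.obj C) := TStructure.t.isZero (Q.obj C) b lo (by omega)
    exact ⟨Tower.zero K b (BoundedGen.isZero_of_isZero_obj _ K (hz.of_iso e))⟩
  | succ d ih =>
    intro C lo b hlo hb hd K e
    -- the stupid truncation short exact sequence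
    have hS := stupidSES_shortExact C b
    have hT := triangleOfSES_distinguished hS
    have i1 := isStrictlyGE_sigmaGE C b
    have i2 := isStrictlyLE_sigmaGE C b
    obtain ⟨N, ⟨eN⟩⟩ := CochainComplex.exists_iso_single (sigmaGE C b) b
    have i3 := isStrictlyLE_stupidTrunc C (b - 1)
    have i4 := isStrictlyGE_stupidTrunc C (b - 1) lo
    have hQb : TStructure.t.bounded (Q.obj (C.stupidTrunc (ComplexShape.embeddingUpIntLE (b - 1)))) :=
      ⟨⟨lo, inferInstance⟩, ⟨b - 1, inferInstance⟩⟩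
    let KQ : DerivedCategory.Bounded A :=
      ⟨Q.obj (C.stupidTrunc (ComplexShape.embeddingUpIntLE (b - 1))), hQb⟩
    obtain ⟨tQ⟩ := ih (C.stupidTrunc (ComplexShape.embeddingUpIntLE (b - 1))) lo (b - 1) i4 i3
      (by omega) KQ (Iso.refl _)
    -- comparison isomorphism `(PB N b).obj ≅ Q.obj (σ_{≥ b} C)`
    let α : (PB N b).obj ≅ Q.obj (sigmaGE C b) := σ N b ≪≫ Q.mapIso eN.symm
    let ι : PB N b ⟶ K := ObjectProperty.homMk (α.hom ≫ Q.map (ιSigmaGE C b) ≫ e.inv)
    let π : K ⟶ KQ := ObjectProperty.homMk (e.hom ≫ Q.map (πStupidLE C (b - 1)))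
    let δD : KQ.obj ⟶ (PB N b).obj⟦(1 : ℤ)⟧ := triangleOfSESδ hS ≫ α.inv⟦(1 : ℤ)⟧'
    have hTD : Triangle.mk ι.hom π.hom δD ∈ distTriang (DerivedCategory A) := by
      refine isomorphic_distinguished _ hT _ ?_
      refine Triangle.isoMk _ _ α e (Iso.refl _) ?_ ?_ ?_
      · change (α.hom ≫ Q.map (ιSigmaGE C b) ≫ e.inv) ≫ e.hom = α.hom ≫ Q.map (ιSigmaGE C b)
        simp
      · change (e.hom ≫ Q.map (πStupidLE C (b - 1))) ≫ 𝟙 _ = e.hom ≫ Q.map (πStupidLE C (b - 1))
        exact Category.comp_id _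
      · change (triangleOfSESδ hS ≫ α.inv⟦(1 : ℤ)⟧') ≫ α.hom⟦(1 : ℤ)⟧' = 𝟙 _ ≫ triangleOfSESδ hS
        have hαα : α.inv⟦(1 : ℤ)⟧' ≫ α.hom⟦(1 : ℤ)⟧' = 𝟙 _ := by
          rw [← CategoryTheory.Functor.map_comp, Iso.inv_hom_id, CategoryTheory.Functor.map_id]
        rw [Category.assoc]
        erw [hαα]
        erw [Category.comp_id, Category.id_comp]
    obtain ⟨δ, hδ⟩ := BoundedGen.lift_distinguished _ ι π δD hTD
    exact ⟨Tower.step N ι π δ hδ tQ⟩

/-- Every object of `D^b(A)` has a Postnikov tower. -/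
theorem exists_tower (K : DerivedCategory.Bounded A) : ∃ b : ℤ, Nonempty (Tower K b) := by
  obtain ⟨⟨lo, hlo⟩, ⟨b, hb⟩⟩ := K.property
  obtain ⟨C, h1, h2, ⟨e⟩⟩ := exists_iso_Q_obj_of_isGE_of_isLE K.obj lo b
  exact ⟨b, exists_tower_of_complex ((b - lo).toNat + 1) C lo b h1 h2 (by push_cast; omega) K e⟩

end Groth.Agent.H34.PostnikovExists
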