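import Groth.Prelude.Def_ModSite
import Mathlib.Algebra.Category.ModuleCat.Sheaf.PullbackFree
import Mathlib.CategoryTheory.Sites.GlobalSections

/-!
# Pullback of free modules along a morphism of ringed sites

Mathlib proves `SheafOfModules.pullbackObjFreeIso` for a *final* continuous functor. For a morphism
of ringed sites in the sense of the prelude (`ModSite.RMor`), the underlying functor need not be
final, but the pullback of sheaves of sets is exact, in particular preserves the terminal sheaf;
this is enough: global sections of a direct image are global sections.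
-/

set_option autoImplicit false
universe u
open CategoryTheory CategoryTheory.Limits Opposite

namespace Groth.Agent.H34.PullFreeRMor

section Types

variable {C D : Type u} [SmallCategory C] [SmallCategory D] (J : GrothendieckTopology C)
  (K : GrothendieckTopology D) (F : C ⥤ D) [F.IsContinuous J K]

/-- The terminal sheaf of types. -/
noncomputable abbrev termSh {E : Type u} [SmallCategory E] (L : GrothendieckTopology E) :
    Sheaf L (Type u) := Sheaf.terminal L Types.isTerminalPUnit

/-- If the pullback of sheaves of sets along a continuous functor preserves the terminal object,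
then sections of a sheaf of sets over the target agree with the sections of its direct image. -/
theorem bijective_sectionsPrecomp
    (hT : IsTerminal ((F.sheafPullback (Type u) J K).obj (termSh J)))
    (P : Sheaf K (Type u)) :
    Function.Bijective (F.op.sectionsPrecomp (P := P.obj)) := by
  let adj := F.sheafAdjunctionContinuous (Type u) J K
  let ι : (F.sheafPullback (Type u) J K).obj (termSh J) ≅ termSh K :=
    hT.uniqueUpToIso (Sheaf.isTerminalTerminal K Types.isTerminalPUnit)
  -- the chain of bijections
  let e1 : P.obj.sections ≃ ((termSh K).obj ⟶ P.obj) := P.obj.sectionsEquivHom PUnit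
  let e2 : ((termSh K).obj ⟶ P.obj) ≃ (termSh K ⟶ P) :=
    { toFun := fun f => ⟨f⟩
      invFun := fun f => f.hom
      left_inv := fun _ => rfl
      right_inv := fun _ => rfl }
  let e3 : (termSh K ⟶ P) ≃ ((F.sheafPullback (Type u) J K).obj (termSh J) ⟶ P) :=
    { toFun := fun f => ι.hom ≫ f
      invFun := fun f => ι.inv ≫ f
      left_inv := fun f => by simp
      right_inv := fun f => by simp }
  let e4 := adj.homEquiv (termSh J) P
  let e5 : (termSh J ⟶ (F.sheafPushforwardContinuous (Type u) J K).obj P) ≃
      ((termSh J).obj ⟶ F.op ⋙ P.obj) :=
    { toFun := fun f => f.hom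
      invFun := fun f => ⟨f⟩
      left_inv := fun _ => rfl
      right_inv := fun _ => rfl }
  let e6 : ((termSh J).obj ⟶ F.op ⋙ P.obj) ≃ (F.op ⋙ P.obj).sections :=
    ((F.op ⋙ P.obj).sectionsEquivHom PUnit).symm
  let e := e1.trans (e2.trans (e3.trans (e4.trans (e5.trans e6))))
  have he : ∀ s, e s = F.op.sectionsPrecomp s := by
    intro s
    apply Subtype.ext
    funext X
    change (e4 (ι.hom ≫ e2 (e1 s))).hom.app X PUnit.unit = s.val (F.op.obj X)
    have h1 : e4 (ι.hom ≫ e2 (e1 s)) =
        adj.homEquiv (termSh J) (termSh K) ι.hom ≫
          (F.sheafPushforwardContinuous (Type u) J K).map (e2 (e1 s)) :=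
      adj.homEquiv_naturality_right _ _
    rw [h1]
    rfl
  have : F.op.sectionsPrecomp (P := P.obj) = e := funext fun s => (he s).symm
  rw [this]
  exact e.bijective

end Types

section Mod

open SheafOfModules

variable {C D : Type u} [SmallCategory C] [SmallCategory D]
  {J : GrothendieckTopology C} {K : GrothendieckTopology D} {F : C ⥤ D}
  {S : Sheaf J RingCat.{u}} {R : Sheaf K RingCat.{u}}
  [Functor.IsContinuous F J K]
  (φ : S ⟶ (F.sheafPushforwardContinuous RingCat.{u} J K).obj R)

/-- The sheaf of sets underlying a sheaf of modules. -/
noncomputable def setSh (M : SheafOfModules.{u} R) : Sheaf K (Type u) :=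
  ⟨M.val.presheaf ⋙ forget AddCommGrpCat.{u},
    Presheaf.isSheaf_comp_of_isSheaf K M.val.presheaf (forget AddCommGrpCat.{u}) M.isSheaf⟩

theorem bijective_pushforwardSections
    (hT : IsTerminal ((F.sheafPullback (Type u) J K).obj (termSh J)))
    (M : SheafOfModules.{u} R) :
    Function.Bijective (pushforwardSections φ (M := M)) :=
  bijective_sectionsPrecomp J K F hT (setSh M)

variable [(pushforward.{u} φ).IsRightAdjoint]

theorem isIso_pullbackObjUnitToUnit
    (hT : IsTerminal ((F.sheafPullback (Type u) J K).obj (termSh J))) :
    IsIso (pullbackObjUnitToUnit φ) := by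
  rw [isIso_iff_coyoneda_map_bijective]
  intro M
  rw [← ((pullbackPushforwardAdjunction.{u} φ).homEquiv _ _).bijective.of_comp_iff',
    ← (unitHomEquiv _).bijective.of_comp_iff']
  convert! (bijective_pushforwardSections φ hT M).comp (unitHomEquiv _).bijective
  ext f : 1
  dsimp
  rw [pushforwardSections_unitHomEquiv, EmbeddingLike.apply_eq_iff_eq,
    Adjunction.homEquiv_naturality_right,
    pullbackPushforwardAdjunction_homEquiv_pullbackObjUnitToUnit]

/-- The pullback of a free sheaf of modules is free, for a continuous functor whose pullback of
sheaves of sets preserves the terminal object. -/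
noncomputable def pullbackObjFreeIso
    (hT : IsTerminal ((F.sheafPullback (Type u) J K).obj (termSh J))) (I : Type u) :
    (SheafOfModules.pullback φ).obj (free I) ≅ free I :=
  haveI := isIso_pullbackObjUnitToUnit φ hT
  (asIso (sigmaComparison _ _)).symm ≪≫
    Sigma.mapIso (fun _ ↦ asIso (pullbackObjUnitToUnit φ))

end Mod

section RMor

variable {C D : Type u} [SmallCategory C] [SmallCategory D] {J : GrothendieckTopology C}
  {K : GrothendieckTopology D} {O_C : Sheaf J CommRingCat.{u}} {O_D : Sheaf K CommRingCat.{u}}

/-- The pullback of sheaves of sets along a morphism of ringed sites preserves the terminal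
sheaf. -/
noncomputable def isTerminalPullbackTerm (f : ModSite.RMor O_C O_D) :
    IsTerminal ((f.fn.sheafPullback (Type u) K J).obj (termSh K)) :=
  IsTerminal.isTerminalObj _ _ (Sheaf.isTerminalTerminal K Types.isTerminalPUnit)

/-- The module inverse image of a free module along a morphism of ringed sites is free. -/
noncomputable def pullFreeIso (f : ModSite.RMor O_C O_D) (I : Type u) :
    f.pull.obj (SheafOfModules.free I) ≅ SheafOfModules.free I :=
  pullbackObjFreeIso f.sharpR (isTerminalPullbackTerm f) I

end RMor

end Groth.Agent.H34.PullFreeRMor
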