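import Groth.Agent.H34.RPoint4
import Groth.Agent.H34.FlatExt

/-!
# Flatness over `Y` in terms of the stalk map
-/

set_option autoImplicit false
universe u
open CategoryTheory CategoryTheory.Limits Opposite TopologicalSpace

namespace Groth.Agent.H34.RPoint

open Groth.Agent.H45 Groth.Agent.H34.RStalk Groth.Agent.H34.ModPushFT

variable {X Y : TopCat.{u}} (f : X ⟶ Y)
  (O_X : Sheaf (Opens.grothendieckTopology X) CommRingCat.{u})
  (O_Y : Sheaf (Opens.grothendieckTopology Y) CommRingCat.{u})
  (c : O_Y ⟶ ((Opens.map f).sheafPushforwardContinuous CommRingCat.{u}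
      (Opens.grothendieckTopology Y) (Opens.grothendieckTopology X)).obj O_X)
  (x : X)

lemma flat_resStalk (F : ModSite.Mod O_X)
    (hF : @Module.Flat (ModSite.stalkRing (pt x) (RR f O_X O_Y c).invRing)
      (ModSite.stalkAb (pt x) F) _ _
      (Module.compHom (ModSite.stalkAb (pt x) F)
        ((pt x).sheafFiber.map (RR f O_X O_Y c).invSharp).hom)) :
    Module.Flat (Ox O_Y (f x))
      ((resStalk f O_X O_Y c x).obj ((stalkFunctor O_X x).obj F)) := by
  letI : Module (ModSite.stalkRing (pt x) (RR f O_X O_Y c).invRing)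
      (ModSite.stalkAb (pt x) F) :=
    Module.compHom (ModSite.stalkAb (pt x) F)
      ((pt x).sheafFiber.map (RR f O_X O_Y c).invSharp).hom
  haveI := hF
  refine FlatExt.flat_of_semilinear
    (R := ModSite.stalkRing (pt x) (RR f O_X O_Y c).invRing)
    (M := ModSite.stalkAb (pt x) F)
    (R' := Ox O_Y (f x))
    (M' := (resStalk f O_X O_Y c x).obj ((stalkFunctor O_X x).obj F))
    (invRingStalkIso f O_X O_Y c x).commRingCatIsoToRingEquiv
    (abIso x F).addCommGroupIsoToAddEquiv (fun r m => ?_)
  have h1 := abIso_smul x F (((pt x).sheafFiber.map (RR f O_X O_Y c).invSharp).hom r) m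
  have h2 := congrArg (fun φ => φ.hom r) (invRingStalkIso_compat f O_X O_Y c x)
  refine h1.trans ?_
  exact congrArg (fun t : Ox O_X x => t • ((abIso x F).hom m : Mx O_X F x)) h2.symm

end Groth.Agent.H34.RPoint
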