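import Groth.Agent.H34.RStalkTensorNat
import Groth.Agent.H34.RPoint5
import Groth.Agent.H45.SheafTensor.SheafHom

/-!
# `G ↦ f^*G ⊗ F` is exact when `F` is flat over `Y` (ringed spaces)
-/

set_option autoImplicit false
universe u
open CategoryTheory CategoryTheory.Limits Opposite TopologicalSpace MonoidalCategory

namespace Groth.Agent.H34.RPoint

open Groth.Agent.H45 Groth.Agent.H34.RStalk Groth.Agent.H34.ModPushFT

variable {X Y : TopCat.{u}} (f : X ⟶ Y)
  (O_X : Sheaf (Opens.grothendieckTopology X) CommRingCat.{u})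
  (O_Y : Sheaf (Opens.grothendieckTopology Y) CommRingCat.{u})
  (c : O_Y ⟶ ((Opens.map f).sheafPushforwardContinuous CommRingCat.{u}
      (Opens.grothendieckTopology Y) (Opens.grothendieckTopology X)).obj O_X)

theorem mono_pull_tensor_map (F : ModSite.Mod O_X)
    (hF : ∀ x : X, Module.Flat (Ox O_Y (f x))
      ((resStalk f O_X O_Y c x).obj ((stalkFunctor O_X x).obj F)))
    {M N : ModSite.Mod O_Y} (φ : M ⟶ N) [Mono φ] :
    Mono (tensMapL ((ipull f O_X O_Y c).map φ) F) := by
  apply mono_of_mono_stalkFunctor_map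
  intro x
  haveI : Mono ((stalkFunctor O_Y (f x)).map φ) := inferInstance
  have h₁ : Mono ((extStalk f O_X O_Y c x).map ((stalkFunctor O_Y (f x)).map φ) ▷
      (stalkFunctor O_X x).obj F) :=
    FlatExt.mono_extendScalars_whiskerRight _ _ (hF x) _
  have h₂ : (pullbackStalk f O_X O_Y c x).map φ ≫ (pullbackStalkIso f O_X O_Y c x).hom.app N =
      (pullbackStalkIso f O_X O_Y c x).hom.app M ≫ (stalkExt f O_X O_Y c x).map φ :=
    (pullbackStalkIso f O_X O_Y c x).hom.naturality φ
  have h₃ : ((pullbackStalk f O_X O_Y c x).map φ ▷ (stalkFunctor O_X x).obj F) ≫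
      ((pullbackStalkIso f O_X O_Y c x).hom.app N ▷ (stalkFunctor O_X x).obj F) =
      ((pullbackStalkIso f O_X O_Y c x).hom.app M ▷ (stalkFunctor O_X x).obj F) ≫
        ((stalkExt f O_X O_Y c x).map φ ▷ (stalkFunctor O_X x).obj F) := by
    rw [← comp_whiskerRight, h₂, comp_whiskerRight]
  have h₄ : Mono ((pullbackStalk f O_X O_Y c x).map φ ▷ (stalkFunctor O_X x).obj F) := by
    haveI : Mono (((pullbackStalk f O_X O_Y c x).map φ ▷ (stalkFunctor O_X x).obj F) ≫
        ((pullbackStalkIso f O_X O_Y c x).hom.app N ▷ (stalkFunctor O_X x).obj F)) := by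
      rw [h₃]
      haveI : Mono ((stalkExt f O_X O_Y c x).map φ ▷ (stalkFunctor O_X x).obj F) := h₁
      infer_instance
    exact mono_of_mono _
      ((pullbackStalkIso f O_X O_Y c x).hom.app N ▷ (stalkFunctor O_X x).obj F)
  have h₅ := stalkTensorIso_hom_naturality_left ((ipull f O_X O_Y c).map φ) F x
  haveI : Mono ((stalkFunctor O_X x).map (tensMapL ((ipull f O_X O_Y c).map φ) F) ≫
      (stalkTensorIso x _ F).hom) := by
    rw [h₅]
    haveI : Mono ((stalkFunctor O_X x).map ((ipull f O_X O_Y c).map φ) ▷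
        (stalkFunctor O_X x).obj F) := h₄
    infer_instance
  exact mono_of_mono _ (stalkTensorIso x _ F).hom

/-- If `F` is flat over `Y`, then `G ↦ f^*G ⊗ F` is exact. -/
theorem exact_pull_tensor_of_flat (F : ModSite.Mod O_X)
    (hF : ∀ x : X, Module.Flat (Ox O_Y (f x))
      ((resStalk f O_X O_Y c x).obj ((stalkFunctor O_X x).obj F))) :
    PreservesFiniteLimits (ipull f O_X O_Y c ⋙ (ModSite.tensorBi O_X).flip.obj F) ∧
      PreservesFiniteColimits (ipull f O_X O_Y c ⋙ (ModSite.tensorBi O_X).flip.obj F) := by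
  haveI : (ipull f O_X O_Y c).IsLeftAdjoint :=
    (ModSite.RMor.ofFlat (Opens.map f) c).adj.isLeftAdjoint
  haveI : ((ModSite.tensorBi O_X).flip.obj F).IsLeftAdjoint := hasSheafHom O_X F
  haveI : (ipull f O_X O_Y c ⋙ (ModSite.tensorBi O_X).flip.obj F).IsLeftAdjoint := inferInstance
  haveI := preservesBinaryBiproducts_of_preservesBinaryCoproducts
    (ipull f O_X O_Y c ⋙ (ModSite.tensorBi O_X).flip.obj F)
  haveI : (ipull f O_X O_Y c ⋙ (ModSite.tensorBi O_X).flip.obj F).Additive :=
    Functor.additive_of_preservesBinaryBiproducts _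
  refine ⟨?_, inferInstance⟩
  rw [Functor.preservesFiniteLimits_iff_forall_exact_map_and_mono]
  intro S hS
  have h := (Functor.preservesFiniteColimits_iff_forall_exact_map_and_epi
    (ipull f O_X O_Y c ⋙ (ModSite.tensorBi O_X).flip.obj F)).1 inferInstance S hS
  have := hS.mono_f
  exact ⟨h.1, mono_pull_tensor_map f O_X O_Y c F hF S.f⟩

end Groth.Agent.H34.RPoint
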