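import Groth.Agent.H34.RPoint
import Groth.Agent.H45.SheafTensor.PointStalkFlat

/-!
# Stalks of modules at the point of the site of opens vs. stalks on the space
-/

set_option autoImplicit false
universe u
open CategoryTheory CategoryTheory.Limits Opposite TopologicalSpace

namespace Groth.Agent.H34.RPoint

open Groth.Agent.H45 Groth.Agent.H34.RStalk

variable {X : TopCat.{u}} (O : Sheaf (Opens.grothendieckTopology X) CommRingCat.{u}) (x : X)

/-- the ring isomorphism between the two stalks of the structure sheaf -/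
noncomputable def ringIso : ModSite.stalkRing (pt x) O ≅ Ox O x := fiberStalkIso x O.obj

variable {O}

/-- the isomorphism between the two stalks of a module -/
noncomputable def abIso (F : ModSite.Mod O) : ModSite.stalkAb (pt x) F ≅ Mx O F x :=
  fiberStalkIso x (pa O F)

lemma ringIso_pgR (U : Opens X) (h : x ∈ U) (r : O.obj.obj (op U)) :
    (ringIso O x).hom (pgR (pt x) U (el x h) r) = gO x U h r :=
  ConcreteCategory.congr_hom (toPresheafFiber_fiberToStalk x O.obj U h) r

lemma abIso_pgM (F : ModSite.Mod O) (U : Opens X) (h : x ∈ U) (s : (pm O F).obj (op U)) :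
    (abIso x F).hom (pgM (pt x) F U (el x h) s) = gM F x U h s :=
  ConcreteCategory.congr_hom (toPresheafFiber_fiberToStalk x (pa O F) U h) s

lemma exists_common (F : ModSite.Mod O) (r : ModSite.stalkRing (pt x) O)
    (m : ModSite.stalkAb (pt x) F) :
    ∃ (U : Opens X) (h : x ∈ U) (r' : O.obj.obj (op U)) (m' : (pm O F).obj (op U)),
      pgR (pt x) U (el x h) r' = r ∧ pgM (pt x) F U (el x h) m' = m := by
  obtain ⟨U₁, h₁, r₁, rfl⟩ := (pt x).toPresheafFiber_jointly_surjective (P := O.obj) r
  obtain ⟨U₂, h₂, m₂, rfl⟩ :=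
    (pt x).toPresheafFiber_jointly_surjective (P := (ModSite.toAb F).obj) m
  refine ⟨U₁ ⊓ U₂, ⟨h₁.down.down, h₂.down.down⟩, (O.obj.map (homOfLE inf_le_left).op).hom r₁,
    res (pm O F) (homOfLE inf_le_right) m₂, ?_, ?_⟩
  · exact (pgR_res (pt x) (homOfLE inf_le_left) _ r₁).trans
      (congrArg (fun t => pgR (pt x) U₁ t r₁) (Subsingleton.elim _ _))
  · exact (pgM_res (pt x) F (homOfLE inf_le_right) _ m₂).trans
      (congrArg (fun t => pgM (pt x) F U₂ t m₂) (Subsingleton.elim _ _))

/-- the comparison of stalks of modules is semilinear over the comparison of stalks of rings -/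
lemma abIso_smul (F : ModSite.Mod O) (r : ModSite.stalkRing (pt x) O)
    (m : ModSite.stalkAb (pt x) F) :
    (abIso x F).hom (r • m) = (ringIso O x).hom r • (abIso x F).hom m := by
  obtain ⟨U, h, r', m', rfl, rfl⟩ := exists_common x F r m
  calc (abIso x F).hom (pgR (pt x) U (el x h) r' • pgM (pt x) F U (el x h) m')
      = (abIso x F).hom (pgM (pt x) F U (el x h) (r' • m')) :=
        congrArg (abIso x F).hom (pgM_smul (pt x) F U (el x h) r' m').symm
    _ = gM F x U h (r' • m') := abIso_pgM x F U h _
    _ = gO x U h r' • gM F x U h m' := gM_smul F x U h r' m'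
    _ = (ringIso O x).hom (pgR (pt x) U (el x h) r') •
          (abIso x F).hom (pgM (pt x) F U (el x h) m') := by
        rw [ringIso_pgR, abIso_pgM]

end Groth.Agent.H34.RPoint
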