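import Groth.Agent.H34.RUnitStalk
import Groth.Agent.H34.InvLocal
import Groth.Agent.H34.RPoint2

/-!
# Sections of an invertible module on a locally ringed space: the non-vanishing locus
-/

set_option autoImplicit false
universe u
open CategoryTheory CategoryTheory.Limits Opposite TopologicalSpace TensorProduct MonoidalCategory

namespace Groth.Agent.H34.RStalk

open Groth.Agent.H45

variable {X : TopCat.{u}} {O : Sheaf (Opens.grothendieckTopology X) CommRingCat.{u}}

lemma sm_res {M N : ModSite.Mod O} (φ : M ⟶ N) {U V : Opens X} (i : V ⟶ U)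
    (m : (pm O M).obj (op U)) :
    sm φ V (res (pm O M) i m) = res (pm O N) i (sm φ U m) :=
  res_naturality φ.val i m

section

variable (L L' : ModSite.Mod O) (ε : tens L L' ≅ ModSite.unit O)

/-- the section `ε(s ⊗ t)` of `O` -/
noncomputable def pairSec (V : Opens X) (s : (pm O L).obj (op V)) (t : (pm O L').obj (op V)) :
    O.obj.obj (op V) :=
  (sm ε.hom V (tm L L' V s t) : (pm O (ModSite.unit O)).obj (op V))

lemma pairSec_res {V W : Opens X} (i : W ⟶ V) (s : (pm O L).obj (op V))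
    (t : (pm O L').obj (op V)) :
    pairSec L L' ε W (res (pm O L) i s) (res (pm O L') i t) =
      (O.obj.map i.op).hom (pairSec L L' ε V s t) := by
  unfold pairSec
  rw [← tm_res, sm_res]
  rfl

variable (x : X)

/-- `L_x ⊗ L'_x ≃ O_x` -/
noncomputable def stalkPairEquiv :
    (((stalkFunctor O x).obj L : Type u) ⊗[Ox O x] ((stalkFunctor O x).obj L' : Type u))
      ≃ₗ[Ox O x] Ox O x :=
  ((stalkTensorIso x L L').symm ≪≫ (stalkFunctor O x).mapIso ε).toLinearEquiv ≪≫ₗ
    unitStalkEquiv O x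

lemma stalkPairEquiv_tmul (V : Opens X) (hx : x ∈ V) (s : (pm O L).obj (op V))
    (t : (pm O L').obj (op V)) :
    stalkPairEquiv L L' ε x (gm x L V hx s ⊗ₜ gm x L' V hx t) =
      gO (O := O) x V hx (pairSec L L' ε V s t) := by
  have h1 := β_tmul x L L' V hx s t
  have h2 := stalkFunctor_map_gm x ε.hom V hx (tm L L' V s t)
  have h3 := unitStalkEquiv_gm O x V hx (pairSec L L' ε V s t)
  refine Eq.trans ?_ h3
  refine congrArg (unitStalkEquiv O x) ?_
  exact (congrArg ((stalkFunctor O x).map ε.hom).hom h1).trans h2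

include ε in
theorem bijective_smul_germ [IsLocalRing (Ox O x)] (U : Opens X) (s : (pm O L).obj (op U))
    (hx : x ∈ U)
    (hs : gm x L U hx s ∉ IsLocalRing.maximalIdeal (Ox O x) •
      (⊤ : Submodule (Ox O x) ((stalkFunctor O x).obj L))) :
    Function.Bijective (fun a : Ox O x => a • gm x L U hx s) :=
  InvLocal.bijective_smul_of_tensor_equiv (stalkPairEquiv L L' ε x) _ hs

include ε in
theorem isOpen_nonvanishing (hO : ∀ x : X, IsLocalRing (Ox O x)) (U : Opens X)
    (s : (pm O L).obj (op U)) :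
    IsOpen {x : X | ∃ hx : x ∈ U, gm x L U hx s ∉
      (@IsLocalRing.maximalIdeal (Ox O x) _ (hO x)) •
        (⊤ : Submodule (Ox O x) ((stalkFunctor O x).obj L))} := by
  rw [isOpen_iff_forall_mem_open]
  rintro x ⟨hx, hs⟩
  haveI := hO x
  have hbij := bijective_smul_germ L L' ε x U s hx hs
  have hsurj : ∀ z : ((stalkFunctor O x).obj L : Type u) ⊗[Ox O x]
      ((stalkFunctor O x).obj L' : Type u),
      ∃ t : ((stalkFunctor O x).obj L' : Type u), gm x L U hx s ⊗ₜ[Ox O x] t = z := by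
    intro z
    induction z using TensorProduct.induction_on with
    | zero => exact ⟨0, tmul_zero _ _⟩
    | tmul l t =>
      obtain ⟨a, ha⟩ := hbij.2 l
      refine ⟨a • t, ?_⟩
      rw [← ha]
      exact (TensorProduct.smul_tmul a _ t).symm
    | add z₁ z₂ h₁ h₂ =>
      obtain ⟨t₁, rfl⟩ := h₁
      obtain ⟨t₂, rfl⟩ := h₂
      exact ⟨t₁ + t₂, tmul_add _ _ _⟩
  obtain ⟨t, ht⟩ := hsurj ((stalkPairEquiv L L' ε x).symm 1)
  have h1 : stalkPairEquiv L L' ε x (gm x L U hx s ⊗ₜ t) = 1 := by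
    rw [ht, LinearEquiv.apply_symm_apply]
  obtain ⟨V₁, hV₁, t', rfl⟩ := exists_gm_eq x L' t
  let V : Opens X := U ⊓ V₁
  have hV : x ∈ V := ⟨hx, hV₁⟩
  let iU : V ⟶ U := homOfLE inf_le_left
  let iV : V ⟶ V₁ := homOfLE inf_le_right
  have h2 : gO (O := O) x V hV (pairSec L L' ε V (res (pm O L) iU s) (res (pm O L') iV t')) = 1 := by
    rw [← stalkPairEquiv_tmul, gm_res, gm_res]
    exact h1
  have h3 : gO (O := O) x V hV (pairSec L L' ε V (res (pm O L) iU s) (res (pm O L') iV t')) =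
      gO (O := O) x V hV 1 := h2.trans (map_one _).symm
  obtain ⟨W, hW, i, i', h4⟩ := gO_eq O x hV hV _ _ h3
  refine ⟨W, ?_, W.isOpen, hW⟩
  intro y hy
  have hyV : y ∈ V := i.le hy
  have hyU : y ∈ U := iU.le hyV
  refine ⟨hyU, ?_⟩
  haveI := hO y
  intro hmem
  have h5 : stalkPairEquiv L L' ε y (gm y L U hyU s ⊗ₜ gm y L' V₁ (iV.le hyV) t') = 1 := by
    rw [← gm_res y L iU hyV s, ← gm_res y L' iV hyV t', ← gm_res y L i hy, ← gm_res y L' i hy,
      stalkPairEquiv_tmul, pairSec_res, h4, map_one, map_one]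
  have h6 : gm y L U hyU s ⊗ₜ[Ox O y] gm y L' V₁ (iV.le hyV) t' ∈
      IsLocalRing.maximalIdeal (Ox O y) • (⊤ : Submodule (Ox O y)
        (((stalkFunctor O y).obj L : Type u) ⊗[Ox O y] ((stalkFunctor O y).obj L' : Type u))) :=
    InvLocal.mem_smul_top_of_linear
      ((TensorProduct.mk (Ox O y) _ _).flip (gm y L' V₁ (iV.le hyV) t')) _ _ hmem
  have h7 := InvLocal.mem_smul_top_of_linear (stalkPairEquiv L L' ε y).toLinearMap _ _ h6
  rw [LinearEquiv.coe_coe, h5] at h7
  exact InvLocal.one_notMem_maximal_smul_top h7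

end

end Groth.Agent.H34.RStalk
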