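import Groth.Agent.H34.RInvOpen

/-!
# The non-vanishing locus of a section of an invertible module (point-fibre form)
-/

set_option autoImplicit false
universe u
open CategoryTheory CategoryTheory.Limits Opposite TopologicalSpace
open ModSite

namespace Groth.Agent.H34.RStalk

theorem nonvanishing_locus {X : TopCat.{u}} (O : Sheaf (Opens.grothendieckTopology X) CommRingCat.{u})
    (hO : ∀ x : X, IsLocalRing (ModSite.stalkRing (Opens.pointGrothendieckTopology x) O)) (L : ModSite.Mod O)
    (hL : ((ModSite.tensorBi O).obj L).IsEquivalence) (U : Opens X) (s : ModSite.sect L U) :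
    IsOpen {x : X | ∃ hx : x ∈ U, ModSite.germ (Opens.pointGrothendieckTopology x) L U ⟨⟨hx⟩⟩ s ∉
        (@IsLocalRing.maximalIdeal (ModSite.stalkRing (Opens.pointGrothendieckTopology x) O) _ (hO x)) •
          (⊤ : Submodule (ModSite.stalkRing (Opens.pointGrothendieckTopology x) O)
            (ModSite.stalkAb (Opens.pointGrothendieckTopology x) L))} ∧
      ∀ (x : X) (hx : x ∈ U), ModSite.germ (Opens.pointGrothendieckTopology x) L U ⟨⟨hx⟩⟩ s ∉
          (@IsLocalRing.maximalIdeal (ModSite.stalkRing (Opens.pointGrothendieckTopology x) O) _ (hO x)) •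
            (⊤ : Submodule (ModSite.stalkRing (Opens.pointGrothendieckTopology x) O)
              (ModSite.stalkAb (Opens.pointGrothendieckTopology x) L)) →
        Function.Bijective (fun a : ModSite.stalkRing (Opens.pointGrothendieckTopology x) O =>
          a • ModSite.germ (Opens.pointGrothendieckTopology x) L U ⟨⟨hx⟩⟩ s) := by
  classical
  have hO' : ∀ x : X, IsLocalRing (Groth.Agent.H34.RStalk.Ox O x) := fun x =>
    haveI := hO x
    (Groth.Agent.H34.RPoint.ringIso O x).commRingCatIsoToRingEquiv.isLocalRing
  haveI := hL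
  let L' : ModSite.Mod O := ((ModSite.tensorBi O).obj L).objPreimage (ModSite.unit O)
  let ε : Groth.Agent.H34.RStalk.tens L L' ≅ ModSite.unit O :=
    ((ModSite.tensorBi O).obj L).objObjPreimageIso (ModSite.unit O)
  have key : ∀ (x : X) (hx : x ∈ U),
      (ModSite.germ (Opens.pointGrothendieckTopology x) L U ⟨⟨hx⟩⟩ s ∈
        (@IsLocalRing.maximalIdeal (ModSite.stalkRing (Opens.pointGrothendieckTopology x) O) _ (hO x)) •
          (⊤ : Submodule (ModSite.stalkRing (Opens.pointGrothendieckTopology x) O)
            (ModSite.stalkAb (Opens.pointGrothendieckTopology x) L))) ↔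
      (Groth.Agent.H34.RStalk.gm x L U hx s ∈
        (@IsLocalRing.maximalIdeal (Groth.Agent.H34.RStalk.Ox O x) _ (hO' x)) •
          (⊤ : Submodule (Groth.Agent.H34.RStalk.Ox O x)
            ((Groth.Agent.H34.RStalk.stalkFunctor O x).obj L))) := by
    intro x hx
    haveI := hO x
    haveI := hO' x
    have h := Groth.Agent.H34.InvLocal.mem_maximal_smul_top_iff
      (R := ModSite.stalkRing (Opens.pointGrothendieckTopology x) O)
      (R' := Groth.Agent.H34.RStalk.Ox O x)
      (M := ModSite.stalkAb (Opens.pointGrothendieckTopology x) L)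
      (M' := (Groth.Agent.H34.RStalk.stalkFunctor O x).obj L)
      (Groth.Agent.H34.RPoint.ringIso O x).commRingCatIsoToRingEquiv
      (Groth.Agent.H34.RPoint.abIso x L).addCommGroupIsoToAddEquiv
      (fun r m => Groth.Agent.H34.RPoint.abIso_smul x L r m)
      (ModSite.germ (Opens.pointGrothendieckTopology x) L U ⟨⟨hx⟩⟩ s)
    refine h.symm.trans (Eq.to_iff ?_)
    exact congrArg (fun t : ((Groth.Agent.H34.RStalk.stalkFunctor O x).obj L : Type u) => t ∈
        (@IsLocalRing.maximalIdeal (Groth.Agent.H34.RStalk.Ox O x) _ (hO' x)) •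
          (⊤ : Submodule (Groth.Agent.H34.RStalk.Ox O x)
            ((Groth.Agent.H34.RStalk.stalkFunctor O x).obj L)))
      (Groth.Agent.H34.RPoint.abIso_pgM x L U hx s)
  constructor
  · have hopen := Groth.Agent.H34.RStalk.isOpen_nonvanishing L L' ε hO' U s
    have hset : {x : X | ∃ hx : x ∈ U,
        ModSite.germ (Opens.pointGrothendieckTopology x) L U ⟨⟨hx⟩⟩ s ∉
        (@IsLocalRing.maximalIdeal (ModSite.stalkRing (Opens.pointGrothendieckTopology x) O) _ (hO x)) •
          (⊤ : Submodule (ModSite.stalkRing (Opens.pointGrothendieckTopology x) O)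
            (ModSite.stalkAb (Opens.pointGrothendieckTopology x) L))} =
        {x : X | ∃ hx : x ∈ U, Groth.Agent.H34.RStalk.gm x L U hx s ∉
          (@IsLocalRing.maximalIdeal (Groth.Agent.H34.RStalk.Ox O x) _ (hO' x)) •
            (⊤ : Submodule (Groth.Agent.H34.RStalk.Ox O x)
              ((Groth.Agent.H34.RStalk.stalkFunctor O x).obj L))} := by
      ext x
      exact exists_congr (fun hx => not_congr (key x hx))
    rw [hset]
    exact hopen
  · intro x hx hs
    haveI := hO x
    haveI := hO' x
    have hs' := (not_congr (key x hx)).1 hs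
    have hb := Groth.Agent.H34.RStalk.bijective_smul_germ L L' ε x U s hx hs'
    refine Groth.Agent.H34.InvLocal.bijective_smul_of_semilinear
      (R := ModSite.stalkRing (Opens.pointGrothendieckTopology x) O)
      (R' := Groth.Agent.H34.RStalk.Ox O x)
      (M := ModSite.stalkAb (Opens.pointGrothendieckTopology x) L)
      (M' := (Groth.Agent.H34.RStalk.stalkFunctor O x).obj L)
      (Groth.Agent.H34.RPoint.ringIso O x).commRingCatIsoToRingEquiv
      (Groth.Agent.H34.RPoint.abIso x L).addCommGroupIsoToAddEquiv
      (fun r m => Groth.Agent.H34.RPoint.abIso_smul x L r m) _ ?_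
    exact (congrArg (fun t : ((Groth.Agent.H34.RStalk.stalkFunctor O x).obj L : Type u) =>
      Function.Bijective (fun a : Groth.Agent.H34.RStalk.Ox O x => a • t))
      (Groth.Agent.H34.RPoint.abIso_pgM x L U hx s)).mpr hb


end Groth.Agent.H34.RStalk
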