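import Groth.Agent.H34.RPullTensor
import Groth.Agent.H34.ModInvert2
import Groth.Agent.H34.PullFreeRMor

/-!
# The pullback of an invertible module on a ringed space is invertible
-/

set_option autoImplicit false
universe u
open CategoryTheory CategoryTheory.Limits Opposite TopologicalSpace MonoidalCategory

namespace Groth.Agent.H34.RStalk

open Groth.Agent.H45 Groth.Agent.H34.ModPushFT

variable {X Y : TopCat.{u}} (f : X ⟶ Y)
  (O_X : Sheaf (Opens.grothendieckTopology X) CommRingCat.{u})
  (O_Y : Sheaf (Opens.grothendieckTopology Y) CommRingCat.{u})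
  (c : O_Y ⟶ ((Opens.map f).sheafPushforwardContinuous CommRingCat.{u}
      (Opens.grothendieckTopology Y) (Opens.grothendieckTopology X)).obj O_X)

/-- `f^* O_Y ≅ O_X` -/
noncomputable def pullUnitIso : (ipull f O_X O_Y c).obj (ModSite.unit O_Y) ≅ ModSite.unit O_X :=
  haveI := Groth.Agent.H34.PullFreeRMor.isIso_pullbackObjUnitToUnit
    (ModSite.RMor.ofFlat (Opens.map f) c).sharpR
    (Groth.Agent.H34.PullFreeRMor.isTerminalPullbackTerm (ModSite.RMor.ofFlat (Opens.map f) c))
  asIso (SheafOfModules.pullbackObjUnitToUnit (ModSite.RMor.ofFlat (Opens.map f) c).sharpR)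

/-- The pullback of an invertible module is invertible. -/
theorem isEquivalence_tensor_pull (L : ModSite.Mod O_Y)
    (hL : ((ModSite.tensorBi O_Y).obj L).IsEquivalence) :
    ((ModSite.tensorBi O_X).obj ((ipull f O_X O_Y c).obj L)).IsEquivalence := by
  haveI : ModSite.HasSheafHom L := hasSheafHom O_Y L
  obtain ⟨-, hε⟩ := Groth.Agent.H34.ModInvert.isEquivalence_dual L hL
  let L' := (ModSite.sheafHom L).obj (ModSite.unit O_Y)
  let ε : tens L' L ≅ ModSite.unit O_Y :=
    @asIso _ _ _ _ ((ModSite.sheafHomAdj L).counit.app (ModSite.unit O_Y)) hε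
  let e : tens ((ipull f O_X O_Y c).obj L') ((ipull f O_X O_Y c).obj L) ≅ ModSite.unit O_X :=
    (pullTensorIso f O_X O_Y c L' L).symm ≪≫ (ipull f O_X O_Y c).mapIso ε ≪≫
      pullUnitIso f O_X O_Y c
  exact Groth.Agent.H34.ModInvert.isEquivalence_of_tensor_iso_unit
    ((ipull f O_X O_Y c).obj L) ((ipull f O_X O_Y c).obj L') e

end Groth.Agent.H34.RStalk
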