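import Groth.Agent.H34.RStalk4
import Groth.Prelude.Def_ModSite2
import Mathlib.Topology.Sheaves.Points
import Mathlib.Topology.Sheaves.Stalks

/-!
# The fibre at the point of the site of opens given by `x` is the stalk at `x`
-/

set_option autoImplicit false
universe u
open CategoryTheory CategoryTheory.Limits Opposite TopologicalSpace

namespace Groth.Agent.H34.RPoint

variable {X : TopCat.{u}} (x : X)

/-- the point of the site of opens of `X` given by `x` -/
abbrev pt : GrothendieckTopology.Point.{u} (Opens.grothendieckTopology X) :=
  Opens.pointGrothendieckTopology x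

/-- the element of the fibre given by a proof of membership -/
abbrev el {U : Opens X} (h : x ∈ U) : (pt x).fiber.obj U := ⟨⟨h⟩⟩

lemma el_down {U : Opens X} (h : (pt x).fiber.obj U) : el x h.down.down = h := rfl

section General

variable {A : Type (u + 1)} [Category.{u} A] [HasColimitsOfSize.{u, u} A]
  (P : (Opens X)ᵒᵖ ⥤ A)

/-- the map from the fibre to the stalk -/
noncomputable def fiberToStalk : (pt x).presheafFiber.obj P ⟶ TopCat.Presheaf.stalk P x :=
  (pt x).presheafFiberDesc (fun U h => TopCat.Presheaf.germ P U x h.down.down)
    (fun U V g h => TopCat.Presheaf.germ_res P g x h.down.down)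

@[reassoc]
lemma toPresheafFiber_fiberToStalk (U : Opens X) (h : x ∈ U) :
    (pt x).toPresheafFiber U (el x h) P ≫ fiberToStalk x P = TopCat.Presheaf.germ P U x h :=
  (pt x).toPresheafFiber_presheafFiberDesc _ _ U (el x h)

/-- the cocone defining the map from the stalk to the fibre -/
noncomputable def stalkCocone : Cocone ((OpenNhds.inclusion x).op ⋙ P) where
  pt := (pt x).presheafFiber.obj P
  ι :=
    { app := fun U => (pt x).toPresheafFiber U.unop.1 (el x U.unop.2) P
      naturality := fun U V g =>
        ((pt x).toPresheafFiber_w ((OpenNhds.inclusion x).map g.unop) (el x V.unop.2) P).trans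
          (Category.comp_id _).symm }

/-- the map from the stalk to the fibre -/
noncomputable def stalkToFiber : TopCat.Presheaf.stalk P x ⟶ (pt x).presheafFiber.obj P :=
  colimit.desc ((OpenNhds.inclusion x).op ⋙ P) (stalkCocone x P)

@[reassoc]
lemma germ_stalkToFiber (U : Opens X) (h : x ∈ U) :
    TopCat.Presheaf.germ P U x h ≫ stalkToFiber x P = (pt x).toPresheafFiber U (el x h) P :=
  colimit.ι_desc (stalkCocone x P) (op (⟨U, h⟩ : OpenNhds x))

/-- the fibre at the point of the site is the stalk -/
noncomputable def fiberStalkIso : (pt x).presheafFiber.obj P ≅ TopCat.Presheaf.stalk P x where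
  hom := fiberToStalk x P
  inv := stalkToFiber x P
  hom_inv_id := by
    apply (pt x).presheafFiber_hom_ext
    intro U h
    have h1 := toPresheafFiber_fiberToStalk_assoc x P U h.down.down (stalkToFiber x P)
    have h2 := germ_stalkToFiber x P U h.down.down
    exact (h1.trans h2).trans (Category.comp_id _).symm
  inv_hom_id := by
    apply TopCat.Presheaf.stalk_hom_ext
    intro U h
    rw [germ_stalkToFiber_assoc, toPresheafFiber_fiberToStalk, Category.comp_id]

variable {P} in
lemma fiberToStalk_naturality {Q : (Opens X)ᵒᵖ ⥤ A} (g : P ⟶ Q) :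
    (pt x).presheafFiber.map g ≫ fiberToStalk x Q =
      fiberToStalk x P ≫ (TopCat.Presheaf.stalkFunctor A x).map g := by
  apply (pt x).presheafFiber_hom_ext
  intro U h
  have h1 := (pt x).toPresheafFiber_naturality_assoc g U h (fiberToStalk x Q)
  have h2 := toPresheafFiber_fiberToStalk x Q U h.down.down
  have h3 := toPresheafFiber_fiberToStalk_assoc x P U h.down.down
    ((TopCat.Presheaf.stalkFunctor A x).map g)
  have h4 := TopCat.Presheaf.stalkFunctor_map_germ U x h.down.down g
  exact (h1.trans (congrArg (fun t => g.app (op U) ≫ t) h2)).trans (h4.symm.trans h3.symm)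

end General

end Groth.Agent.H34.RPoint
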