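import Groth.Agent.H34.RStalk3
import Mathlib.Algebra.Category.Grp.EpiMono
import Mathlib.Algebra.Category.ModuleCat.EpiMono
import Mathlib.Algebra.Homology.ShortComplex.ExactFunctor
import Mathlib.RingTheory.Flat.Basic
import Mathlib.RingTheory.RingHom.Flat

/-!
# Monomorphisms of modules on a ringed space are detected on stalks; flat morphisms
-/

set_option autoImplicit false
universe u
open CategoryTheory CategoryTheory.Limits Opposite TopologicalSpace

namespace Groth.Agent.H34.RStalk

open Groth.Agent.H45 Groth.Agent.H34.ModPushFT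

section Exact

variable {X : TopCat.{u}} {O : Sheaf (Opens.grothendieckTopology X) CommRingCat.{u}}

lemma sm_injective_of_mono {M N : ModSite.Mod O} (φ : M ⟶ N) [Mono φ] (U : Opens X) :
    Function.Injective (sm φ U) := by
  have h1 : Mono ((forg O).map φ) := inferInstance
  have h2 : Mono ((PresheafOfModules.evaluation _ (op U)).map ((forg O).map φ)) := inferInstance
  exact (ModuleCat.mono_iff_injective _).1 h2

lemma mono_of_sm_injective {M N : ModSite.Mod O} (φ : M ⟶ N)
    (h : ∀ U : Opens X, Function.Injective (sm φ U)) : Mono φ := by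
  have h₁ : Mono ((forg O).map φ) := by
    apply (PresheafOfModules.toPresheaf _).mono_of_mono_map
    rw [NatTrans.mono_iff_mono_app]
    intro U
    exact (AddCommGrpCat.mono_iff_injective _).2 (h U.unop)
  exact (forg O).mono_of_mono_map h₁

lemma stalkAdd_injective_of_mono (x : X) {M N : ModSite.Mod O} (φ : M ⟶ N) [Mono φ] :
    Function.Injective (stalkAdd φ x) :=
  TopCat.Presheaf.stalkFunctor_map_injective_of_app_injective (f := pmap φ)
    (fun U => sm_injective_of_mono φ U) x

lemma stalkFunctor_map_injective_of_mono (x : X) {M N : ModSite.Mod O} (φ : M ⟶ N) [Mono φ] :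
    Function.Injective ((stalkFunctor O x).map φ).hom :=
  stalkAdd_injective_of_mono x φ

/-- A morphism of modules is a monomorphism if it is injective on all stalks. -/
lemma mono_of_stalkFunctor_map_injective {M N : ModSite.Mod O} (φ : M ⟶ N)
    (h : ∀ x : X, Function.Injective ((stalkFunctor O x).map φ).hom) : Mono φ := by
  apply mono_of_sm_injective
  intro U
  exact TopCat.Presheaf.app_injective_of_stalkFunctor_map_injective
    (F := ⟨pa O M, M.isSheaf⟩) (pmap φ) U (fun x _ => h x)

lemma mono_of_mono_stalkFunctor_map {M N : ModSite.Mod O} (φ : M ⟶ N)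
    (h : ∀ x : X, Mono ((stalkFunctor O x).map φ)) : Mono φ :=
  mono_of_stalkFunctor_map_injective φ (fun x => (ModuleCat.mono_iff_injective _).1 (h x))

instance (x : X) : (stalkFunctor O x).PreservesMonomorphisms where
  preserves φ _ := (ModuleCat.mono_iff_injective _).2 (stalkFunctor_map_injective_of_mono x φ)

end Exact

section Flat

variable {X Y : TopCat.{u}} (f : X ⟶ Y)
  (O_X : Sheaf (Opens.grothendieckTopology X) CommRingCat.{u})
  (O_Y : Sheaf (Opens.grothendieckTopology Y) CommRingCat.{u})
  (c : O_Y ⟶ ((Opens.map f).sheafPushforwardContinuous CommRingCat.{u}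
      (Opens.grothendieckTopology Y) (Opens.grothendieckTopology X)).obj O_X)

/-- extension of scalars along a flat ring map preserves monomorphisms -/
lemma mono_extendScalars_map {R S : Type u} [CommRing R] [CommRing S] (g : R →+* S) (hg : g.Flat)
    {A B : ModuleCat.{u} R} (φ : A ⟶ B) [Mono φ] : Mono ((ModuleCat.extendScalars g).map φ) := by
  letI := g.toAlgebra
  haveI : Module.Flat R S := hg
  rw [ModuleCat.mono_iff_injective]
  have hφ : Function.Injective φ.hom := (ModuleCat.mono_iff_injective φ).1 inferInstance
  exact Module.Flat.lTensor_preserves_injective_linearMap (M := S) φ.hom hφ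

/-- If all the stalk maps are flat, the pullback of modules preserves monomorphisms. -/
theorem mono_pull_map_of_flat
    (hflat : ∀ x : X, (stalkRingMap f O_X O_Y c x).hom.Flat)
    {M N : ModSite.Mod O_Y} (φ : M ⟶ N) [Mono φ] : Mono ((ipull f O_X O_Y c).map φ) := by
  apply mono_of_mono_stalkFunctor_map
  intro x
  have h₁ : Mono ((stalkExt f O_X O_Y c x).map φ) :=
    mono_extendScalars_map _ (hflat x) ((stalkFunctor O_Y (f x)).map φ)
  have h₂ : (pullbackStalk f O_X O_Y c x).map φ ≫ (pullbackStalkIso f O_X O_Y c x).hom.app N =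
      (pullbackStalkIso f O_X O_Y c x).hom.app M ≫ (stalkExt f O_X O_Y c x).map φ :=
    (pullbackStalkIso f O_X O_Y c x).hom.naturality φ
  have h₃ : Mono ((pullbackStalk f O_X O_Y c x).map φ ≫
      (pullbackStalkIso f O_X O_Y c x).hom.app N) := by
    rw [h₂]
    infer_instance
  exact mono_of_mono ((pullbackStalk f O_X O_Y c x).map φ)
    ((pullbackStalkIso f O_X O_Y c x).hom.app N)

/-- If all the stalk maps are flat, the pullback of modules is exact. -/
theorem preservesFiniteLimits_pull_of_flat
    (hflat : ∀ x : X, (stalkRingMap f O_X O_Y c x).hom.Flat) :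
    PreservesFiniteLimits (ipull f O_X O_Y c) := by
  haveI : (ipull f O_X O_Y c).IsLeftAdjoint := (ModSite.RMor.ofFlat (Opens.map f) c).adj.isLeftAdjoint
  haveI := preservesBinaryBiproducts_of_preservesBinaryCoproducts (ipull f O_X O_Y c)
  haveI : (ipull f O_X O_Y c).Additive := Functor.additive_of_preservesBinaryBiproducts _
  rw [Functor.preservesFiniteLimits_iff_forall_exact_map_and_mono]
  intro S hS
  have h := (Functor.preservesFiniteColimits_iff_forall_exact_map_and_epi (ipull f O_X O_Y c)).1
    inferInstance S hS
  have := hS.mono_f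
  exact ⟨h.1, mono_pull_map_of_flat f O_X O_Y c hflat S.f⟩

end Flat

end Groth.Agent.H34.RStalk
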