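import Groth.Agent.H34.RPoint2
import Groth.Agent.H34.RStalk4
import Mathlib.CategoryTheory.Sites.Point.Skyscraper
import Mathlib.CategoryTheory.Adjunction.Unique

/-!
# The stalk of the pulled-back structure sheaf
-/

set_option autoImplicit false
universe u
open CategoryTheory CategoryTheory.Limits Opposite TopologicalSpace

namespace Groth.Agent.H34.RPoint

open Groth.Agent.H45 Groth.Agent.H34.RStalk Groth.Agent.H34.ModPushFT

variable {X Y : TopCat.{u}} (f : X ⟶ Y) (x : X)

/-- the fibre functors agree -/
lemma fiber_comp : Opens.map f ⋙ (pt x).fiber = (pt (f x)).fiber := rfl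

section

variable (A : Type (u + 1)) [Category.{u} A] [HasProducts.{u} A]

/-- the push-forward of a skyscraper sheaf is a skyscraper sheaf -/
noncomputable def pushSkyIsoP :
    (pt x).skyscraperSheafFunctor (A := A) ⋙
        (Opens.map f).sheafPushforwardContinuous A (Opens.grothendieckTopology Y)
          (Opens.grothendieckTopology X) ≅
      (pt (f x)).skyscraperSheafFunctor (A := A) :=
  Iso.refl _


variable [HasColimitsOfSize.{u, u} A]

set_option backward.defeqAttrib.useBackward true in
set_option backward.isDefEq.respectTransparency false in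
lemma sky_homEquiv_app_π {Z : TopCat.{u}} (z : Z) (P : Sheaf (Opens.grothendieckTopology Z) A)
    (M : A) (g : (pt z).sheafFiber.obj P ⟶ M) (U : Opens Z) (y : (pt z).fiber.obj U) :
    ((pt z).skyscraperSheafAdjunction.homEquiv P M g).hom.app (op U) ≫
        Pi.π (fun _ : (pt z).fiber.obj U => M) y =
      (pt z).toPresheafFiber U y P.obj ≫ g := by
  have h := (pt z).skyscraperSheafAdjunction_homEquiv_apply_hom (F := P) (M := M) g
  exact (congrArg (fun t => t.app (op U) ≫ Pi.π (fun _ : (pt z).fiber.obj U => M) y) h).trans
    ((pt z).skyscraperPresheafHomEquiv_app_π g U y)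

variable
  [((Opens.map f).sheafPushforwardContinuous A (Opens.grothendieckTopology Y)
    (Opens.grothendieckTopology X)).IsRightAdjoint]

/-- the pullback-pushforward adjunction on sheaves -/
noncomputable abbrev adjP :=
  (Opens.map f).sheafAdjunctionContinuous A (Opens.grothendieckTopology Y)
    (Opens.grothendieckTopology X)

/-- the adjunction `(f⁻¹ -)_x ⊣ f_* sky_x` -/
noncomputable def adj1 :
    (Opens.map f).sheafPullback A (Opens.grothendieckTopology Y) (Opens.grothendieckTopology X) ⋙
        (pt x).sheafFiber ⊣
      (pt x).skyscraperSheafFunctor (A := A) ⋙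
        (Opens.map f).sheafPushforwardContinuous A (Opens.grothendieckTopology Y)
          (Opens.grothendieckTopology X) :=
  (adjP f A).comp (pt x).skyscraperSheafAdjunction

/-- the stalk of a pullback: `(f⁻¹ G)_x ≅ G_{f x}` -/
noncomputable def pullFiberIso :
    (Opens.map f).sheafPullback A (Opens.grothendieckTopology Y) (Opens.grothendieckTopology X) ⋙
        (pt x).sheafFiber ≅ (pt (f x)).sheafFiber :=
  (adj1 f x A).leftAdjointUniq
    (((pt (f x)).skyscraperSheafAdjunction).ofNatIsoRight (pushSkyIsoP f x A).symm)

/-- the unit of the pullback-pushforward adjunction on sections -/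
noncomputable def unitApp (G : Sheaf (Opens.grothendieckTopology Y) A) (V : Opens Y) :
    G.obj.obj (op V) ⟶
      (((Opens.map f).sheafPullback A (Opens.grothendieckTopology Y)
        (Opens.grothendieckTopology X)).obj G).obj.obj (op ((Opens.map f).obj V)) :=
  ((adjP f A).unit.app G).hom.app (op V)

set_option backward.defeqAttrib.useBackward true in
set_option backward.isDefEq.respectTransparency false in
lemma pullFiberIso_hom_germ (G : Sheaf (Opens.grothendieckTopology Y) A) (V : Opens Y)
    (h : f x ∈ V) :
    unitApp f A G V ≫ (pt x).toPresheafFiber ((Opens.map f).obj V) (el x h) _ ≫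
        (pullFiberIso f x A).hom.app G =
      (pt (f x)).toPresheafFiber V (el (f x) h) G.obj := by
  have key := Adjunction.homEquiv_leftAdjointUniq_hom_app (adj1 f x A)
    (((pt (f x)).skyscraperSheafAdjunction).ofNatIsoRight (pushSkyIsoP f x A).symm) G
  rw [← Adjunction.homEquiv_id, Adjunction.homEquiv_ofNatIsoRight_apply] at key
  have e1 : ∀ (M : A) (g : ((Opens.map f).sheafPullback A (Opens.grothendieckTopology Y)
      (Opens.grothendieckTopology X) ⋙ (pt x).sheafFiber).obj G ⟶ M),
      (adj1 f x A).homEquiv G M g =
        (adjP f A).unit.app G ≫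
          ((Opens.map f).sheafPushforwardContinuous A (Opens.grothendieckTopology Y)
            (Opens.grothendieckTopology X)).map
              ((pt x).skyscraperSheafAdjunction.homEquiv _ _ g) := by
    intro M g
    unfold adj1
    rw [Adjunction.comp_homEquiv]
    exact (adjP f A).homEquiv_unit _ _ _
  rw [e1] at key
  have key2 := congrArg (fun φ => φ.hom.app (op V) ≫ Pi.π _ (el (f x) h)) key
  dsimp only at key2
  have hL := sky_homEquiv_app_π A x
    (((Opens.map f).sheafPullback A (Opens.grothendieckTopology Y)
      (Opens.grothendieckTopology X)).obj G) _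
    ((pullFiberIso f x A).hom.app G) ((Opens.map f).obj V) (el x h)
  have hR := sky_homEquiv_app_π A (f x) G _ (𝟙 ((pt (f x)).sheafFiber.obj G)) V (el (f x) h)
  refine Eq.trans ?_ (key2.trans ?_)
  · refine ((congrArg (fun t => unitApp f A G V ≫ t) hL).symm).trans ?_
    exact (Category.assoc _ _ _).symm
  · refine Eq.trans ?_ (hR.trans (Category.comp_id _))
    refine congrArg (fun t => t ≫ Pi.π _ (el (f x) h)) ?_
    exact Category.comp_id _


end

end Groth.Agent.H34.RPoint
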