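import Groth.Agent.H34.RStalk2
import Mathlib.Algebra.Category.ModuleCat.ChangeOfRings
import Mathlib.CategoryTheory.Adjunction.Unique

/-!
# The pushforward of a skyscraper module and the stalk of a pullback, on ringed spaces
-/

set_option autoImplicit false
universe u
open CategoryTheory CategoryTheory.Limits Opposite TopologicalSpace

namespace Groth.Agent.H34.RStalk

open Groth.Agent.H45 Groth.Agent.H34.ModPushFT

variable {X Y : TopCat.{u}} (f : X ⟶ Y)
  (O_X : Sheaf (Opens.grothendieckTopology X) CommRingCat.{u})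
  (O_Y : Sheaf (Opens.grothendieckTopology Y) CommRingCat.{u})
  (c : O_Y ⟶ ((Opens.map f).sheafPushforwardContinuous CommRingCat.{u}
      (Opens.grothendieckTopology Y) (Opens.grothendieckTopology X)).obj O_X)
  (x : X)

/-- the ring map on stalks -/
noncomputable def stalkRingMap : Ox O_Y (f x) ⟶ Ox O_X x :=
  (TopCat.Presheaf.stalkFunctor CommRingCat.{u} (f x)).map
      (show O_Y.obj ⟶ (TopCat.Presheaf.pushforward CommRingCat.{u} f).obj O_X.obj from c.hom) ≫
    TopCat.Presheaf.stalkPushforward CommRingCat.{u} f O_X.obj x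

lemma stalkRingMap_gO (V : Opens Y) (hV : f x ∈ V) (r : O_Y.obj.obj (op V)) :
    (stalkRingMap f O_X O_Y c x).hom (gO (O := O_Y) (f x) V hV r) =
      gO (O := O_X) x ((Opens.map f).obj V) hV (cU f O_X O_Y c V r) := by
  have h1 := TopCat.Presheaf.stalkFunctor_map_germ_apply V (f x) hV
    (show O_Y.obj ⟶ (TopCat.Presheaf.pushforward CommRingCat.{u} f).obj O_X.obj from c.hom) r
  have h2 := TopCat.Presheaf.stalkPushforward_germ_apply CommRingCat.{u} f O_X.obj V x hV
    (cU f O_X O_Y c V r)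
  exact (congrArg (TopCat.Presheaf.stalkPushforward CommRingCat.{u} f O_X.obj x).hom h1).trans h2

/-- restriction of scalars along the stalk map -/
noncomputable abbrev resStalk :
    ModuleCat.{u} (Ox O_X x) ⥤ ModuleCat.{u} (Ox O_Y (f x)) :=
  ModuleCat.restrictScalars (stalkRingMap f O_X O_Y c x).hom

variable (N : ModuleCat.{u} (Ox O_X x))

/-- the map `f_* sky_x N ⟶ sky_{f x} N` -/
noncomputable def pushSkyHom :
    (ipush f O_X O_Y c).obj (sky O_X x N) ⟶ sky O_Y (f x) ((resStalk f O_X O_Y c x).obj N) :=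
  ⟨PresheafOfModules.homMk (M₁ := pm O_Y ((ipush f O_X O_Y c).obj (sky O_X x N)))
      (M₂ := skyPre O_Y (f x) ((resStalk f O_X O_Y c x).obj N))
    { app := fun V => AddCommGrpCat.ofHom
        { toFun := fun (φ : SkyCarrier O_X x N ((Opens.map f).obj V.unop)) =>
            (fun h => φ ⟨h.down⟩ :
              SkyCarrier O_Y (f x) ((resStalk f O_X O_Y c x).obj N) V.unop)
          map_zero' := rfl
          map_add' := fun _ _ => rfl }
      naturality := fun _ _ _ => rfl }
    (fun V r φ => funext (fun h => by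
      exact congrArg (fun t : Ox O_X x => t • (φ ⟨h.down⟩ : N))
        (stalkRingMap_gO f O_X O_Y c x V.unop h.down r).symm))⟩

/-- the map `sky_{f x} N ⟶ f_* sky_x N` -/
noncomputable def pushSkyInv :
    sky O_Y (f x) ((resStalk f O_X O_Y c x).obj N) ⟶ (ipush f O_X O_Y c).obj (sky O_X x N) :=
  ⟨PresheafOfModules.homMk (M₁ := skyPre O_Y (f x) ((resStalk f O_X O_Y c x).obj N))
      (M₂ := pm O_Y ((ipush f O_X O_Y c).obj (sky O_X x N)))
    { app := fun V => AddCommGrpCat.ofHom
        { toFun := fun (φ : SkyCarrier O_Y (f x) ((resStalk f O_X O_Y c x).obj N) V.unop) =>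
            (fun h => φ ⟨h.down⟩ : SkyCarrier O_X x N ((Opens.map f).obj V.unop))
          map_zero' := rfl
          map_add' := fun _ _ => rfl }
      naturality := fun _ _ _ => rfl }
    (fun V r φ => funext (fun h => by
      exact congrArg (fun t : Ox O_X x => t • (φ ⟨h.down⟩ : N))
        (stalkRingMap_gO f O_X O_Y c x V.unop h.down r)))⟩

/-- `f_* sky_x N ≅ sky_{f x} N` -/
noncomputable def pushSkyIso :
    (ipush f O_X O_Y c).obj (sky O_X x N) ≅ sky O_Y (f x) ((resStalk f O_X O_Y c x).obj N) where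
  hom := pushSkyHom f O_X O_Y c x N
  inv := pushSkyInv f O_X O_Y c x N
  hom_inv_id := by
    apply SheafOfModules.hom_ext
    apply PresheafOfModules.hom_ext
    rintro ⟨U⟩
    apply ModuleCat.hom_ext
    apply LinearMap.ext
    intro m
    rfl
  inv_hom_id := by
    apply SheafOfModules.hom_ext
    apply PresheafOfModules.hom_ext
    rintro ⟨U⟩
    apply ModuleCat.hom_ext
    apply LinearMap.ext
    intro m
    rfl

/-- `f_* ∘ sky_x ≅ sky_{f x} ∘ res` -/
noncomputable def pushSkyNatIso :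
    skyFunctor O_X x ⋙ ipush f O_X O_Y c ≅ resStalk f O_X O_Y c x ⋙ skyFunctor O_Y (f x) :=
  NatIso.ofComponents (fun N => pushSkyIso f O_X O_Y c x N) (fun g => by
    apply SheafOfModules.hom_ext
    apply PresheafOfModules.hom_ext
    rintro ⟨U⟩
    apply ModuleCat.hom_ext
    apply LinearMap.ext
    intro m
    rfl)

/-- extension of scalars along the stalk map -/
noncomputable abbrev extStalk :
    ModuleCat.{u} (Ox O_Y (f x)) ⥤ ModuleCat.{u} (Ox O_X x) :=
  ModuleCat.extendScalars (stalkRingMap f O_X O_Y c x).hom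

/-- the pullback functor -/
noncomputable abbrev ipull : ModSite.Mod O_Y ⥤ ModSite.Mod O_X :=
  (ModSite.RMor.ofFlat (Opens.map f) c).pull

/-- `(f^* M)_x`, as a functor in `M` -/
noncomputable abbrev pullbackStalk : ModSite.Mod O_Y ⥤ ModuleCat.{u} (Ox O_X x) :=
  ipull f O_X O_Y c ⋙ stalkFunctor O_X x

/-- `M_{f x} ⊗ O_{X,x}`, as a functor in `M` -/
noncomputable abbrev stalkExt : ModSite.Mod O_Y ⥤ ModuleCat.{u} (Ox O_X x) :=
  stalkFunctor O_Y (f x) ⋙ extStalk f O_X O_Y c x

/-- the adjunction `(f^* -)_x ⊣ f_* sky_x` -/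
noncomputable def pullbackStalkAdj :
    pullbackStalk f O_X O_Y c x ⊣ skyFunctor O_X x ⋙ ipush f O_X O_Y c :=
  ((ModSite.RMor.ofFlat (Opens.map f) c).adj).comp (stalkSkyAdjunction O_X x)

/-- the adjunction `(-)_{f x} ⊗ O_{X,x} ⊣ sky_{f x} ∘ res` -/
noncomputable def stalkExtAdj :
    stalkExt f O_X O_Y c x ⊣ resStalk f O_X O_Y c x ⋙ skyFunctor O_Y (f x) :=
  (stalkSkyAdjunction O_Y (f x)).comp
    (ModuleCat.extendRestrictScalarsAdj (stalkRingMap f O_X O_Y c x).hom)

/-- The stalk of a pullback: `(f^* M)_x ≅ M_{f x} ⊗_{O_{Y, f x}} O_{X, x}`, naturally in `M`. -/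
noncomputable def pullbackStalkIso : pullbackStalk f O_X O_Y c x ≅ stalkExt f O_X O_Y c x :=
  (pullbackStalkAdj f O_X O_Y c x).leftAdjointUniq
    ((stalkExtAdj f O_X O_Y c x).ofNatIsoRight (pushSkyNatIso f O_X O_Y c x).symm)

end Groth.Agent.H34.RStalk
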