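import Groth.Agent.H34.RPoint3
import Groth.Agent.H34.RStalk3
import Groth.Prelude.Def_ModSite2

/-!
# The stalk of `f⁻¹O_Y ⟶ O_X` is the stalk map of the ringed-space morphism
-/

set_option autoImplicit false
universe u
open CategoryTheory CategoryTheory.Limits Opposite TopologicalSpace

namespace Groth.Agent.H34.RPoint

open Groth.Agent.H45 Groth.Agent.H34.RStalk Groth.Agent.H34.ModPushFT

variable {X Y : TopCat.{u}} (f : X ⟶ Y)
  (O_X : Sheaf (Opens.grothendieckTopology X) CommRingCat.{u})
  (O_Y : Sheaf (Opens.grothendieckTopology Y) CommRingCat.{u})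
  (c : O_Y ⟶ ((Opens.map f).sheafPushforwardContinuous CommRingCat.{u}
      (Opens.grothendieckTopology Y) (Opens.grothendieckTopology X)).obj O_X)
  (x : X)

/-- the morphism of ringed sites -/
noncomputable abbrev RR : ModSite.RMor O_X O_Y := ModSite.RMor.ofFlat (Opens.map f) c

/-- `(f⁻¹O_Y)_x ≅ O_{Y, f x}` (point fibre on the left, stalk on the right) -/
noncomputable def invRingStalkIso :
    ModSite.stalkRing (pt x) (RR f O_X O_Y c).invRing ≅ Ox O_Y (f x) :=
  (pullFiberIso f x CommRingCat.{u}).app O_Y ≪≫ ringIso O_Y (f x)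

lemma unit_invSharp :
    (adjP f CommRingCat.{u}).unit.app O_Y ≫
      ((Opens.map f).sheafPushforwardContinuous CommRingCat.{u}
        (Opens.grothendieckTopology Y) (Opens.grothendieckTopology X)).map
          (RR f O_X O_Y c).invSharp = c := by
  have h := (adjP f CommRingCat.{u}).homEquiv_unit (X := O_Y) (Y := O_X)
    (f := (RR f O_X O_Y c).invSharp)
  refine h.symm.trans ?_
  exact Equiv.apply_symm_apply _ _

lemma unitApp_invSharp (V : Opens Y) :
    unitApp f CommRingCat.{u} O_Y V ≫
      (RR f O_X O_Y c).invSharp.hom.app (op ((Opens.map f).obj V)) = c.hom.app (op V) :=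
  congrArg (fun φ => φ.hom.app (op V)) (unit_invSharp f O_X O_Y c)

lemma invRingStalkIso_compat :
    (invRingStalkIso f O_X O_Y c x).hom ≫ stalkRingMap f O_X O_Y c x =
      (pt x).sheafFiber.map (RR f O_X O_Y c).invSharp ≫ (ringIso O_X x).hom := by
  suffices H : (ringIso O_Y (f x)).hom ≫ stalkRingMap f O_X O_Y c x =
      ((pullFiberIso f x CommRingCat.{u}).app O_Y).inv ≫
        (pt x).sheafFiber.map (RR f O_X O_Y c).invSharp ≫ (ringIso O_X x).hom by
    have h2 := (Iso.eq_inv_comp ((pullFiberIso f x CommRingCat.{u}).app O_Y)).mp H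
    exact (Category.assoc _ _ _).trans h2
  apply (pt (f x)).presheafFiber_hom_ext
  intro V h
  -- left side
  have hL : (pt (f x)).toPresheafFiber V h O_Y.obj ≫ (ringIso O_Y (f x)).hom ≫
      stalkRingMap f O_X O_Y c x =
      c.hom.app (op V) ≫ TopCat.Presheaf.germ O_X.obj ((Opens.map f).obj V) x h.down.down := by
    have h1 := toPresheafFiber_fiberToStalk_assoc (f x) O_Y.obj V h.down.down
      (stalkRingMap f O_X O_Y c x)
    refine h1.trans ?_
    apply CommRingCat.hom_ext
    apply RingHom.ext
    intro r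
    exact stalkRingMap_gO f O_X O_Y c x V h.down.down r
  refine hL.trans ?_
  -- right side
  have g1 := pullFiberIso_hom_germ f x CommRingCat.{u} O_Y V h.down.down
  have g2 : (pt (f x)).toPresheafFiber V h O_Y.obj ≫
      ((pullFiberIso f x CommRingCat.{u}).app O_Y).inv =
      unitApp f CommRingCat.{u} O_Y V ≫
        (pt x).toPresheafFiber ((Opens.map f).obj V) (el x h.down.down) _ :=
    (Iso.comp_inv_eq _).mpr (g1.symm.trans (Category.assoc _ _ _).symm)
  have g3 := (pt x).toPresheafFiber_naturality (RR f O_X O_Y c).invSharp.hom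
    ((Opens.map f).obj V) (el x h.down.down)
  have g4 := toPresheafFiber_fiberToStalk x O_X.obj ((Opens.map f).obj V) h.down.down
  have g5 := unitApp_invSharp f O_X O_Y c V
  apply CommRingCat.hom_ext
  apply RingHom.ext
  intro r
  have g2' := congrArg (fun φ => φ.hom r) g2
  have g3' := congrArg (fun φ => φ.hom ((unitApp f CommRingCat.{u} O_Y V).hom r)) g3
  have g5' := congrArg (fun φ => φ.hom r) g5
  have g4' := congrArg (fun φ => φ.hom ((c.hom.app (op V)).hom r)) g4
  refine Eq.symm ?_
  refine (congrArg (fun z => (ringIso O_X x).hom.hom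
    (((pt x).sheafFiber.map (RR f O_X O_Y c).invSharp).hom z)) g2').trans ?_
  refine (congrArg (fun z => (ringIso O_X x).hom.hom z) g3').trans ?_
  refine (congrArg (fun z => (ringIso O_X x).hom.hom
    (((pt x).toPresheafFiber ((Opens.map f).obj V) (el x h.down.down) O_X.obj).hom z)) g5').trans ?_
  exact g4'

end Groth.Agent.H34.RPoint
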