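import Groth.Agent.H34.RStalkFormula
import Mathlib.Algebra.Category.ModuleCat.Monoidal.Adjunction

/-!
# The pullback of modules commutes with tensor products (ringed spaces)
-/

set_option autoImplicit false
universe u
open CategoryTheory CategoryTheory.Limits Opposite TopologicalSpace TensorProduct MonoidalCategory

namespace Groth.Agent.H34.RStalk

open Groth.Agent.H45 Groth.Agent.H34.ModPushFT

variable {X Y : TopCat.{u}} (f : X ⟶ Y)
  (O_X : Sheaf (Opens.grothendieckTopology X) CommRingCat.{u})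
  (O_Y : Sheaf (Opens.grothendieckTopology Y) CommRingCat.{u})
  (c : O_Y ⟶ ((Opens.map f).sheafPushforwardContinuous CommRingCat.{u}
      (Opens.grothendieckTopology Y) (Opens.grothendieckTopology X)).obj O_X)

section Construction

variable (A B : ModSite.Mod O_Y)

/-- `f^*A ⊗ f^*B` -/
noncomputable abbrev TT : ModSite.Mod O_X :=
  tens ((ipull f O_X O_Y c).obj A) ((ipull f O_X O_Y c).obj B)

lemma unitSec_smul (A : ModSite.Mod O_Y) (V : Opens Y) (r : O_Y.obj.obj (op V))
    (a : (pm O_Y A).obj (op V)) :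
    unitSec f O_X O_Y c A V (r • a) = (cU f O_X O_Y c V r) • unitSec f O_X O_Y c A V a :=
  map_smul (sm ((iadj f O_X O_Y c).unit.app A) V) r a

lemma unitSec_res (A : ModSite.Mod O_Y) {V V' : Opens Y} (i : V' ⟶ V) (a : (pm O_Y A).obj (op V)) :
    unitSec f O_X O_Y c A V' (res (pm O_Y A) i a) =
      res (pm O_X ((ipull f O_X O_Y c).obj A)) ((Opens.map f).map i)
        (unitSec f O_X O_Y c A V a) :=
  ConcreteCategory.congr_hom ((pmap ((iadj f O_X O_Y c).unit.app A)).naturality i.op) a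

/-- the pairing on sections -/
noncomputable def secPairP (V : Opens Y) (a : (pm O_Y A).obj (op V)) (b : (pm O_Y B).obj (op V)) :
    (pm O_Y ((ipush f O_X O_Y c).obj (TT f O_X O_Y c A B))).obj (op V) :=
  tm _ _ ((Opens.map f).obj V) (unitSec f O_X O_Y c A V a) (unitSec f O_X O_Y c B V b)

lemma secPairP_add_left (V : Opens Y) (a a' : (pm O_Y A).obj (op V)) (b : (pm O_Y B).obj (op V)) :
    secPairP f O_X O_Y c A B V (a + a') b =
      secPairP f O_X O_Y c A B V a b + secPairP f O_X O_Y c A B V a' b := by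
  unfold secPairP
  rw [map_add, tm_add_left]
  rfl

lemma secPairP_add_right (V : Opens Y) (a : (pm O_Y A).obj (op V)) (b b' : (pm O_Y B).obj (op V)) :
    secPairP f O_X O_Y c A B V a (b + b') =
      secPairP f O_X O_Y c A B V a b + secPairP f O_X O_Y c A B V a b' := by
  unfold secPairP
  rw [map_add, tm_add_right]
  rfl

lemma secPairP_smul_left (V : Opens Y) (r : O_Y.obj.obj (op V)) (a : (pm O_Y A).obj (op V))
    (b : (pm O_Y B).obj (op V)) :
    secPairP f O_X O_Y c A B V (r • a) b = r • secPairP f O_X O_Y c A B V a b := by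
  unfold secPairP
  rw [unitSec_smul, tm_smul_left]
  rfl

lemma secPairP_smul_right (V : Opens Y) (r : O_Y.obj.obj (op V)) (a : (pm O_Y A).obj (op V))
    (b : (pm O_Y B).obj (op V)) :
    secPairP f O_X O_Y c A B V a (r • b) = r • secPairP f O_X O_Y c A B V a b := by
  unfold secPairP
  rw [unitSec_smul, tm_smul_right]
  rfl

lemma secPairP_res {V V' : Opens Y} (i : V' ⟶ V) (a : (pm O_Y A).obj (op V))
    (b : (pm O_Y B).obj (op V)) :
    secPairP f O_X O_Y c A B V' (res (pm O_Y A) i a) (res (pm O_Y B) i b) =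
      res (pm O_Y ((ipush f O_X O_Y c).obj (TT f O_X O_Y c A B))) i
        (secPairP f O_X O_Y c A B V a b) := by
  unfold secPairP
  rw [unitSec_res, unitSec_res]
  exact (tm_res _ _ ((Opens.map f).map i) _ _).symm

/-- the presheaf morphism `A ⊗ B ⟶ f_*(f^*A ⊗ f^*B)` -/
noncomputable def νPre : ptens A B ⟶
    (forg O_Y).obj ((ipush f O_X O_Y c).obj (TT f O_X O_Y c A B)) where
  app V := ModuleCat.MonoidalCategory.tensorLift (M₁ := ((forg O_Y).obj A).obj V)
    (M₂ := ((forg O_Y).obj B).obj V)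
    (M₃ := ((forg O_Y).obj ((ipush f O_X O_Y c).obj (TT f O_X O_Y c A B))).obj V)
    (fun a b => secPairP f O_X O_Y c A B V.unop a b)
    (fun a a' b => secPairP_add_left f O_X O_Y c A B V.unop a a' b)
    (fun r a b => secPairP_smul_left f O_X O_Y c A B V.unop r a b)
    (fun a b b' => secPairP_add_right f O_X O_Y c A B V.unop a b b')
    (fun r a b => secPairP_smul_right f O_X O_Y c A B V.unop r a b)
  naturality {V V'} i := by
    refine ModuleCat.MonoidalCategory.tensor_ext (fun a b => ?_)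
    exact secPairP_res f O_X O_Y c A B i.unop a b

/-- the morphism `A ⊗ B ⟶ f_*(f^*A ⊗ f^*B)` -/
noncomputable def ν : tens A B ⟶ (ipush f O_X O_Y c).obj (TT f O_X O_Y c A B) :=
  ((shfAdj O_Y).homEquiv (ptens A B)
    ((ipush f O_X O_Y c).obj (TT f O_X O_Y c A B))).symm (νPre f O_X O_Y c A B)

lemma ν_tm (V : Opens Y) (a : (pm O_Y A).obj (op V)) (b : (pm O_Y B).obj (op V)) :
    sm (ν f O_X O_Y c A B) V (tm A B V a b) = secPairP f O_X O_Y c A B V a b := by
  have h : (shfAdj O_Y).homEquiv _ _ (ν f O_X O_Y c A B) = νPre f O_X O_Y c A B :=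
    Equiv.apply_symm_apply _ _
  rw [Adjunction.homEquiv_unit] at h
  have h2 := congrArg (fun φ => (PresheafOfModules.Hom.app φ (op V)).hom
    (tmulS (P := (forg O_Y).obj A) ((forg O_Y).obj B) a b)) h
  exact h2

/-- the comparison morphism `f^*(A ⊗ B) ⟶ f^*A ⊗ f^*B` -/
noncomputable def μ : (ipull f O_X O_Y c).obj (tens A B) ⟶ TT f O_X O_Y c A B :=
  ((iadj f O_X O_Y c).homEquiv _ _).symm (ν f O_X O_Y c A B)

lemma μ_unitSec_tm (V : Opens Y) (a : (pm O_Y A).obj (op V)) (b : (pm O_Y B).obj (op V)) :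
    sm (μ f O_X O_Y c A B) ((Opens.map f).obj V)
        (unitSec f O_X O_Y c (tens A B) V (tm A B V a b)) =
      tm _ _ ((Opens.map f).obj V) (unitSec f O_X O_Y c A V a) (unitSec f O_X O_Y c B V b) := by
  have h : (iadj f O_X O_Y c).homEquiv _ _ (μ f O_X O_Y c A B) = ν f O_X O_Y c A B :=
    Equiv.apply_symm_apply _ _
  rw [Adjunction.homEquiv_unit] at h
  have h2 := congrArg (fun φ => sm φ V (tm A B V a b)) h
  exact h2.trans (ν_tm f O_X O_Y c A B V a b)

end Construction

section StalkIso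

variable (x : X) (A B : ModSite.Mod O_Y)

/-- extension of scalars along the stalk map -/
noncomputable abbrev Ext :
    ModuleCat.{u} (Ox O_Y (f x)) ⥤ ModuleCat.{u} (Ox O_X x) :=
  ModuleCat.extendScalars (stalkRingMap f O_X O_Y c x).hom

open ChangeOfRings in
lemma pullbackStalkIso_inv_one_tmul (A : ModSite.Mod O_Y) (V : Opens Y) (hy : f x ∈ V)
    (a : (pm O_Y A).obj (op V)) :
    ((pullbackStalkIso f O_X O_Y c x).inv.app A).hom
      (((1 : Ox O_X x) ⊗ₜ[Ox O_Y (f x), (stalkRingMap f O_X O_Y c x).hom]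
        (gm (f x) A V hy a : (stalkFunctor O_Y (f x)).obj A) : (stalkExt f O_X O_Y c x).obj A)) =
      gm x ((ipull f O_X O_Y c).obj A) ((Opens.map f).obj V) hy (unitSec f O_X O_Y c A V a) := by
  rw [← pullbackStalkIso_hom_germ f O_X O_Y c x A V hy a]
  exact congrArg (fun φ => (ModuleCat.Hom.hom φ) (gm x ((ipull f O_X O_Y c).obj A)
    ((Opens.map f).obj V) hy (unitSec f O_X O_Y c A V a)))
    ((pullbackStalkIso f O_X O_Y c x).hom_inv_id_app A)

/-- the composite comparing `O_x ⊗ (A_y ⊗ B_y)` and `(O_x ⊗ A_y) ⊗ (O_x ⊗ B_y)` through `μ` -/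
noncomputable def chain :
    (Ext f O_X O_Y c x).obj ((stalkFunctor O_Y (f x)).obj A ⊗ (stalkFunctor O_Y (f x)).obj B) ⟶
      (Ext f O_X O_Y c x).obj ((stalkFunctor O_Y (f x)).obj A) ⊗
        (Ext f O_X O_Y c x).obj ((stalkFunctor O_Y (f x)).obj B) :=
  (Ext f O_X O_Y c x).map (stalkTensorIso (f x) A B).inv ≫
    (pullbackStalkIso f O_X O_Y c x).inv.app (tens A B) ≫
    (stalkFunctor O_X x).map (μ f O_X O_Y c A B) ≫
    (stalkTensorIso x ((ipull f O_X O_Y c).obj A) ((ipull f O_X O_Y c).obj B)).hom ≫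
    ((pullbackStalkIso f O_X O_Y c x).hom.app A ⊗ₘ (pullbackStalkIso f O_X O_Y c x).hom.app B)

open ChangeOfRings in
lemma chain_eq : chain f O_X O_Y c x A B =
    Functor.OplaxMonoidal.δ (Ext f O_X O_Y c x) ((stalkFunctor O_Y (f x)).obj A)
      ((stalkFunctor O_Y (f x)).obj B) := by
  apply ((ModuleCat.extendRestrictScalarsAdj (stalkRingMap f O_X O_Y c x).hom).homEquiv _ _).injective
  refine ModuleCat.MonoidalCategory.tensor_ext (fun m₁ m₂ => ?_)
  obtain ⟨V, hy, a, b, rfl, rfl⟩ := exists_reps (f x) A B m₁ m₂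
  let eA : (Ext f O_X O_Y c x).obj ((stalkFunctor O_Y (f x)).obj A) :=
    (1 : Ox O_X x) ⊗ₜ[Ox O_Y (f x), (stalkRingMap f O_X O_Y c x).hom] gm (f x) A V hy a
  let eB : (Ext f O_X O_Y c x).obj ((stalkFunctor O_Y (f x)).obj B) :=
    (1 : Ox O_X x) ⊗ₜ[Ox O_Y (f x), (stalkRingMap f O_X O_Y c x).hom] gm (f x) B V hy b
  have hδ : (Functor.OplaxMonoidal.δ (Ext f O_X O_Y c x) ((stalkFunctor O_Y (f x)).obj A)
      ((stalkFunctor O_Y (f x)).obj B)).hom
      ((1 : Ox O_X x) ⊗ₜ[Ox O_Y (f x), (stalkRingMap f O_X O_Y c x).hom]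
        (gm (f x) A V hy a ⊗ₜ gm (f x) B V hy b)) =
      eA ⊗ₜ[Ox O_X x] eB :=
    ModuleCat.extendScalars_δ_tmul (stalkRingMap f O_X O_Y c x).hom _ _ _ _
  have h1 : ((Ext f O_X O_Y c x).map (stalkTensorIso (f x) A B).inv).hom
      ((1 : Ox O_X x) ⊗ₜ[Ox O_Y (f x), (stalkRingMap f O_X O_Y c x).hom]
        (gm (f x) A V hy a ⊗ₜ gm (f x) B V hy b)) =
      ((1 : Ox O_X x) ⊗ₜ[Ox O_Y (f x), (stalkRingMap f O_X O_Y c x).hom]
        (gm (f x) (tens A B) V hy (tm A B V a b) :
          (stalkFunctor O_Y (f x)).obj (tens A B))) := by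
    have := β_tmul (f x) A B V hy a b
    exact congrArg (fun t => ((1 : Ox O_X x) ⊗ₜ[Ox O_Y (f x),
      (stalkRingMap f O_X O_Y c x).hom] t)) this
  have h2 := pullbackStalkIso_inv_one_tmul f O_X O_Y c x (tens A B) V hy (tm A B V a b)
  have h3 : ((stalkFunctor O_X x).map (μ f O_X O_Y c A B)).hom
      (gm x _ ((Opens.map f).obj V) hy (unitSec f O_X O_Y c (tens A B) V (tm A B V a b))) =
      gm x _ ((Opens.map f).obj V) hy (tm _ _ ((Opens.map f).obj V)
        (unitSec f O_X O_Y c A V a) (unitSec f O_X O_Y c B V b)) :=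
    (stalkFunctor_map_gm x (μ f O_X O_Y c A B) ((Opens.map f).obj V) hy _).trans
      (congrArg (gm x _ ((Opens.map f).obj V) hy) (μ_unitSec_tm f O_X O_Y c A B V a b))
  have h4 := γ_tm x ((ipull f O_X O_Y c).obj A) ((ipull f O_X O_Y c).obj B)
    ((Opens.map f).obj V) hy (unitSec f O_X O_Y c A V a) (unitSec f O_X O_Y c B V b)
  have h5 : ((pullbackStalkIso f O_X O_Y c x).hom.app A ⊗ₘ
      (pullbackStalkIso f O_X O_Y c x).hom.app B).hom
      (gm x ((ipull f O_X O_Y c).obj A) ((Opens.map f).obj V) hy (unitSec f O_X O_Y c A V a) ⊗ₜ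
        gm x ((ipull f O_X O_Y c).obj B) ((Opens.map f).obj V) hy (unitSec f O_X O_Y c B V b)) =
      eA ⊗ₜ[Ox O_X x] eB := by
    erw [ModuleCat.MonoidalCategory.tensorHom_tmul]
    rw [pullbackStalkIso_hom_germ, pullbackStalkIso_hom_germ]
  refine Eq.trans ?_ hδ.symm
  change (chain f O_X O_Y c x A B).hom ((1 : Ox O_X x) ⊗ₜ[Ox O_Y (f x),
    (stalkRingMap f O_X O_Y c x).hom] (gm (f x) A V hy a ⊗ₜ gm (f x) B V hy b)) = _
  unfold chain
  exact (congrArg (fun t =>
      ((pullbackStalkIso f O_X O_Y c x).hom.app A ⊗ₘ (pullbackStalkIso f O_X O_Y c x).hom.app B).hom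
        ((stalkTensorIso x ((ipull f O_X O_Y c).obj A) ((ipull f O_X O_Y c).obj B)).hom.hom
          (((stalkFunctor O_X x).map (μ f O_X O_Y c A B)).hom
            (((pullbackStalkIso f O_X O_Y c x).inv.app (tens A B)).hom t)))) h1).trans
    ((congrArg (fun t =>
      ((pullbackStalkIso f O_X O_Y c x).hom.app A ⊗ₘ (pullbackStalkIso f O_X O_Y c x).hom.app B).hom
        ((stalkTensorIso x ((ipull f O_X O_Y c).obj A) ((ipull f O_X O_Y c).obj B)).hom.hom
          (((stalkFunctor O_X x).map (μ f O_X O_Y c A B)).hom t))) h2).trans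
    ((congrArg (fun t =>
      ((pullbackStalkIso f O_X O_Y c x).hom.app A ⊗ₘ (pullbackStalkIso f O_X O_Y c x).hom.app B).hom
        ((stalkTensorIso x ((ipull f O_X O_Y c).obj A) ((ipull f O_X O_Y c).obj B)).hom.hom t))
          h3).trans
    ((congrArg (fun t =>
      ((pullbackStalkIso f O_X O_Y c x).hom.app A ⊗ₘ
        (pullbackStalkIso f O_X O_Y c x).hom.app B).hom t) h4).trans h5)))

instance isIso_stalk_μ : IsIso ((stalkFunctor O_X x).map (μ f O_X O_Y c A B)) := by
  have h : IsIso (chain f O_X O_Y c x A B) := by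
    rw [chain_eq]
    infer_instance
  unfold chain at h
  have h1 := @IsIso.of_isIso_comp_left _ _ _ _ _ _ _ inferInstance h
  have h2 := @IsIso.of_isIso_comp_left _ _ _ _ _ _ _ inferInstance h1
  exact @IsIso.of_isIso_comp_right _ _ _ _ _ _ _ inferInstance h2

end StalkIso

section Detect

variable {O : Sheaf (Opens.grothendieckTopology X) CommRingCat.{u}}

/-- epimorphisms of modules are detected on stalks -/
lemma epi_of_stalk_surjective {M N : ModSite.Mod O} (φ : M ⟶ N)
    (h : ∀ x : X, Function.Surjective ((stalkFunctor O x).map φ).hom) : Epi φ := by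
  apply Groth.Agent.H45.FinFree.epi_of_locSurj
  intro U y
  refine ⟨⟨fun V g => ∃ m : ((forg O).obj M).obj (op V),
      ((forg O).map φ).app (op V) m = res ((forg O).obj N) g y, ?_⟩, ?_, fun V g hg => hg⟩
  · rintro V V' g ⟨m, hm⟩ g'
    refine ⟨res ((forg O).obj M) g' m, ?_⟩
    rw [res_naturality, hm, ← res_comp]
  · intro x hx
    obtain ⟨a, ha⟩ := h x (gM N x U hx y)
    obtain ⟨W, hW, m, rfl⟩ := exists_gM_eq M x a
    have h1 : gM N x W hW (sm φ W m) = gM N x U hx y :=
      (stalkFunctor_map_germ x φ W hW m).symm.trans ha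
    obtain ⟨W', hW', i, i', h2⟩ := gM_eq x N hW hx _ _ h1
    exact ⟨W', i', ⟨res (pm O M) i m, (res_naturality ((forg O).map φ) i m).trans h2⟩, hW'⟩

/-- isomorphisms of modules are detected on stalks -/
lemma isIso_of_isIso_stalkFunctor_map {M N : ModSite.Mod O} (φ : M ⟶ N)
    (h : ∀ x : X, IsIso ((stalkFunctor O x).map φ)) : IsIso φ := by
  have : Mono φ := mono_of_mono_stalkFunctor_map φ (fun x => by have := h x; infer_instance)
  have : Epi φ := epi_of_stalk_surjective φ (fun x => by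
    have := h x
    exact (ModuleCat.epi_iff_surjective _).1 inferInstance)
  exact isIso_of_mono_of_epi φ

end Detect

instance isIso_μ (A B : ModSite.Mod O_Y) : IsIso (μ f O_X O_Y c A B) :=
  isIso_of_isIso_stalkFunctor_map _ (fun x => isIso_stalk_μ f O_X O_Y c x A B)

/-- `f^*(A ⊗ B) ≅ f^*A ⊗ f^*B` -/
noncomputable def pullTensorIso (A B : ModSite.Mod O_Y) :
    (ipull f O_X O_Y c).obj (tens A B) ≅
      tens ((ipull f O_X O_Y c).obj A) ((ipull f O_X O_Y c).obj B) :=
  asIso (μ f O_X O_Y c A B)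

end Groth.Agent.H34.RStalk
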