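import Groth.Agent.H34.ModPushFT
import Mathlib.Algebra.Category.ModuleCat.Stalk
import Mathlib.Topology.Sheaves.SheafCondition.UniqueGluing

/-!
# The stalk functor on modules over a ringed space
-/

set_option autoImplicit false
universe u
open CategoryTheory CategoryTheory.Limits Opposite TopologicalSpace

namespace Groth.Agent.H34.RStalk

open Groth.Agent.H45

variable {X : TopCat.{u}} (O : Sheaf (Opens.grothendieckTopology X) CommRingCat.{u})

/-- the underlying presheaf of modules, typed over `O.obj ⋙ forget₂` -/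
abbrev pm (M : ModSite.Mod O) : PresheafOfModules.{u} (O.obj ⋙ forget₂ CommRingCat RingCat) := M.val

/-- the underlying presheaf of abelian groups -/
noncomputable abbrev pa (M : ModSite.Mod O) : TopCat.Presheaf AddCommGrpCat.{u} X :=
  (pm O M).presheaf

/-- the stalk of the structure sheaf -/
noncomputable abbrev Ox (x : X) : CommRingCat.{u} := TopCat.Presheaf.stalk O.obj x

/-- the stalk of a module, as an abelian group -/
noncomputable abbrev Mx (M : ModSite.Mod O) (x : X) : AddCommGrpCat.{u} :=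
  TopCat.Presheaf.stalk (pa O M) x

variable {O}

/-- the germ of a section of a module -/
noncomputable def gM (M : ModSite.Mod O) (x : X) (U : Opens X) (hx : x ∈ U) :
    (pm O M).obj (op U) →+ Mx O M x :=
  (TopCat.Presheaf.germ (pa O M) U x hx).hom

/-- the germ of a section of the structure sheaf -/
noncomputable def gO (x : X) (U : Opens X) (hx : x ∈ U) : O.obj.obj (op U) →+* Ox O x :=
  (TopCat.Presheaf.germ O.obj U x hx).hom

lemma gM_smul (M : ModSite.Mod O) (x : X) (U : Opens X) (hx : x ∈ U) (r : O.obj.obj (op U))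
    (m : (pm O M).obj (op U)) :
    gM M x U hx (r • m) = gO x U hx r • gM M x U hx m :=
  PresheafOfModules.germ_smul (R := O.obj) (pm O M) x U hx r m

lemma gM_res (M : ModSite.Mod O) (x : X) {U V : Opens X} (f : V ⟶ U) (hx : x ∈ V)
    (m : (pm O M).obj (op U)) :
    gM M x V hx (res (pm O M) f m) = gM M x U (f.le hx) m :=
  TopCat.Presheaf.germ_res_apply (pa O M) f x hx m

lemma gO_res (x : X) {U V : Opens X} (f : V ⟶ U) (hx : x ∈ V) (r : O.obj.obj (op U)) :
    gO x V hx ((O.obj.map f.op).hom r) = gO x U (f.le hx) r :=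
  TopCat.Presheaf.germ_res_apply O.obj f x hx r

lemma exists_gM_eq (M : ModSite.Mod O) (x : X) (m : Mx O M x) :
    ∃ (U : Opens X) (hx : x ∈ U) (m' : (pm O M).obj (op U)), gM M x U hx m' = m :=
  TopCat.Presheaf.exists_germ_eq (pa O M) m

lemma exists_gO_eq (x : X) (r : Ox O x) :
    ∃ (U : Opens X) (hx : x ∈ U) (r' : O.obj.obj (op U)), gO x U hx r' = r :=
  TopCat.Presheaf.exists_germ_eq O.obj r

/-- common representatives for a germ of function and a germ of section -/
lemma exists_germ_eq₂ (M : ModSite.Mod O) (x : X) (r : Ox O x) (m : Mx O M x) :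
    ∃ (U : Opens X) (hx : x ∈ U) (r' : O.obj.obj (op U)) (m' : (pm O M).obj (op U)),
      gO x U hx r' = r ∧ gM M x U hx m' = m := by
  obtain ⟨U₁, h₁, r₁, rfl⟩ := exists_gO_eq x r
  obtain ⟨U₂, h₂, m₂, rfl⟩ := exists_gM_eq M x m
  refine ⟨U₁ ⊓ U₂, ⟨h₁, h₂⟩, (O.obj.map (homOfLE inf_le_left).op).hom r₁,
    res (pm O M) (homOfLE inf_le_right) m₂, ?_, ?_⟩
  · exact gO_res x _ _ r₁
  · exact gM_res M x _ _ m₂

/-- the underlying map of presheaves of abelian groups -/
noncomputable abbrev pmap {M N : ModSite.Mod O} (φ : M ⟶ N) : pa O M ⟶ pa O N :=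
  (PresheafOfModules.toPresheaf _).map φ.val

/-- the map on sections -/
noncomputable def sm {M N : ModSite.Mod O} (φ : M ⟶ N) (U : Opens X) :
    (pm O M).obj (op U) →ₗ[O.obj.obj (op U)] (pm O N).obj (op U) :=
  (φ.val.app (op U)).hom

/-- the map on stalks, as an additive map -/
noncomputable def stalkAdd {M N : ModSite.Mod O} (φ : M ⟶ N) (x : X) : Mx O M x →+ Mx O N x :=
  ((TopCat.Presheaf.stalkFunctor AddCommGrpCat.{u} x).map (pmap φ)).hom

lemma stalkAdd_gM {M N : ModSite.Mod O} (φ : M ⟶ N) (x : X) (U : Opens X) (hx : x ∈ U)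
    (m : (pm O M).obj (op U)) :
    stalkAdd φ x (gM M x U hx m) = gM N x U hx (sm φ U m) :=
  TopCat.Presheaf.stalkFunctor_map_germ_apply U x hx (pmap φ) m

lemma stalkAdd_smul {M N : ModSite.Mod O} (φ : M ⟶ N) (x : X) (r : Ox O x) (m : Mx O M x) :
    stalkAdd φ x (r • m) = r • stalkAdd φ x m := by
  obtain ⟨U, hx, r', m', rfl, rfl⟩ := exists_germ_eq₂ M x r m
  calc stalkAdd φ x (gO x U hx r' • gM M x U hx m')
      = stalkAdd φ x (gM M x U hx (r' • m')) := congrArg _ (gM_smul M x U hx r' m').symm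
    _ = gM N x U hx (sm φ U (r' • m')) := stalkAdd_gM φ x U hx _
    _ = gM N x U hx (r' • sm φ U m') := congrArg _ (map_smul (sm φ U) r' m')
    _ = gO x U hx r' • gM N x U hx (sm φ U m') := gM_smul N x U hx r' _
    _ = gO x U hx r' • stalkAdd φ x (gM M x U hx m') :=
        congrArg (fun t => gO x U hx r' • t) (stalkAdd_gM φ x U hx m').symm

lemma stalkAdd_id (M : ModSite.Mod O) (x : X) (m : Mx O M x) : stalkAdd (𝟙 M) x m = m := by
  obtain ⟨U, hx, m', rfl⟩ := exists_gM_eq M x m
  exact stalkAdd_gM (𝟙 M) x U hx m'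

lemma stalkAdd_comp {M N P : ModSite.Mod O} (φ : M ⟶ N) (ψ : N ⟶ P) (x : X) (m : Mx O M x) :
    stalkAdd (φ ≫ ψ) x m = stalkAdd ψ x (stalkAdd φ x m) := by
  obtain ⟨U, hx, m', rfl⟩ := exists_gM_eq M x m
  rw [stalkAdd_gM, stalkAdd_gM, stalkAdd_gM]
  rfl

variable (O) in
/-- The stalk functor on modules. -/
noncomputable def stalkFunctor (x : X) : ModSite.Mod O ⥤ ModuleCat.{u} (Ox O x) where
  obj M := ModuleCat.of _ (Mx O M x)
  map {M N} φ := ModuleCat.ofHom
    { toFun := fun m => stalkAdd φ x m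
      map_add' := fun a b => map_add _ a b
      map_smul' := fun r m => stalkAdd_smul φ x r m }
  map_id M := by
    ext m
    exact stalkAdd_id M x m
  map_comp {M N P} φ ψ := by
    ext m
    exact stalkAdd_comp φ ψ x m

lemma stalkFunctor_map_apply (x : X) {M N : ModSite.Mod O} (φ : M ⟶ N) (m : Mx O M x) :
    ((stalkFunctor O x).map φ).hom m = stalkAdd φ x m := rfl

lemma stalkFunctor_map_germ (x : X) {M N : ModSite.Mod O} (φ : M ⟶ N) (U : Opens X) (hx : x ∈ U)
    (m : (pm O M).obj (op U)) :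
    ((stalkFunctor O x).map φ).hom (gM M x U hx m) = gM N x U hx (sm φ U m) :=
  stalkAdd_gM φ x U hx m

end Groth.Agent.H34.RStalk
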