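import Groth.Agent.H34.RStalk0

/-!
# Skyscraper modules on a ringed space
-/

set_option autoImplicit false
universe u
open CategoryTheory CategoryTheory.Limits Opposite TopologicalSpace

namespace Groth.Agent.H34.RStalk

open Groth.Agent.H45

variable {X : TopCat.{u}} (O : Sheaf (Opens.grothendieckTopology X) CommRingCat.{u})
  (x : X) (N : ModuleCat.{u} (Ox O x))

/-- sections of the skyscraper module over `U` -/
def SkyCarrier (U : Opens X) : Type u := PLift (x ∈ U) → N

instance (U : Opens X) : AddCommGroup (SkyCarrier O x N U) :=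
  inferInstanceAs (AddCommGroup (PLift (x ∈ U) → N))

variable {O x N} in
@[ext]
lemma SkyCarrier.ext {U : Opens X} {a b : SkyCarrier O x N U} (h : ∀ i, a i = b i) : a = b :=
  funext h

noncomputable instance (U : Opens X) : Module (O.obj.obj (op U)) (SkyCarrier O x N U) where
  smul r φ := fun h => gO (O := O) x U h.down r • φ h
  one_smul φ := by
    ext h
    change gO (O := O) x U h.down 1 • φ h = φ h
    rw [map_one, one_smul]
  mul_smul r s φ := by
    ext h
    change gO (O := O) x U h.down (r * s) • φ h = gO (O := O) x U h.down r • (gO (O := O) x U h.down s • φ h)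
    rw [map_mul, mul_smul]
  smul_zero r := by
    ext h
    change gO (O := O) x U h.down r • (0 : N) = 0
    rw [smul_zero]
  smul_add r φ ψ := by
    ext h
    change gO (O := O) x U h.down r • (φ h + ψ h) = _
    rw [smul_add]
    rfl
  add_smul r s φ := by
    ext h
    change gO (O := O) x U h.down (r + s) • φ h = _
    rw [map_add, add_smul]
    rfl
  zero_smul φ := by
    ext h
    change gO (O := O) x U h.down 0 • φ h = 0
    rw [map_zero, zero_smul]

lemma sky_smul_apply (U : Opens X) (r : O.obj.obj (op U)) (φ : SkyCarrier O x N U)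
    (h : PLift (x ∈ U)) : (r • φ) h = gO (O := O) x U h.down r • φ h := rfl

/-- the underlying presheaf of abelian groups of the skyscraper module -/
noncomputable def skyAb : (Opens X)ᵒᵖ ⥤ AddCommGrpCat.{u} where
  obj U := AddCommGrpCat.of (SkyCarrier O x N U.unop)
  map {U V} f := AddCommGrpCat.ofHom
    { toFun := fun φ h => φ ⟨f.unop.le h.down⟩
      map_zero' := rfl
      map_add' := fun _ _ => rfl }
  map_id _ := rfl
  map_comp _ _ := rfl

noncomputable instance (U : (Opens X)ᵒᵖ) :
    Module ((O.obj ⋙ forget₂ CommRingCat RingCat).obj U) ((skyAb O x N).obj U) :=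
  inferInstanceAs (Module (O.obj.obj (op U.unop)) (SkyCarrier O x N U.unop))

/-- the skyscraper presheaf of modules -/
noncomputable def skyPre : PresheafOfModules.{u} (O.obj ⋙ forget₂ CommRingCat RingCat) :=
  PresheafOfModules.ofPresheaf (skyAb O x N) (fun U V f r φ => by
    refine funext (fun h => ?_)
    change gO (O := O) x U.unop (f.unop.le h.down) r • φ ⟨f.unop.le h.down⟩ =
      gO (O := O) x V.unop h.down ((O.obj.map f).hom r) • φ ⟨f.unop.le h.down⟩
    congr 1
    exact (gO_res x f.unop h.down r).symm)

lemma isSheaf_skyAb : TopCat.Presheaf.IsSheaf (skyAb O x N) := by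
  rw [TopCat.Presheaf.isSheaf_iff_isSheafUniqueGluing]
  intro ι U sf hsf
  have hmem : ∀ h : PLift (x ∈ iSup U), ∃ i, x ∈ U i := fun h => Opens.mem_iSup.1 h.down
  refine ⟨fun h => sf (hmem h).choose ⟨(hmem h).choose_spec⟩, ?_, ?_⟩
  · intro i
    refine funext (fun h => ?_)
    have := congr_fun (hsf (hmem ⟨(le_iSup U i : U i ≤ iSup U) h.down⟩).choose i)
      ⟨⟨(hmem ⟨(le_iSup U i : U i ≤ iSup U) h.down⟩).choose_spec, h.down⟩⟩
    exact this
  · intro s hs
    refine funext (fun h => ?_)
    have := congr_fun (hs (hmem h).choose) ⟨(hmem h).choose_spec⟩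
    exact this

/-- the skyscraper module at `x` with value `N` -/
noncomputable def sky : ModSite.Mod O where
  val := skyPre O x N
  isSheaf := isSheaf_skyAb O x N

variable {N} in
/-- functoriality of the skyscraper module -/
noncomputable def skyMap {N' : ModuleCat.{u} (Ox O x)} (g : N ⟶ N') :
    sky O x N ⟶ sky O x N' :=
  ⟨PresheafOfModules.homMk (M₁ := skyPre O x N) (M₂ := skyPre O x N')
    { app := fun U => AddCommGrpCat.ofHom
        { toFun := fun (φ : SkyCarrier O x N U.unop) =>
            (fun h => g.hom (φ h) : SkyCarrier O x N' U.unop)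
          map_zero' := funext (fun _ => map_zero g.hom)
          map_add' := fun a b => funext (fun h => map_add g.hom (a h) (b h)) }
      naturality := fun _ _ _ => rfl }
    (fun U r φ => funext (fun h => map_smul g.hom _ _))⟩

/-- the skyscraper functor -/
noncomputable def skyFunctor : ModuleCat.{u} (Ox O x) ⥤ ModSite.Mod O where
  obj N := sky O x N
  map g := skyMap O x g
  map_id _ := rfl
  map_comp _ _ := rfl

end Groth.Agent.H34.RStalk
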