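import Groth.Agent.H34.RStalk1

/-!
# The adjunction between the stalk functor and the skyscraper functor on modules
-/

set_option autoImplicit false
universe u
open CategoryTheory CategoryTheory.Limits Opposite TopologicalSpace

namespace Groth.Agent.H34.RStalk

open Groth.Agent.H45

variable {X : TopCat.{u}} (O : Sheaf (Opens.grothendieckTopology X) CommRingCat.{u}) (x : X)

section

variable {M : ModSite.Mod O} {N : ModuleCat.{u} (Ox O x)}

/-- auxiliary additive map: germ followed by `θ` -/
noncomputable def germθ (θ : (stalkFunctor O x).obj M ⟶ N) (U : Opens X) (hx : x ∈ U) :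
    (pm O M).obj (op U) →+ N :=
  AddMonoidHom.comp (θ.hom.toAddMonoidHom : Mx O M x →+ N) (gM M x U hx)

lemma germθ_apply (θ : (stalkFunctor O x).obj M ⟶ N) (U : Opens X) (hx : x ∈ U)
    (m : (pm O M).obj (op U)) :
    germθ O x θ U hx m = θ.hom (gM M x U hx m) := rfl

lemma germθ_smul (θ : (stalkFunctor O x).obj M ⟶ N) (U : Opens X) (hx : x ∈ U)
    (r : O.obj.obj (op U)) (m : (pm O M).obj (op U)) :
    germθ O x θ U hx (r • m) = gO (O := O) x U hx r • germθ O x θ U hx m :=
  (congrArg θ.hom (gM_smul M x U hx r m)).trans (map_smul θ.hom _ _)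

lemma germθ_res (θ : (stalkFunctor O x).obj M ⟶ N) {U V : Opens X} (f : V ⟶ U) (hx : x ∈ V)
    (m : (pm O M).obj (op U)) :
    germθ O x θ V hx (res (pm O M) f m) = germθ O x θ U (f.le hx) m :=
  congrArg θ.hom (gM_res M x f hx m)

/-- the map `M ⟶ sky x N` attached to `M_x ⟶ N` -/
noncomputable def toSky (θ : (stalkFunctor O x).obj M ⟶ N) : M ⟶ sky O x N :=
  ⟨PresheafOfModules.homMk (M₁ := pm O M) (M₂ := skyPre O x N)
    { app := fun U => AddCommGrpCat.ofHom
        { toFun := fun (m : (pm O M).obj (op U.unop)) =>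
            (fun h => germθ O x θ U.unop h.down m : SkyCarrier O x N U.unop)
          map_zero' := funext (fun h => map_zero (germθ O x θ U.unop h.down))
          map_add' := fun a b => funext (fun h => map_add (germθ O x θ U.unop h.down) a b) }
      naturality := fun U V f => by
        ext m
        exact funext (fun h => germθ_res O x θ f.unop h.down m) }
    (fun U r m => funext (fun h => germθ_smul O x θ U.unop h.down r m))⟩

lemma toSky_app_apply (θ : (stalkFunctor O x).obj M ⟶ N) (U : Opens X) (m : (pm O M).obj (op U))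
    (h : PLift (x ∈ U)) :
    (sm (toSky O x θ) U m : SkyCarrier O x N U) h = θ.hom (gM M x U h.down m) := rfl

/-- auxiliary additive map: `ψ` followed by evaluation -/
noncomputable def evalψ (ψ : M ⟶ sky O x N) (U : Opens X) (hx : x ∈ U) :
    (pm O M).obj (op U) →+ N :=
  AddMonoidHom.comp
    (Pi.evalAddMonoidHom (fun _ : PLift (x ∈ U) => (N : Type u)) ⟨hx⟩ : SkyCarrier O x N U →+ N)
    (sm ψ U).toAddMonoidHom

lemma evalψ_apply (ψ : M ⟶ sky O x N) (U : Opens X) (hx : x ∈ U) (m : (pm O M).obj (op U)) :
    evalψ O x ψ U hx m = (sm ψ U m : SkyCarrier O x N U) ⟨hx⟩ := rfl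

lemma evalψ_res (ψ : M ⟶ sky O x N) {U V : Opens X} (f : V ⟶ U) (hx : x ∈ V)
    (m : (pm O M).obj (op U)) :
    evalψ O x ψ V hx (res (pm O M) f m) = evalψ O x ψ U (f.le hx) m := by
  have h := ConcreteCategory.congr_hom ((pmap ψ).naturality f.op) m
  exact congr_fun (h : (sm ψ V (res (pm O M) f m) : SkyCarrier O x N V) = _) ⟨hx⟩

lemma evalψ_smul (ψ : M ⟶ sky O x N) (U : Opens X) (hx : x ∈ U) (r : O.obj.obj (op U))
    (m : (pm O M).obj (op U)) :
    evalψ O x ψ U hx (r • m) = gO (O := O) x U hx r • evalψ O x ψ U hx m := by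
  have h := map_smul (sm ψ U) r m
  exact congr_fun (h : (sm ψ U (r • m) : SkyCarrier O x N U) = _) ⟨hx⟩

/-- the cocone defining the map `M_x ⟶ N` attached to `M ⟶ sky x N` -/
noncomputable def fromSkyCocone (ψ : M ⟶ sky O x N) :
    Cocone ((OpenNhds.inclusion x).op ⋙ pa O M) where
  pt := AddCommGrpCat.of N
  ι :=
    { app := fun U => AddCommGrpCat.ofHom (evalψ O x ψ U.unop.1 U.unop.2)
      naturality := fun U V f => by
        ext m
        exact evalψ_res O x ψ ((OpenNhds.inclusion x).map f.unop) V.unop.2 m }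

/-- the underlying additive map of `fromSky` -/
noncomputable def fromSkyAb (ψ : M ⟶ sky O x N) : Mx O M x ⟶ AddCommGrpCat.of N :=
  colimit.desc _ (fromSkyCocone O x ψ)

lemma fromSkyAb_germ (ψ : M ⟶ sky O x N) (U : Opens X) (hx : x ∈ U) (m : (pm O M).obj (op U)) :
    fromSkyAb O x ψ (gM M x U hx m) = evalψ O x ψ U hx m := by
  have : TopCat.Presheaf.germ (pa O M) U x hx ≫ fromSkyAb O x ψ =
      (fromSkyCocone O x ψ).ι.app (op ⟨U, hx⟩) :=
    colimit.ι_desc _ _
  exact ConcreteCategory.congr_hom this m

/-- the map `M_x ⟶ N` attached to `M ⟶ sky x N` -/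
noncomputable def fromSky (ψ : M ⟶ sky O x N) : (stalkFunctor O x).obj M ⟶ N :=
  ModuleCat.ofHom
    { toFun := fun m => fromSkyAb O x ψ m
      map_add' := fun a b => map_add _ a b
      map_smul' := fun r m => by
        obtain ⟨U, hx, r', m', rfl, rfl⟩ := exists_germ_eq₂ M x r m
        calc fromSkyAb O x ψ (gO (O := O) x U hx r' • gM M x U hx m')
            = fromSkyAb O x ψ (gM M x U hx (r' • m')) :=
              congrArg _ (gM_smul M x U hx r' m').symm
          _ = evalψ O x ψ U hx (r' • m') := fromSkyAb_germ O x ψ U hx _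
          _ = gO (O := O) x U hx r' • evalψ O x ψ U hx m' := evalψ_smul O x ψ U hx r' m'
          _ = gO (O := O) x U hx r' • fromSkyAb O x ψ (gM M x U hx m') :=
              congrArg (fun t => gO (O := O) x U hx r' • t) (fromSkyAb_germ O x ψ U hx m').symm }

lemma fromSky_germ (ψ : M ⟶ sky O x N) (U : Opens X) (hx : x ∈ U) (m : (pm O M).obj (op U)) :
    (fromSky O x ψ).hom (gM M x U hx m) = evalψ O x ψ U hx m :=
  fromSkyAb_germ O x ψ U hx m

lemma fromSky_toSky (θ : (stalkFunctor O x).obj M ⟶ N) : fromSky O x (toSky O x θ) = θ := by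
  ext m
  obtain ⟨U, hx, m', rfl⟩ := exists_gM_eq M x (m : Mx O M x)
  exact fromSky_germ O x (toSky O x θ) U hx m'

lemma toSky_fromSky (ψ : M ⟶ sky O x N) : toSky O x (fromSky O x ψ) = ψ := by
  apply SheafOfModules.hom_ext
  apply PresheafOfModules.hom_ext
  rintro ⟨U⟩
  apply ModuleCat.hom_ext
  apply LinearMap.ext
  intro m
  refine funext (fun h => ?_)
  exact fromSky_germ O x ψ U h.down m

end

/-- The adjunction between the stalk functor and the skyscraper functor. -/
noncomputable def stalkSkyAdjunction : stalkFunctor O x ⊣ skyFunctor O x :=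
  Adjunction.mkOfHomEquiv
    { homEquiv := fun M N =>
        { toFun := toSky O x
          invFun := fromSky O x
          left_inv := fromSky_toSky O x
          right_inv := toSky_fromSky O x }
      homEquiv_naturality_left_symm := fun {M' M N} φ ψ => by
        ext m
        obtain ⟨U, hx, m', rfl⟩ := exists_gM_eq M' x (m : Mx O M' x)
        refine (fromSky_germ O x (φ ≫ ψ) U hx m').trans ?_
        refine Eq.trans ?_
          (congrArg (fromSky O x ψ).hom (stalkFunctor_map_germ x φ U hx m')).symm
        exact (fromSky_germ O x ψ U hx (sm φ U m')).symm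
      homEquiv_naturality_right := fun {M N N'} θ g => by
        apply SheafOfModules.hom_ext
        apply PresheafOfModules.hom_ext
        rintro ⟨U⟩
        apply ModuleCat.hom_ext
        apply LinearMap.ext
        intro m
        rfl }

end Groth.Agent.H34.RStalk
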