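import Groth.Agent.H34.RStalkTensor

/-!
# A formula for the stalk of a pullback (ringed spaces)
-/

set_option autoImplicit false
universe u
open CategoryTheory CategoryTheory.Limits Opposite TopologicalSpace TensorProduct MonoidalCategory

namespace Groth.Agent.H34.RStalk

open Groth.Agent.H45 Groth.Agent.H34.ModPushFT

variable {X Y : TopCat.{u}} (f : X ⟶ Y)
  (O_X : Sheaf (Opens.grothendieckTopology X) CommRingCat.{u})
  (O_Y : Sheaf (Opens.grothendieckTopology Y) CommRingCat.{u})
  (c : O_Y ⟶ ((Opens.map f).sheafPushforwardContinuous CommRingCat.{u}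
      (Opens.grothendieckTopology Y) (Opens.grothendieckTopology X)).obj O_X)
  (x : X)

/-- the pullback-pushforward adjunction -/
noncomputable abbrev iadj : ipull f O_X O_Y c ⊣ ipush f O_X O_Y c :=
  (ModSite.RMor.ofFlat (Opens.map f) c).adj

/-- the map on sections induced by the unit of the pullback-pushforward adjunction -/
noncomputable def unitSec (A : ModSite.Mod O_Y) (V : Opens Y) :
    (pm O_Y A).obj (op V) →+ (pm O_X ((ipull f O_X O_Y c).obj A)).obj (op ((Opens.map f).obj V)) :=
  (sm ((iadj f O_X O_Y c).unit.app A) V).toAddMonoidHom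

lemma unitSec_apply (A : ModSite.Mod O_Y) (V : Opens Y) (a : (pm O_Y A).obj (op V)) :
    unitSec f O_X O_Y c A V a = sm ((iadj f O_X O_Y c).unit.app A) V a := rfl

open ChangeOfRings in
theorem pullbackStalkIso_hom_germ (A : ModSite.Mod O_Y) (V : Opens Y) (hy : f x ∈ V)
    (a : (pm O_Y A).obj (op V)) :
    ((pullbackStalkIso f O_X O_Y c x).hom.app A).hom
      (gm x ((ipull f O_X O_Y c).obj A) ((Opens.map f).obj V) hy (unitSec f O_X O_Y c A V a)) =
    ((1 : Ox O_X x) ⊗ₜ[Ox O_Y (f x), (stalkRingMap f O_X O_Y c x).hom]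
      (gm (f x) A V hy a : (stalkFunctor O_Y (f x)).obj A) : (stalkExt f O_X O_Y c x).obj A) := by
  have key := Adjunction.homEquiv_leftAdjointUniq_hom_app (pullbackStalkAdj f O_X O_Y c x)
    ((stalkExtAdj f O_X O_Y c x).ofNatIsoRight (pushSkyNatIso f O_X O_Y c x).symm) A
  rw [← Adjunction.homEquiv_id, Adjunction.homEquiv_ofNatIsoRight_apply] at key
  have key2 := congrArg (fun φ => ((sm φ V a :
    SkyCarrier O_X x _ ((Opens.map f).obj V)) ⟨hy⟩)) key
  dsimp only at key2
  have e1 : ∀ (N : ModuleCat.{u} (Ox O_X x))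
      (g : (pullbackStalk f O_X O_Y c x).obj A ⟶ N),
      (pullbackStalkAdj f O_X O_Y c x).homEquiv A N g =
        (iadj f O_X O_Y c).unit.app A ≫ (ipush f O_X O_Y c).map (toSky O_X x g) := by
    intro N g
    unfold pullbackStalkAdj
    rw [Adjunction.comp_homEquiv]
    dsimp only [Equiv.trans_apply]
    rw [Adjunction.homEquiv_unit]
    rfl
  have e2 : (stalkExtAdj f O_X O_Y c x).homEquiv A ((stalkExt f O_X O_Y c x).obj A)
      (𝟙 ((stalkExt f O_X O_Y c x).obj A)) =
      toSky O_Y (f x) ((ModuleCat.extendRestrictScalarsAdj (stalkRingMap f O_X O_Y c x).hom).unit.app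
        ((stalkFunctor O_Y (f x)).obj A)) := by
    unfold stalkExtAdj
    rw [Adjunction.comp_homEquiv]
    dsimp only [Equiv.trans_apply]
    have h3 : (ModuleCat.extendRestrictScalarsAdj (stalkRingMap f O_X O_Y c x).hom).homEquiv
        ((stalkFunctor O_Y (f x)).obj A) ((stalkExt f O_X O_Y c x).obj A)
        (𝟙 ((stalkExt f O_X O_Y c x).obj A)) =
        (ModuleCat.extendRestrictScalarsAdj (stalkRingMap f O_X O_Y c x).hom).unit.app
          ((stalkFunctor O_Y (f x)).obj A) := Adjunction.homEquiv_id _ _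
    exact congrArg (toSky O_Y (f x)) h3
  rw [e1, e2] at key2
  exact key2

end Groth.Agent.H34.RStalk
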