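import Groth.Agent.H34.RStalk4
import Groth.Agent.H45.SheafTensor.FlatOps
import Mathlib.Algebra.Category.ModuleCat.Monoidal.Basic

/-!
# The stalk of a tensor product of modules on a ringed space
-/

set_option autoImplicit false
universe u
open CategoryTheory CategoryTheory.Limits Opposite TopologicalSpace TensorProduct MonoidalCategory

namespace Groth.Agent.H34.RStalk

open Groth.Agent.H45

variable {X : TopCat.{u}} {O : Sheaf (Opens.grothendieckTopology X) CommRingCat.{u}}

section Sections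

variable (A B : ModSite.Mod O)

/-- the sectionwise tensor product -/
noncomputable abbrev ptens : PMod O := (forg O).obj A ⊗ (forg O).obj B

/-- `A ⊗ B` -/
noncomputable abbrev tens : ModSite.Mod O := (shf O).obj (ptens A B)

lemma tens_eq : tens A B = ((ModSite.tensorBi O).obj A).obj B := rfl

/-- the canonical map from the sectionwise tensor product to the tensor product -/
noncomputable def toTens : ptens A B ⟶ (forg O).obj (tens A B) :=
  (shfAdj O).unit.app (ptens A B)

/-- the section `s ⊗ t` of `A ⊗ B` over `U` -/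
noncomputable def tm (U : Opens X) (s : (pm O A).obj (op U)) (t : (pm O B).obj (op U)) :
    (pm O (tens A B)).obj (op U) :=
  ((toTens A B).app (op U)).hom (tmulS (P := (forg O).obj A) ((forg O).obj B) s t)

lemma tm_add_left (U : Opens X) (s s' : (pm O A).obj (op U)) (t : (pm O B).obj (op U)) :
    tm A B U (s + s') t = tm A B U s t + tm A B U s' t := by
  unfold tm
  have h : tmulS (P := (forg O).obj A) ((forg O).obj B) (s + s') t =
      tmulS (P := (forg O).obj A) ((forg O).obj B) s t +
        tmulS (P := (forg O).obj A) ((forg O).obj B) s' t := TensorProduct.add_tmul s s' t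
  exact (congrArg ((toTens A B).app (op U)).hom h).trans (map_add _ _ _)

lemma tm_add_right (U : Opens X) (s : (pm O A).obj (op U)) (t t' : (pm O B).obj (op U)) :
    tm A B U s (t + t') = tm A B U s t + tm A B U s t' := by
  unfold tm
  have h : tmulS (P := (forg O).obj A) ((forg O).obj B) s (t + t') =
      tmulS (P := (forg O).obj A) ((forg O).obj B) s t +
        tmulS (P := (forg O).obj A) ((forg O).obj B) s t' := TensorProduct.tmul_add s t t'
  exact (congrArg ((toTens A B).app (op U)).hom h).trans (map_add _ _ _)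

lemma tm_smul_left (U : Opens X) (r : O.obj.obj (op U)) (s : (pm O A).obj (op U))
    (t : (pm O B).obj (op U)) :
    tm A B U (r • s) t = r • tm A B U s t := by
  unfold tm
  let r' : ↑((O.obj ⋙ forget₂ CommRingCat RingCat).obj (op U)) := r
  let s' : ↑(((forg O).obj A).obj (op U)) := s
  let t' : ↑(((forg O).obj B).obj (op U)) := t
  have h : ((r' • s') ⊗ₜ[↑((O.obj ⋙ forget₂ CommRingCat RingCat).obj (op U))] t') =
      r' • (s' ⊗ₜ t') := (TensorProduct.smul_tmul' r' s' t').symm
  exact (congrArg ((toTens A B).app (op U)).hom h).trans (map_smul _ r' _)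

lemma tm_smul_right (U : Opens X) (r : O.obj.obj (op U)) (s : (pm O A).obj (op U))
    (t : (pm O B).obj (op U)) :
    tm A B U s (r • t) = r • tm A B U s t := by
  unfold tm
  let r' : ↑((O.obj ⋙ forget₂ CommRingCat RingCat).obj (op U)) := r
  let s' : ↑(((forg O).obj A).obj (op U)) := s
  let t' : ↑(((forg O).obj B).obj (op U)) := t
  have h : (s' ⊗ₜ[↑((O.obj ⋙ forget₂ CommRingCat RingCat).obj (op U))] (r' • t')) =
      r' • (s' ⊗ₜ t') := TensorProduct.tmul_smul r' s' t'
  exact (congrArg ((toTens A B).app (op U)).hom h).trans (map_smul _ r' _)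

lemma tm_res {U V : Opens X} (i : V ⟶ U) (s : (pm O A).obj (op U)) (t : (pm O B).obj (op U)) :
    res (pm O (tens A B)) i (tm A B U s t) = tm A B V (res (pm O A) i s) (res (pm O B) i t) := by
  unfold tm
  exact (res_naturality (toTens A B) i _).symm

end Sections


section Germ

variable (x : X) (A B : ModSite.Mod O)

/-- the germ at `x` of the section `s ⊗ t` -/
noncomputable def tg (U : Opens X) (hx : x ∈ U) (s : (pm O A).obj (op U))
    (t : (pm O B).obj (op U)) : Mx O (tens A B) x :=
  gM (tens A B) x U hx (tm A B U s t)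

lemma tg_res {U V : Opens X} (i : V ⟶ U) (hx : x ∈ V) (s : (pm O A).obj (op U))
    (t : (pm O B).obj (op U)) :
    tg x A B V hx (res (pm O A) i s) (res (pm O B) i t) = tg x A B U (i.le hx) s t := by
  unfold tg
  rw [← tm_res]
  exact gM_res (tens A B) x i hx _

lemma tg_add_left (U : Opens X) (hx : x ∈ U) (s s' : (pm O A).obj (op U))
    (t : (pm O B).obj (op U)) :
    tg x A B U hx (s + s') t = tg x A B U hx s t + tg x A B U hx s' t := by
  unfold tg
  rw [tm_add_left, map_add]

lemma tg_add_right (U : Opens X) (hx : x ∈ U) (s : (pm O A).obj (op U))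
    (t t' : (pm O B).obj (op U)) :
    tg x A B U hx s (t + t') = tg x A B U hx s t + tg x A B U hx s t' := by
  unfold tg
  rw [tm_add_right, map_add]

lemma tg_smul_left (U : Opens X) (hx : x ∈ U) (r : O.obj.obj (op U)) (s : (pm O A).obj (op U))
    (t : (pm O B).obj (op U)) :
    tg x A B U hx (r • s) t = gO (O := O) x U hx r • tg x A B U hx s t := by
  unfold tg
  rw [tm_smul_left, gM_smul]

lemma tg_smul_right (U : Opens X) (hx : x ∈ U) (r : O.obj.obj (op U)) (s : (pm O A).obj (op U))
    (t : (pm O B).obj (op U)) :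
    tg x A B U hx s (r • t) = gO (O := O) x U hx r • tg x A B U hx s t := by
  unfold tg
  rw [tm_smul_right, gM_smul]

lemma res_eq_of_res_eq (M : ModSite.Mod O) {U U' W₁ W : Opens X} (iU : W₁ ⟶ U) (iU' : W₁ ⟶ U')
    (s : (pm O M).obj (op U)) (s' : (pm O M).obj (op U'))
    (h : res (pm O M) iU s = res (pm O M) iU' s')
    (j : W ⟶ W₁) (k : W ⟶ U) (k' : W ⟶ U') :
    res (pm O M) k s = res (pm O M) k' s' := by
  have hk : k = j ≫ iU := Subsingleton.elim _ _
  have hk' : k' = j ≫ iU' := Subsingleton.elim _ _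
  rw [hk, hk', res_comp, res_comp, h]

lemma gM_eq (M : ModSite.Mod O) {U U' : Opens X} (hx : x ∈ U) (hx' : x ∈ U')
    (s : (pm O M).obj (op U)) (s' : (pm O M).obj (op U'))
    (h : gM M x U hx s = gM M x U' hx' s') :
    ∃ (W : Opens X) (_ : x ∈ W) (i : W ⟶ U) (i' : W ⟶ U'),
      res (pm O M) i s = res (pm O M) i' s' :=
  TopCat.Presheaf.germ_eq (pa O M) x hx hx' s s' h

lemma tg_congr {U U' : Opens X} (hx : x ∈ U) (hx' : x ∈ U') (s : (pm O A).obj (op U))
    (s' : (pm O A).obj (op U')) (t : (pm O B).obj (op U)) (t' : (pm O B).obj (op U'))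
    (hs : gM A x U hx s = gM A x U' hx' s') (ht : gM B x U hx t = gM B x U' hx' t') :
    tg x A B U hx s t = tg x A B U' hx' s' t' := by
  obtain ⟨W₁, hW₁, i₁, i₁', h₁⟩ := gM_eq x A hx hx' s s' hs
  obtain ⟨W₂, hW₂, i₂, i₂', h₂⟩ := gM_eq x B hx hx' t t' ht
  let W : Opens X := W₁ ⊓ W₂
  have hW : x ∈ W := ⟨hW₁, hW₂⟩
  let k : W ⟶ U := homOfLE inf_le_left ≫ i₁
  let k' : W ⟶ U' := homOfLE inf_le_left ≫ i₁'
  rw [← tg_res x A B k hW s t, ← tg_res x A B k' hW s' t',
    res_eq_of_res_eq A i₁ i₁' s s' h₁ (homOfLE inf_le_left) k k',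
    res_eq_of_res_eq B i₂ i₂' t t' h₂ (homOfLE inf_le_right) k k']

lemma exists_reps (a : Mx O A x) (c : Mx O B x) :
    ∃ (U : Opens X) (hx : x ∈ U) (s : (pm O A).obj (op U)) (t : (pm O B).obj (op U)),
      gM A x U hx s = a ∧ gM B x U hx t = c := by
  obtain ⟨U₁, h₁, s₁, rfl⟩ := exists_gM_eq A x a
  obtain ⟨U₂, h₂, t₂, rfl⟩ := exists_gM_eq B x c
  exact ⟨U₁ ⊓ U₂, ⟨h₁, h₂⟩, res (pm O A) (homOfLE inf_le_left) s₁,
    res (pm O B) (homOfLE inf_le_right) t₂, gM_res A x _ _ s₁, gM_res B x _ _ t₂⟩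

/-- the bilinear pairing `A_x × B_x → (A ⊗ B)_x` -/
noncomputable def bil (a : Mx O A x) (c : Mx O B x) : Mx O (tens A B) x :=
  tg x A B (exists_reps x A B a c).choose (exists_reps x A B a c).choose_spec.choose
    (exists_reps x A B a c).choose_spec.choose_spec.choose
    (exists_reps x A B a c).choose_spec.choose_spec.choose_spec.choose

lemma bil_germ (U : Opens X) (hx : x ∈ U) (s : (pm O A).obj (op U)) (t : (pm O B).obj (op U)) :
    bil x A B (gM A x U hx s) (gM B x U hx t) = tg x A B U hx s t := by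
  have h := (exists_reps x A B (gM A x U hx s)
    (gM B x U hx t)).choose_spec.choose_spec.choose_spec.choose_spec
  exact tg_congr x A B _ hx _ s _ t h.1 h.2

lemma bil_add_left (a a' : Mx O A x) (c : Mx O B x) :
    bil x A B (a + a') c = bil x A B a c + bil x A B a' c := by
  obtain ⟨U₁, h₁, s₁, t₁, rfl, rfl⟩ := exists_reps x A B a c
  obtain ⟨U₂, h₂, s₂, rfl⟩ := exists_gM_eq A x a'
  let W : Opens X := U₁ ⊓ U₂
  have hW : x ∈ W := ⟨h₁, h₂⟩
  let i₁ : W ⟶ U₁ := homOfLE inf_le_left
  let i₂ : W ⟶ U₂ := homOfLE inf_le_right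
  rw [← gM_res A x i₁ hW s₁, ← gM_res B x i₁ hW t₁, ← gM_res A x i₂ hW s₂, ← map_add, bil_germ,
    bil_germ, bil_germ, tg_add_left]

lemma bil_add_right (a : Mx O A x) (c c' : Mx O B x) :
    bil x A B a (c + c') = bil x A B a c + bil x A B a c' := by
  obtain ⟨U₁, h₁, s₁, t₁, rfl, rfl⟩ := exists_reps x A B a c
  obtain ⟨U₂, h₂, t₂, rfl⟩ := exists_gM_eq B x c'
  let W : Opens X := U₁ ⊓ U₂
  have hW : x ∈ W := ⟨h₁, h₂⟩
  let i₁ : W ⟶ U₁ := homOfLE inf_le_left
  let i₂ : W ⟶ U₂ := homOfLE inf_le_right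
  rw [← gM_res A x i₁ hW s₁, ← gM_res B x i₁ hW t₁, ← gM_res B x i₂ hW t₂, ← map_add, bil_germ,
    bil_germ, bil_germ, tg_add_right]

lemma bil_smul_left (r : Ox O x) (a : Mx O A x) (c : Mx O B x) :
    bil x A B (r • a) c = r • bil x A B a c := by
  obtain ⟨U₁, h₁, s₁, t₁, rfl, rfl⟩ := exists_reps x A B a c
  obtain ⟨U₂, h₂, r₂, rfl⟩ := exists_gO_eq (O := O) x r
  let W : Opens X := U₁ ⊓ U₂
  have hW : x ∈ W := ⟨h₁, h₂⟩
  let i₁ : W ⟶ U₁ := homOfLE inf_le_left
  let i₂ : W ⟶ U₂ := homOfLE inf_le_right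
  rw [← gM_res A x i₁ hW s₁, ← gM_res B x i₁ hW t₁, ← gO_res (O := O) x i₂ hW r₂, ← gM_smul,
    bil_germ, bil_germ, tg_smul_left]

lemma bil_smul_right (r : Ox O x) (a : Mx O A x) (c : Mx O B x) :
    bil x A B a (r • c) = r • bil x A B a c := by
  obtain ⟨U₁, h₁, s₁, t₁, rfl, rfl⟩ := exists_reps x A B a c
  obtain ⟨U₂, h₂, r₂, rfl⟩ := exists_gO_eq (O := O) x r
  let W : Opens X := U₁ ⊓ U₂
  have hW : x ∈ W := ⟨h₁, h₂⟩
  let i₁ : W ⟶ U₁ := homOfLE inf_le_left
  let i₂ : W ⟶ U₂ := homOfLE inf_le_right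
  rw [← gM_res A x i₁ hW s₁, ← gM_res B x i₁ hW t₁, ← gO_res (O := O) x i₂ hW r₂, ← gM_smul,
    bil_germ, bil_germ, tg_smul_right]

end Germ

section Iso

variable (x : X) (A B : ModSite.Mod O)

/-- the germ map, with values in the module `M_x` -/
noncomputable def gm (M : ModSite.Mod O) (U : Opens X) (hx : x ∈ U) :
    (pm O M).obj (op U) →+ ((stalkFunctor O x).obj M : Type u) :=
  gM M x U hx

lemma gm_apply (M : ModSite.Mod O) (U : Opens X) (hx : x ∈ U) (m : (pm O M).obj (op U)) :
    gm x M U hx m = gM M x U hx m := rfl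

lemma gm_smul (M : ModSite.Mod O) (U : Opens X) (hx : x ∈ U) (r : O.obj.obj (op U))
    (m : (pm O M).obj (op U)) :
    gm x M U hx (r • m) = gO (O := O) x U hx r • gm x M U hx m :=
  gM_smul M x U hx r m

lemma gm_res (M : ModSite.Mod O) {U V : Opens X} (i : V ⟶ U) (hx : x ∈ V)
    (m : (pm O M).obj (op U)) :
    gm x M V hx (res (pm O M) i m) = gm x M U (i.le hx) m :=
  gM_res M x i hx m

lemma exists_gm_eq (M : ModSite.Mod O) (a : ((stalkFunctor O x).obj M : Type u)) :
    ∃ (U : Opens X) (hx : x ∈ U) (m : (pm O M).obj (op U)), gm x M U hx m = a :=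
  exists_gM_eq M x (a : Mx O M x)

lemma stalkFunctor_map_gm {M M' : ModSite.Mod O} (φ : M ⟶ M') (U : Opens X) (hx : x ∈ U)
    (m : (pm O M).obj (op U)) :
    ((stalkFunctor O x).map φ).hom (gm x M U hx m) = gm x M' U hx (sm φ U m) :=
  stalkFunctor_map_germ x φ U hx m

/-- `A_x ⊗ B_x` -/
noncomputable abbrev NN : ModuleCat.{u} (Ox O x) :=
  (stalkFunctor O x).obj A ⊗ (stalkFunctor O x).obj B

/-- the map `A_x ⊗ B_x ⟶ (A ⊗ B)_x` -/
noncomputable def β : NN x A B ⟶ (stalkFunctor O x).obj (tens A B) :=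
  ModuleCat.MonoidalCategory.tensorLift (M₁ := (stalkFunctor O x).obj A)
    (M₂ := (stalkFunctor O x).obj B) (M₃ := (stalkFunctor O x).obj (tens A B))
    (bil x A B) (bil_add_left x A B) (bil_smul_left x A B) (bil_add_right x A B)
    (bil_smul_right x A B)

lemma β_tmul (U : Opens X) (hx : x ∈ U) (s : (pm O A).obj (op U)) (t : (pm O B).obj (op U)) :
    (β x A B).hom (gm x A U hx s ⊗ₜ gm x B U hx t) = gm x _ U hx (tm A B U s t) :=
  bil_germ x A B U hx s t

/-- the pairing on sections with values in the skyscraper module -/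
noncomputable def secPair (U : Opens X) (s : (pm O A).obj (op U)) (t : (pm O B).obj (op U)) :
    SkyCarrier O x (NN x A B) U :=
  fun h => gm x A U h.down s ⊗ₜ gm x B U h.down t

lemma secPair_apply (U : Opens X) (s : (pm O A).obj (op U)) (t : (pm O B).obj (op U))
    (h : PLift (x ∈ U)) :
    secPair x A B U s t h = gm x A U h.down s ⊗ₜ gm x B U h.down t := rfl

lemma secPair_add_left (U : Opens X) (s s' : (pm O A).obj (op U)) (t : (pm O B).obj (op U)) :
    secPair x A B U (s + s') t = secPair x A B U s t + secPair x A B U s' t := by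
  refine funext (fun h => ?_)
  change gm x A U h.down (s + s') ⊗ₜ gm x B U h.down t = _
  rw [map_add, TensorProduct.add_tmul]
  rfl

lemma secPair_add_right (U : Opens X) (s : (pm O A).obj (op U)) (t t' : (pm O B).obj (op U)) :
    secPair x A B U s (t + t') = secPair x A B U s t + secPair x A B U s t' := by
  refine funext (fun h => ?_)
  change gm x A U h.down s ⊗ₜ gm x B U h.down (t + t') = _
  rw [map_add, TensorProduct.tmul_add]
  rfl

lemma secPair_smul_left (U : Opens X) (r : O.obj.obj (op U)) (s : (pm O A).obj (op U))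
    (t : (pm O B).obj (op U)) :
    secPair x A B U (r • s) t = r • secPair x A B U s t := by
  refine funext (fun h => ?_)
  change gm x A U h.down (r • s) ⊗ₜ gm x B U h.down t = _
  rw [gm_smul, ← TensorProduct.smul_tmul']
  rfl

lemma secPair_smul_right (U : Opens X) (r : O.obj.obj (op U)) (s : (pm O A).obj (op U))
    (t : (pm O B).obj (op U)) :
    secPair x A B U s (r • t) = r • secPair x A B U s t := by
  refine funext (fun h => ?_)
  change gm x A U h.down s ⊗ₜ gm x B U h.down (r • t) = _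
  rw [gm_smul, TensorProduct.tmul_smul]
  rfl

lemma secPair_res {U V : Opens X} (i : V ⟶ U) (s : (pm O A).obj (op U)) (t : (pm O B).obj (op U))
    (h : PLift (x ∈ V)) :
    secPair x A B V (res (pm O A) i s) (res (pm O B) i t) h =
      secPair x A B U s t ⟨i.le h.down⟩ := by
  rw [secPair_apply, secPair_apply, gm_res, gm_res]

/-- the presheaf morphism from the sectionwise tensor product to the skyscraper module -/
noncomputable def pPre : ptens A B ⟶ skyPre O x (NN x A B) where
  app U := ModuleCat.MonoidalCategory.tensorLift (M₁ := ((forg O).obj A).obj U)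
    (M₂ := ((forg O).obj B).obj U) (M₃ := (skyPre O x (NN x A B)).obj U)
    (fun s t => secPair x A B U.unop s t)
    (fun s s' t => secPair_add_left x A B U.unop s s' t)
    (fun r s t => secPair_smul_left x A B U.unop r s t)
    (fun s t t' => secPair_add_right x A B U.unop s t t')
    (fun r s t => secPair_smul_right x A B U.unop r s t)
  naturality {U V} f := by
    refine ModuleCat.MonoidalCategory.tensor_ext (fun s t => ?_)
    change secPair x A B V.unop (res (pm O A) f.unop s) (res (pm O B) f.unop t) =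
      (fun h => secPair x A B U.unop s t ⟨f.unop.le h.down⟩ :
        SkyCarrier O x (NN x A B) V.unop)
    exact funext (fun h => secPair_res x A B f.unop s t h)

lemma pPre_app_tmul (U : Opens X) (s : (pm O A).obj (op U)) (t : (pm O B).obj (op U)) :
    ((pPre x A B).app (op U)).hom (tmulS (P := (forg O).obj A) ((forg O).obj B) s t) =
      secPair x A B U s t := rfl

/-- the map `A ⊗ B ⟶ sky (A_x ⊗ B_x)` -/
noncomputable def ψ : tens A B ⟶ sky O x (NN x A B) :=
  ((shfAdj O).homEquiv (ptens A B) (sky O x (NN x A B))).symm (pPre x A B)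

lemma ψ_tm (U : Opens X) (s : (pm O A).obj (op U)) (t : (pm O B).obj (op U)) :
    sm (ψ x A B) U (tm A B U s t) = secPair x A B U s t := by
  have h : (shfAdj O).homEquiv _ _ (ψ x A B) = pPre x A B := Equiv.apply_symm_apply _ _
  rw [Adjunction.homEquiv_unit] at h
  have h2 := congrArg (fun φ => (PresheafOfModules.Hom.app φ (op U)).hom
    (tmulS (P := (forg O).obj A) ((forg O).obj B) s t)) h
  exact h2

/-- the map `(A ⊗ B)_x ⟶ A_x ⊗ B_x` -/
noncomputable def γ : (stalkFunctor O x).obj (tens A B) ⟶ NN x A B :=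
  fromSky O x (ψ x A B)

lemma γ_tm (U : Opens X) (hx : x ∈ U) (s : (pm O A).obj (op U)) (t : (pm O B).obj (op U)) :
    (γ x A B).hom (gm x _ U hx (tm A B U s t)) = gm x A U hx s ⊗ₜ gm x B U hx t := by
  refine (fromSky_germ O x (ψ x A B) U hx (tm A B U s t)).trans ?_
  rw [evalψ_apply, ψ_tm]
  rfl

/-- morphisms out of `(A ⊗ B)_x` are determined by their values on the germs of `s ⊗ t` -/
lemma hom_ext_stalk_tensor {M : ModuleCat.{u} (Ox O x)}
    (u v : (stalkFunctor O x).obj (tens A B) ⟶ M)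
    (h : ∀ (U : Opens X) (hx : x ∈ U) (s : (pm O A).obj (op U)) (t : (pm O B).obj (op U)),
      u.hom (gm x _ U hx (tm A B U s t)) = v.hom (gm x _ U hx (tm A B U s t))) : u = v := by
  have h1 : toSky O x u = toSky O x v := by
    apply ((shfAdj O).homEquiv (ptens A B) (sky O x M)).injective
    rw [Adjunction.homEquiv_unit, Adjunction.homEquiv_unit]
    apply PresheafOfModules.hom_ext
    intro U
    refine ModuleCat.MonoidalCategory.tensor_ext (M₁ := ((forg O).obj A).obj U)
      (M₂ := ((forg O).obj B).obj U) (fun s t => ?_)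
    exact funext (fun hh => h U.unop hh.down s t)
  calc u = fromSky O x (toSky O x u) := (fromSky_toSky O x u).symm
    _ = fromSky O x (toSky O x v) := by rw [h1]
    _ = v := fromSky_toSky O x v

lemma γ_β : γ x A B ≫ β x A B = 𝟙 _ := by
  refine hom_ext_stalk_tensor x A B _ _ (fun U hx s t => ?_)
  change (β x A B).hom ((γ x A B).hom (gm x _ U hx (tm A B U s t))) = _
  rw [γ_tm, β_tmul]
  rfl

lemma β_γ : β x A B ≫ γ x A B = 𝟙 _ := by
  refine ModuleCat.MonoidalCategory.tensor_ext (fun a c => ?_)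
  obtain ⟨U, hx, s, t, rfl, rfl⟩ := exists_reps x A B a c
  change (γ x A B).hom ((β x A B).hom (gm x A U hx s ⊗ₜ gm x B U hx t)) = _
  rw [β_tmul, γ_tm]
  rfl

/-- the stalk of a tensor product is the tensor product of the stalks -/
noncomputable def stalkTensorIso : (stalkFunctor O x).obj (tens A B) ≅ NN x A B where
  hom := γ x A B
  inv := β x A B
  hom_inv_id := γ_β x A B
  inv_hom_id := β_γ x A B

end Iso

end Groth.Agent.H34.RStalk
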