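import Groth.Agent.H34.RStalkTensor

/-!
# Naturality of the stalk of a tensor product in the first variable
-/

set_option autoImplicit false
universe u
open CategoryTheory CategoryTheory.Limits Opposite TopologicalSpace TensorProduct MonoidalCategory

namespace Groth.Agent.H34.RStalk

open Groth.Agent.H45

variable {X : TopCat.{u}} {O : Sheaf (Opens.grothendieckTopology X) CommRingCat.{u}}

variable {A A' : ModSite.Mod O} (ψ : A ⟶ A') (F : ModSite.Mod O)

/-- `ψ ⊗ F` -/
noncomputable abbrev tensMapL : tens A F ⟶ tens A' F :=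
  (shf O).map ((forg O).map ψ ▷ (forg O).obj F)

lemma tensMapL_eq : tensMapL ψ F = ((ModSite.tensorBi O).flip.obj F).map ψ := rfl

lemma sm_tensMapL_tm (U : Opens X) (s : (pm O A).obj (op U)) (t : (pm O F).obj (op U)) :
    sm (tensMapL ψ F) U (tm A F U s t) = tm A' F U (sm ψ U s) t := by
  have h := (shfAdj O).unit.naturality ((forg O).map ψ ▷ (forg O).obj F)
  have h2 := congrArg (fun φ => (PresheafOfModules.Hom.app φ (op U)).hom
    (tmulS (P := (forg O).obj A) ((forg O).obj F) s t)) h
  exact h2.symm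

lemma stalkTensorIso_hom_naturality_left (x : X) :
    (stalkFunctor O x).map (tensMapL ψ F) ≫ (stalkTensorIso x A' F).hom =
      (stalkTensorIso x A F).hom ≫ ((stalkFunctor O x).map ψ ▷ (stalkFunctor O x).obj F) := by
  refine hom_ext_stalk_tensor x A F _ _ (fun U hx s t => ?_)
  have h1 := stalkFunctor_map_gm x (tensMapL ψ F) U hx (tm A F U s t)
  have h2 := sm_tensMapL_tm ψ F U s t
  have h3 := γ_tm x A' F U hx (sm ψ U s) t
  have h4 := γ_tm x A F U hx s t
  have h5 := stalkFunctor_map_gm x ψ U hx s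
  have hL : ((stalkFunctor O x).map (tensMapL ψ F) ≫ (stalkTensorIso x A' F).hom).hom
      (gm x _ U hx (tm A F U s t)) = gm x A' U hx (sm ψ U s) ⊗ₜ gm x F U hx t :=
    (congrArg (γ x A' F).hom (h1.trans (congrArg (gm x _ U hx) h2))).trans h3
  have hR : ((stalkTensorIso x A F).hom ≫
      ((stalkFunctor O x).map ψ ▷ (stalkFunctor O x).obj F)).hom
      (gm x _ U hx (tm A F U s t)) = gm x A' U hx (sm ψ U s) ⊗ₜ gm x F U hx t :=
    (congrArg ((stalkFunctor O x).map ψ ▷ (stalkFunctor O x).obj F).hom h4).trans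
      (congrArg (fun z => z ⊗ₜ[Ox O x] gm x F U hx t) h5)
  exact hL.trans hR.symm

end Groth.Agent.H34.RStalk
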