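import Groth.Agent.H34.RStalkTensorNat

/-!
# The stalk of the structure sheaf as a module over itself
-/

set_option autoImplicit false
universe u
open CategoryTheory CategoryTheory.Limits Opposite TopologicalSpace TensorProduct MonoidalCategory

namespace Groth.Agent.H34.RStalk

open Groth.Agent.H45

variable {X : TopCat.{u}} (O : Sheaf (Opens.grothendieckTopology X) CommRingCat.{u})

/-- a section of `O` as a section of the unit module -/
def us (U : Opens X) (r : O.obj.obj (op U)) : (pm O (ModSite.unit O)).obj (op U) := r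

lemma us_mul (U : Opens X) (r a : O.obj.obj (op U)) : us O U (r * a) = r • us O U a := rfl

lemma us_res {U V : Opens X} (i : V ⟶ U) (r : O.obj.obj (op U)) :
    res (pm O (ModSite.unit O)) i (us O U r) = us O V ((O.obj.map i.op).hom r) := rfl

lemma us_surjective (U : Opens X) (m : (pm O (ModSite.unit O)).obj (op U)) :
    ∃ r : O.obj.obj (op U), us O U r = m := ⟨m, rfl⟩

lemma us_injective (U : Opens X) (r r' : O.obj.obj (op U)) (h : us O U r = us O U r') : r = r' := h

variable (x : X)

/-- the germ of `1` -/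
noncomputable def oneStalk : ((stalkFunctor O x).obj (ModSite.unit O) : Type u) :=
  gm x (ModSite.unit O) ⊤ trivial (us O ⊤ 1)

lemma oneStalk_eq (U : Opens X) (hx : x ∈ U) :
    oneStalk O x = gm x (ModSite.unit O) U hx (us O U 1) := by
  have h := gm_res x (ModSite.unit O) (homOfLE (le_top : U ≤ ⊤)) hx (us O ⊤ 1)
  rw [us_res, map_one] at h
  exact h.symm

lemma gO_smul_oneStalk (U : Opens X) (hx : x ∈ U) (r : O.obj.obj (op U)) :
    gO (O := O) x U hx r • oneStalk O x = gm x (ModSite.unit O) U hx (us O U r) := by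
  rw [oneStalk_eq O x U hx, ← gm_smul, ← us_mul, mul_one]

/-- `a ↦ a • 1_x` -/
noncomputable def toUnitStalk : Ox O x →ₗ[Ox O x] ((stalkFunctor O x).obj (ModSite.unit O) : Type u) :=
  LinearMap.toSpanSingleton (Ox O x) _ (oneStalk O x)

lemma toUnitStalk_gO (U : Opens X) (hx : x ∈ U) (r : O.obj.obj (op U)) :
    toUnitStalk O x (gO (O := O) x U hx r) = gm x (ModSite.unit O) U hx (us O U r) :=
  gO_smul_oneStalk O x U hx r

lemma gO_eq {U U' : Opens X} (hx : x ∈ U) (hx' : x ∈ U')
    (r : O.obj.obj (op U)) (r' : O.obj.obj (op U'))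
    (h : gO (O := O) x U hx r = gO (O := O) x U' hx' r') :
    ∃ (W : Opens X) (_ : x ∈ W) (i : W ⟶ U) (i' : W ⟶ U'),
      (O.obj.map i.op).hom r = (O.obj.map i'.op).hom r' :=
  TopCat.Presheaf.germ_eq O.obj x hx hx' r r' h

lemma toUnitStalk_bijective : Function.Bijective (toUnitStalk O x) := by
  constructor
  · intro a b hab
    obtain ⟨U₁, h₁, r₁, rfl⟩ := exists_gO_eq (O := O) x a
    obtain ⟨U₂, h₂, r₂, rfl⟩ := exists_gO_eq (O := O) x b
    rw [toUnitStalk_gO, toUnitStalk_gO] at hab
    obtain ⟨W, hW, i, i', h⟩ := gM_eq x (ModSite.unit O) h₁ h₂ _ _ hab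
    rw [us_res, us_res] at h
    have h' := us_injective O W _ _ h
    rw [← gO_res x i hW r₁, ← gO_res x i' hW r₂, h']
  · intro m
    obtain ⟨U, hx, m', rfl⟩ := exists_gm_eq x (ModSite.unit O) m
    obtain ⟨r, rfl⟩ := us_surjective O U m'
    exact ⟨gO (O := O) x U hx r, toUnitStalk_gO O x U hx r⟩

/-- `(O)_x ≃ O_x` as modules -/
noncomputable def unitStalkEquiv :
    ((stalkFunctor O x).obj (ModSite.unit O) : Type u) ≃ₗ[Ox O x] Ox O x :=
  (LinearEquiv.ofBijective (toUnitStalk O x) (toUnitStalk_bijective O x)).symm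

lemma unitStalkEquiv_gm (U : Opens X) (hx : x ∈ U) (r : O.obj.obj (op U)) :
    unitStalkEquiv O x (gm x (ModSite.unit O) U hx (us O U r)) = gO (O := O) x U hx r := by
  rw [← toUnitStalk_gO]
  exact (LinearEquiv.ofBijective (toUnitStalk O x) (toUnitStalk_bijective O x)).symm_apply_apply _

end Groth.Agent.H34.RStalk
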