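import Groth.Agent.H34.TorsionFree
import Mathlib.LinearAlgebra.Dual.Lemmas
import Mathlib.Algebra.Exact.Basic
import Mathlib.LinearAlgebra.LeftExact
import Mathlib.RingTheory.Noetherian.Basic

set_option autoImplicit false
universe u v

namespace Groth.Agent.H34

/-- For a finite module over a domain, some nonzero scalar multiplies the double dual into the
image of the evaluation map. -/
theorem exists_smul_mem_range_eval (R : Type u) [CommRing R] [IsDomain R] (M : Type v)
    [AddCommGroup M] [Module R M] [Module.Finite R M] :
    ∃ c : R, c ≠ 0 ∧ (∀ x : M, Module.Dual.eval R M x = 0 → c • x = 0) ∧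
      ∀ y : Module.Dual R (Module.Dual R M), c • y ∈ LinearMap.range (Module.Dual.eval R M) := by
  obtain ⟨n, e, ψ, c, hc, hframe⟩ := exists_dual_frame R M
  refine ⟨c, hc, ?_, ?_⟩
  · intro x hx
    rw [hframe x]
    refine Finset.sum_eq_zero fun j _ => ?_
    have : ψ j x = 0 := by
      have := LinearMap.congr_fun hx (ψ j)
      simpa using this
    rw [this, zero_smul]
  · intro y
    refine ⟨∑ j, y (ψ j) • e j, ?_⟩
    ext θ
    have hθ : c • θ = ∑ j, θ (e j) • ψ j := by
      ext m
      have := congrArg θ (hframe m)
      simp only [map_smul, map_sum, smul_eq_mul] at this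
      simp only [LinearMap.smul_apply, LinearMap.sum_apply, smul_eq_mul]
      rw [this]
      refine Finset.sum_congr rfl fun j _ => mul_comm _ _
    have h1 : (c • y) θ = y (c • θ) := by
      rw [LinearMap.smul_apply, map_smul]
    rw [h1, hθ]
    simp only [map_sum, map_smul, smul_eq_mul, LinearMap.sum_apply, LinearMap.smul_apply,
      Module.Dual.eval_apply]
    refine Finset.sum_congr rfl fun j _ => mul_comm (y (ψ j)) (θ (e j))

/-- A finite submodule of a reflexive module over a domain with torsion-free quotient is
reflexive (stated for a left exact sequence). -/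
theorem isReflexive_of_exact (R : Type u) [CommRing R] [IsDomain R] {M M' M'' : Type*}
    [AddCommGroup M] [Module R M] [Module.Finite R M]
    [AddCommGroup M'] [Module R M'] [AddCommGroup M''] [Module R M'']
    (f : M →ₗ[R] M') (g : M' →ₗ[R] M'') (hf : Function.Injective f) (hfg : Function.Exact f g)
    [Module.IsReflexive R M'] [Module.IsTorsionFree R M''] : Module.IsReflexive R M := by
  have hinj' : Function.Injective (Module.Dual.eval R M') := (Module.bijective_dual_eval R M').1
  have hsurj' : Function.Surjective (Module.Dual.eval R M') := (Module.bijective_dual_eval R M').2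
  have hcomm : ∀ x : M, f.dualMap.dualMap (Module.Dual.eval R M x) = Module.Dual.eval R M' (f x) := by
    intro x
    ext θ
    simp
  refine ⟨⟨?_, ?_⟩⟩
  · rw [← LinearMap.ker_eq_bot, LinearMap.ker_eq_bot']
    intro x hx
    apply hf
    rw [map_zero]
    apply hinj'
    rw [← hcomm, hx, map_zero, map_zero]
  · intro y
    obtain ⟨c, hc, -, hrange⟩ := exists_smul_mem_range_eval R M
    obtain ⟨x, hx⟩ := hrange y
    obtain ⟨m', hm'⟩ := hsurj' (f.dualMap.dualMap y)
    have h1 : f x = c • m' := by
      apply hinj'
      rw [← hcomm, hx, map_smul, map_smul, hm']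
    have h2 : g m' = 0 := by
      have : g (c • m') = 0 := by
        rw [← h1]
        exact hfg.apply_apply_eq_zero x
      rw [map_smul] at this
      exact (smul_eq_zero_iff_right hc).mp this
    obtain ⟨m, rfl⟩ := (hfg m').mp h2
    refine ⟨m, ?_⟩
    have h3 : c • m = x := by
      apply hf
      rw [map_smul, h1]
    have h4 : c • Module.Dual.eval R M m = c • y := by
      rw [← map_smul, h3, hx]
    exact (smul_right_injective _ hc) h4

/-- Finite powers of a reflexive module are reflexive. -/
theorem isReflexive_pi_fin (R : Type u) [CommRing R] (N : Type v) [AddCommGroup N] [Module R N]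
    [Module.IsReflexive R N] : ∀ n : ℕ, Module.IsReflexive R (Fin n → N)
  | 0 => inferInstance
  | n + 1 => by
    have := isReflexive_pi_fin R N n
    exact Module.equiv (Fin.consLinearEquiv R (fun _ : Fin (n + 1) => N))

/-- `Hom(M, N)` is reflexive when `N` is reflexive (Noetherian domain, finite modules). -/
theorem isReflexive_linearMap (R : Type u) [CommRing R] [IsDomain R] [IsNoetherianRing R]
    (M N : Type*) [AddCommGroup M] [Module R M] [Module.Finite R M] [AddCommGroup N] [Module R N]
    [Module.Finite R N] [Module.IsReflexive R N] : Module.IsReflexive R (M →ₗ[R] N) := by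
  obtain ⟨n, p, hp⟩ := Module.Finite.exists_fin' R M
  have : IsNoetherian R (Fin n → R) := inferInstance
  have : Module.Finite R (LinearMap.ker p) := inferInstance
  obtain ⟨m, q, hq⟩ := Module.Finite.exists_fin' R (LinearMap.ker p)
  let a : (Fin m → R) →ₗ[R] (Fin n → R) := (LinearMap.ker p).subtype ∘ₗ q
  have hex : Function.Exact a p := by
    rw [LinearMap.exact_iff]
    simp only [a]
    rw [LinearMap.range_comp, LinearMap.range_eq_top.mpr hq, Submodule.map_top,
      Submodule.range_subtype]
  have h1 := LinearMap.exact_lcomp_of_exact_of_surjective N hex hp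
  have h2 : Function.Injective (LinearMap.lcomp R N p) :=
    LinearMap.lcomp_injective_of_surjective p hp
  have : Module.IsReflexive R (Fin n → N) := isReflexive_pi_fin R N n
  have : Module.IsReflexive R ((Fin n → R) →ₗ[R] N) :=
    Module.equiv (Module.piEquiv (Fin n) R N)
  have : IsNoetherian R N := isNoetherian_of_isNoetherianRing_of_finite R N
  have : Module.Finite R (M →ₗ[R] N) := inferInstance
  exact isReflexive_of_exact R (LinearMap.lcomp R N p) (LinearMap.lcomp R N a) h2 h1

/-- A finite reflexive module over a Noetherian domain embeds into a finite free module with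
torsion-free cokernel. -/
theorem exists_injective_torsionFree_coker_of_isReflexive (R : Type u) [CommRing R] [IsDomain R]
    [IsNoetherianRing R] (M : Type v) [AddCommGroup M] [Module R M] [Module.Finite R M]
    [Module.IsReflexive R M] :
    ∃ (n : ℕ) (f : M →ₗ[R] (Fin n → R)), Function.Injective f ∧
      Module.IsTorsionFree R ((Fin n → R) ⧸ LinearMap.range f) := by
  have : IsNoetherian R R := inferInstance
  have : IsNoetherian R (Module.Dual R M) := isNoetherian_linearMap R R M
  have : Module.Finite R (Module.Dual R M) := inferInstance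
  obtain ⟨n, p, hp⟩ := Module.Finite.exists_fin' R (Module.Dual R M)
  have : IsNoetherian R (Fin n → R) := inferInstance
  have : Module.Finite R (LinearMap.ker p) := inferInstance
  obtain ⟨m, q, hq⟩ := Module.Finite.exists_fin' R (LinearMap.ker p)
  let a : (Fin m → R) →ₗ[R] (Fin n → R) := (LinearMap.ker p).subtype ∘ₗ q
  have hex : Function.Exact a p := by
    rw [LinearMap.exact_iff]
    simp only [a]
    rw [LinearMap.range_comp, LinearMap.range_eq_top.mpr hq, Submodule.map_top,
      Submodule.range_subtype]
  have h1 := LinearMap.exact_lcomp_of_exact_of_surjective R hex hp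
  have h2 : Function.Injective (LinearMap.lcomp R R p) :=
    LinearMap.lcomp_injective_of_surjective p hp
  let P := Module.piEquiv (Fin n) R R
  let f : M →ₗ[R] (Fin n → R) :=
    P.symm.toLinearMap ∘ₗ (LinearMap.lcomp R R p) ∘ₗ (Module.Dual.eval R M)
  let g' : (Fin n → R) →ₗ[R] ((Fin m → R) →ₗ[R] R) := (LinearMap.lcomp R R a) ∘ₗ P.toLinearMap
  have hf : Function.Injective f :=
    P.symm.injective.comp (h2.comp (Module.bijective_dual_eval R M).1)
  have hfg : Function.Exact f g' := by
    intro x
    constructor
    · intro hx
      have hx' : LinearMap.lcomp R R a (P x) = 0 := hx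
      obtain ⟨y, hy⟩ := (h1 (P x)).mp hx'
      obtain ⟨z, rfl⟩ := (Module.bijective_dual_eval R M).2 y
      refine ⟨z, ?_⟩
      simp only [f, LinearMap.comp_apply, LinearEquiv.coe_coe]
      rw [hy, LinearEquiv.symm_apply_apply]
    · rintro ⟨z, rfl⟩
      simp only [f, g', LinearMap.comp_apply, LinearEquiv.coe_coe, LinearEquiv.apply_symm_apply]
      exact h1.apply_apply_eq_zero _
  refine ⟨n, f, hf, ?_⟩
  have hle : LinearMap.range f ≤ LinearMap.ker g' := by
    rw [LinearMap.range_le_ker_iff]
    exact hfg.linearMap_comp_eq_zero
  have hι : Function.Injective ((LinearMap.range f).liftQ g' hle) := by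
    rw [← LinearMap.ker_eq_bot]
    apply Submodule.ker_liftQ_eq_bot
    rw [LinearMap.exact_iff.mp hfg]
  exact isTorsionFree_of_injective _ hι

end Groth.Agent.H34
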