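import Groth.Agent.H34.SkHom
import Groth.Agent.H34.Reflexive

set_option autoImplicit false
set_option linter.unusedSectionVars false
universe u v

namespace Groth.Agent.H34

open LocCoh RingTheory.Sequence
open scoped Pointwise

section Domain

variable (R : Type u) [CommRing R] [IsDomain R] (M : Type v) [AddCommGroup M] [Module R M]
  [Module.Finite R M]

lemma eval_injective_of_isTorsionFree [Module.IsTorsionFree R M] :
    Function.Injective (Module.Dual.eval R M) := by
  obtain ⟨c, hc, h1, -⟩ := exists_smul_mem_range_eval R M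
  rw [injective_iff_map_eq_zero]
  intro x hx
  have := h1 x hx
  rcases smul_eq_zero.mp this with h | h
  · exact absurd h hc
  · exact h

/-- duals over a domain are torsion-free -/
lemma isSMulRegular_dual (N : Type*) [AddCommGroup N] [Module R N] (a : R) (ha : a ≠ 0) :
    IsSMulRegular (Module.Dual R N) a :=
  isSMulRegular_linearMap N R a (isRegular_iff_ne_zero.mpr ha).1.isSMulRegular

lemma isTorsionFree_of_isReflexive [Module.IsReflexive R M] : Module.IsTorsionFree R M := by
  rw [Module.isTorsionFree_iff_smul_eq_zero]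
  intro r m hrm
  by_cases hr : r = 0
  · exact Or.inl hr
  right
  have h1 : r • Module.Dual.eval R M m = 0 := by rw [← map_smul, hrm, map_zero]
  have h2 := (isSMulRegular_dual R (Module.Dual R M) r hr).right_eq_zero_of_smul h1
  exact (Module.bijective_dual_eval R M).1 (by rw [h2, map_zero])

end Domain

section Local

variable (A : Type u) [CommRing A] [IsDomain A] [IsLocalRing A] [IsNoetherianRing A]
  (M : Type v) [AddCommGroup M] [Module A M] [Module.Finite A M] [Module.IsTorsionFree A M]

/-- Key local lemma: if `depth M ≥ 2` and `y ∈ M**` satisfies `𝔪 y ⊆ M`, then `y ∈ M`. -/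
lemma mem_range_eval_of_depth (h : 2 ≤ depth A M) (y : Module.Dual A (Module.Dual A M))
    (hy : ∀ a ∈ IsLocalRing.maximalIdeal A, a • y ∈ LinearMap.range (Module.Dual.eval A M)) :
    y ∈ LinearMap.range (Module.Dual.eval A M) := by
  by_cases hM : Subsingleton M
  · have : Subsingleton (Module.Dual A M) :=
      ⟨fun a b => LinearMap.ext fun x => by rw [Subsingleton.elim x 0]; simp⟩
    have : y = 0 := LinearMap.ext fun x => by rw [Subsingleton.elim x 0]; simp
    rw [this]
    exact Submodule.zero_mem _
  rw [not_subsingleton_iff_nontrivial] at hM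
  obtain ⟨x₁, hx₁, x₂, hx₂, hreg₁, hreg₂⟩ := exists_regular_of_two_le_idealDepth _ M
    (maximalIdeal_smul_top_ne_top (S := A) (N := M)) h
  have hinj := eval_injective_of_isTorsionFree A M
  have hx₁0 : x₁ ≠ 0 := by
    rintro rfl
    obtain ⟨m, hm⟩ := exists_ne (0 : M)
    exact hm (hreg₁.right_eq_zero_of_smul (zero_smul A m))
  obtain ⟨m₁, hm₁⟩ := hy x₁ hx₁
  obtain ⟨m₂, hm₂⟩ := hy x₂ hx₂
  have h1 : x₂ • m₁ = x₁ • m₂ := by
    apply hinj
    rw [map_smul, map_smul, hm₁, hm₂, smul_comm]
  have h2 : x₂ • (Submodule.Quotient.mk m₁ : QuotSMulTop x₁ M) = 0 := by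
    rw [← Submodule.Quotient.mk_smul, Submodule.Quotient.mk_eq_zero, mem_smul_top_iff]
    exact ⟨m₂, h1.symm⟩
  have h3 := hreg₂.right_eq_zero_of_smul h2
  rw [Submodule.Quotient.mk_eq_zero, mem_smul_top_iff] at h3
  obtain ⟨m', hm'⟩ := h3
  refine ⟨m', ?_⟩
  have h4 : x₁ • (Module.Dual.eval A M m' - y) = 0 := by
    rw [smul_sub, ← map_smul, hm', hm₁, sub_self]
  have h5 := (isSMulRegular_dual A (Module.Dual A M) x₁ hx₁0).right_eq_zero_of_smul h4
  exact sub_eq_zero.mp h5

end Local

section Global

variable (R : Type u) [CommRing R] [IsNoetherianRing R] (M : Type v) [AddCommGroup M] [Module R M]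

/-- A nonzero element with nonzero annihilator element gives an associated prime `P` containing it
and a nonzero element of `M_P` killed by the maximal ideal. -/
lemma exists_prime_killed (r : R) (m : M) (hm : m ≠ 0) (hrm : r • m = 0) :
    ∃ (P : Ideal R) (_ : P.IsPrime), r ∈ P ∧ ∃ z : LocalizedModule P.primeCompl M, z ≠ 0 ∧
      ∀ a ∈ IsLocalRing.maximalIdeal (Localization.AtPrime P), a • z = 0 := by
  obtain ⟨P, hP, hle⟩ := exists_le_isAssociatedPrime_of_isNoetherianRing R m hm
  rw [isAssociatedPrime_iff] at hP
  obtain ⟨hPp, x, hPx⟩ := hP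
  have hrP : r ∈ P := hle (by rw [Submodule.mem_colon_singleton]; simpa using hrm)
  have hmem : ∀ b : R, b ∈ P ↔ b • x = 0 := by
    intro b
    rw [hPx, Submodule.mem_colon_singleton, Submodule.mem_bot]
  refine ⟨P, hPp, hrP, LocalizedModule.mk x 1, ?_, ?_⟩
  · intro h0
    rw [IsLocalizedModule.mk_eq_mk', IsLocalizedModule.mk'_eq_zero'] at h0
    obtain ⟨c, hc⟩ := h0
    exact c.2 ((hmem c).mpr hc)
  · intro a ha
    obtain ⟨⟨b, s⟩, rfl⟩ := IsLocalization.mk'_surjective P.primeCompl a
    rw [IsLocalization.AtPrime.mk'_mem_maximal_iff (Localization.AtPrime P) P] at ha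
    rw [← Localization.mk_eq_mk', LocalizedModule.mk_smul_mk, (hmem b).mp ha]
    simp

end Global

section Global2

variable (R : Type u) [CommRing R] [IsDomain R] [IsNoetherianRing R] (M : Type v) [AddCommGroup M]
  [Module R M] [Module.Finite R M]

lemma isTorsionFree_of_forall_reflexive_or_depth
    (H : ∀ (p : Ideal R) [p.IsPrime],
      Module.IsReflexive (Localization.AtPrime p) (LocalizedModule p.primeCompl M) ∨
        2 ≤ depth (Localization.AtPrime p) (LocalizedModule p.primeCompl M)) :
    Module.IsTorsionFree R M := by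
  rw [Module.isTorsionFree_iff_smul_eq_zero]
  intro r m hrm
  by_contra hcon
  push Not at hcon
  obtain ⟨P, hPp, hrP, z, hz, hkill⟩ := exists_prime_killed R M r m hcon.2 hrm
  have hd := not_one_le_depth_of_killed (S := Localization.AtPrime P) z hz hkill
  rcases H P with h | h
  · have := isTorsionFree_of_isReflexive (Localization.AtPrime P) (LocalizedModule P.primeCompl M)
    have hr' : algebraMap R (Localization.AtPrime P) r ∈
        IsLocalRing.maximalIdeal (Localization.AtPrime P) :=
      (IsLocalization.AtPrime.to_map_mem_maximal_iff _ P r).mpr hrP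
    have h0 := hkill _ hr'
    rcases smul_eq_zero.mp h0 with h1 | h1
    · have hinj : Function.Injective (algebraMap R (Localization.AtPrime P)) :=
        IsLocalization.injective _ (Ideal.primeCompl_le_nonZeroDivisors P)
      exact hcon.1 (hinj (by simpa using h1))
    · exact hz h1
  · exact hd (le_trans (by norm_num) h)

theorem isReflexive_of_forall_reflexive_or_depth
    (H : ∀ (p : Ideal R) [p.IsPrime],
      Module.IsReflexive (Localization.AtPrime p) (LocalizedModule p.primeCompl M) ∨
        2 ≤ depth (Localization.AtPrime p) (LocalizedModule p.primeCompl M)) :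
    Module.IsReflexive R M := by
  have hTF := isTorsionFree_of_forall_reflexive_or_depth R M H
  have hinj := eval_injective_of_isTorsionFree R M
  have : Module.FinitePresentation R M := Module.finitePresentation_of_finite R M
  have : IsNoetherian R R := inferInstance
  have : IsNoetherian R (Module.Dual R M) := isNoetherian_linearMap R R M
  have : IsNoetherian R (Module.Dual R (Module.Dual R M)) := isNoetherian_linearMap R R _
  have : Module.FinitePresentation R (Module.Dual R M) := Module.finitePresentation_of_finite R _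
  constructor
  refine ⟨hinj, ?_⟩
  by_contra hsurj
  rw [← LinearMap.range_eq_top] at hsurj
  have hnt : Nontrivial (Module.Dual R (Module.Dual R M) ⧸ LinearMap.range (Module.Dual.eval R M)) :=
    Submodule.Quotient.nontrivial_iff.mpr hsurj
  obtain ⟨P, hP⟩ := associatedPrimes.nonempty R
    (Module.Dual R (Module.Dual R M) ⧸ LinearMap.range (Module.Dual.eval R M))
  rw [AssociatedPrimes.mem_iff, isAssociatedPrime_iff] at hP
  obtain ⟨hPp, c, hPc⟩ := hP
  obtain ⟨y, rfl⟩ := Submodule.Quotient.mk_surjective _ c
  have hmem : ∀ b : R, b ∈ P ↔ b • y ∈ LinearMap.range (Module.Dual.eval R M) := by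
    intro b
    rw [hPc, Submodule.mem_colon_singleton, Submodule.mem_bot, ← Submodule.Quotient.mk_smul,
      Submodule.Quotient.mk_eq_zero]
  -- localize at P
  let f := LocalizedModule.mkLinearMap P.primeCompl M
  let dd := dualLoc P.primeCompl (Localization.AtPrime P)
    (dualLoc P.primeCompl (Localization.AtPrime P) f)
  have hdd : ∀ m, dd (Module.Dual.eval R M m) =
      Module.Dual.eval (Localization.AtPrime P) (LocalizedModule P.primeCompl M) (f m) :=
    fun m => dualLoc_dualLoc_eval P.primeCompl (Localization.AtPrime P) f m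
  have hy' : ∀ a ∈ IsLocalRing.maximalIdeal (Localization.AtPrime P), a • dd y ∈
      LinearMap.range (Module.Dual.eval (Localization.AtPrime P)
        (LocalizedModule P.primeCompl M)) := by
    intro a ha
    obtain ⟨⟨b, s⟩, rfl⟩ := IsLocalization.mk'_surjective P.primeCompl a
    rw [IsLocalization.AtPrime.mk'_mem_maximal_iff (Localization.AtPrime P) P] at ha
    obtain ⟨m, hm⟩ := (hmem b).mp ha
    change IsLocalization.mk' (Localization.AtPrime P) b s • dd y ∈ _
    rw [IsLocalization.mk'_eq_mul_mk'_one, mul_comm, mul_smul]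
    apply Submodule.smul_mem
    rw [algebraMap_smul, ← map_smul, ← hm, hdd]
    exact LinearMap.mem_range_self _ _
  have hyr : dd y ∈ LinearMap.range (Module.Dual.eval (Localization.AtPrime P)
        (LocalizedModule P.primeCompl M)) := by
    rcases H P with h | h
    · rw [LinearMap.range_eq_top.mpr (Module.bijective_dual_eval _ _).2]
      exact Submodule.mem_top
    · exact mem_range_eval_of_depth _ _ h _ hy'
  obtain ⟨m', hm'⟩ := hyr
  obtain ⟨⟨m, s⟩, rfl⟩ := IsLocalizedModule.mk'_surjective P.primeCompl f m'
  have hcancel : (s : R) • IsLocalizedModule.mk' f m s = f m := by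
    rw [← Submonoid.smul_def]
    exact IsLocalizedModule.mk'_cancel' f m s
  have h1 : dd ((s : R) • y - Module.Dual.eval R M m) = 0 := by
    rw [map_sub, hdd, map_smul, ← hm', Function.uncurry_apply_pair,
      ← algebraMap_smul (Localization.AtPrime P) (s : R), ← map_smul, algebraMap_smul, hcancel,
      sub_self]
  rw [IsLocalizedModule.eq_zero_iff P.primeCompl dd] at h1
  obtain ⟨t, ht⟩ := h1
  have h2 : ((t : R) * (s : R)) • y ∈ LinearMap.range (Module.Dual.eval R M) := by
    refine ⟨(t : R) • m, ?_⟩
    rw [smul_sub, sub_eq_zero] at ht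
    rw [map_smul, mul_smul]
    exact ht.symm
  have h3 := (hmem _).mpr h2
  rcases hPp.mem_or_mem h3 with h4 | h4
  · exact t.2 h4
  · exact s.2 h4

end Global2

end Groth.Agent.H34
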