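import Mathlib.CategoryTheory.Triangulated.Triangulated
import Mathlib.CategoryTheory.Triangulated.Pretriangulated
import Mathlib.CategoryTheory.Linear.LinearFunctor
import Mathlib.LinearAlgebra.Dual.Lemmas
import Mathlib.RingTheory.Finiteness.Defs

/-!
# Serre functors: trace formalism and exactness (helper34)

Given a functor `S : T ⥤ T` on a `k`-linear Hom-finite category with natural isomorphisms
`c X Y : (X ⟶ Y) ≃ₗ[k] Dual k (Y ⟶ S X)` we develop the trace `tr X : (X ⟶ S X) → k`,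
its symmetry and nondegeneracy, and (for pretriangulated `T`) the commutation isomorphism with
the shift together with the Bondal–Kapranov theorem that `S` preserves distinguished triangles.
-/

set_option autoImplicit false
set_option linter.unusedSectionVars false
universe w v u

open CategoryTheory CategoryTheory.Limits

namespace Groth.Agent.H34.SerreFunctor

section Trace

variable {k : Type w} [Field k]
  {T : Type u} [Category.{v} T] [Preadditive T] [Linear k T]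
  [∀ X Y : T, Module.Finite k (X ⟶ Y)]
  (S : T ⥤ T)
  (c : ∀ X Y : T, (X ⟶ Y) ≃ₗ[k] Module.Dual k (Y ⟶ S.obj X))

/-- The trace. -/
noncomputable def tr (X : T) : Module.Dual k (X ⟶ S.obj X) := c X X (𝟙 X)

variable (hc₁ : ∀ (X Y Y' : T) (f : X ⟶ Y) (g : Y ⟶ Y'),
      c X Y' (f ≫ g) = (c X Y f) ∘ₗ Linear.leftComp k (S.obj X) g)
  (hc₂ : ∀ (X' X Y : T) (a : X' ⟶ X) (f : X ⟶ Y),
      c X' Y (a ≫ f) = (c X Y f) ∘ₗ Linear.rightComp k Y (S.map a))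

include hc₁ in
lemma c_apply {X Y : T} (f : X ⟶ Y) (t : Y ⟶ S.obj X) : c X Y f t = tr S c X (f ≫ t) := by
  have h := hc₁ X X Y (𝟙 X) f
  rw [Category.id_comp] at h
  rw [h]
  rfl

include hc₂ in
lemma c_apply' {X Y : T} (a : X ⟶ Y) (t : Y ⟶ S.obj X) :
    c X Y a t = tr S c Y (t ≫ S.map a) := by
  have h := hc₂ X Y Y a (𝟙 Y)
  rw [Category.comp_id] at h
  rw [h]
  rfl

include hc₁ hc₂ in
lemma tr_comm {X Y : T} (f : X ⟶ Y) (t : Y ⟶ S.obj X) :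
    tr S c X (f ≫ t) = tr S c Y (t ≫ S.map f) := by
  rw [← c_apply S c hc₁, c_apply' S c hc₂]

include hc₁ in
lemma eq_zero_of_tr {X Y : T} (t : Y ⟶ S.obj X) (h : ∀ f : X ⟶ Y, tr S c X (f ≫ t) = 0) :
    t = 0 := by
  rw [← Module.forall_dual_apply_eq_zero_iff k t]
  intro φ
  obtain ⟨f, rfl⟩ := (c X Y).surjective φ
  rw [c_apply S c hc₁]
  exact h f

include hc₁ in
lemma eq_of_tr {X Y : T} (t t' : Y ⟶ S.obj X)
    (h : ∀ f : X ⟶ Y, tr S c X (f ≫ t) = tr S c X (f ≫ t')) : t = t' := by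
  rw [← sub_eq_zero]
  apply eq_zero_of_tr S c hc₁
  intro f
  rw [Preadditive.comp_sub, map_sub, h f, sub_self]

include hc₁ hc₂ in
lemma map_zero' (X Y : T) : S.map (0 : X ⟶ Y) = 0 := by
  apply eq_zero_of_tr S c hc₁
  intro f
  rw [← tr_comm S c hc₁ hc₂, zero_comp, map_zero]

include hc₁ in
lemma exists_of_dual {X Y : T} (l : Module.Dual k (X ⟶ Y)) :
    ∃ t : Y ⟶ S.obj X, ∀ f : X ⟶ Y, tr S c X (f ≫ t) = l f := by
  refine ⟨(Module.evalEquiv k (Y ⟶ S.obj X)).symm (l ∘ₗ (c X Y).symm.toLinearMap), ?_⟩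
  intro f
  rw [← c_apply S c hc₁, Module.apply_evalEquiv_symm_apply]
  simp

end Trace

section Shift

open Pretriangulated

variable {k : Type w} [Field k]
  {T : Type u} [Category.{v} T] [Preadditive T] [Linear k T] [HasZeroObject T] [HasShift T ℤ]
  [∀ n : ℤ, (shiftFunctor T n).Additive] [∀ n : ℤ, (shiftFunctor T n).Linear k] [Pretriangulated T]
  [∀ X Y : T, Module.Finite k (X ⟶ Y)]
  (S : T ⥤ T)
  (c : ∀ X Y : T, (X ⟶ Y) ≃ₗ[k] Module.Dual k (Y ⟶ S.obj X))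
  (hc₁ : ∀ (X Y Y' : T) (f : X ⟶ Y) (g : Y ⟶ Y'),
      c X Y' (f ≫ g) = (c X Y f) ∘ₗ Linear.leftComp k (S.obj X) g)
  (hc₂ : ∀ (X' X Y : T) (a : X' ⟶ X) (f : X ⟶ Y),
      c X' Y (a ≫ f) = (c X Y f) ∘ₗ Linear.rightComp k Y (S.map a))

/-- The shift functor on a Hom space as a linear equivalence. -/
noncomputable def shiftHomEquiv (X Y : T) : (X ⟶ Y) ≃ₗ[k] (X⟦(1 : ℤ)⟧ ⟶ Y⟦(1 : ℤ)⟧) :=
  LinearEquiv.ofBijective ((shiftFunctor T (1 : ℤ)).mapLinearMap k)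
    ⟨(shiftFunctor T (1 : ℤ)).map_injective, (shiftFunctor T (1 : ℤ)).map_surjective⟩

lemma shiftHomEquiv_apply {X Y : T} (f : X ⟶ Y) : shiftHomEquiv (k := k) X Y f = f⟦(1 : ℤ)⟧' := rfl

include hc₁ in
lemma exists_theta (A : T) : ∃ θ : (S.obj A)⟦(1 : ℤ)⟧ ⟶ S.obj (A⟦(1 : ℤ)⟧),
    ∀ s : A ⟶ S.obj A, tr S c (A⟦(1 : ℤ)⟧) (s⟦(1 : ℤ)⟧' ≫ θ) = - tr S c A s := by
  obtain ⟨θ, hθ⟩ := exists_of_dual S c hc₁ (X := A⟦(1 : ℤ)⟧) (Y := (S.obj A)⟦(1 : ℤ)⟧)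
    (-(tr S c A ∘ₗ (shiftHomEquiv (k := k) A (S.obj A)).symm.toLinearMap))
  refine ⟨θ, fun s => ?_⟩
  rw [hθ]
  simp only [LinearMap.neg_apply, LinearMap.coe_comp, LinearEquiv.coe_coe, Function.comp_apply]
  rw [← shiftHomEquiv_apply (k := k), LinearEquiv.symm_apply_apply]

/-- The comparison `(S A)⟦1⟧ ⟶ S (A⟦1⟧)`. -/
noncomputable def theta (A : T) : (S.obj A)⟦(1 : ℤ)⟧ ⟶ S.obj (A⟦(1 : ℤ)⟧) :=
  (exists_theta S c hc₁ A).choose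

lemma theta_spec (A : T) (s : A ⟶ S.obj A) :
    tr S c (A⟦(1 : ℤ)⟧) (s⟦(1 : ℤ)⟧' ≫ theta S c hc₁ A) = - tr S c A s :=
  (exists_theta S c hc₁ A).choose_spec s

include hc₂ in
lemma theta_naturality {A' A : T} (a : A' ⟶ A) :
    (S.map a)⟦(1 : ℤ)⟧' ≫ theta S c hc₁ A = theta S c hc₁ A' ≫ S.map (a⟦(1 : ℤ)⟧') := by
  apply eq_of_tr S c hc₁
  intro w
  obtain ⟨s, rfl⟩ := (shiftFunctor T (1 : ℤ)).map_surjective w
  rw [← Category.assoc, ← Functor.map_comp, theta_spec, ← Category.assoc,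
    ← tr_comm S c hc₁ hc₂ (a⟦(1 : ℤ)⟧') (s⟦(1 : ℤ)⟧' ≫ theta S c hc₁ A'),
    ← Category.assoc, ← Functor.map_comp, theta_spec, tr_comm S c hc₁ hc₂ a s]

include hc₁ in
lemma theta_comp_eq_zero {A Z : T} (s : Z ⟶ S.obj A)
    (h : s⟦(1 : ℤ)⟧' ≫ theta S c hc₁ A = 0) : s = 0 := by
  apply eq_zero_of_tr S c hc₁
  intro w'
  have h1 := theta_spec S c hc₁ A (w' ≫ s)
  rw [Functor.map_comp, Category.assoc, h, comp_zero, map_zero] at h1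
  exact neg_eq_zero.mp h1.symm

include hc₁ in
lemma exists_shift_comp_theta {A Z : T} (r : Z⟦(1 : ℤ)⟧ ⟶ S.obj (A⟦(1 : ℤ)⟧)) :
    ∃ s : Z ⟶ S.obj A, s⟦(1 : ℤ)⟧' ≫ theta S c hc₁ A = r := by
  obtain ⟨s, hs⟩ := exists_of_dual S c hc₁ (X := A) (Y := Z)
    (-(tr S c (A⟦(1 : ℤ)⟧) ∘ₗ Linear.rightComp k (A⟦(1 : ℤ)⟧) r ∘ₗ
      (shiftHomEquiv (k := k) A Z).toLinearMap))
  refine ⟨s, ?_⟩
  apply eq_of_tr S c hc₁
  intro w
  obtain ⟨w', rfl⟩ := (shiftFunctor T (1 : ℤ)).map_surjective w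
  rw [← Category.assoc, ← Functor.map_comp, theta_spec, hs]
  simp [shiftHomEquiv_apply]

include hc₁ in
lemma isIso_theta (A : T) : IsIso (theta S c hc₁ A) := by
  apply isIso_of_yoneda_map_bijective
  intro Y
  let Z := (shiftFunctor T (1 : ℤ)).objPreimage Y
  let i : Z⟦(1 : ℤ)⟧ ≅ Y := (shiftFunctor T (1 : ℤ)).objObjPreimageIso Y
  constructor
  · intro x x' hxx'
    dsimp only at hxx'
    obtain ⟨s, hs⟩ := (shiftFunctor T (1 : ℤ)).map_surjective (i.hom ≫ (x - x'))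
    have h0 : s = 0 := by
      apply theta_comp_eq_zero S c hc₁
      rw [hs, Category.assoc, Preadditive.sub_comp, hxx', sub_self, comp_zero]
    rw [h0, Functor.map_zero] at hs
    have h1 : x - x' = 0 := by
      rw [← cancel_epi i.hom, ← hs, comp_zero]
    exact sub_eq_zero.mp h1
  · intro r
    obtain ⟨s, hs⟩ := exists_shift_comp_theta S c hc₁ (i.hom ≫ r)
    refine ⟨i.inv ≫ s⟦(1 : ℤ)⟧', ?_⟩
    dsimp only
    rw [Category.assoc, hs, Iso.inv_hom_id_assoc]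

/-- The commutation isomorphism of `S` with the shift. -/
noncomputable def shiftIso : shiftFunctor T (1 : ℤ) ⋙ S ≅ S ⋙ shiftFunctor T (1 : ℤ) :=
  haveI := fun A => isIso_theta S c hc₁ A
  NatIso.ofComponents (fun A => (asIso (theta S c hc₁ A)).symm) (by
    intro A' A a
    dsimp
    rw [IsIso.comp_inv_eq, Category.assoc, IsIso.eq_inv_comp]
    exact (theta_naturality S c hc₁ hc₂ a).symm)

lemma shiftIso_hom_app (A : T) :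
    haveI := isIso_theta S c hc₁ A
    (shiftIso S c hc₁ hc₂).hom.app A = inv (theta S c hc₁ A) := rfl

include hc₁ hc₂ in
/-- Weak exactness of `S` applied to a distinguished triangle. -/
lemma exists_factor (Δ : Triangle T) (hΔ : Δ ∈ distTriang T) {Y : T} (t : Y ⟶ S.obj Δ.obj₂)
    (ht : t ≫ S.map Δ.mor₂ = 0) : ∃ s : Y ⟶ S.obj Δ.obj₁, s ≫ S.map Δ.mor₁ = t := by
  let lt : Module.Dual k (Δ.obj₂ ⟶ Y) := tr S c Δ.obj₂ ∘ₗ Linear.rightComp k Δ.obj₂ t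
  let Lf : (Δ.obj₂ ⟶ Y) →ₗ[k] (Δ.obj₁ ⟶ Y) := Linear.leftComp k Y Δ.mor₁
  have hmem : lt ∈ (LinearMap.ker Lf).dualAnnihilator := by
    rw [Submodule.mem_dualAnnihilator]
    intro u hu
    have hu' : Δ.mor₁ ≫ u = 0 := hu
    obtain ⟨v, rfl⟩ := Triangle.yoneda_exact₂ Δ hΔ u hu'
    change tr S c Δ.obj₂ ((Δ.mor₂ ≫ v) ≫ t) = 0
    rw [Category.assoc, tr_comm S c hc₁ hc₂, Category.assoc, ht, comp_zero, map_zero]
  rw [← LinearMap.range_dualMap_eq_dualAnnihilator_ker] at hmem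
  obtain ⟨μ, hμ⟩ := hmem
  obtain ⟨s, hs⟩ := exists_of_dual S c hc₁ μ
  refine ⟨s, ?_⟩
  apply eq_of_tr S c hc₁
  intro u
  rw [← Category.assoc, ← tr_comm S c hc₁ hc₂, ← Category.assoc, hs]
  have := LinearMap.congr_fun hμ u
  exact this

include hc₁ hc₂ in
/-- Existence of the comparison morphism from the cone of `S f` to `S C`. -/
lemma exists_xi (Δ : Triangle T) (hΔ : Δ ∈ distTriang T) {C₀ : T}
    (φ : S.obj Δ.obj₂ ⟶ C₀) (ψ : C₀ ⟶ (S.obj Δ.obj₁)⟦(1 : ℤ)⟧)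
    (hΔ₀ : Triangle.mk (S.map Δ.mor₁) φ ψ ∈ distTriang T) :
    ∃ ξ : C₀ ⟶ S.obj Δ.obj₃, φ ≫ ξ = S.map Δ.mor₂ ∧
      ξ ≫ S.map Δ.mor₃ = ψ ≫ theta S c hc₁ Δ.obj₁ := by
  let L : (Δ.obj₃ ⟶ S.obj Δ.obj₂) × (Δ.obj₁⟦(1 : ℤ)⟧ ⟶ C₀) →ₗ[k] (Δ.obj₃ ⟶ C₀) :=
    (Linear.rightComp k Δ.obj₃ φ).coprod (-(Linear.leftComp k C₀ Δ.mor₃))
  let ν : Module.Dual k ((Δ.obj₃ ⟶ S.obj Δ.obj₂) × (Δ.obj₁⟦(1 : ℤ)⟧ ⟶ C₀)) :=
    (tr S c Δ.obj₃ ∘ₗ Linear.rightComp k Δ.obj₃ (S.map Δ.mor₂)).coprod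
      (-(tr S c (Δ.obj₁⟦(1 : ℤ)⟧) ∘ₗ
        Linear.rightComp k (Δ.obj₁⟦(1 : ℤ)⟧) (ψ ≫ theta S c hc₁ Δ.obj₁)))
  have hν : ν ∈ (LinearMap.ker L).dualAnnihilator := by
    rw [Submodule.mem_dualAnnihilator]
    rintro ⟨v, w⟩ hvw
    have hvw' : v ≫ φ + -(Δ.mor₃ ≫ w) = 0 := by
      simpa [L] using hvw
    have comm : Δ.mor₃ ≫ w = v ≫ φ := by
      rw [add_neg_eq_zero] at hvw'
      exact hvw'.symm
    obtain ⟨(u : Δ.obj₂ ⟶ S.obj Δ.obj₁), hu₁, hu₂⟩ := complete_distinguished_triangle_morphism₁ Δ.rotate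
      (Triangle.mk (S.map Δ.mor₁) φ ψ) (rot_of_distTriang _ hΔ) hΔ₀ v w comm
    have hu₁' : Δ.mor₂ ≫ v = u ≫ S.map Δ.mor₁ := hu₁
    have hu₂' : (-(Δ.mor₁⟦(1 : ℤ)⟧')) ≫ u⟦(1 : ℤ)⟧' = w ≫ ψ := hu₂
    have e1 : tr S c Δ.obj₃ (v ≫ S.map Δ.mor₂) = tr S c Δ.obj₁ (Δ.mor₁ ≫ u) := by
      rw [← tr_comm S c hc₁ hc₂, hu₁', ← tr_comm S c hc₁ hc₂]
    have e2 : tr S c (Δ.obj₁⟦(1 : ℤ)⟧) (w ≫ ψ ≫ theta S c hc₁ Δ.obj₁) =
        tr S c Δ.obj₁ (Δ.mor₁ ≫ u) := by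
      rw [← Category.assoc, ← hu₂', Preadditive.neg_comp, Preadditive.neg_comp, map_neg,
        ← Functor.map_comp, theta_spec, neg_neg]
    change tr S c Δ.obj₃ (v ≫ S.map Δ.mor₂) +
      -(tr S c (Δ.obj₁⟦(1 : ℤ)⟧) (w ≫ ψ ≫ theta S c hc₁ Δ.obj₁)) = 0
    rw [e1, e2, add_neg_cancel]
  rw [← LinearMap.range_dualMap_eq_dualAnnihilator_ker] at hν
  obtain ⟨l, hl⟩ := hν
  obtain ⟨ξ, hξ⟩ := exists_of_dual S c hc₁ l
  refine ⟨ξ, ?_, ?_⟩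
  · apply eq_of_tr S c hc₁
    intro v
    rw [← Category.assoc, hξ]
    have := LinearMap.congr_fun hl (v, 0)
    simpa [L, ν] using this
  · apply eq_of_tr S c hc₁
    intro w
    rw [← Category.assoc, ← tr_comm S c hc₁ hc₂, ← Category.assoc, hξ]
    have := LinearMap.congr_fun hl (0, -w)
    simpa [L, ν] using this

include hc₁ hc₂ in
lemma isIso_xi (Δ : Triangle T) (hΔ : Δ ∈ distTriang T) {C₀ : T}
    (φ : S.obj Δ.obj₂ ⟶ C₀) (ψ : C₀ ⟶ (S.obj Δ.obj₁)⟦(1 : ℤ)⟧)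
    (hΔ₀ : Triangle.mk (S.map Δ.mor₁) φ ψ ∈ distTriang T)
    (ξ : C₀ ⟶ S.obj Δ.obj₃) (h1 : φ ≫ ξ = S.map Δ.mor₂)
    (h2 : ξ ≫ S.map Δ.mor₃ = ψ ≫ theta S c hc₁ Δ.obj₁) : IsIso ξ := by
  haveI := fun A => isIso_theta S c hc₁ A
  have hψ : ψ = ξ ≫ S.map Δ.mor₃ ≫ inv (theta S c hc₁ Δ.obj₁) := by
    rw [← Category.assoc, h2, Category.assoc, IsIso.hom_inv_id, Category.comp_id]
  apply isIso_of_yoneda_map_bijective
  intro Y
  constructor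
  · intro x x' hxx'
    dsimp only at hxx'
    have hd : (x - x') ≫ ξ = 0 := by rw [Preadditive.sub_comp, hxx', sub_self]
    have hd' : (x - x') ≫ ψ = 0 := by rw [hψ, ← Category.assoc, hd, zero_comp]
    obtain ⟨(s : Y ⟶ S.obj Δ.obj₂), hs⟩ := Triangle.coyoneda_exact₃ _ hΔ₀ (x - x') hd'
    have hs' : x - x' = s ≫ φ := hs
    have hs0 : s ≫ S.map Δ.mor₂ = 0 := by rw [← h1, ← Category.assoc, ← hs', hd]
    obtain ⟨r, hr⟩ := exists_factor S c hc₁ hc₂ Δ hΔ s hs0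
    have hz : S.map Δ.mor₁ ≫ φ = 0 := comp_distTriang_mor_zero₁₂ _ hΔ₀
    have : x - x' = 0 := by rw [hs', ← hr, Category.assoc, hz, comp_zero]
    exact sub_eq_zero.mp this
  · intro t
    have hnat : inv (theta S c hc₁ Δ.obj₁) ≫ (S.map Δ.mor₁)⟦(1 : ℤ)⟧' =
        S.map (Δ.mor₁⟦(1 : ℤ)⟧') ≫ inv (theta S c hc₁ Δ.obj₂) := by
      rw [IsIso.inv_comp_eq, ← Category.assoc, IsIso.eq_comp_inv]
      exact theta_naturality S c hc₁ hc₂ Δ.mor₁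
    have hr0 : (t ≫ S.map Δ.mor₃ ≫ inv (theta S c hc₁ Δ.obj₁)) ≫ (S.map Δ.mor₁)⟦(1 : ℤ)⟧' = 0 := by
      rw [Category.assoc, Category.assoc, hnat, ← Category.assoc (S.map Δ.mor₃), ← S.map_comp,
        comp_distTriang_mor_zero₃₁ _ hΔ, map_zero' S c hc₁ hc₂, zero_comp, comp_zero]
    obtain ⟨(s₀ : Y ⟶ C₀), hs₀⟩ := Triangle.coyoneda_exact₁ _ hΔ₀ _ hr0
    have hs₀' : t ≫ S.map Δ.mor₃ ≫ inv (theta S c hc₁ Δ.obj₁) = s₀ ≫ ψ := hs₀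
    have ht' : (t - s₀ ≫ ξ) ≫ S.map Δ.rotate.mor₂ = 0 := by
      change (t - s₀ ≫ ξ) ≫ S.map Δ.mor₃ = 0
      rw [Preadditive.sub_comp, Category.assoc, h2, ← Category.assoc s₀, ← hs₀']
      simp
    obtain ⟨(s : Y ⟶ S.obj Δ.obj₂), hs⟩ :=
      exists_factor S c hc₁ hc₂ Δ.rotate (rot_of_distTriang _ hΔ) (t - s₀ ≫ ξ) ht'
    have hs' : s ≫ S.map Δ.mor₂ = t - s₀ ≫ ξ := hs
    refine ⟨s₀ + s ≫ φ, ?_⟩
    dsimp only
    rw [Preadditive.add_comp, Category.assoc, h1, hs']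
    abel

include hc₁ hc₂ in
/-- **Bondal–Kapranov**: a Serre functor preserves distinguished triangles. -/
theorem map_distinguished (Δ : Triangle T) (hΔ : Δ ∈ distTriang T) :
    Triangle.mk (S.map Δ.mor₁) (S.map Δ.mor₂)
      (S.map Δ.mor₃ ≫ (shiftIso S c hc₁ hc₂).hom.app Δ.obj₁) ∈ distTriang T := by
  haveI := fun A => isIso_theta S c hc₁ A
  obtain ⟨C₀, φ, ψ, hΔ₀⟩ := distinguished_cocone_triangle (S.map Δ.mor₁)
  obtain ⟨ξ, h1, h2⟩ := exists_xi S c hc₁ hc₂ Δ hΔ φ ψ hΔ₀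
  haveI := isIso_xi S c hc₁ hc₂ Δ hΔ φ ψ hΔ₀ ξ h1 h2
  refine isomorphic_distinguished _ hΔ₀ _ ?_
  let eξ : C₀ ≅ S.obj Δ.obj₃ := asIso ξ
  refine (Triangle.isoMk (Triangle.mk (S.map Δ.mor₁) φ ψ) (Triangle.mk (S.map Δ.mor₁) (S.map Δ.mor₂)
      (S.map Δ.mor₃ ≫ (shiftIso S c hc₁ hc₂).hom.app Δ.obj₁))
    (Iso.refl _) (Iso.refl _) eξ ?_ ?_ ?_).symm
  · change S.map Δ.mor₁ ≫ 𝟙 (S.obj Δ.obj₂) = 𝟙 (S.obj Δ.obj₁) ≫ S.map Δ.mor₁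
    rw [Category.comp_id, Category.id_comp]
  · change φ ≫ ξ = 𝟙 (S.obj Δ.obj₂) ≫ S.map Δ.mor₂
    rw [Category.id_comp]
    exact h1
  · change ψ ≫ (𝟙 (S.obj Δ.obj₁))⟦(1 : ℤ)⟧' =
      ξ ≫ S.map Δ.mor₃ ≫ (shiftIso S c hc₁ hc₂).hom.app Δ.obj₁
    rw [shiftIso_hom_app, CategoryTheory.Functor.map_id, Category.comp_id, ← Category.assoc, h2,
      Category.assoc, IsIso.hom_inv_id, Category.comp_id]

end Shift

end Groth.Agent.H34.SerreFunctor
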