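import Mathlib.CategoryTheory.Linear.LinearFunctor
import Mathlib.CategoryTheory.Equivalence
import Mathlib.CategoryTheory.Yoneda
import Mathlib.LinearAlgebra.Dual.Lemmas
import Mathlib.RingTheory.Finiteness.Defs

/-!
# Construction of a Serre functor from representability data (helper34)
-/

set_option autoImplicit false
set_option linter.unusedSectionVars false
universe w v u

open CategoryTheory CategoryTheory.Limits

namespace Groth.Agent.H34.SerreFunctorRep

variable {k : Type w} [Field k]
  {T : Type u} [Category.{v} T] [Preadditive T] [Linear k T]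
  [∀ X Y : T, Module.Finite k (X ⟶ Y)]
  (So : T → T)
  (e : ∀ X Y : T, (Y ⟶ So X) ≃ₗ[k] Module.Dual k (X ⟶ Y))
  (he : ∀ (X Y Y' : T) (g : Y' ⟶ Y) (f : Y ⟶ So X),
      e X Y' (g ≫ f) = (e X Y f) ∘ₗ Linear.rightComp k X g)

/-- The trace. -/
noncomputable def tau (X : T) : Module.Dual k (X ⟶ So X) := e X (So X) (𝟙 _)

include he in
lemma e_apply {X Y : T} (f : Y ⟶ So X) (h : X ⟶ Y) : e X Y f h = tau So e X (h ≫ f) := by
  have := he X (So X) Y f (𝟙 _)
  rw [Category.comp_id] at this
  rw [this]
  rfl

include he in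
lemma eq_zero_of_tau {X Y : T} (f : Y ⟶ So X) (h : ∀ t : X ⟶ Y, tau So e X (t ≫ f) = 0) :
    f = 0 := by
  apply (e X Y).injective
  rw [map_zero]
  ext t
  rw [e_apply So e he]
  exact h t

include he in
lemma eq_of_tau {X Y : T} (f f' : Y ⟶ So X)
    (h : ∀ t : X ⟶ Y, tau So e X (t ≫ f) = tau So e X (t ≫ f')) : f = f' := by
  rw [← sub_eq_zero]
  apply eq_zero_of_tau So e he
  intro t
  rw [Preadditive.comp_sub, map_sub, h t, sub_self]

include he in
lemma exists_of_dual {X Y : T} (l : Module.Dual k (X ⟶ Y)) :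
    ∃ f : Y ⟶ So X, ∀ t : X ⟶ Y, tau So e X (t ≫ f) = l t := by
  refine ⟨(e X Y).symm l, fun t => ?_⟩
  rw [← e_apply So e he, LinearEquiv.apply_symm_apply]

/-- The action of the Serre functor on morphisms. -/
noncomputable def smap {X' X : T} (a : X' ⟶ X) : So X' ⟶ So X :=
  (e X (So X')).symm (tau So e X' ∘ₗ Linear.leftComp k (So X') a)

include he in
lemma smap_spec {X' X : T} (a : X' ⟶ X) (h : X ⟶ So X') :
    tau So e X (h ≫ smap So e a) = tau So e X' (a ≫ h) := by
  rw [← e_apply So e he, smap, LinearEquiv.apply_symm_apply]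
  rfl

include he in
lemma smap_id (X : T) : smap So e (𝟙 X) = 𝟙 (So X) := by
  apply eq_of_tau So e he
  intro t
  rw [smap_spec So e he, Category.id_comp, Category.comp_id]

include he in
lemma smap_comp {X Y Z : T} (a : X ⟶ Y) (b : Y ⟶ Z) :
    smap So e (a ≫ b) = smap So e a ≫ smap So e b := by
  apply eq_of_tau So e he
  intro t
  have h1 := smap_spec So e he (a ≫ b) t
  have h2 := smap_spec So e he b (t ≫ smap So e a)
  have h3 := smap_spec So e he a (b ≫ t)
  rw [Category.assoc] at h2 h3
  rw [h1, h2, h3, Category.assoc]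

include he in
lemma smap_add {X Y : T} (a b : X ⟶ Y) :
    smap So e (a + b) = smap So e a + smap So e b := by
  apply eq_of_tau So e he
  intro t
  rw [Preadditive.comp_add, map_add, smap_spec So e he, smap_spec So e he, smap_spec So e he,
    Preadditive.add_comp, map_add]

include he in
lemma smap_smul {X Y : T} (r : k) (a : X ⟶ Y) :
    smap So e (r • a) = r • smap So e a := by
  apply eq_of_tau So e he
  intro t
  rw [Linear.comp_smul, map_smul, smap_spec So e he, smap_spec So e he, Linear.smul_comp,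
    map_smul]

/-- The Serre functor. -/
noncomputable def serre : T ⥤ T where
  obj := So
  map a := smap So e a
  map_id X := smap_id So e he X
  map_comp a b := smap_comp So e he a b

lemma serre_obj (X : T) : (serre So e he).obj X = So X := rfl
lemma serre_map {X' X : T} (a : X' ⟶ X) : (serre So e he).map a = smap So e a := rfl

instance : (serre So e he).Additive where
  map_add {X Y} {a b} := smap_add So e he a b

instance : (serre So e he).Linear k where
  map_smul {X Y} a r := smap_smul So e he r a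

/-- The duality isomorphisms. -/
noncomputable def cc (X Y : T) : (X ⟶ Y) ≃ₗ[k] Module.Dual k (Y ⟶ So X) :=
  (Module.evalEquiv k (X ⟶ Y)) ≪≫ₗ (e X Y).dualMap

include he in
lemma cc_apply {X Y : T} (h : X ⟶ Y) (f : Y ⟶ So X) :
    cc So e X Y h f = tau So e X (h ≫ f) := by
  rw [← e_apply So e he]
  rfl

include he in
lemma cc_hc₁ (X Y Y' : T) (f : X ⟶ Y) (g : Y ⟶ Y') :
    cc So e X Y' (f ≫ g) = (cc So e X Y f) ∘ₗ Linear.leftComp k (So X) g := by
  ext t
  rw [cc_apply So e he]
  change _ = cc So e X Y f (g ≫ t)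
  rw [cc_apply So e he, Category.assoc]

include he in
lemma cc_hc₂ (X' X Y : T) (a : X' ⟶ X) (f : X ⟶ Y) :
    cc So e X' Y (a ≫ f) = (cc So e X Y f) ∘ₗ Linear.rightComp k Y (smap So e a) := by
  ext t
  rw [cc_apply So e he]
  change _ = cc So e X Y f (t ≫ smap So e a)
  rw [cc_apply So e he, ← Category.assoc, smap_spec So e he, Category.assoc]

include he in
lemma e_smap {X' X : T} (a : X' ⟶ X) : e X (So X') (smap So e a) = cc So e X' X a := by
  ext h
  rw [e_apply So e he, cc_apply So e he, smap_spec So e he]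

include he in
lemma smap_bijective (X' X : T) :
    Function.Bijective (fun a : X' ⟶ X => smap So e a) := by
  have : (fun a : X' ⟶ X => smap So e a) =
      fun a => (e X (So X')).symm (cc So e X' X a) := by
    funext a
    rw [← e_smap So e he, LinearEquiv.symm_apply_apply]
  rw [this]
  exact (e X (So X')).symm.bijective.comp (cc So e X' X).bijective

instance : (serre So e he).Faithful where
  map_injective {X Y} := (smap_bijective So e he X Y).1

instance : (serre So e he).Full where
  map_surjective {X Y} := (smap_bijective So e he X Y).2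

section EssSurj

variable (Ro : T → T)
  (e' : ∀ X Y : T, (Ro X ⟶ Y) ≃ₗ[k] Module.Dual k (Y ⟶ X))
  (he' : ∀ (X Y Y' : T) (g : Y ⟶ Y') (f : Ro X ⟶ Y),
      e' X Y' (f ≫ g) = (e' X Y f) ∘ₗ Linear.leftComp k X g)

include he' in
lemma e'_apply {X Y : T} (u : Ro X ⟶ Y) (t : Y ⟶ X) :
    e' X Y u t = e' X (Ro X) (𝟙 _) (u ≫ t) := by
  have := he' X (Ro X) Y u (𝟙 _)
  rw [Category.id_comp] at this
  rw [this]
  rfl

include he he' in
lemma exists_iso (Z : T) : Nonempty (So (Ro Z) ≅ Z) := by
  obtain ⟨η, hη⟩ := exists_of_dual So e he (X := Ro Z) (Y := Z) (e' Z (Ro Z) (𝟙 _))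
  have key : ∀ (Y : T) (t : Y ⟶ Z) (u : Ro Z ⟶ Y),
      tau So e (Ro Z) (u ≫ t ≫ η) = e' Z Y u t := by
    intro Y t u
    rw [← Category.assoc, hη, ← e'_apply Ro e' he']
  have : IsIso η := by
    apply isIso_of_yoneda_map_bijective
    intro Y
    constructor
    · intro t t' htt'
      dsimp only at htt'
      have h0 : t - t' = 0 := by
        rw [← Module.forall_dual_apply_eq_zero_iff k (t - t')]
        intro φ
        obtain ⟨u, rfl⟩ := (e' Z Y).surjective φ
        rw [map_sub, ← key Y t u, ← key Y t' u, htt', sub_self]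
      exact sub_eq_zero.mp h0
    · intro r
      let l : Module.Dual k (Ro Z ⟶ Y) := tau So e (Ro Z) ∘ₗ Linear.rightComp k (Ro Z) r
      refine ⟨(Module.evalEquiv k (Y ⟶ Z)).symm (l ∘ₗ (e' Z Y).symm.toLinearMap), ?_⟩
      dsimp only
      apply eq_of_tau So e he
      intro u
      rw [key, Module.apply_evalEquiv_symm_apply]
      simp [l]
  exact ⟨(asIso η).symm⟩

include he' in
lemma essSurj_serre : (serre So e he).EssSurj where
  mem_essImage Z := by
    obtain ⟨i⟩ := exists_iso So e he Ro e' he' Z
    exact ⟨Ro Z, ⟨i⟩⟩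

include he' in
lemma isEquivalence_serre : (serre So e he).IsEquivalence :=
  haveI := essSurj_serre So e he Ro e' he'
  { }

end EssSurj

end Groth.Agent.H34.SerreFunctorRep
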