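import Mathlib.CategoryTheory.Shift.CommShift
import Mathlib.CategoryTheory.Triangulated.Functor

/-!
# Shifting a morphism `F X ⟶ F' X` along the commutation isomorphisms

For functors `F F' : C ⥤ D` commuting with shifts, and `φ : F.obj X ⟶ F'.obj X`, we define
`sh F F' k φ : F.obj (X⟦k⟧) ⟶ F'.obj (X⟦k⟧)` and prove its compatibility with naturality squares,
with the zero shift and with addition of shifts.
-/

open CategoryTheory

namespace Groth.Agent.H34.ShTrans

universe v₁ v₂ u₁ u₂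

variable {C : Type u₁} {D : Type u₂} [Category.{v₁} C] [Category.{v₂} D]
  [HasShift C ℤ] [HasShift D ℤ]
  (F F' : C ⥤ D) [F.CommShift ℤ] [F'.CommShift ℤ]

/-- The shifted morphism. -/
noncomputable def sh (k : ℤ) {X : C} (φ : F.obj X ⟶ F'.obj X) :
    F.obj (X⟦k⟧) ⟶ F'.obj (X⟦k⟧) :=
  (F.commShiftIso k).hom.app X ≫ φ⟦k⟧' ≫ (F'.commShiftIso k).inv.app X

lemma sh_def (k : ℤ) {X : C} (φ : F.obj X ⟶ F'.obj X) :
    sh F F' k φ = (F.commShiftIso k).hom.app X ≫ φ⟦k⟧' ≫ (F'.commShiftIso k).inv.app X := rfl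

instance (k : ℤ) {X : C} (φ : F.obj X ⟶ F'.obj X) [IsIso φ] : IsIso (sh F F' k φ) := by
  unfold sh
  infer_instance

lemma sh_comm (k : ℤ) {X : C} (φ : F.obj X ⟶ F'.obj X) :
    sh F F' k φ ≫ (F'.commShiftIso k).hom.app X = (F.commShiftIso k).hom.app X ≫ φ⟦k⟧' := by
  simp [sh]

lemma sh_nat (k : ℤ) {X X' : C} (g : X ⟶ X') (φ : F.obj X ⟶ F'.obj X)
    (φ' : F.obj X' ⟶ F'.obj X') (h : F.map g ≫ φ' = φ ≫ F'.map g) :
    F.map (g⟦k⟧') ≫ sh F F' k φ' = sh F F' k φ ≫ F'.map (g⟦k⟧') := by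
  unfold sh
  rw [F.commShiftIso_hom_naturality_assoc g k, ← Functor.map_comp_assoc, h,
    Functor.map_comp_assoc, Category.assoc, Category.assoc]
  congr 2
  exact F'.commShiftIso_inv_naturality g k

lemma commShiftIso_zero_hom_app (X : C) :
    (F.commShiftIso (0 : ℤ)).hom.app X =
      F.map ((shiftFunctorZero C ℤ).hom.app X) ≫ (shiftFunctorZero D ℤ).inv.app (F.obj X) := by
  rw [F.commShiftIso_zero]
  simp [Functor.CommShift.isoZero_hom_app]

lemma commShiftIso_zero_inv_app (X : C) :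
    (F.commShiftIso (0 : ℤ)).inv.app X =
      (shiftFunctorZero D ℤ).hom.app (F.obj X) ≫ F.map ((shiftFunctorZero C ℤ).inv.app X) := by
  rw [F.commShiftIso_zero]
  simp [Functor.CommShift.isoZero_inv_app]

lemma sh_zero {X : C} (φ : F.obj X ⟶ F'.obj X) :
    sh F F' 0 φ ≫ F'.map ((shiftFunctorZero C ℤ).hom.app X) =
      F.map ((shiftFunctorZero C ℤ).hom.app X) ≫ φ := by
  unfold sh
  rw [commShiftIso_zero_hom_app, commShiftIso_zero_inv_app]
  simp only [Category.assoc, ← Functor.map_comp, Iso.inv_hom_id_app]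
  have := (shiftFunctorZero D ℤ).hom.naturality φ
  dsimp at this
  rw [reassoc_of% this]
  simp

lemma commShiftIso_add'_hom_app {m k n : ℤ} (h : m + k = n) (X : C) :
    (F.commShiftIso n).hom.app X =
      F.map ((shiftFunctorAdd' C m k n h).hom.app X) ≫ (F.commShiftIso k).hom.app (X⟦m⟧) ≫
        ((F.commShiftIso m).hom.app X)⟦k⟧' ≫ (shiftFunctorAdd' D m k n h).inv.app (F.obj X) := by
  rw [F.commShiftIso_add' h]
  simp [Functor.CommShift.isoAdd'_hom_app]

lemma commShiftIso_add'_inv_app {m k n : ℤ} (h : m + k = n) (X : C) :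
    (F.commShiftIso n).inv.app X =
      (shiftFunctorAdd' D m k n h).hom.app (F.obj X) ≫ ((F.commShiftIso m).inv.app X)⟦k⟧' ≫
        (F.commShiftIso k).inv.app (X⟦m⟧) ≫ F.map ((shiftFunctorAdd' C m k n h).inv.app X) := by
  rw [F.commShiftIso_add' h]
  simp [Functor.CommShift.isoAdd'_inv_app]

lemma sh_add {m k n : ℤ} (h : m + k = n) {X : C} (φ : F.obj X ⟶ F'.obj X) :
    F.map ((shiftFunctorAdd' C m k n h).hom.app X) ≫ sh F F' k (sh F F' m φ) =
      sh F F' n φ ≫ F'.map ((shiftFunctorAdd' C m k n h).hom.app X) := by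
  have hn : sh F F' n φ = F.map ((shiftFunctorAdd' C m k n h).hom.app X) ≫
      sh F F' k (sh F F' m φ) ≫ F'.map ((shiftFunctorAdd' C m k n h).inv.app X) := by
    conv_lhs => rw [sh_def, commShiftIso_add'_hom_app F h, commShiftIso_add'_inv_app F' h]
    simp only [sh_def, Functor.map_comp, Category.assoc]
    congr 3
    have := (shiftFunctorAdd' D m k n h).hom.naturality φ
    dsimp at this
    rw [reassoc_of% this, Iso.inv_hom_id_app_assoc]
  rw [hn]
  simp only [Category.assoc, ← Functor.map_comp, Iso.inv_hom_id_app]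
  simp

end Groth.Agent.H34.ShTrans
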