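import Groth.Agent.H34.SibLevel
import Groth.Agent.S6707

/-!
# Siblings: negative covers, cones, and vanishing lemmas
-/

universe w v u v' u'

open CategoryTheory Limits Pretriangulated Triangulated DerivedCategory ZeroObject

set_option linter.unusedSectionVars false

namespace Groth.Agent.H34.SibCover

open Groth.Agent.H34.BijHom Groth.Agent.H34 Groth.Agent.H34.ShTrans Groth.Agent.H34.Sibling
  Groth.Agent.H34.SibHeart Groth.Agent.H34.SibLevel

variable {A : Type u} [Category.{v} A] [Abelian A] [HasDerivedCategory.{w} A]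

/-- The object `N` placed in degree `b`, as an object of `D^b(A)` (a shift of `singleB N`). -/
noncomputable abbrev PB (N : A) (b : ℤ) : DerivedCategory.Bounded A :=
  ((DEquiv.singleB A).obj N)⟦-b⟧

/-- Comparison with Mathlib's single functor. -/
noncomputable def σ (N : A) (b : ℤ) : (PB N b).obj ≅ (singleFunctor A b).obj N :=
  BoundedGen.singleBShiftIso N (-b) b (by omega)

/-- The morphism `PB N b ⟶ X` attached to `g : S_b N ⟶ X.obj`. -/
noncomputable def xOf {X : DerivedCategory.Bounded A} {N : A} {b : ℤ}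
    (g : (singleFunctor A b).obj N ⟶ X.obj) : PB N b ⟶ X :=
  ObjectProperty.homMk ((σ N b).hom ≫ g)

lemma xOf_hom {X : DerivedCategory.Bounded A} {N : A} {b : ℤ}
    (g : (singleFunctor A b).obj N ⟶ X.obj) : (xOf g).hom = (σ N b).hom ≫ g := rfl

lemma in_PB (N : A) (b : ℤ) : In (PB N b) b b := in_shift_single N (-b) b (by omega)

lemma W_PB (N : A) (b : ℤ) {n : ℕ} (hn : 1 ≤ n) : W n (PB N b) := W_shift_single N (-b) hn

lemma in_PB_shift (N : A) (b : ℤ) : In ((PB N b)⟦(1 : ℤ)⟧) (b - 1) (b - 1) := by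
  have e : (PB N b)⟦(1 : ℤ)⟧ ≅ ((DEquiv.singleB A).obj N)⟦-b + 1⟧ :=
    ((shiftFunctorAdd' _ (-b) 1 (-b + 1) rfl).app ((DEquiv.singleB A).obj N)).symm
  exact (in_shift_single N (-b + 1) (b - 1) (by omega)).of_iso e.symm

lemma W_PB_shift (N : A) (b : ℤ) {n : ℕ} (hn : 1 ≤ n) : W n ((PB N b)⟦(1 : ℤ)⟧) :=
  ⟨b - 1, b - 1, in_PB_shift N b, by omega⟩

lemma In.inter {X : DerivedCategory.Bounded A} {a b a' b' : ℤ} (h : In X a b) (h' : In X a' b') :
    In X (max a a') (min b b') := by
  constructor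
  · rcases le_total a a' with h1 | h1
    · rw [max_eq_right h1]; exact h'.1
    · rw [max_eq_left h1]; exact h.1
  · rcases le_total b b' with h1 | h1
    · rw [min_eq_left h1]; exact h.2
    · rw [min_eq_right h1]; exact h'.2

lemma in_of_isZero {X : DerivedCategory.Bounded A} (hX : IsZero X) (a b : ℤ) : In X a b := by
  have : IsZero X.obj := (DerivedCategory.Bounded.ι (C := A)).map_isZero hX
  exact ⟨TStructure.t.isGE_of_isZero this a, TStructure.t.isLE_of_isZero this b⟩

/-- The interval of minimal length is unique for objects not of smaller width. -/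
lemma interval_unique {n : ℕ} {X : DerivedCategory.Bounded A} (hX : ¬ W n X) {a b a' b' : ℤ}
    (h : In X a b) (h' : In X a' b') (hab : b - a ≤ n) (hab' : b' - a' ≤ n) :
    a = a' ∧ b = b' := by
  have h2 := In.inter h h'
  have h3 : ¬ (min b b' - max a a' < n) := fun h4 => hX ⟨_, _, h2, h4⟩
  constructor <;> omega

/-- Bounds for the cone of a morphism from a heart object in degree `b` inducing an
epimorphism on `H^b`. -/
lemma in_cone {X Y : DerivedCategory.Bounded A} {a b a' : ℤ} (hX : In X a b) (ha' : a' ≤ a)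
    (ha'' : a' ≤ b - 1) {N : A}
    (g : (singleFunctor A b).obj N ⟶ X.obj) (hg : Epi ((homologyFunctor A b).map g))
    (y : X ⟶ Y) (δ : Y ⟶ (PB N b)⟦(1 : ℤ)⟧)
    (hT : Triangle.mk (xOf g) y δ ∈ distTriang (DerivedCategory.Bounded A)) :
    In Y a' (b - 1) := by
  have hTD : (DerivedCategory.Bounded.ι (C := A)).mapTriangle.obj (Triangle.mk (xOf g) y δ) ∈
      distTriang (DerivedCategory A) := hT
  have hrot := rot_of_distTriang _ hTD
  have hP := in_PB_shift N b
  have hP' : (((DerivedCategory.Bounded.ι (C := A)).obj (PB N b))⟦(1 : ℤ)⟧).IsGE (b - 1) :=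
    @TStructure.isGE_of_iso _ _ _ _ _ _ _ TStructure.t _ _
      (((DerivedCategory.Bounded.ι (C := A)).commShiftIso (1 : ℤ)).app (PB N b)) (b - 1) hP.1
  have hP'' : (((DerivedCategory.Bounded.ι (C := A)).obj (PB N b))⟦(1 : ℤ)⟧).IsLE (b - 1) :=
    @TStructure.isLE_of_iso _ _ _ _ _ _ _ TStructure.t _ _
      (((DerivedCategory.Bounded.ι (C := A)).commShiftIso (1 : ℤ)).app (PB N b)) (b - 1) hP.2
  have hX1 := hX.1
  have hX2 := hX.2
  have hGE : Y.obj.IsGE a' := by
    refine TStructure.t.isGE₂ _ hrot a' ?_ ?_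
    · exact @TStructure.isGE_of_ge _ _ _ _ _ _ _ TStructure.t X.obj a' a ha' hX1
    · exact @TStructure.isGE_of_ge _ _ _ _ _ _ _ TStructure.t _ a' (b - 1) ha'' hP'
  have hLE : Y.obj.IsLE b := by
    refine TStructure.t.isLE₂ _ hrot b hX2 ?_
    exact @TStructure.isLE_of_le _ _ _ _ _ _ _ TStructure.t _ (b - 1) b (by omega) hP''
  refine ⟨hGE, ?_⟩
  rw [isLE_iff]
  intro i hi
  by_cases hib : i = b
  · subst hib
    have ex1 := (homologyFunctor A i).map_distinguished_exact _ hTD
    have ex2 := (homologyFunctor A i).map_distinguished_exact _ hrot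
    have hepi : Epi ((homologyFunctor A i).map (xOf g).hom) := by
      rw [xOf_hom, Functor.map_comp]
      exact epi_comp _ _
    have hz : (homologyFunctor A i).map y.hom = 0 := (ex1.epi_f_iff).1 hepi
    have hepi2 : Epi ((homologyFunctor A i).map y.hom) := by
      refine ex2.epi_f ?_
      apply IsZero.eq_of_tgt
      exact isZero_of_isLE _ (i - 1) i (by omega) (hX := hP'')
    exact IsZero.of_epi_eq_zero _ hz
  · exact isZero_of_isLE Y.obj b i (by omega) (hX := hLE)

/-- Vanishing of `Hom(X₀, S_b N)` in `D(A)` for `X₀ ≤ b` when `Hom(H^b X₀, N) = 0`. -/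
lemma hom_single_eq_zero (X₀ : DerivedCategory A) (b : ℤ) [X₀.IsLE b] (N : A)
    (neg : ∀ φ : (homologyFunctor A b).obj X₀ ⟶ N, φ = 0)
    (g : X₀ ⟶ (singleFunctor A b).obj N) : g = 0 := by
  have hg := TStructure.t.π_descTruncGE g b
  obtain ⟨H, ⟨e⟩⟩ := exists_iso_singleFunctor_obj_of_isGE_of_isLE
    ((TStructure.t.truncGE b).obj X₀) b
  obtain ⟨φ, hφ⟩ := (singleFunctor A b).map_surjective (e.inv ≫ TStructure.t.descTruncGE g b)
  have hT := rot_of_distTriang _ (TStructure.t.triangleLTGE_distinguished b X₀)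
  have ex := (homologyFunctor A b).map_distinguished_exact _ hT
  have hepi : Epi ((homologyFunctor A b).map ((TStructure.t.truncGEπ b).app X₀)) := by
    refine ex.epi_f ?_
    apply IsZero.eq_of_tgt
    have h2 : (((TStructure.t.truncLT b).obj X₀)⟦(1 : ℤ)⟧).IsLE (b - 2) :=
      TStructure.t.isLE_shift _ (b - 1) 1 (b - 2) (by omega)
    exact isZero_of_isLE _ (b - 2) b (by omega) (hX := h2)
  let ψ : (homologyFunctor A b).obj X₀ ⟶ H :=
    (homologyFunctor A b).map ((TStructure.t.truncGEπ b).app X₀ ≫ e.hom) ≫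
      (singleFunctorCompHomologyFunctorIso A b).hom.app H
  have hψ : Epi ψ := by
    dsimp only [ψ]
    rw [Functor.map_comp]
    infer_instance
  have h0 : φ = 0 := by
    rw [← cancel_epi ψ, comp_zero]
    exact neg _
  rw [h0, Functor.map_zero] at hφ
  have h1 : TStructure.t.descTruncGE g b = 0 := by
    rw [← cancel_epi e.inv, comp_zero, ← hφ]
  rw [← hg, h1, comp_zero]

/-- Vanishing of `Hom(X₀, PB N b)` in `D^b(A)`. -/
lemma hom_PB_eq_zero (X₀ : DerivedCategory.Bounded A) (b : ℤ) (hX₀ : X₀.obj.IsLE b) (N : A)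
    (neg : ∀ φ : (homologyFunctor A b).obj X₀.obj ⟶ N, φ = 0)
    (g : X₀ ⟶ PB N b) : g = 0 := by
  apply (DerivedCategory.Bounded.ι (C := A)).map_injective
  rw [Functor.map_zero]
  have := hom_single_eq_zero X₀.obj b N neg (g.hom ≫ (σ N b).hom)
  rw [← cancel_mono (σ N b).hom, zero_comp]
  exact this

/-- Refinement of a cover: kill a morphism to an object `≤ b - 1` and become negative with
respect to `H^b X` and an auxiliary object `Z`. -/
lemma exists_refinement
    (hneg : ∀ X : A, ∃ (N : A) (p : N ⟶ X), Epi p ∧ ∀ f : X ⟶ N, f = 0)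
    {X X' : DerivedCategory.Bounded A} (b : ℤ) (hX' : X'.obj.IsLE (b - 1)) (f : X ⟶ X')
    (Z : A) {N : A} (g : (singleFunctor A b).obj N ⟶ X.obj)
    (hg : Epi ((homologyFunctor A b).map g)) :
    ∃ (N₂ : A) (q₀ : N₂ ⟶ N), Epi q₀ ∧
      (∀ φ : (homologyFunctor A b).obj X.obj ⟶ N₂, φ = 0) ∧ (∀ φ : Z ⟶ N₂, φ = 0) ∧
      Epi ((homologyFunctor A b).map ((singleFunctor A b).map q₀ ≫ g)) ∧
      ((singleFunctor A b).map q₀ ≫ g) ≫ f.hom = 0 := by
  obtain ⟨P, p, hp, h1⟩ := Efface.efface N b (b - 1) (by omega) X'.obj (g ≫ f.hom)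
  obtain ⟨N₂, r, hr, hN₂⟩ := hneg (P ⊞ Z)
  have key : ∀ {U V : A} (q : U ⟶ V) [Epi q],
      Epi ((homologyFunctor A b).map ((singleFunctor A b).map q)) := by
    intro U V q _
    have := NatIso.naturality_2 (singleFunctorCompHomologyFunctorIso A b) q
    dsimp at this
    rw [← this]
    infer_instance
  have hE1 : Epi ((homologyFunctor A b).map ((singleFunctor A b).map p ≫ g)) := by
    rw [Functor.map_comp]
    have := key p
    exact epi_comp _ _
  let π : P ⟶ (homologyFunctor A b).obj X.obj :=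
    (singleFunctorCompHomologyFunctorIso A b).inv.app P ≫
      (homologyFunctor A b).map ((singleFunctor A b).map p ≫ g)
  have hπ : Epi π := epi_comp _ _
  have hfst : Epi (biprod.fst : P ⊞ Z ⟶ P) := inferInstance
  have hsnd : Epi (biprod.snd : P ⊞ Z ⟶ Z) := inferInstance
  have hq : Epi (r ≫ biprod.fst ≫ p) := epi_comp _ _
  refine ⟨N₂, r ≫ biprod.fst ≫ p, hq, ?_, ?_, ?_, ?_⟩
  · intro φ
    have : Epi ((biprod.fst : P ⊞ Z ⟶ P) ≫ π) := epi_comp _ _
    rw [← cancel_epi ((biprod.fst : P ⊞ Z ⟶ P) ≫ π), comp_zero]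
    exact hN₂ _
  · intro φ
    rw [← cancel_epi (biprod.snd : P ⊞ Z ⟶ Z), comp_zero]
    exact hN₂ _
  · rw [Functor.map_comp]
    have := key (r ≫ biprod.fst ≫ p)
    exact epi_comp _ _
  · simp only [Functor.map_comp, Category.assoc]
    rw [h1, comp_zero, comp_zero]

/-- Existence of a negative cover (from S6707). -/
lemma exists_cover
    (hneg : ∀ X : A, ∃ (N : A) (p : N ⟶ X), Epi p ∧ ∀ f : X ⟶ N, f = 0)
    (X : DerivedCategory.Bounded A) {a b : ℤ} (hX : In X a b) :
    ∃ (N : A) (g : (singleFunctor A b).obj N ⟶ X.obj),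
      Epi ((homologyFunctor A b).map g) ∧
        (∀ φ : (homologyFunctor A b).obj X.obj ⟶ N, φ = 0) := by
  have := hX.1
  have := hX.2
  obtain ⟨N, g, h1, h2, -⟩ := Groth.Agent.S6707.result hneg X.obj (0 : DerivedCategory A)
    (0 : X.obj ⟶ 0) a b 0
  exact ⟨N, g, h1, h2⟩

end Groth.Agent.H34.SibCover
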