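import Groth.Agent.H34.SibStep

/-!
# Siblings: gluing the levels into a natural isomorphism `F ≅ F'`
-/

universe w v u v' u'

open CategoryTheory Limits Pretriangulated Triangulated DerivedCategory ZeroObject

set_option linter.unusedSectionVars false

namespace Groth.Agent.H34.SibGlue

open Groth.Agent.H34.BijHom Groth.Agent.H34 Groth.Agent.H34.ShTrans Groth.Agent.H34.Sibling
  Groth.Agent.H34.SibHeart Groth.Agent.H34.SibLevel Groth.Agent.H34.SibCover
  Groth.Agent.H34.SibStep

variable {A : Type u} [Category.{v} A] [Abelian A] [HasDerivedCategory.{w} A]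

lemma exists_interval {m : ℕ} (hm : 1 ≤ m) {X : DerivedCategory.Bounded A} (h : W m X) :
    ∃ lo b : ℤ, In X lo b ∧ lo ≤ b ∧ b - lo < m := by
  obtain ⟨lo, b, hX, hw⟩ := h
  by_cases hlb : lo ≤ b
  · exact ⟨lo, b, hX, hlb, hw⟩
  · exact ⟨0, 0, in_of_isZero (hX.isZero (by omega)) 0 0, le_rfl, by omega⟩

lemma exists_W (X : DerivedCategory.Bounded A) : ∃ k : ℕ, W (k + 1) X := by
  obtain ⟨⟨lo, hlo⟩, ⟨b, hb⟩⟩ := X.property
  exact ⟨(b - lo).toNat, lo, b, ⟨hlo, hb⟩, by push_cast; omega⟩

variable {D : Type u'} [Category.{v'} D] [Preadditive D] [HasZeroObject D] [HasShift D ℤ]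
  [∀ n : ℤ, (shiftFunctor D n).Additive] [Pretriangulated D]
  {F F' : DerivedCategory.Bounded A ⥤ D} [F.CommShift ℤ] [F.IsTriangulated]
  [F'.CommShift ℤ] [F'.IsTriangulated]
  {a : DEquiv.singleB A ⋙ F ≅ DEquiv.singleB A ⋙ F'}
  [F.Full] [F.Faithful]
  (hneg : ∀ X : A, ∃ (N : A) (p : N ⟶ X), Epi p ∧ ∀ f : X ⟶ N, f = 0)

/-- The extension of a level-`n` partial natural isomorphism to level `n + 1`. -/
noncomputable def levelSucc {n : ℕ} (L : Level F F' a n) (hn : 1 ≤ n) : Level F F' a (n + 1) where
  c := c' L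
  nat := by
    intro X X' f hX hX'
    obtain ⟨lo, b, h1, h2, h3⟩ := exists_interval (by omega) hX
    obtain ⟨lo', b', h1', h2', h3'⟩ := exists_interval (by omega) hX'
    push_cast at h3 h3'
    exact nat_aux L hn hneg
      ((3 * ((b - lo) + (b' - lo')) + max (b - b') (b' - b)).toNat + 1) X X' lo b lo' b'
      h1 h1' h2 h2' (by omega) (by omega) (by push_cast; omega) f
  iso := by
    intro X hX
    by_cases hW : W n X
    · rw [c'_of_W L hW]
      exact L.iso X hW
    · have hd := exists_stepData L hn hneg X hX hW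
      rw [c'_of_not_W L hW hd]
      exact hd.some.iso
  heart := fun M m => by
    rw [c'_of_W L (W_shift_single M m hn)]
    exact L.heart M m

lemma levelSucc_c {n : ℕ} (L : Level F F' a n) (hn : 1 ≤ n) (X : DerivedCategory.Bounded A)
    (hX : W n X) : (levelSucc hneg L hn).c X = L.c X :=
  c'_of_W L hX

variable (F F' a) in
/-- The sequence of all levels. -/
noncomputable def levelSeq : ∀ k : ℕ, Level F F' a (k + 1)
  | 0 => level₁ F F' a
  | k + 1 => levelSucc hneg (levelSeq k) (by omega)

lemma levelSeq_c_add (k j : ℕ) (X : DerivedCategory.Bounded A) (hX : W (k + 1) X) :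
    (levelSeq F F' a hneg (k + j)).c X = (levelSeq F F' a hneg k).c X := by
  induction j with
  | zero => rfl
  | succ j ih =>
    rw [← ih]
    exact levelSucc_c hneg _ _ X (hX.mono (Nat.succ_le_succ (Nat.le_add_right k j)))

variable (F F' a) in
/-- The glued family. -/
noncomputable def cInf (X : DerivedCategory.Bounded A) : F.obj X ⟶ F'.obj X :=
  (levelSeq F F' a hneg (exists_W X).choose).c X

lemma cInf_eq (X : DerivedCategory.Bounded A) (m : ℕ) (hm : (exists_W X).choose ≤ m) :
    cInf F F' a hneg X = (levelSeq F F' a hneg m).c X := by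
  obtain ⟨j, rfl⟩ := Nat.exists_eq_add_of_le hm
  exact (levelSeq_c_add hneg _ j X (exists_W X).choose_spec).symm

instance (X : DerivedCategory.Bounded A) : IsIso (cInf F F' a hneg X) :=
  (levelSeq F F' a hneg _).iso X (exists_W X).choose_spec

lemma cInf_nat {X X' : DerivedCategory.Bounded A} (f : X ⟶ X') :
    F.map f ≫ cInf F F' a hneg X' = cInf F F' a hneg X ≫ F'.map f := by
  set m := max (exists_W X).choose (exists_W X').choose
  rw [cInf_eq hneg X m (le_max_left _ _), cInf_eq hneg X' m (le_max_right _ _)]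
  exact (levelSeq F F' a hneg m).nat f
    ((exists_W X).choose_spec.mono (Nat.succ_le_succ (le_max_left _ _)))
    ((exists_W X').choose_spec.mono (Nat.succ_le_succ (le_max_right _ _)))

include a hneg in
variable (F F') in
/-- **Orlov / Stacks 57.13**: siblings of a fully faithful functor on `D^b(A)`, with `A` having
enough negative objects, are isomorphic. -/
theorem sibling_iso : Nonempty (F ≅ F') :=
  ⟨NatIso.ofComponents (fun X => asIso (cInf F F' a hneg X)) (fun f => cInf_nat hneg f)⟩

end Groth.Agent.H34.SibGlue
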