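import Groth.Agent.H34.Sibling
import Groth.Agent.H34.ShTrans

/-!
# Siblings: compatibility of the heart isomorphism with all morphisms between shifted heart objects

Setting: `F, F' : D^b(A) ⥤ D` triangulated, `F` fully faithful, `a : i ⋙ F ≅ i ⋙ F'`.
We define `aS M m : F (M[m]) ⟶ F' (M[m])` (the shift of `a_M`) and prove that it is natural
with respect to *all* morphisms `M[m] ⟶ M'[m']` in `D^b(A)`.
-/

universe w v u v' u'

open CategoryTheory Limits Pretriangulated Triangulated DerivedCategory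

set_option linter.unusedSectionVars false

namespace Groth.Agent.H34.SibHeart

open Groth.Agent.H34.BijHom Groth.Agent.H34 Groth.Agent.H34.ShTrans Groth.Agent.H34.Sibling

variable {A : Type u} [Category.{v} A] [Abelian A] [HasDerivedCategory.{w} A]
  {D : Type u'} [Category.{v'} D] [Preadditive D] [HasZeroObject D] [HasShift D ℤ]
  [∀ n : ℤ, (shiftFunctor D n).Additive] [Pretriangulated D]
  (F F' : DerivedCategory.Bounded A ⥤ D) [F.CommShift ℤ] [F.IsTriangulated]
  [F'.CommShift ℤ] [F'.IsTriangulated]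
  (a : DEquiv.singleB A ⋙ F ≅ DEquiv.singleB A ⋙ F')

/-- The heart isomorphism, with a clean type. -/
def aH (M : A) : F.obj ((DEquiv.singleB A).obj M) ⟶ F'.obj ((DEquiv.singleB A).obj M) :=
  a.hom.app M

instance (M : A) : IsIso (aH F F' a M) := by
  unfold aH
  infer_instance

lemma aH_nat {M M' : A} (φ : M ⟶ M') :
    F.map ((DEquiv.singleB A).map φ) ≫ aH F F' a M' =
      aH F F' a M ≫ F'.map ((DEquiv.singleB A).map φ) :=
  a.hom.naturality φ

/-- The shifted heart isomorphism. -/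
noncomputable def aS (M : A) (m : ℤ) :
    F.obj (((DEquiv.singleB A).obj M)⟦m⟧) ⟶ F'.obj (((DEquiv.singleB A).obj M)⟦m⟧) :=
  sh F F' m (aH F F' a M)

instance (M : A) (m : ℤ) : IsIso (aS F F' a M m) := by
  unfold aS
  infer_instance

variable [F.Full] [F.Faithful]

/-- Vanishing of `Hom(F X, F' Y)` from vanishing of `Hom(X, Y)`. -/
lemma hom_eq_zero {X Y : DerivedCategory.Bounded A} (e : F.obj Y ⟶ F'.obj Y) [IsIso e]
    (h : ∀ g : X ⟶ Y, g = 0) (u : F.obj X ⟶ F'.obj Y) : u = 0 := by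
  obtain ⟨g, hg⟩ := F.map_surjective (u ≫ inv e)
  rw [h g, F.map_zero] at hg
  have : u = (u ≫ inv e) ≫ e := by simp
  rw [this, ← hg, zero_comp]

include a in
/-- Compatibility with the connecting morphism of a short exact sequence. -/
lemma comp_δ {K P M : A} (j : K ⟶ P) (p : P ⟶ M)
    (δ : (DEquiv.singleB A).obj M ⟶ ((DEquiv.singleB A).obj K)⟦(1 : ℤ)⟧)
    (hT : Triangle.mk ((DEquiv.singleB A).map j) ((DEquiv.singleB A).map p) δ ∈
      distTriang (DerivedCategory.Bounded A)) :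
    F.map δ ≫ aS F F' a K 1 = aH F F' a M ≫ F'.map δ := by
  obtain ⟨(γ : F.obj ((DEquiv.singleB A).obj M) ⟶ F'.obj ((DEquiv.singleB A).obj M)),
    hγ1, hγ2⟩ := complete_distinguished_triangle_morphism _ _
    (F.map_distinguished _ hT) (F'.map_distinguished _ hT) (aH F F' a K) (aH F F' a P)
    (aH_nat F F' a j)
  have hγ1' : F.map ((DEquiv.singleB A).map p) ≫ γ =
      aH F F' a P ≫ F'.map ((DEquiv.singleB A).map p) := hγ1
  have hγ2' : (F.map δ ≫ (F.commShiftIso (1 : ℤ)).hom.app ((DEquiv.singleB A).obj K)) ≫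
      (aH F F' a K)⟦(1 : ℤ)⟧' =
      γ ≫ (F'.map δ ≫ (F'.commShiftIso (1 : ℤ)).hom.app ((DEquiv.singleB A).obj K)) := hγ2
  have hz : F.map ((DEquiv.singleB A).map p) ≫ (γ - aH F F' a M) = 0 := by
    rw [Preadditive.comp_sub, hγ1']
    rw [aH_nat F F' a p, sub_self]
  obtain ⟨(β : (F.obj ((DEquiv.singleB A).obj K))⟦(1 : ℤ)⟧ ⟶ F'.obj ((DEquiv.singleB A).obj M)),
    hβ⟩ := Triangle.yoneda_exact₃ _ (F.map_distinguished _ hT) (γ - aH F F' a M) hz
  have hβ' : γ - aH F F' a M =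
      (F.map δ ≫ (F.commShiftIso (1 : ℤ)).hom.app ((DEquiv.singleB A).obj K)) ≫ β := hβ
  have hβ0 : (F.commShiftIso (1 : ℤ)).hom.app ((DEquiv.singleB A).obj K) ≫ β = 0 := by
    apply hom_eq_zero F F' (aH F F' a M)
    intro g
    apply (DerivedCategory.Bounded.ι (C := A)).map_injective
    rw [Functor.map_zero]
    have h1 := isLE_shift_singleB K 1 (-1) (by omega)
    have h2 : ((DerivedCategory.Bounded.ι (C := A)).obj ((DEquiv.singleB A).obj M)).IsGE 0 :=
      inferInstanceAs (((singleFunctor A 0).obj M).IsGE 0)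
    exact TStructure.t.zero_of_isLE_of_isGE _ (-1) 0 (by omega) h1 h2
  have hγ : γ = aH F F' a M := by
    rw [← sub_eq_zero, hβ', Category.assoc, hβ0, comp_zero]
  rw [hγ] at hγ2'
  unfold aS
  rw [sh_def, ← Category.assoc, ← Category.assoc, hγ2']
  simp

include a in
/-- Shift transfer: if `g₀ : M ⟶ M'[q]` is compatible with `a`, then so is any
`g : M[m] ⟶ M'[m']` which corresponds to `g₀[m]`. -/
lemma shift_transfer {M M' : A} (q m m' : ℤ) (h : q + m = m')
    (g₀ : (DEquiv.singleB A).obj M ⟶ ((DEquiv.singleB A).obj M')⟦q⟧)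
    (hg₀ : F.map g₀ ≫ aS F F' a M' q = aH F F' a M ≫ F'.map g₀)
    (g : ((DEquiv.singleB A).obj M)⟦m⟧ ⟶ ((DEquiv.singleB A).obj M')⟦m'⟧)
    (hg : g ≫ (shiftFunctorAdd' _ q m m' h).hom.app ((DEquiv.singleB A).obj M') = g₀⟦m⟧') :
    F.map g ≫ aS F F' a M' m' = aS F F' a M m ≫ F'.map g := by
  have h1 := sh_nat F F' m g₀ (aH F F' a M) (aS F F' a M' q) hg₀
  have h2 := sh_add F F' h (aH F F' a M')
  rw [← cancel_mono (F'.map ((shiftFunctorAdd' _ q m m' h).hom.app ((DEquiv.singleB A).obj M')))]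
  unfold aS at h1 h2 ⊢
  rw [Category.assoc, ← h2, ← F.map_comp_assoc, hg, h1, Category.assoc, ← F'.map_comp, hg]

include a in
lemma comp_zero_shift_zero (M M' : A)
    (ξ : (DEquiv.singleB A).obj M ⟶ ((DEquiv.singleB A).obj M')⟦(0 : ℤ)⟧) :
    F.map ξ ≫ aS F F' a M' 0 = aH F F' a M ≫ F'.map ξ := by
  obtain ⟨φ, hφ⟩ := (DEquiv.singleB A).map_surjective
    (ξ ≫ (shiftFunctorZero _ ℤ).hom.app ((DEquiv.singleB A).obj M'))
  have h1 := sh_zero F F' (aH F F' a M')
  have h2 := aH_nat F F' a φ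
  rw [hφ] at h2
  rw [← cancel_mono (F'.map ((shiftFunctorZero _ ℤ).hom.app ((DEquiv.singleB A).obj M')))]
  unfold aS
  rw [Category.assoc, h1, ← F.map_comp_assoc, h2, F'.map_comp, Category.assoc]

include a in
lemma comp_zero_shift_succ (q : ℤ) (hq : 0 ≤ q)
    (ih : ∀ (M M' : A) (ξ : (DEquiv.singleB A).obj M ⟶ ((DEquiv.singleB A).obj M')⟦q⟧),
      F.map ξ ≫ aS F F' a M' q = aH F F' a M ≫ F'.map ξ)
    (M M' : A) (ξ : (DEquiv.singleB A).obj M ⟶ ((DEquiv.singleB A).obj M')⟦q + 1⟧) :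
    F.map ξ ≫ aS F F' a M' (q + 1) = aH F F' a M ≫ F'.map ξ := by
  obtain ⟨P, p, hp, h⟩ := efface_bounded M M' (q + 1) (by omega) ξ
  obtain ⟨K, j, δ, hT⟩ := exists_triangle_of_epi p
  obtain ⟨(ξ' : ((DEquiv.singleB A).obj K)⟦(1 : ℤ)⟧ ⟶ _), hξ'⟩ :=
    Triangle.yoneda_exact₃ _ hT ξ h
  have hξ'' : ξ = δ ≫ ξ' := hξ'
  obtain ⟨ξ'', hξ''2⟩ := (shiftFunctor _ (1 : ℤ)).map_surjective
    (ξ' ≫ (shiftFunctorAdd' _ q 1 (q + 1) rfl).hom.app ((DEquiv.singleB A).obj M'))
  have h3 := shift_transfer F F' a q 1 (q + 1) rfl ξ'' (ih K M' ξ'') ξ' hξ''2.symm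
  have h4 := comp_δ F F' a j p δ hT
  rw [hξ'', F.map_comp, Category.assoc, h3, ← Category.assoc, h4, Category.assoc,
    ← F'.map_comp]

include a in
lemma comp_zero_shift (q : ℤ) (M M' : A)
    (ξ : (DEquiv.singleB A).obj M ⟶ ((DEquiv.singleB A).obj M')⟦q⟧) :
    F.map ξ ≫ aS F F' a M' q = aH F F' a M ≫ F'.map ξ := by
  by_cases hq : q < 0
  · rw [hom_eq_zero_of_neg M M' q hq ξ, F.map_zero, F'.map_zero, zero_comp, comp_zero]
  · have key : ∀ (n : ℕ) (q : ℤ), q = n → ∀ (M M' : A)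
        (ξ : (DEquiv.singleB A).obj M ⟶ ((DEquiv.singleB A).obj M')⟦q⟧),
        F.map ξ ≫ aS F F' a M' q = aH F F' a M ≫ F'.map ξ := by
      intro n
      induction n with
      | zero =>
        intro q hq
        obtain rfl : q = 0 := by simpa using hq
        exact comp_zero_shift_zero F F' a
      | succ n ih =>
        intro q hq
        obtain rfl : q = (n : ℤ) + 1 := by push_cast at hq; exact hq
        exact comp_zero_shift_succ F F' a (n : ℤ) (by omega) (ih (n : ℤ) rfl)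
    exact key q.toNat q (by omega) M M' ξ

include a in
/-- **Claim (C)**: `aS` is natural with respect to all morphisms between shifted heart objects. -/
lemma aS_nat (M M' : A) (m m' : ℤ)
    (g : ((DEquiv.singleB A).obj M)⟦m⟧ ⟶ ((DEquiv.singleB A).obj M')⟦m'⟧) :
    F.map g ≫ aS F F' a M' m' = aS F F' a M m ≫ F'.map g := by
  obtain ⟨g₀, hg₀⟩ := (shiftFunctor _ m).map_surjective
    (g ≫ (shiftFunctorAdd' _ (m' - m) m m' (by omega)).hom.app ((DEquiv.singleB A).obj M'))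
  exact shift_transfer F F' a (m' - m) m m' (by omega) g₀
    (comp_zero_shift F F' a (m' - m) M M' g₀) g hg₀.symm

end Groth.Agent.H34.SibHeart
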