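import Groth.Agent.H34.SibHeart

/-!
# Siblings: width filtration of `D^b(A)` and level-`n` partial natural isomorphisms
-/

universe w v u v' u'

open CategoryTheory Limits Pretriangulated Triangulated DerivedCategory ZeroObject

set_option linter.unusedSectionVars false

namespace Groth.Agent.H34.SibLevel

open Groth.Agent.H34.BijHom Groth.Agent.H34 Groth.Agent.H34.ShTrans Groth.Agent.H34.Sibling
  Groth.Agent.H34.SibHeart

variable {A : Type u} [Category.{v} A] [Abelian A] [HasDerivedCategory.{w} A]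

/-- `X` has cohomology in `[a, b]`. -/
def In (X : DerivedCategory.Bounded A) (a b : ℤ) : Prop := X.obj.IsGE a ∧ X.obj.IsLE b

/-- `X` has width `≤ n`. -/
def W (n : ℕ) (X : DerivedCategory.Bounded A) : Prop := ∃ a b : ℤ, In X a b ∧ b - a < n

lemma W.mono {n m : ℕ} (h : n ≤ m) {X : DerivedCategory.Bounded A} (hX : W n X) : W m X := by
  obtain ⟨a, b, hab, hn⟩ := hX
  exact ⟨a, b, hab, by omega⟩

lemma In.of_iso {X Y : DerivedCategory.Bounded A} (e : X ≅ Y) {a b : ℤ} (h : In X a b) :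
    In Y a b :=
  ⟨@TStructure.isGE_of_iso _ _ _ _ _ _ _ TStructure.t _ _
      ((DerivedCategory.Bounded.ι (C := A)).mapIso e) a h.1,
    @TStructure.isLE_of_iso _ _ _ _ _ _ _ TStructure.t _ _
      ((DerivedCategory.Bounded.ι (C := A)).mapIso e) b h.2⟩

lemma W.of_iso {n : ℕ} {X Y : DerivedCategory.Bounded A} (e : X ≅ Y) (h : W n X) : W n Y := by
  obtain ⟨a, b, hab, hn⟩ := h
  exact ⟨a, b, hab.of_iso e, hn⟩

lemma in_shift_single (M : A) (m k : ℤ) (h : m + k = 0) :
    In (((DEquiv.singleB A).obj M)⟦m⟧) k k :=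
  ⟨isGE_shift_singleB M m k h, isLE_shift_singleB M m k h⟩

lemma W_shift_single (M : A) (m : ℤ) {n : ℕ} (hn : 1 ≤ n) :
    W n (((DEquiv.singleB A).obj M)⟦m⟧) :=
  ⟨-m, -m, in_shift_single M m (-m) (by omega), by omega⟩

lemma In.le {X : DerivedCategory.Bounded A} {a b a' b' : ℤ} (h : In X a b) (ha : a' ≤ a)
    (hb : b ≤ b') : In X a' b' :=
  ⟨@TStructure.isGE_of_ge _ _ _ _ _ _ _ TStructure.t X.obj a' a ha h.1,
    @TStructure.isLE_of_le _ _ _ _ _ _ _ TStructure.t X.obj b b' hb h.2⟩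

lemma In.isZero {X : DerivedCategory.Bounded A} {a b : ℤ} (h : In X a b) (hab : b < a) :
    IsZero X := by
  apply BoundedGen.isZero_of_isZero_obj
  have := h.1
  have := h.2
  exact TStructure.t.isZero X.obj b a hab

/-- Objects of width `≤ 1` are shifts of objects of the heart. -/
lemma exists_iso_of_W_one {X : DerivedCategory.Bounded A} (h : W 1 X) :
    ∃ (M : A) (m : ℤ), Nonempty (X ≅ ((DEquiv.singleB A).obj M)⟦m⟧) := by
  obtain ⟨a, b, hab, hn⟩ := h
  by_cases hba : b < a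
  · exact ⟨0, 0, ⟨(hab.isZero hba).iso BoundedGen.isZero_singleB_zero⟩⟩
  · obtain rfl : a = b := by omega
    have := hab.1
    have := hab.2
    obtain ⟨M, ⟨e⟩⟩ := exists_iso_singleFunctor_obj_of_isGE_of_isLE X.obj a
    exact ⟨M, -a, ⟨ObjectProperty.isoMk _
      (e ≪≫ (BoundedGen.singleBShiftIso M (-a) a (by omega)).symm)⟩⟩

variable {D : Type u'} [Category.{v'} D] [Preadditive D] [HasZeroObject D] [HasShift D ℤ]
  [∀ n : ℤ, (shiftFunctor D n).Additive] [Pretriangulated D]
  (F F' : DerivedCategory.Bounded A ⥤ D) [F.CommShift ℤ] [F.IsTriangulated]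
  [F'.CommShift ℤ] [F'.IsTriangulated]
  (a : DEquiv.singleB A ⋙ F ≅ DEquiv.singleB A ⋙ F')

/-- A level-`n` partial natural isomorphism `F ⟶ F'`, defined on objects of width `≤ n`. -/
structure Level (n : ℕ) where
  /-- the family of morphisms (junk outside width `≤ n`) -/
  c : ∀ X : DerivedCategory.Bounded A, F.obj X ⟶ F'.obj X
  nat : ∀ ⦃X X' : DerivedCategory.Bounded A⦄ (f : X ⟶ X'), W n X → W n X' →
    F.map f ≫ c X' = c X ≫ F'.map f
  iso : ∀ X, W n X → IsIso (c X)
  heart : ∀ (M : A) (m : ℤ), c (((DEquiv.singleB A).obj M)⟦m⟧) = aS F F' a M m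

variable [F.Full] [F.Faithful]

open Classical in
/-- The level one family. -/
noncomputable def c₁ (X : DerivedCategory.Bounded A) : F.obj X ⟶ F'.obj X :=
  if h : ∃ (M : A) (m : ℤ), Nonempty (X ≅ ((DEquiv.singleB A).obj M)⟦m⟧) then
    F.map h.choose_spec.choose_spec.some.hom ≫ aS F F' a h.choose h.choose_spec.choose ≫
      F'.map h.choose_spec.choose_spec.some.inv
  else 0

lemma c₁_eq {X : DerivedCategory.Bounded A} (M : A) (m : ℤ)
    (e : X ≅ ((DEquiv.singleB A).obj M)⟦m⟧) :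
    c₁ F F' a X = F.map e.hom ≫ aS F F' a M m ≫ F'.map e.inv := by
  have h : ∃ (M : A) (m : ℤ), Nonempty (X ≅ ((DEquiv.singleB A).obj M)⟦m⟧) := ⟨M, m, ⟨e⟩⟩
  rw [c₁, dif_pos h]
  set e' := h.choose_spec.choose_spec.some
  have := aS_nat F F' a _ _ _ _ (e'.inv ≫ e.hom)
  rw [F.map_comp, F'.map_comp, Category.assoc] at this
  rw [← cancel_mono (F'.map e.hom)]
  simp only [Category.assoc, ← F'.map_comp, Iso.inv_hom_id, F'.map_id, Category.comp_id]
  rw [F'.map_comp, ← this, ← F.map_comp_assoc, Iso.hom_inv_id, F.map_id, Category.id_comp]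

/-- The level one partial natural isomorphism. -/
noncomputable def level₁ : Level F F' a 1 where
  c := c₁ F F' a
  nat := by
    intro X X' f hX hX'
    obtain ⟨M, m, ⟨e⟩⟩ := exists_iso_of_W_one hX
    obtain ⟨M', m', ⟨e'⟩⟩ := exists_iso_of_W_one hX'
    rw [c₁_eq F F' a M m e, c₁_eq F F' a M' m' e']
    have := aS_nat F F' a _ _ _ _ (e.inv ≫ f ≫ e'.hom)
    simp only [F.map_comp, F'.map_comp, Category.assoc] at this
    rw [← cancel_mono (F'.map e'.hom), ← cancel_epi (F.map e.inv)]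
    simp only [Category.assoc, ← F'.map_comp, Iso.inv_hom_id, F'.map_id, Category.comp_id]
    rw [this, ← F.map_comp_assoc, Iso.inv_hom_id, F.map_id, Category.id_comp]
    simp only [F'.map_comp, Category.assoc]
  iso := by
    intro X hX
    obtain ⟨M, m, ⟨e⟩⟩ := exists_iso_of_W_one hX
    rw [c₁_eq F F' a M m e]
    infer_instance
  heart := by
    intro M m
    rw [c₁_eq F F' a M m (Iso.refl _)]
    simp

end Groth.Agent.H34.SibLevel
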