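import Groth.Agent.H34.SibCover

/-!
# Siblings: the inductive step, extending a level-`n` partial natural isomorphism to level `n+1`
-/

universe w v u v' u'

open CategoryTheory Limits Pretriangulated Triangulated DerivedCategory ZeroObject

set_option linter.unusedSectionVars false

namespace Groth.Agent.H34.SibStep

open Groth.Agent.H34.BijHom Groth.Agent.H34 Groth.Agent.H34.ShTrans Groth.Agent.H34.Sibling
  Groth.Agent.H34.SibHeart Groth.Agent.H34.SibLevel Groth.Agent.H34.SibCover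

variable {A : Type u} [Category.{v} A] [Abelian A] [HasDerivedCategory.{w} A]
  {D : Type u'} [Category.{v'} D] [Preadditive D] [HasZeroObject D] [HasShift D ℤ]
  [∀ n : ℤ, (shiftFunctor D n).Additive] [Pretriangulated D]
  {F F' : DerivedCategory.Bounded A ⥤ D} [F.CommShift ℤ] [F.IsTriangulated]
  [F'.CommShift ℤ] [F'.IsTriangulated]
  {a : DEquiv.singleB A ⋙ F ≅ DEquiv.singleB A ⋙ F'}
  [F.Full] [F.Faithful]
  {n : ℕ} (L : Level F F' a n)

include L in
lemma c_PB_shift (hn : 1 ≤ n) (N : A) (b : ℤ) :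
    L.c ((PB N b)⟦(1 : ℤ)⟧) = sh F F' 1 (L.c (PB N b)) := by
  have h1 := L.nat ((shiftFunctorAdd' _ (-b) 1 (-b + 1) rfl).hom.app ((DEquiv.singleB A).obj N))
    (W_shift_single N (-b + 1) hn) (W_PB_shift N b hn)
  have h2 := sh_add F F' (show -b + 1 = -b + 1 from rfl) (aH F F' a N)
  rw [L.heart] at h1
  have h3 : L.c (PB N b) = sh F F' (-b) (aH F F' a N) := L.heart N (-b)
  rw [h3, ← cancel_epi (F.map ((shiftFunctorAdd' _ (-b) 1 (-b + 1) rfl).hom.app
    ((DEquiv.singleB A).obj N))), h2]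
  exact h1

include L in
/-- Existence of the extension via TR3. -/
lemma exists_c (hn : 1 ≤ n) {X Y : DerivedCategory.Bounded A} {N : A} {b : ℤ}
    (x : PB N b ⟶ X) (y : X ⟶ Y) (δ : Y ⟶ (PB N b)⟦(1 : ℤ)⟧)
    (hT : Triangle.mk x y δ ∈ distTriang (DerivedCategory.Bounded A)) (hY : W n Y) :
    ∃ c : F.obj X ⟶ F'.obj X, IsIso c ∧ F.map x ≫ c = L.c (PB N b) ≫ F'.map x ∧
      F.map y ≫ L.c Y = c ≫ F'.map y := by
  have comm : (F.mapTriangle.obj (Triangle.mk x y δ)).mor₃ ≫ (L.c (PB N b))⟦(1 : ℤ)⟧' =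
      L.c Y ≫ (F'.mapTriangle.obj (Triangle.mk x y δ)).mor₃ := by
    have h1 := L.nat δ hY (W_PB_shift N b hn)
    rw [c_PB_shift L hn] at h1
    have h2 := sh_comm F F' 1 (L.c (PB N b))
    change (F.map δ ≫ (F.commShiftIso (1 : ℤ)).hom.app (PB N b)) ≫ (L.c (PB N b))⟦(1 : ℤ)⟧' =
      L.c Y ≫ (F'.map δ ≫ (F'.commShiftIso (1 : ℤ)).hom.app (PB N b))
    rw [Category.assoc, ← h2, ← Category.assoc, h1, Category.assoc]
  obtain ⟨(c : F.obj X ⟶ F'.obj X), h1, h2⟩ := complete_distinguished_triangle_morphism₂ _ _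
    (F.map_distinguished _ hT) (F'.map_distinguished _ hT) (L.c (PB N b)) (L.c Y) comm
  refine ⟨c, ?_, h1, h2⟩
  let φ : F.mapTriangle.obj (Triangle.mk x y δ) ⟶ F'.mapTriangle.obj (Triangle.mk x y δ) :=
    { hom₁ := L.c (PB N b)
      hom₂ := c
      hom₃ := L.c Y
      comm₁ := h1
      comm₂ := h2
      comm₃ := comm }
  exact isIso₂_of_isIso₁₃ φ (F.map_distinguished _ hT) (F'.map_distinguished _ hT)
    (L.iso _ (W_PB N b hn)) (L.iso _ hY)

include L in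
/-- Uniqueness: a morphism killed by `F' y` and with source orthogonal to `PB N b` vanishes. -/
lemma uniq (hn : 1 ≤ n) {X₀ X Y : DerivedCategory.Bounded A} {N : A} {b : ℤ}
    (x : PB N b ⟶ X) (y : X ⟶ Y) (δ : Y ⟶ (PB N b)⟦(1 : ℤ)⟧)
    (hT : Triangle.mk x y δ ∈ distTriang (DerivedCategory.Bounded A))
    (hvan : ∀ g : X₀ ⟶ PB N b, g = 0) (u : F.obj X₀ ⟶ F'.obj X) (hu : u ≫ F'.map y = 0) :
    u = 0 := by
  obtain ⟨(u' : F.obj X₀ ⟶ F'.obj (PB N b)), hu'⟩ := exact_co_G F' _ hT u hu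
  have := L.iso _ (W_PB N b hn)
  have hu'' : u = u' ≫ F'.map x := hu'
  rw [hu'', hom_eq_zero F F' (L.c (PB N b)) hvan u', zero_comp]

/-- The data attached to an object of width exactly `n + 1`. -/
structure StepData (X : DerivedCategory.Bounded A) where
  lo : ℤ
  b : ℤ
  hX : In X lo b
  hab : b - lo = n
  N : A
  g : (singleFunctor A b).obj N ⟶ X.obj
  epi : Epi ((homologyFunctor A b).map g)
  neg : ∀ φ : (homologyFunctor A b).obj X.obj ⟶ N, φ = 0
  Y : DerivedCategory.Bounded A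
  y : X ⟶ Y
  δ : Y ⟶ (PB N b)⟦(1 : ℤ)⟧
  dist : Triangle.mk (xOf g) y δ ∈ distTriang (DerivedCategory.Bounded A)
  hY : W n Y
  hYle : Y.obj.IsLE (b - 1)
  c : F.obj X ⟶ F'.obj X
  iso : IsIso c
  hx : F.map (xOf g) ≫ c = L.c (PB N b) ≫ F'.map (xOf g)
  hy : F.map y ≫ L.c Y = c ≫ F'.map y

include L in
lemma exists_stepData (hn : 1 ≤ n)
    (hneg : ∀ X : A, ∃ (N : A) (p : N ⟶ X), Epi p ∧ ∀ f : X ⟶ N, f = 0)
    (X : DerivedCategory.Bounded A) (hX : W (n + 1) X) (hX' : ¬ W n X) :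
    Nonempty (StepData L X) := by
  obtain ⟨lo, b, hlob, hw⟩ := hX
  have hw' : b - lo = n := by
    have : ¬ (b - lo < n) := fun h => hX' ⟨lo, b, hlob, h⟩
    push_cast at hw
    omega
  obtain ⟨N, g, hg, hneg'⟩ := exists_cover hneg X hlob
  obtain ⟨Y, y, δ, hT⟩ := distinguished_cocone_triangle (xOf g)
  have hY : In Y lo (b - 1) := in_cone hlob le_rfl (by omega) g hg y δ hT
  have hY' : W n Y := ⟨lo, b - 1, hY, by omega⟩
  obtain ⟨c, hc, h1, h2⟩ := exists_c L hn (xOf g) y δ hT hY'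
  exact ⟨⟨lo, b, hlob, hw', N, g, hg, hneg', Y, y, δ, hT, hY', hY.2, c, hc, h1, h2⟩⟩

open Classical in
/-- The extended family. -/
noncomputable def c' (X : DerivedCategory.Bounded A) : F.obj X ⟶ F'.obj X :=
  if W n X then L.c X else
    if h : Nonempty (StepData L X) then h.some.c else 0

lemma c'_of_W {X : DerivedCategory.Bounded A} (hX : W n X) : c' L X = L.c X := by
  rw [c', if_pos hX]

lemma c'_of_not_W {X : DerivedCategory.Bounded A} (hX : ¬ W n X) (h : Nonempty (StepData L X)) :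
    c' L X = h.some.c := by
  rw [c', if_neg hX, dif_pos h]

include L in
/-- Compatibility of `d.c` with cones of refinements of the cover of `d`. -/
lemma compat_refine (hn : 1 ≤ n) {X : DerivedCategory.Bounded A} (d : StepData L X)
    {N₂ : A} (q₀ : N₂ ⟶ d.N) {Y₂ : DerivedCategory.Bounded A} (y₂ : X ⟶ Y₂)
    (δ₂ : Y₂ ⟶ (PB N₂ d.b)⟦(1 : ℤ)⟧)
    (hT₂ : Triangle.mk (xOf ((singleFunctor A d.b).map q₀ ≫ d.g)) y₂ δ₂ ∈
      distTriang (DerivedCategory.Bounded A))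
    (hY₂ : W n Y₂) :
    F.map y₂ ≫ L.c Y₂ = d.c ≫ F'.map y₂ := by
  obtain ⟨c2, _, _, h2⟩ := exists_c L hn _ y₂ δ₂ hT₂ hY₂
  let q : PB N₂ d.b ⟶ PB d.N d.b :=
    ObjectProperty.homMk ((σ N₂ d.b).hom ≫ (singleFunctor A d.b).map q₀ ≫ (σ d.N d.b).inv)
  have hq : xOf ((singleFunctor A d.b).map q₀ ≫ d.g) = q ≫ xOf d.g := by
    ext
    simp [xOf_hom, q]
  obtain ⟨(r : Y₂ ⟶ d.Y), hr1, _⟩ := complete_distinguished_triangle_morphism _ _ hT₂ d.dist
    q (𝟙 X) (by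
      change xOf ((singleFunctor A d.b).map q₀ ≫ d.g) ≫ 𝟙 X = q ≫ xOf d.g
      rw [Category.comp_id, hq])
  have hr1' : y₂ ≫ r = d.y := by
    have : y₂ ≫ r = 𝟙 X ≫ d.y := hr1
    rw [this, Category.id_comp]
  have h3 : (c2 - d.c) ≫ F'.map d.y = 0 := by
    rw [Preadditive.sub_comp, ← d.hy, ← hr1', F'.map_comp, ← Category.assoc, ← h2,
      Category.assoc, ← L.nat r hY₂ d.hY, ← Category.assoc, ← F.map_comp, sub_self]
  have h4 := uniq L hn (xOf d.g) d.y d.δ d.dist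
    (hom_PB_eq_zero X d.b d.hX.2 d.N d.neg) (c2 - d.c) h3
  rw [← sub_eq_zero.1 h4]
  exact h2

include L in
lemma exists_good_cover (hn : 1 ≤ n)
    (hneg : ∀ X : A, ∃ (N : A) (p : N ⟶ X), Epi p ∧ ∀ f : X ⟶ N, f = 0)
    {X X' : DerivedCategory.Bounded A} {lo b : ℤ} (hX : In X lo b) (hw : b - lo ≤ n)
    (hX' : X'.obj.IsLE (b - 1)) (f : X ⟶ X') (Z : A) :
    ∃ (N₂ : A) (g₂ : (singleFunctor A b).obj N₂ ⟶ X.obj),
      Epi ((homologyFunctor A b).map g₂) ∧
      (∀ φ : (homologyFunctor A b).obj X.obj ⟶ N₂, φ = 0) ∧ (∀ φ : Z ⟶ N₂, φ = 0) ∧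
      xOf g₂ ≫ f = 0 ∧
      ∀ (Y₂ : DerivedCategory.Bounded A) (y₂ : X ⟶ Y₂) (δ₂ : Y₂ ⟶ (PB N₂ b)⟦(1 : ℤ)⟧),
        Triangle.mk (xOf g₂) y₂ δ₂ ∈ distTriang (DerivedCategory.Bounded A) → W n Y₂ →
          F.map y₂ ≫ L.c Y₂ = c' L X ≫ F'.map y₂ := by
  have hzero : ∀ {N₂ : A} (g₂ : (singleFunctor A b).obj N₂ ⟶ X.obj), g₂ ≫ f.hom = 0 →
      xOf g₂ ≫ f = 0 := by
    intro N₂ g₂ h
    apply (DerivedCategory.Bounded.ι (C := A)).map_injective
    rw [Functor.map_zero, Functor.map_comp]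
    change ((σ N₂ b).hom ≫ g₂) ≫ f.hom = 0
    rw [Category.assoc, h, comp_zero]
  by_cases hW : W n X
  · obtain ⟨N, g, hg, _⟩ := exists_cover hneg X hX
    obtain ⟨N₂, q₀, hq₀, h1, h2, h3, h4⟩ := exists_refinement hneg b hX' f Z g hg
    refine ⟨N₂, (singleFunctor A b).map q₀ ≫ g, h3, h1, h2, hzero _ h4, ?_⟩
    intro Y₂ y₂ δ₂ _ hY₂
    rw [c'_of_W L hW]
    exact L.nat y₂ hW hY₂
  · have hX1 : W (n + 1) X := ⟨lo, b, hX, by push_cast; omega⟩
    have hd := exists_stepData L hn hneg X hX1 hW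
    obtain ⟨-, hb⟩ := interval_unique hW hX hd.some.hX hw (by rw [hd.some.hab])
    subst hb
    obtain ⟨N₂, q₀, hq₀, h1, h2, h3, h4⟩ :=
      exists_refinement hneg hd.some.b hX' f Z hd.some.g hd.some.epi
    refine ⟨N₂, (singleFunctor A hd.some.b).map q₀ ≫ hd.some.g, h3, h1, h2, hzero _ h4, ?_⟩
    intro Y₂ y₂ δ₂ hT₂ hY₂
    rw [c'_of_not_W L hW hd]
    exact compat_refine L hn hd.some q₀ y₂ δ₂ hT₂ hY₂

include L in
theorem nat_aux (hn : 1 ≤ n)
    (hneg : ∀ X : A, ∃ (N : A) (p : N ⟶ X), Epi p ∧ ∀ f : X ⟶ N, f = 0) (k : ℕ) :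
    ∀ (X X' : DerivedCategory.Bounded A) (lo b lo' b' : ℤ), In X lo b → In X' lo' b' →
      lo ≤ b → lo' ≤ b' → b - lo ≤ n → b' - lo' ≤ n →
      3 * ((b - lo) + (b' - lo')) + max (b - b') (b' - b) < k →
      ∀ f : X ⟶ X', F.map f ≫ c' L X' = c' L X ≫ F'.map f := by
  induction k with
  | zero =>
    intro X X' lo b lo' b' _ _ h1 h2 _ _ h3
    exfalso
    push_cast at h3
    omega
  | succ k ih =>
    intro X X' lo b lo' b' hX hX' hlb hlb' hw hw' hΦ f
    push_cast at hΦ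
    by_cases h0 : W n X ∧ W n X'
    · rw [c'_of_W L h0.1, c'_of_W L h0.2]
      exact L.nat f h0.1 h0.2
    by_cases hI : b' < b
    · -- Case I
      have hX'le : X'.obj.IsLE (b - 1) :=
        @TStructure.isLE_of_le _ _ _ _ _ _ _ TStructure.t X'.obj b' (b - 1) (by omega) hX'.2
      obtain ⟨N₂, g₂, hg₂, -, -, hz, hcompat⟩ :=
        exists_good_cover L hn hneg hX hw hX'le f 0
      obtain ⟨Y₂, y₂, δ₂, hT₂⟩ := distinguished_cocone_triangle (xOf g₂)
      have hY₂ : In Y₂ (min lo (b - 1)) (b - 1) :=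
        in_cone hX (min_le_left _ _) (min_le_right _ _) g₂ hg₂ y₂ δ₂ hT₂
      have hWY₂ : W n Y₂ := ⟨_, _, hY₂, by omega⟩
      obtain ⟨(g : Y₂ ⟶ X'), hg⟩ := Triangle.yoneda_exact₂ _ hT₂ f hz
      have hfg : f = y₂ ≫ g := hg
      have ih' := ih Y₂ X' (min lo (b - 1)) (b - 1) lo' b' hY₂ hX' (min_le_right _ _) hlb'
        (by omega) hw' (by omega) g
      rw [hfg, F.map_comp, F'.map_comp, Category.assoc, ih', c'_of_W L hWY₂, ← Category.assoc,
        hcompat Y₂ y₂ δ₂ hT₂ hWY₂, Category.assoc]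
    · by_cases hII : lo' = b' ∧ b = b'
      · -- Case II-1 : `X'` is concentrated in degree `b`
        obtain ⟨h1, h2⟩ := hII
        subst h1 h2
        have hWX' : W n X' := ⟨b, b, hX', by omega⟩
        have hWX : ¬ W n X := fun h => h0 ⟨h, hWX'⟩
        have hX1 : W (n + 1) X := ⟨lo, b, hX, by push_cast; omega⟩
        have hd := exists_stepData L hn hneg X hX1 hWX
        obtain ⟨-, hb⟩ := interval_unique hWX hX hd.some.hX hw (by rw [hd.some.hab])
        rw [c'_of_W L hWX', c'_of_not_W L hWX hd]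
        have hx : F.map (xOf hd.some.g) ≫ (F.map f ≫ L.c X' - hd.some.c ≫ F'.map f) = 0 := by
          rw [Preadditive.comp_sub, ← Category.assoc, ← Category.assoc, hd.some.hx,
            ← F.map_comp, L.nat (xOf hd.some.g ≫ f) (W_PB _ _ hn) hWX', F'.map_comp,
            Category.assoc, sub_self]
        obtain ⟨(u' : F.obj hd.some.Y ⟶ F'.obj X'), hu'⟩ :=
          exact_yo_G F _ hd.some.dist _ hx
        have := L.iso _ hWX'
        have hu0 : u' = 0 := by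
          apply hom_eq_zero F F' (L.c X')
          intro g
          apply (DerivedCategory.Bounded.ι (C := A)).map_injective
          rw [Functor.map_zero]
          exact TStructure.t.zero_of_isLE_of_isGE _ (hd.some.b - 1) hd.some.b (by omega)
            hd.some.hYle (hb ▸ hX'.1)
        have hu'' : F.map f ≫ L.c X' - hd.some.c ≫ F'.map f = F.map hd.some.y ≫ u' := hu'
        rw [hu0, comp_zero] at hu''
        exact sub_eq_zero.1 hu''
      · -- Case II general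
        have hzero : ((0 : DerivedCategory.Bounded A)).obj.IsLE (b' - 1) :=
          (in_of_isZero (isZero_zero _) 0 (b' - 1)).2
        obtain ⟨N₂, g₂, hg₂, -, hZ, -, hcompat⟩ :=
          exists_good_cover L hn hneg hX' hw' hzero (0 : X' ⟶ 0)
            ((homologyFunctor A b').obj X.obj)
        obtain ⟨Y₂, y₂, δ₂, hT₂⟩ := distinguished_cocone_triangle (xOf g₂)
        have hY₂ : In Y₂ (min lo' (b' - 1)) (b' - 1) :=
          in_cone hX' (min_le_left _ _) (min_le_right _ _) g₂ hg₂ y₂ δ₂ hT₂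
        have hWY₂ : W n Y₂ := ⟨_, _, hY₂, by omega⟩
        have ih' := ih X Y₂ lo b (min lo' (b' - 1)) (b' - 1) hX hY₂ hlb (min_le_right _ _) hw
          (by omega) (by omega) (f ≫ y₂)
        rw [c'_of_W L hWY₂] at ih'
        have hXle : X.obj.IsLE b' :=
          @TStructure.isLE_of_le _ _ _ _ _ _ _ TStructure.t X.obj b b' (by omega) hX.2
        have hu : (F.map f ≫ c' L X' - c' L X ≫ F'.map f) ≫ F'.map y₂ = 0 := by
          rw [Preadditive.sub_comp, Category.assoc, ← hcompat Y₂ y₂ δ₂ hT₂ hWY₂,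
            ← F.map_comp_assoc, ih', F'.map_comp, Category.assoc, sub_self]
        exact sub_eq_zero.1 (uniq L hn (xOf g₂) y₂ δ₂ hT₂
          (hom_PB_eq_zero X b' hXle N₂ hZ) _ hu)

end Groth.Agent.H34.SibStep
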