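import Groth.Agent.H34.Efface
import Groth.Agent.H34.BijHom
import Groth.Agent.H34.BoundedGen
import Mathlib.Algebra.Homology.DerivedCategory.FullyFaithful
import Mathlib.Algebra.Homology.DerivedCategory.SingleTriangle

/-!
# Siblings of fully faithful functors on `D^b(A)`

If `F, F' : D^b(A) ⥤ D` are triangulated, `F ∘ i ≅ F' ∘ i` (with `i : A ⥤ D^b(A)`) and `F` is
fully faithful, then `F'` is fully faithful.
-/

universe w v u v' u'

open CategoryTheory Limits Pretriangulated Triangulated DerivedCategory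

set_option linter.unusedSectionVars false

namespace Groth.Agent.H34.Sibling

open Groth.Agent.H34.BijHom Groth.Agent.H34

variable {A : Type u} [Category.{v} A] [Abelian A] [HasDerivedCategory.{w} A]

instance : (DEquiv.singleB A).Full := by unfold DEquiv.singleB; infer_instance
instance : (DEquiv.singleB A).Faithful := by unfold DEquiv.singleB; infer_instance

lemma isLE_shift_singleB (N : A) (q m : ℤ) (h : q + m = 0) :
    ((((DEquiv.singleB A).obj N)⟦q⟧).obj).IsLE m :=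
  TStructure.t.isLE_of_iso (BoundedGen.singleBShiftIso N q m h).symm m

lemma isGE_shift_singleB (N : A) (q m : ℤ) (h : q + m = 0) :
    ((((DEquiv.singleB A).obj N)⟦q⟧).obj).IsGE m :=
  TStructure.t.isGE_of_iso (BoundedGen.singleBShiftIso N q m h).symm m

lemma hom_eq_zero_of_neg (M N : A) (q : ℤ) (hq : q < 0)
    (f : (DEquiv.singleB A).obj M ⟶ ((DEquiv.singleB A).obj N)⟦q⟧) : f = 0 := by
  apply (DerivedCategory.Bounded.ι (C := A)).map_injective
  rw [Functor.map_zero]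
  have h1 := isGE_shift_singleB N q (-q) (by omega)
  have h2 : ((DerivedCategory.Bounded.ι (C := A)).obj ((DEquiv.singleB A).obj M)).IsLE 0 :=
    inferInstanceAs (((singleFunctor A 0).obj M).IsLE 0)
  exact TStructure.t.zero_of_isLE_of_isGE _ 0 (-q) (by omega) h2 h1

lemma efface_bounded (M N : A) (q : ℤ) (hq : 0 < q)
    (ξ : (DEquiv.singleB A).obj M ⟶ ((DEquiv.singleB A).obj N)⟦q⟧) :
    ∃ (P : A) (p : P ⟶ M), Epi p ∧ (DEquiv.singleB A).map p ≫ ξ = 0 := by
  have := isLE_shift_singleB N q (-q) (by omega)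
  obtain ⟨P, p, hp, h⟩ := Efface.efface M 0 (-q) (by omega) _ ξ.hom
  refine ⟨P, p, hp, ?_⟩
  apply (DerivedCategory.Bounded.ι (C := A)).map_injective
  rw [Functor.map_zero, Functor.map_comp]
  exact h

lemma exists_triangle_of_epi {P M : A} (p : P ⟶ M) [Epi p] :
    ∃ (M' : A) (j : M' ⟶ P)
      (δ : (DEquiv.singleB A).obj M ⟶ ((DEquiv.singleB A).obj M')⟦(1 : ℤ)⟧),
      Triangle.mk ((DEquiv.singleB A).map j) ((DEquiv.singleB A).map p) δ ∈
        distTriang (DerivedCategory.Bounded A) := by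
  let S := ShortComplex.mk (kernel.ι p) p (kernel.condition p)
  have hS : S.ShortExact :=
    { exact := ShortComplex.exact_of_f_is_kernel _ (kernelIsKernel p)
      mono_f := inferInstanceAs (Mono (kernel.ι p))
      epi_g := inferInstanceAs (Epi p) }
  obtain ⟨h, hh⟩ := BoundedGen.lift_distinguished _ ((DEquiv.singleB A).map S.f)
    ((DEquiv.singleB A).map S.g) hS.singleδ hS.singleTriangle_distinguished
  exact ⟨kernel p, kernel.ι p, h, hh⟩

variable {D : Type u'} [Category.{v'} D] [Preadditive D] [HasZeroObject D] [HasShift D ℤ]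
  [∀ n : ℤ, (shiftFunctor D n).Additive] [Pretriangulated D]
  (F F' : DerivedCategory.Bounded A ⥤ D) [F.CommShift ℤ] [F.IsTriangulated]
  [F'.CommShift ℤ] [F'.IsTriangulated]
  (a : DEquiv.singleB A ⋙ F ≅ DEquiv.singleB A ⋙ F')

/-- The isomorphism `F' (N[q]) ≅ F (N[q])` induced by `a`. -/
noncomputable def eIso (N : A) (q : ℤ) :
    F'.obj (((DEquiv.singleB A).obj N)⟦q⟧) ≅ F.obj (((DEquiv.singleB A).obj N)⟦q⟧) :=
  (F'.commShiftIso q).app ((DEquiv.singleB A).obj N) ≪≫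
    (shiftFunctor D q).mapIso (a.app N).symm ≪≫
      ((F.commShiftIso q).app ((DEquiv.singleB A).obj N)).symm

lemma map_eq (a : DEquiv.singleB A ⋙ F ≅ DEquiv.singleB A ⋙ F') {M N : A} (f : M ⟶ N) :
    F'.map ((DEquiv.singleB A).map f) =
      a.inv.app M ≫ F.map ((DEquiv.singleB A).map f) ≫ a.hom.app N := by
  have := a.hom.naturality f
  dsimp at this
  rw [this, Iso.inv_hom_id_app_assoc]

variable [F.Full] [F.Faithful]

include a in
lemma bij_neg (M N : A) (q : ℤ) (hq : q < 0) :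
    Bij F' ((DEquiv.singleB A).obj M) (((DEquiv.singleB A).obj N)⟦q⟧) := by
  refine ⟨fun f _ => hom_eq_zero_of_neg M N q hq f, fun θ => ⟨0, ?_⟩⟩
  obtain ⟨ξ0, h⟩ := F.map_surjective ((a.app M).hom ≫ θ ≫ (eIso F F' a N q).hom)
  rw [hom_eq_zero_of_neg M N q hq ξ0, F.map_zero] at h
  rw [F'.map_zero]
  have h2 : θ = (a.app M).inv ≫ ((a.app M).hom ≫ θ ≫ (eIso F F' a N q).hom) ≫
      (eIso F F' a N q).inv := by simp
  rw [h2, ← h, zero_comp, comp_zero]

include a in
lemma bij_zero' (M N : A) :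
    Bij F' ((DEquiv.singleB A).obj M) ((DEquiv.singleB A).obj N) := by
  constructor
  · intro f hf
    obtain ⟨f0, rfl⟩ := (DEquiv.singleB A).map_surjective f
    rw [map_eq F F' a] at hf
    have h1 : F.map ((DEquiv.singleB A).map f0) = 0 := by
      have := congrArg (fun x => a.hom.app M ≫ x ≫ a.inv.app N) hf
      simpa using this
    apply F.map_injective
    rw [h1, F.map_zero]
  · intro θ
    obtain ⟨ξ, hξ⟩ := F.map_surjective (a.hom.app M ≫ θ ≫ a.inv.app N)
    obtain ⟨ξ0, rfl⟩ := (DEquiv.singleB A).map_surjective ξ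
    refine ⟨(DEquiv.singleB A).map ξ0, ?_⟩
    rw [map_eq F F' a, hξ]
    simp

include a in
lemma bij_zero (M N : A) :
    Bij F' ((DEquiv.singleB A).obj M) (((DEquiv.singleB A).obj N)⟦(0 : ℤ)⟧) :=
  (bij_zero' F F' a M N).of_iso (Iso.refl _)
    ((shiftFunctorZero _ ℤ).app ((DEquiv.singleB A).obj N)).symm

include a in
lemma bij_succ (q : ℤ) (hq : 0 ≤ q)
    (ih : ∀ M N : A, Bij F' ((DEquiv.singleB A).obj M) (((DEquiv.singleB A).obj N)⟦q⟧))
    (M N : A) :
    Bij F' ((DEquiv.singleB A).obj M) (((DEquiv.singleB A).obj N)⟦q + 1⟧) := by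
  have ih' : ∀ M'' : A, Bij F' (((DEquiv.singleB A).obj M'')⟦(1 : ℤ)⟧)
      (((DEquiv.singleB A).obj N)⟦q + 1⟧) := fun M'' =>
    ((ih M'' N).shift 1).of_iso (Iso.refl _)
      ((shiftFunctorAdd' _ q 1 (q + 1) rfl).app ((DEquiv.singleB A).obj N)).symm
  constructor
  · intro ξ hξ
    obtain ⟨P, p, hp, h⟩ := efface_bounded M N (q + 1) (by omega) ξ
    obtain ⟨M', j, δ, hT⟩ := exists_triangle_of_epi p
    obtain ⟨(ξ' : ((DEquiv.singleB A).obj M')⟦(1 : ℤ)⟧ ⟶ _), hξ'⟩ :=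
      Triangle.yoneda_exact₃ _ hT ξ h
    have hξ'' : ξ = δ ≫ ξ' := hξ'
    have hz : F'.map δ ≫ F'.map ξ' = 0 := by rw [← F'.map_comp, ← hξ'', hξ]
    obtain ⟨ζ, hζ⟩ := exact_yo_rot2_G F' _ hT (F'.map ξ') hz
    obtain ⟨ζ0, rfl⟩ := (ih' P).2 ζ
    have hζ' : F'.map ξ' = F'.map (((DEquiv.singleB A).map j)⟦(1 : ℤ)⟧') ≫ F'.map ζ0 := hζ
    have h4 : ξ' - ((DEquiv.singleB A).map j)⟦(1 : ℤ)⟧' ≫ ζ0 = 0 := by
      apply (ih' M').1
      rw [F'.map_sub, F'.map_comp, hζ']
      exact sub_self _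
    have h5 : ξ' = ((DEquiv.singleB A).map j)⟦(1 : ℤ)⟧' ≫ ζ0 := sub_eq_zero.1 h4
    have h6 : δ ≫ ((DEquiv.singleB A).map j)⟦(1 : ℤ)⟧' = 0 := comp_distTriang_mor_zero₃₁ _ hT
    rw [hξ'', h5, ← Category.assoc, h6, zero_comp]
  · intro θ
    obtain ⟨ξ0, hξ0⟩ := F.map_surjective ((a.app M).hom ≫ θ ≫ (eIso F F' a N (q + 1)).hom)
    obtain ⟨P, p, hp, h⟩ := efface_bounded M N (q + 1) (by omega) ξ0
    obtain ⟨M', j, δ, hT⟩ := exists_triangle_of_epi p
    have hz : F'.map ((DEquiv.singleB A).map p) ≫ θ = 0 := by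
      have h1 : a.hom.app M ≫ θ = F.map ξ0 ≫ (eIso F F' a N (q + 1)).inv := by
        rw [hξ0]
        simp
      rw [map_eq F F' a, Category.assoc, Category.assoc, h1, ← F.map_comp_assoc, h, F.map_zero,
        zero_comp, comp_zero]
    obtain ⟨θ', hθ'⟩ := exact_yo_rot_G F' _ hT θ hz
    obtain ⟨ξ', rfl⟩ := (ih' M').2 θ'
    exact ⟨δ ≫ ξ', by rw [F'.map_comp]; exact hθ'.symm⟩

include a in
lemma bij_all (q : ℤ) (M N : A) :
    Bij F' ((DEquiv.singleB A).obj M) (((DEquiv.singleB A).obj N)⟦q⟧) := by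
  by_cases hq : q < 0
  · exact bij_neg F F' a M N q hq
  · obtain ⟨n, rfl⟩ := Int.eq_ofNat_of_zero_le (show 0 ≤ q by omega)
    clear hq
    revert M N
    induction n with
    | zero => exact fun M N => bij_zero F F' a M N
    | succ n ih => exact fun M N => bij_succ F F' a n (by omega) ih M N

include a in
/-- The sibling of a fully faithful functor is fully faithful (only the first sibling
condition is needed). -/
theorem full_faithful : F'.Full ∧ F'.Faithful := by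
  apply full_faithful_of_bij
  apply bij_of_generators F'
    (fun X => ∃ (M : A) (n : ℤ), Nonempty (X ≅ ((DEquiv.singleB A).obj M)⟦n⟧))
  · rintro X ⟨M, n, ⟨e⟩⟩ m
    exact ⟨M, n + m, ⟨(shiftFunctor _ m).mapIso e ≪≫
      ((shiftFunctorAdd' _ n m (n + m) rfl).app ((DEquiv.singleB A).obj M)).symm⟩⟩
  · intro Q hiso hS hext
    exact BoundedGen.bounded_generated Q hiso (fun M n => hS _ ⟨M, n, ⟨Iso.refl _⟩⟩) hext
  · rintro X Y ⟨M, n, ⟨eX⟩⟩ ⟨N, m, ⟨eY⟩⟩
    refine Bij.of_iso eX.symm eY.symm ?_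
    exact ((bij_all F F' a (m - n) M N).shift n).of_iso (Iso.refl _)
      ((shiftFunctorAdd' _ (m - n) n m (by omega)).app ((DEquiv.singleB A).obj N)).symm

end Groth.Agent.H34.Sibling
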