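import Mathlib.AlgebraicTopology.AlternatingFaceMapComplex
import Mathlib.AlgebraicTopology.DoldKan.Projections
import Mathlib.AlgebraicTopology.DoldKan.PInfty
import Mathlib.Algebra.Homology.QuasiIso
import Mathlib.Algebra.Homology.HomologySequenceLemmas
import Mathlib.Algebra.Homology.HomologicalComplexAbelian
import Mathlib.Algebra.Homology.ShortComplex.Ab
import Mathlib.Algebra.Category.Grp.Abelian
import Mathlib.Algebra.Category.Grp.EpiMono

/-!
# The kernel of a surjective quasi-isomorphism of simplicial abelian groups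

For a levelwise surjective morphism `f : X ⟶ Y` of simplicial abelian groups inducing a
quasi-isomorphism on alternating face map complexes, elements of `Ker f` all of whose faces
vanish are `d₀` of elements of `Ker f` whose higher faces vanish.
-/

set_option autoImplicit false
universe u

open CategoryTheory CategoryTheory.Limits Simplicial Opposite AlgebraicTopology

namespace Groth.Agent.H34

variable {X Y : SimplicialObject AddCommGrpCat.{u}} (f : X ⟶ Y)

/-- The levelwise kernel of a morphism of simplicial abelian groups. -/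
noncomputable def kerS : SimplicialObject AddCommGrpCat.{u} where
  obj n := AddCommGrpCat.of (f.app n).hom.ker
  map {n m} θ := AddCommGrpCat.ofHom
    (((X.map θ).hom.comp (f.app n).hom.ker.subtype).codRestrict (f.app m).hom.ker (by
      rintro ⟨x, hx⟩
      rw [AddMonoidHom.mem_ker] at hx ⊢
      change (f.app m) ((X.map θ) x) = 0
      rw [NatTrans.naturality_apply]
      change (Y.map θ) ((f.app n).hom x) = 0
      rw [hx, map_zero]))
  map_id n := by
    ext ⟨x, hx⟩
    change (X.map (𝟙 n)) x = x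
    simp
  map_comp θ θ' := by
    ext ⟨x, hx⟩
    change (X.map (θ ≫ θ')) x = (X.map θ') ((X.map θ) x)
    simp

/-- The inclusion of the levelwise kernel. -/
noncomputable def kerι : kerS f ⟶ X where
  app n := AddCommGrpCat.ofHom (f.app n).hom.ker.subtype
  naturality _ _ _ := rfl

lemma kerι_app_apply (n : SimplexCategoryᵒᵖ) (x : (kerS f).obj n) :
    (kerι f).app n x = x.1 := rfl

lemma f_kerι_apply (n : SimplexCategoryᵒᵖ) (x : (kerS f).obj n) :
    f.app n ((kerι f).app n x) = 0 := x.2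

lemma kerι_injective (n : SimplexCategoryᵒᵖ) : Function.Injective ((kerι f).app n) :=
  Subtype.val_injective

lemma exists_kerι_eq (n : SimplexCategoryᵒᵖ) (x : X.obj n) (hx : f.app n x = 0) :
    ∃ k : (kerS f).obj n, (kerι f).app n k = x := ⟨⟨x, hx⟩, rfl⟩

section ObjD

variable (K : SimplicialObject AddCommGrpCat.{u})

lemma objD_apply (m : ℕ) (u : K _⦋m + 1⦌) :
    (AlternatingFaceMapComplex.objD K m) u =
      ∑ i : Fin (m + 2), (-1 : ℤ) ^ (i : ℕ) • (K.δ i u) := by
  have h1 : (AlternatingFaceMapComplex.objD K m).hom =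
      ∑ i : Fin (m + 2), ((-1 : ℤ) ^ (i : ℕ) • K.δ i).hom :=
    map_sum (AddCommGrpCat.homAddEquiv (M := K _⦋m + 1⦌) (N := K _⦋m⦌)) _ _
  change (AlternatingFaceMapComplex.objD K m).hom u = _
  rw [h1, AddMonoidHom.finsetSum_apply]
  rfl

/-- If the higher faces of `u` vanish, the alternating face map differential is `d₀`. -/
lemma objD_apply_of_higher_faces_vanish (m : ℕ) (u : K _⦋m + 1⦌)
    (hu : ∀ j : Fin (m + 1), K.δ j.succ u = 0) :
    (AlternatingFaceMapComplex.objD K m) u = K.δ 0 u := by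
  rw [objD_apply, Fin.sum_univ_succ]
  simp [hu]

/-- If all faces of `w` vanish, it is a cycle. -/
lemma objD_apply_of_faces_vanish (m : ℕ) (w : K _⦋m + 1⦌)
    (hw : ∀ j : Fin (m + 2), K.δ j w = 0) :
    (AlternatingFaceMapComplex.objD K m) w = 0 := by
  rw [objD_apply]
  simp [hw]

/-- `P∞` fixes elements whose higher faces vanish. -/
lemma PInfty_apply_of_higher_faces_vanish (m : ℕ) (w : K _⦋m + 1⦌)
    (hw : ∀ j : Fin (m + 1), K.δ j.succ w = 0) :
    (DoldKan.PInfty.f (m + 1) : K _⦋m + 1⦌ ⟶ K _⦋m + 1⦌) w = w := by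
  let T : AddSubgroup (K _⦋m + 1⦌) := ⨅ j : Fin (m + 1), (K.δ j.succ).hom.ker
  let φ : AddCommGrpCat.of T ⟶ K _⦋m + 1⦌ := AddCommGrpCat.ofHom T.subtype
  have hφ : DoldKan.HigherFacesVanish (m + 1) φ := by
    intro j _
    ext ⟨t, ht⟩
    have := (AddSubgroup.mem_iInf.mp ht) j
    exact this
  have h1 := hφ.comp_P_eq_self
  have hwT : w ∈ T := AddSubgroup.mem_iInf.mpr fun j => hw j
  exact congr($h1 ⟨w, hwT⟩)

/-- The higher faces of `P∞ v` vanish. -/
lemma δ_succ_PInfty_apply (m : ℕ) (v : K _⦋m + 1⦌) (j : Fin (m + 1)) :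
    K.δ j.succ ((DoldKan.PInfty.f (m + 1) : K _⦋m + 1⦌ ⟶ K _⦋m + 1⦌) v) = 0 := by
  have h := DoldKan.HigherFacesVanish.of_P (X := K) (m + 1) m j (by omega)
  exact congr($h v)

end ObjD

section Acyclic

variable {X Y : SimplicialObject AddCommGrpCat.{u}} (f : X ⟶ Y)

/-- The short complex `C(Ker f) ⟶ C(X) ⟶ C(Y)` of alternating face map complexes. -/
noncomputable def kerShortComplex : ShortComplex (ChainComplex AddCommGrpCat.{u} ℕ) :=
  ShortComplex.mk ((alternatingFaceMapComplex AddCommGrpCat.{u}).map (kerι f))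
    ((alternatingFaceMapComplex AddCommGrpCat.{u}).map f) (by
      ext n x
      exact f_kerι_apply f _ x)

variable (hf : ∀ n : SimplexCategoryᵒᵖ, Function.Surjective (f.app n))

include hf in
lemma kerShortComplex_shortExact : (kerShortComplex f).ShortExact := by
  apply HomologicalComplex.shortExact_of_degreewise_shortExact
  intro n
  refine ShortComplex.ShortExact.mk' ?_ ?_ ?_
  · rw [ShortComplex.ab_exact_iff]
    intro x hx
    exact exists_kerι_eq f _ x hx
  · exact (AddCommGrpCat.mono_iff_injective _).mpr (kerι_injective f _)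
  · exact (AddCommGrpCat.epi_iff_surjective _).mpr (hf _)

variable (hq : QuasiIso ((alternatingFaceMapComplex AddCommGrpCat.{u}).map f))

include hf hq in
lemma acyclic_kerS : ((alternatingFaceMapComplex AddCommGrpCat.{u}).obj (kerS f)).Acyclic :=
  (kerShortComplex_shortExact f hf).acyclic_X₁ hq

include hf hq in
/-- Cycles of `C(Ker f)` are boundaries, elementwise. -/
lemma exists_objD_eq (m : ℕ) (w : (kerS f) _⦋m⦌)
    (hw : ∀ k : ℕ, (((alternatingFaceMapComplex AddCommGrpCat.{u}).obj (kerS f)).d m k) w = 0) :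
    ∃ v : (kerS f) _⦋m + 1⦌, (AlternatingFaceMapComplex.objD (kerS f) m) v = w := by
  have hex := acyclic_kerS f hf hq m
  rw [HomologicalComplex.exactAt_iff' _ (m + 1) m ((ComplexShape.down ℕ).next m) (by simp) rfl,
    ShortComplex.ab_exact_iff] at hex
  obtain ⟨v, hv⟩ := hex w (hw _)
  refine ⟨v, ?_⟩
  have hd : ((alternatingFaceMapComplex AddCommGrpCat.{u}).obj (kerS f)).d (m + 1) m =
      AlternatingFaceMapComplex.objD (kerS f) m :=
    AlternatingFaceMapComplex.obj_d_eq (kerS f) m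
  rw [← hd]
  exact hv

include hf hq in
/-- The main consequence: a cycle `w` of `C(Ker f)` fixed by `P∞` is `d₀ u` with the higher faces of
`u` vanishing. -/
lemma exists_moore_boundary_aux (m : ℕ) (w : (kerS f) _⦋m⦌)
    (hw : ∀ k : ℕ, (((alternatingFaceMapComplex AddCommGrpCat.{u}).obj (kerS f)).d m k) w = 0)
    (hP : ((DoldKan.PInfty (X := kerS f)).f m : (kerS f) _⦋m⦌ ⟶ (kerS f) _⦋m⦌) w = w) :
    ∃ u : (kerS f) _⦋m + 1⦌, (kerS f).δ 0 u = w ∧
      ∀ j : Fin (m + 1), (kerS f).δ j.succ u = 0 := by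
  obtain ⟨v, hv⟩ := exists_objD_eq f hf hq m w hw
  refine ⟨((DoldKan.PInfty (X := kerS f)).f (m + 1) : (kerS f) _⦋m + 1⦌ ⟶ (kerS f) _⦋m + 1⦌) v, ?_,
    δ_succ_PInfty_apply (kerS f) m v⟩
  rw [← objD_apply_of_higher_faces_vanish (kerS f) m _ (δ_succ_PInfty_apply (kerS f) m v)]
  have hcomm := (DoldKan.PInfty (X := kerS f)).comm (m + 1) m
  rw [AlternatingFaceMapComplex.obj_d_eq] at hcomm
  have h1 := congr($hcomm v)
  rw [ConcreteCategory.comp_apply, ConcreteCategory.comp_apply] at h1
  have h2 : (AlternatingFaceMapComplex.objD (kerS f) m)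
      (((DoldKan.PInfty (X := kerS f)).f (m + 1) : (kerS f) _⦋m + 1⦌ ⟶ (kerS f) _⦋m + 1⦌) v) =
      ((DoldKan.PInfty (X := kerS f)).f m : (kerS f) _⦋m⦌ ⟶ (kerS f) _⦋m⦌)
        ((AlternatingFaceMapComplex.objD (kerS f) m) v) := h1
  rw [hv, hP] at h2
  exact h2

lemma kerS_δ_val {m : ℕ} (j : Fin (m + 2)) (k : (kerS f) _⦋m + 1⦌) :
    ((kerS f).δ j k).1 = X.δ j k.1 := rfl

include hf hq in
/-- Degree `0`: every element of `Ker f₀` is `d₀ u` with `u ∈ Ker f₁` and `d₁ u = 0`. -/
theorem exists_moore_boundary_zero (w : X _⦋0⦌) (hfw : f.app _ w = 0) :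
    ∃ u : X _⦋1⦌, f.app _ u = 0 ∧ X.δ 0 u = w ∧ X.δ 1 u = 0 := by
  obtain ⟨u, hu0, hu1⟩ := exists_moore_boundary_aux f hf hq 0 ⟨w, hfw⟩
    (fun k => by
      rw [HomologicalComplex.shape _ _ _ (by simp)]
      rfl)
    rfl
  refine ⟨u.1, u.2, ?_, ?_⟩
  · rw [← kerS_δ_val, hu0]
  · have := hu1 0
    rw [← Fin.succ_zero_eq_one, ← kerS_δ_val, this]
    rfl

include hf hq in
/-- Positive degrees: an element of `Ker f` all of whose faces vanish is `d₀ u` with `u ∈ Ker f`
and all higher faces of `u` vanishing. -/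
theorem exists_moore_boundary_succ (m : ℕ) (w : X _⦋m + 1⦌) (hfw : f.app _ w = 0)
    (hw : ∀ j : Fin (m + 2), X.δ j w = 0) :
    ∃ u : X _⦋m + 2⦌, f.app _ u = 0 ∧ X.δ 0 u = w ∧ ∀ j : Fin (m + 2), X.δ j.succ u = 0 := by
  have hwK : ∀ j : Fin (m + 2), (kerS f).δ j (⟨w, hfw⟩ : (kerS f) _⦋m + 1⦌) = 0 := by
    intro j
    apply Subtype.ext
    rw [kerS_δ_val]
    exact hw j
  obtain ⟨u, hu0, hu1⟩ := exists_moore_boundary_aux f hf hq (m + 1) ⟨w, hfw⟩
    (fun k => by
      by_cases hk : (ComplexShape.down ℕ).Rel (m + 1) k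
      · have hkm : m = k := by
          have : k = m := by simpa using hk
          exact this.symm
        subst hkm
        have hd : ((alternatingFaceMapComplex AddCommGrpCat.{u}).obj (kerS f)).d (m + 1) m =
            AlternatingFaceMapComplex.objD (kerS f) m :=
          AlternatingFaceMapComplex.obj_d_eq (kerS f) m
        rw [hd]
        exact objD_apply_of_faces_vanish (kerS f) m _ hwK
      · rw [HomologicalComplex.shape _ _ _ hk]
        rfl)
    (PInfty_apply_of_higher_faces_vanish (kerS f) m _ (fun j => hwK j.succ))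
  refine ⟨u.1, u.2, ?_, fun j => ?_⟩
  · rw [← kerS_δ_val, hu0]
  · rw [← kerS_δ_val, hu1 j]
    rfl

end Acyclic

end Groth.Agent.H34
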