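import Mathlib.Algebra.BigOperators.Fin
import Mathlib.Algebra.Module.Basic
import Mathlib.Algebra.Group.Action.Basic
import Mathlib.Tactic

/-!
# A telescoping double sum

The combinatorial heart of "a simplicial homotopy gives a chain homotopy", at the level of a
single double-indexed family of elements of an abelian group.
-/

set_option autoImplicit false

namespace Groth.Agent.H34

open Finset

lemma telescope {A : Type*} [AddCommGroup A] (m : ℕ) (D : Fin (m + 1) → Fin (m + 2) → A)
    (hv : ∀ (I : Fin (m + 1)) (J : Fin (m + 2)),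
      ((J : ℕ) < (I : ℕ) ∨ (I : ℕ) + 1 < (J : ℕ)) → D I J = 0)
    (he : ∀ j : Fin m, D j.succ j.castSucc.succ = D j.castSucc j.castSucc.succ) :
    ∑ J : Fin (m + 2), (-1 : ℤ) ^ (J : ℕ) • ∑ I : Fin (m + 1), (-1 : ℤ) ^ (I : ℕ) • D I J
      = D 0 0 - D (Fin.last m) (Fin.last (m + 1)) := by
  simp_rw [Finset.smul_sum]
  rw [Finset.sum_comm]
  let T : Fin (m + 2) → A := Fin.cases (D 0 0) (fun i => D i i.succ)
  have hrow : ∀ I : Fin (m + 1),
      ∑ J : Fin (m + 2), (-1 : ℤ) ^ (J : ℕ) • (-1 : ℤ) ^ (I : ℕ) • D I J =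
        T I.castSucc - T I.succ := by
    intro I
    rw [Fintype.sum_eq_add I.castSucc I.succ (Fin.castSucc_lt_succ.ne)]
    · have h1 : D I I.castSucc = T I.castSucc := by
        cases I using Fin.cases with
        | zero => rfl
        | succ j =>
          change D j.succ j.succ.castSucc = T j.succ.castSucc
          rw [← Fin.succ_castSucc]
          simp only [T, Fin.cases_succ]
          exact he j
      have h2 : D I I.succ = T I.succ := by simp [T]
      rw [h1, h2, smul_smul, smul_smul, Fin.val_castSucc, Fin.val_succ, ← pow_add, ← pow_add]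
      have e1 : (-1 : ℤ) ^ ((I : ℕ) + (I : ℕ)) = 1 := by
        rw [← two_mul, pow_mul]; simp
      have e2 : (-1 : ℤ) ^ ((I : ℕ) + 1 + (I : ℕ)) = -1 := by
        rw [show (I : ℕ) + 1 + (I : ℕ) = 2 * (I : ℕ) + 1 by ring, pow_succ, pow_mul]; simp
      rw [e1, e2, one_smul, neg_one_smul, sub_eq_add_neg]
    · intro J hJ
      rw [hv I J, smul_zero, smul_zero]
      have h1 : (J : ℕ) ≠ (I : ℕ) := fun h => hJ.1 (Fin.ext (by simpa using h))
      have h2 : (J : ℕ) ≠ (I : ℕ) + 1 := fun h => hJ.2 (Fin.ext (by simpa using h))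
      omega
  rw [Finset.sum_congr rfl (fun I _ => hrow I), Finset.sum_sub_distrib]
  have s1 := Fin.sum_univ_castSucc T
  have s2 := Fin.sum_univ_succ T
  have t0 : T 0 = D 0 0 := rfl
  have tl : T (Fin.last (m + 1)) = D (Fin.last m) (Fin.last (m + 1)) := by
    have hl : Fin.last (m + 1) = (Fin.last m).succ := (Fin.succ_last m).symm
    rw [hl]
    simp only [T, Fin.cases_succ]
  rw [← t0, ← tl]
  rw [eq_sub_of_add_eq s1.symm, eq_sub_of_add_eq' s2.symm]
  abel

end Groth.Agent.H34
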