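import Mathlib.AlgebraicTopology.SimplicialSet.Homotopy
import Mathlib.AlgebraicTopology.DoldKan.HomotopyEquivalence
import Groth.Agent.H34.SimplicialAbKernel
import Groth.Agent.H34.AbComplexElem
import Groth.Agent.H34.Telescope

/-!
# Simplicial-set homotopies between simplicial abelian groups

Maps of the underlying simplicial sets of simplicial abelian groups need not be additive, but a
(combinatorial) homotopy between two such maps still shows that the two maps, corrected so as to
preserve `0`, agree up to a boundary on elements all of whose faces vanish.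
-/

set_option autoImplicit false
universe u

open CategoryTheory CategoryTheory.Limits Simplicial Opposite AlgebraicTopology

namespace Groth.Agent.H34

/-- The underlying simplicial set of a simplicial abelian group. -/
abbrev US (X : SimplicialObject AddCommGrpCat.{u}) : SSet.{u} := X ⋙ forget AddCommGrpCat.{u}

variable {W X : SimplicialObject AddCommGrpCat.{u}}

/-- Applying a map of underlying simplicial sets to an element. -/
def ap (a : US W ⟶ US X) {m : ℕ} (x : W _⦋m⦌) : X _⦋m⦌ := a.app (op ⦋m⦌) x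

lemma δ_ap (a : US W ⟶ US X) {m : ℕ} (j : Fin (m + 2)) (x : W _⦋m + 1⦌) :
    X.δ j (ap a x) = ap a (W.δ j x) :=
  (ConcreteCategory.congr_hom (a.naturality (SimplexCategory.δ j).op) x).symm

/-- All faces of an element vanish (no condition in degree `0`). -/
def FacesVanish (X : SimplicialObject AddCommGrpCat.{u}) : (n : ℕ) → X _⦋n⦌ → Prop
  | 0, _ => True
  | (m + 1), x => ∀ j : Fin (m + 2), X.δ j x = 0

lemma facesVanish_zero (x : X _⦋0⦌) : FacesVanish X 0 x := trivial

lemma facesVanish_succ_iff {m : ℕ} (x : X _⦋m + 1⦌) :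
    FacesVanish X (m + 1) x ↔ ∀ j : Fin (m + 2), X.δ j x = 0 := Iff.rfl

/-- A map of simplicial sets, corrected to preserve zero, preserves the vanishing of faces. -/
lemma FacesVanish.ap_sub (a : US W ⟶ US X) {n : ℕ} {x : W _⦋n⦌} (hx : FacesVanish W n x) :
    FacesVanish X n (ap a x - ap a 0) := by
  cases n with
  | zero => trivial
  | succ m =>
    intro j
    rw [map_sub, δ_ap, δ_ap, hx j, map_zero, sub_self]

section Homotopy

variable {a b : US W ⟶ US X} (H : SimplicialObject.Homotopy a b)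

/-- The components of a combinatorial homotopy, applied to elements. -/
def hh {m : ℕ} (i : Fin (m + 1)) (x : W _⦋m⦌) : X _⦋m + 1⦌ := H.h i x

lemma δ_zero_hh {m : ℕ} (x : W _⦋m⦌) : X.δ 0 (hh H 0 x) = ap b x :=
  ConcreteCategory.congr_hom (H.h_zero_comp_δ_zero m) x

lemma δ_last_hh {m : ℕ} (x : W _⦋m⦌) :
    X.δ (Fin.last (m + 1)) (hh H (Fin.last m) x) = ap a x :=
  ConcreteCategory.congr_hom (H.h_last_comp_δ_last m) x

lemma δ_castSucc_hh_succ {m : ℕ} (i : Fin (m + 2)) (j : Fin (m + 1)) (hij : i ≤ j.castSucc)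
    (x : W _⦋m + 1⦌) : X.δ i.castSucc (hh H j.succ x) = hh H j (W.δ i x) :=
  ConcreteCategory.congr_hom (H.h_succ_comp_δ_castSucc_of_lt i j hij) x

lemma δ_hh_succ_eq {m : ℕ} (j : Fin (m + 1)) (x : W _⦋m + 1⦌) :
    X.δ j.castSucc.succ (hh H j.succ x) = X.δ j.castSucc.succ (hh H j.castSucc x) :=
  ConcreteCategory.congr_hom (H.h_succ_comp_δ_castSucc_succ j) x

lemma δ_succ_hh_castSucc {m : ℕ} (i : Fin (m + 2)) (j : Fin (m + 1)) (hji : j.castSucc < i)
    (x : W _⦋m + 1⦌) : X.δ i.succ (hh H j.castSucc x) = hh H j (W.δ i x) :=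
  ConcreteCategory.congr_hom (H.h_castSucc_comp_δ_succ_of_lt i j hji) x

/-- The double-indexed family to which the telescoping lemma is applied. -/
def DD {m : ℕ} (w : W _⦋m⦌) (I : Fin (m + 1)) (J : Fin (m + 2)) : X _⦋m⦌ :=
  X.δ J (hh H I w) - X.δ J (hh H I 0)

lemma DD_vanish {m : ℕ} (w : W _⦋m⦌) (hw : FacesVanish W m w) (I : Fin (m + 1))
    (J : Fin (m + 2)) (hIJ : (J : ℕ) < (I : ℕ) ∨ (I : ℕ) + 1 < (J : ℕ)) : DD H w I J = 0 := by
  cases m with
  | zero =>
    have := I.isLt
    have := J.isLt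
    omega
  | succ n =>
    rcases hIJ with hlt | hgt
    · -- `J < I`
      have hI : I ≠ 0 := by
        intro h
        rw [h] at hlt
        simp at hlt
      obtain ⟨j, rfl⟩ := Fin.exists_succ_eq.mpr hI
      have hJ : J ≠ Fin.last (n + 2) := by
        intro h
        rw [h] at hlt
        have := j.isLt
        simp at hlt
        omega
      obtain ⟨i, rfl⟩ := Fin.exists_castSucc_eq.mpr hJ
      have hij : i ≤ j.castSucc := by
        rw [Fin.le_def]
        simp at hlt ⊢
        omega
      unfold DD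
      rw [δ_castSucc_hh_succ H i j hij, δ_castSucc_hh_succ H i j hij, hw i, map_zero, sub_self]
    · -- `I + 1 < J`
      have hJ : J ≠ 0 := by
        intro h
        rw [h] at hgt
        simp at hgt
      obtain ⟨i, rfl⟩ := Fin.exists_succ_eq.mpr hJ
      have hI : I ≠ Fin.last (n + 1) := by
        intro h
        rw [h] at hgt
        have := i.isLt
        simp at hgt
        omega
      obtain ⟨j, rfl⟩ := Fin.exists_castSucc_eq.mpr hI
      have hji : j.castSucc < i := by
        rw [Fin.lt_def]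
        simp at hgt ⊢
        omega
      unfold DD
      rw [δ_succ_hh_castSucc H i j hji, δ_succ_hh_castSucc H i j hji, hw i, map_zero, sub_self]

lemma DD_eq {m : ℕ} (w : W _⦋m⦌) (j : Fin m) :
    DD H w j.succ j.castSucc.succ = DD H w j.castSucc j.castSucc.succ := by
  cases m with
  | zero => exact j.elim0
  | succ n =>
    unfold DD
    rw [δ_hh_succ_eq H j w, δ_hh_succ_eq H j 0]

include H in
/-- **Homotopy formula on elements with vanishing faces.** -/
theorem exists_objD_eq_of_homotopy {m : ℕ} (w : W _⦋m⦌) (hw : FacesVanish W m w) :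
    ∃ c : X _⦋m + 1⦌, (AlternatingFaceMapComplex.objD X m) c =
      (ap b w - ap b 0) - (ap a w - ap a 0) := by
  refine ⟨∑ I : Fin (m + 1), (-1 : ℤ) ^ (I : ℕ) • (hh H I w - hh H I 0), ?_⟩
  rw [objD_apply]
  have h1 : ∀ J : Fin (m + 2),
      X.δ J (∑ I : Fin (m + 1), (-1 : ℤ) ^ (I : ℕ) • (hh H I w - hh H I 0)) =
        ∑ I : Fin (m + 1), (-1 : ℤ) ^ (I : ℕ) • DD H w I J := by
    intro J
    rw [map_sum]
    refine Finset.sum_congr rfl (fun I _ => ?_)
    rw [map_zsmul, map_sub]
    rfl
  rw [Finset.sum_congr rfl (fun J _ => by rw [h1 J])]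
  rw [telescope m (DD H w) (DD_vanish H w hw) (DD_eq H w)]
  unfold DD
  rw [δ_zero_hh, δ_zero_hh, δ_last_hh, δ_last_hh]

end Homotopy

section Homology

variable (X)

/-- The alternating face map complex. -/
abbrev KK : ChainComplex AddCommGrpCat.{u} ℕ := AlternatingFaceMapComplex.obj X

variable {X}

lemma KK_d_apply (n : ℕ) (c : X _⦋n + 1⦌) :
    (KK X).d (n + 1) n c = (AlternatingFaceMapComplex.objD X n) c := by
  have h : (KK X).d (n + 1) n = AlternatingFaceMapComplex.objD X n := by
    rw [AlternatingFaceMapComplex.obj_d_eq]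
    rfl
  rw [h]

variable (X) in
/-- The projector `P∞` as an endomorphism of `KK X`. -/
noncomputable abbrev PP : KK X ⟶ KK X := DoldKan.PInfty

lemma PP_comm_apply (n : ℕ) (x : X _⦋n + 1⦌) :
    (KK X).d (n + 1) n ((DoldKan.PInfty.f (n + 1) : X _⦋n + 1⦌ ⟶ X _⦋n + 1⦌) x) =
      (DoldKan.PInfty.f n : X _⦋n⦌ ⟶ X _⦋n⦌) ((KK X).d (n + 1) n x) := by
  have hc := (PP X).comm (n + 1) n
  have h2 := ConcreteCategory.congr_hom hc x
  rw [ConcreteCategory.comp_apply, ConcreteCategory.comp_apply] at h2
  exact h2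

/-- `P∞` fixes elements all of whose faces vanish. -/
lemma PInfty_apply_of_facesVanish {n : ℕ} (x : X _⦋n⦌) (hx : FacesVanish X n x) :
    (DoldKan.PInfty.f n : X _⦋n⦌ ⟶ X _⦋n⦌) x = x := by
  cases n with
  | zero => rfl
  | succ m => exact PInfty_apply_of_higher_faces_vanish X m x (fun j => hx j.succ)

/-- `P∞` of a cycle has vanishing faces. -/
lemma facesVanish_PInfty_of_cycle {n : ℕ} (x : X _⦋n⦌)
    (hx : ∀ k : ℕ, (KK X).d n k x = 0) :
    FacesVanish X n ((DoldKan.PInfty.f n : X _⦋n⦌ ⟶ X _⦋n⦌) x) := by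
  cases n with
  | zero => trivial
  | succ m =>
    have hhigh : ∀ j : Fin (m + 1),
        X.δ j.succ ((DoldKan.PInfty.f (m + 1) : X _⦋m + 1⦌ ⟶ X _⦋m + 1⦌) x) = 0 :=
      fun j => δ_succ_PInfty_apply X m x j
    intro j
    obtain rfl | ⟨j', rfl⟩ := Fin.eq_zero_or_eq_succ j
    · rw [← objD_apply_of_higher_faces_vanish X m _ hhigh, ← KK_d_apply, PP_comm_apply, hx m,
        map_zero]
    · exact hhigh j'

/-- Every homology class of the alternating face map complex is represented by an element all of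
whose faces vanish. -/
lemma exists_facesVanish_rep (n : ℕ) (α : (KK X).homology n) :
    ∃ (x : X _⦋n⦌) (z : (KK X).cycles n), FacesVanish X n x ∧ (KK X).iCycles n z = x ∧
      (KK X).homologyπ n z = α := by
  obtain ⟨z0, rfl⟩ := homologyπ_surjective (KK X) n α
  let P : KK X ⟶ KK X := PP X
  have hP : HomologicalComplex.homologyMap P n = 𝟙 _ := by
    have hh : Homotopy P (𝟙 (KK X)) := DoldKan.homotopyPInftyToId X
    rw [hh.homologyMap_eq n, HomologicalComplex.homologyMap_id]
  refine ⟨P.f n ((KK X).iCycles n z0), HomologicalComplex.cyclesMap P n z0, ?_, ?_, ?_⟩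
  · exact facesVanish_PInfty_of_cycle _ (fun k => d_iCycles_apply (KK X) n k z0)
  · exact iCycles_cyclesMap_apply P n z0
  · rw [← homologyMap_homologyπ_apply, hP]
    rfl

/-- Two cycles whose underlying elements differ by a boundary have the same class. -/
lemma homologyπ_eq_of_sub_eq_d (n : ℕ) (z z' : (KK X).cycles n) (c : X _⦋n + 1⦌)
    (h : (KK X).iCycles n z - (KK X).iCycles n z' = (AlternatingFaceMapComplex.objD X n) c) :
    (KK X).homologyπ n z = (KK X).homologyπ n z' := by
  have hz : z - z' = (KK X).toCycles (n + 1) n c := by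
    apply iCycles_injective
    rw [map_sub, iCycles_toCycles_apply, KK_d_apply, h]
  rw [← sub_eq_zero, ← map_sub, hz, homologyπ_toCycles_apply]

/-- A cycle with vanishing faces which is zero in homology is `d₀` of an element with vanishing
higher faces. -/
lemma exists_moore_of_homologyπ_eq_zero (n : ℕ) (x : X _⦋n⦌) (hx : FacesVanish X n x)
    (z : (KK X).cycles n) (hz : (KK X).iCycles n z = x) (h0 : (KK X).homologyπ n z = 0) :
    ∃ y : X _⦋n + 1⦌, X.δ 0 y = x ∧ ∀ j : Fin (n + 1), X.δ j.succ y = 0 := by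
  obtain ⟨y', hy'⟩ := exists_of_homologyπ_eq_zero (KK X) (n + 1) n (by simp) z h0
  have hd : (KK X).d (n + 1) n y' = x := by
    rw [← iCycles_toCycles_apply, hy', hz]
  have hhigh : ∀ j : Fin (n + 1),
      X.δ j.succ ((DoldKan.PInfty.f (n + 1) : X _⦋n + 1⦌ ⟶ X _⦋n + 1⦌) y') = 0 :=
    fun j => δ_succ_PInfty_apply X n y' j
  refine ⟨(DoldKan.PInfty.f (n + 1) : X _⦋n + 1⦌ ⟶ X _⦋n + 1⦌) y', ?_, hhigh⟩
  rw [← objD_apply_of_higher_faces_vanish X n _ hhigh, ← KK_d_apply, PP_comm_apply, hd]
  exact PInfty_apply_of_facesVanish x hx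

/-- An element with vanishing faces is a cycle. -/
lemma exists_cycle_of_facesVanish (n : ℕ) (x : X _⦋n⦌) (hx : FacesVanish X n x) :
    ∃ z : (KK X).cycles n, (KK X).iCycles n z = x := by
  apply exists_cycle_of_d_eq_zero (KK X) n _ rfl
  cases n with
  | zero =>
    rw [HomologicalComplex.shape _ _ _ (by simp)]
    rfl
  | succ m =>
    have hn : (ComplexShape.down ℕ).next (m + 1) = m := by simp
    rw [hn, KK_d_apply]
    exact objD_apply_of_faces_vanish X m x hx

end Homology

section Main

variable {X Y : SimplicialObject AddCommGrpCat.{u}}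

lemma FacesVanish.map (f : X ⟶ Y) {n : ℕ} {x : X _⦋n⦌} (hx : FacesVanish X n x) :
    FacesVanish Y n (f.app (op ⦋n⦌) x) := by
  cases n with
  | zero => trivial
  | succ m =>
    intro j
    have h := NatTrans.naturality_apply f (SimplexCategory.δ j).op x
    have h' : Y.δ j (f.app (op ⦋m + 1⦌) x) = f.app (op ⦋m⦌) (X.δ j x) := h.symm
    rw [h', hx j, map_zero]

/-- If `g` is a map of the underlying simplicial sets such that `g ∘ f` and `f ∘ g`, corrected
so as to preserve `0`, agree with the identity up to boundaries on elements with vanishing faces,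
then `f` is a quasi-isomorphism. -/
theorem quasiIso_of_elementwise (f : X ⟶ Y) (g : US Y ⟶ US X)
    (hX : ∀ (n : ℕ) (x : X _⦋n⦌), FacesVanish X n x →
      ∃ c : X _⦋n + 1⦌, (AlternatingFaceMapComplex.objD X n) c =
        x - (ap g (f.app (op ⦋n⦌) x) - ap g 0))
    (hY : ∀ (n : ℕ) (y : Y _⦋n⦌), FacesVanish Y n y →
      ∃ c : Y _⦋n + 1⦌, (AlternatingFaceMapComplex.objD Y n) c =
        y - f.app (op ⦋n⦌) (ap g y - ap g 0)) :
    QuasiIso (AlternatingFaceMapComplex.map f) := by
  rw [quasiIso_iff]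
  intro n
  rw [quasiIsoAt_iff_isIso_homologyMap]
  let φ : KK X ⟶ KK Y := AlternatingFaceMapComplex.map f
  change IsIso (HomologicalComplex.homologyMap φ n)
  rw [ConcreteCategory.isIso_iff_bijective]
  constructor
  · rw [injective_iff_map_eq_zero]
    intro α hα
    obtain ⟨x, z, hx, hz, rfl⟩ := exists_facesVanish_rep n α
    rw [homologyMap_homologyπ_apply] at hα
    have hfx : FacesVanish Y n (f.app (op ⦋n⦌) x) := hx.map f
    have hz' : (KK Y).iCycles n (HomologicalComplex.cyclesMap φ n z) = f.app (op ⦋n⦌) x := by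
      rw [iCycles_cyclesMap_apply, hz]
      rfl
    obtain ⟨y, hy0, hyj⟩ := exists_moore_of_homologyπ_eq_zero n _ hfx _ hz' hα
    let u : X _⦋n + 1⦌ := ap g y - ap g 0
    have hu : (AlternatingFaceMapComplex.objD X n) u = ap g (f.app (op ⦋n⦌) x) - ap g 0 := by
      rw [objD_apply_of_higher_faces_vanish X n u]
      · rw [map_sub, δ_ap, δ_ap, hy0, map_zero]
      · intro j
        rw [map_sub, δ_ap, δ_ap, hyj j, map_zero, sub_self]
    obtain ⟨c, hc⟩ := hX n x hx
    have hcu : (AlternatingFaceMapComplex.objD X n) (c + u) = x := by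
      rw [map_add, hc, hu]
      abel
    have h0 := homologyπ_eq_of_sub_eq_d n z 0 (c + u) (by rw [map_zero, sub_zero, hz, hcu])
    rw [h0, map_zero]
  · intro β
    obtain ⟨y, z', hy, hz', rfl⟩ := exists_facesVanish_rep n β
    have hgy : FacesVanish X n (ap g y - ap g 0) := hy.ap_sub g
    obtain ⟨z, hz⟩ := exists_cycle_of_facesVanish n _ hgy
    refine ⟨(KK X).homologyπ n z, ?_⟩
    rw [homologyMap_homologyπ_apply]
    obtain ⟨c, hc⟩ := hY n y hy
    symm
    apply homologyπ_eq_of_sub_eq_d n z' _ c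
    rw [hz', iCycles_cyclesMap_apply, hz, hc]
    rfl

end Main

end Groth.Agent.H34
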