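import Mathlib.CategoryTheory.Subobject.Lattice
import Mathlib.CategoryTheory.Subobject.Limits
import Mathlib.CategoryTheory.Abelian.Basic

set_option autoImplicit false
universe v u

namespace Groth.Agent.H34

open CategoryTheory CategoryTheory.Limits

variable {A : Type u} [Category.{v} A] [Abelian A]

lemma imageSubobject_comp_mono {X Y Z : A} (h : X ⟶ Y) (g : Y ⟶ Z) [Mono g] :
    imageSubobject (h ≫ g) = (Subobject.map g).obj (imageSubobject h) := by
  have : StrongEpi (factorThruImage h) := strongEpi_of_epi _
  change Subobject.mk (image.ι (h ≫ g)) = (Subobject.map g).obj (Subobject.mk (image.ι h))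
  rw [Subobject.map_mk]
  symm
  exact Subobject.mk_eq_mk_of_comm _ _
    (image.isoStrongEpiMono (factorThruImage h) (image.ι h ≫ g) (by simp)) (by simp)

lemma imageSubobject_epi_comp {X Y Z : A} (e : X ⟶ Y) [Epi e] (h : Y ⟶ Z) :
    imageSubobject (e ≫ h) = imageSubobject h := by
  have : StrongEpi (e ≫ factorThruImage h) := strongEpi_of_epi _
  change Subobject.mk (image.ι (e ≫ h)) = Subobject.mk (image.ι h)
  symm
  exact Subobject.mk_eq_mk_of_comm _ _
    (image.isoStrongEpiMono (e ≫ factorThruImage h) (image.ι h) (by simp)) (by simp)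

lemma imageSubobject_comp_eq_imageSubobject_arrow_comp {X Y Z : A} (a : X ⟶ Y) (g : Y ⟶ Z) :
    imageSubobject (a ≫ g) = imageSubobject ((imageSubobject a).arrow ≫ g) := by
  conv_lhs => rw [← imageSubobject_arrow_comp a, Category.assoc]
  exact imageSubobject_epi_comp _ _

lemma imageSubobject_eq_top_of_epi {X Y : A} (f : X ⟶ Y) [Epi f] : imageSubobject f = ⊤ := by
  have h := imageSubobject_epi_comp f (𝟙 Y)
  rw [Category.comp_id] at h
  rw [h, imageSubobject_mono, Subobject.mk_eq_top_of_isIso]

lemma imageSubobject_arrow_eq {Y : A} (S : Subobject Y) : imageSubobject S.arrow = S := by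
  rw [imageSubobject_mono, Subobject.mk_arrow]

end Groth.Agent.H34
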