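import Mathlib.AlgebraicTopology.MooreComplex
import Mathlib.AlgebraicTopology.SimplicialObject.Basic
import Mathlib.CategoryTheory.Abelian.Basic
import Mathlib.CategoryTheory.Subobject.Lattice
import Mathlib.CategoryTheory.Subobject.Limits
import Mathlib.Order.Bounds.Basic
import Mathlib.Data.Finite.Sigma
import Mathlib.Data.Set.Finite.Range
import Groth.Agent.H34.SubobjectImage

/-!
# The simplicial subobject generated by a truncated family
-/

set_option autoImplicit false
universe v u

open CategoryTheory CategoryTheory.Limits Opposite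

namespace Groth.Agent.H34

variable {A : Type u} [Category.{v} A] [Abelian A]

section

variable (L : SimplicialObject A) {n : ℕ} {V : SimplicialObject.Truncated A n}
  (α : V ⟶ (SimplexCategory.Truncated.inclusion n).op ⋙ L)

/-- The object `[j]` of the truncated simplex category. -/
abbrev trObj (n : ℕ) (j : Fin (n + 1)) : (SimplexCategory.Truncated n)ᵒᵖ :=
  op ⟨SimplexCategory.mk j, Nat.le_of_lt_succ j.2⟩

/-- The component of `α` at `[j]`, typed as a map to `L_j`. -/
abbrev αcomp (j : Fin (n + 1)) : V.obj (trObj n j) ⟶ L.obj (op (SimplexCategory.mk j)) :=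
  α.app (trObj n j)

/-- The family of images of the maps `V_j ⟶ L_j ⟶ L_X`, `j ≤ n`. -/
def genFamα (X : SimplexCategoryᵒᵖ) : Set (Subobject (L.obj X)) :=
  Set.range (fun φ : Σ j : Fin (n + 1), (X.unop ⟶ SimplexCategory.mk j) =>
    imageSubobject (αcomp L α φ.1 ≫ L.map φ.2.op))

lemma genFamα_finite (X : SimplexCategoryᵒᵖ) : (genFamα L α X).Finite :=
  Set.finite_range _

/-- The subobject of `L_X` generated by the images of `V_j ⟶ L_j ⟶ L_X`, `j ≤ n`. -/
noncomputable def genSubα (X : SimplexCategoryᵒᵖ) : Subobject (L.obj X) :=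
  (genFamα_finite L α X).toFinset.sup id

lemma isLUB_genSubα (X : SimplexCategoryᵒᵖ) : IsLUB (genFamα L α X) (genSubα L α X) := by
  have := Finset.isLUB_sup (s := (genFamα_finite L α X).toFinset) (f := id)
  simpa [genSubα] using this

lemma genSubα_factors_gen {X : SimplexCategoryᵒᵖ} (j : Fin (n + 1))
    (φ : X.unop ⟶ SimplexCategory.mk j) :
    (genSubα L α X).Factors (αcomp L α j ≫ L.map φ.op) := by
  have hle : imageSubobject (αcomp L α j ≫ L.map φ.op) ≤ genSubα L α X :=
    (isLUB_genSubα L α X).1 ⟨⟨j, φ⟩, rfl⟩
  exact Subobject.factors_of_le _ hle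
    ((Subobject.factors_iff _ _).mpr ⟨factorThruImageSubobject _, imageSubobject_arrow_comp _⟩)

/-- A subobject `T` of `W` contains the image of `genSubα L α X` under `g : L_X ⟶ W` as soon as
it contains the images of the generators. -/
lemma genSubα_arrow_comp_factors {X : SimplexCategoryᵒᵖ} {W : A} (g : L.obj X ⟶ W)
    (T : Subobject W)
    (h : ∀ (j : Fin (n + 1)) (φ : X.unop ⟶ SimplexCategory.mk j),
      T.Factors ((αcomp L α j ≫ L.map φ.op) ≫ g)) :
    T.Factors ((genSubα L α X).arrow ≫ g) := by
  have h1 : genSubα L α X ≤ (Subobject.pullback g).obj T := by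
    apply (isLUB_genSubα L α X).2
    rintro _ ⟨⟨j, φ⟩, rfl⟩
    have hF : ((Subobject.pullback g).obj T).Factors (αcomp L α j ≫ L.map φ.op) := by
      rw [pullback_factors_iff]
      exact h j φ
    exact imageSubobject_le _ (Subobject.factorThru _ _ hF) (Subobject.factorThru_arrow _ _ hF)
  rw [← pullback_factors_iff]
  exact Subobject.factors_of_le _ h1 (Subobject.factors_self _)

lemma genSubα_factors {X Y : SimplexCategoryᵒᵖ} (f : X ⟶ Y) :
    (genSubα L α Y).Factors ((genSubα L α X).arrow ≫ L.map f) := by
  apply genSubα_arrow_comp_factors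
  intro j φ
  have : (αcomp L α j ≫ L.map φ.op) ≫ L.map f = αcomp L α j ≫ L.map (f.unop ≫ φ).op := by
    rw [Category.assoc, op_comp, L.map_comp]
    rfl
  rw [this]
  exact genSubα_factors_gen L α j (f.unop ≫ φ)

lemma genSubα_factors_app (P : (SimplexCategory.Truncated n)ᵒᵖ) :
    (genSubα L α ((SimplexCategory.Truncated.inclusion n).op.obj P)).Factors (α.app P) := by
  have h := genSubα_factors_gen L α (X := (SimplexCategory.Truncated.inclusion n).op.obj P)
    ⟨P.unop.obj.len, Nat.lt_succ_of_le P.unop.2⟩ (𝟙 _)
  have h3 : αcomp L α ⟨P.unop.obj.len, Nat.lt_succ_of_le P.unop.2⟩ ≫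
      L.map (𝟙 (SimplexCategory.mk P.unop.obj.len)).op = α.app P := by
    rw [op_id, L.map_id]
    exact Category.comp_id _
  rw [← h3]
  exact h

/-- The simplicial subobject generated by `α`. -/
noncomputable def genSimplicialα : SimplicialObject A where
  obj X := (genSubα L α X : A)
  map {X Y} f := (genSubα L α Y).factorThru ((genSubα L α X).arrow ≫ L.map f)
    (genSubα_factors L α f)
  map_id X := by
    rw [← cancel_mono (genSubα L α X).arrow]
    simp
  map_comp {X Y Z} f g := by
    rw [← cancel_mono (genSubα L α Z).arrow]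
    simp

/-- The inclusion of the simplicial subobject generated by `α`. -/
noncomputable def genια : genSimplicialα L α ⟶ L where
  app X := (genSubα L α X).arrow
  naturality {X Y} f := by
    simp [genSimplicialα]

instance (X : SimplexCategoryᵒᵖ) : Mono ((genια L α).app X) :=
  inferInstanceAs (Mono (genSubα L α X).arrow)

/-- The components of the lift of `α` to the simplicial subobject it generates. -/
noncomputable def genLiftαApp (P : (SimplexCategory.Truncated n)ᵒᵖ) :
    V.obj P ⟶ (genSimplicialα L α).obj ((SimplexCategory.Truncated.inclusion n).op.obj P) :=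
  (genSubα L α _).factorThru (α.app P) (genSubα_factors_app L α P)

lemma genLiftαApp_ι (P : (SimplexCategory.Truncated n)ᵒᵖ) :
    genLiftαApp L α P ≫ (genια L α).app ((SimplexCategory.Truncated.inclusion n).op.obj P) =
      α.app P :=
  Subobject.factorThru_arrow _ _ (genSubα_factors_app L α P)

/-- The lift of `α` to the simplicial subobject it generates. -/
noncomputable def genLiftα :
    V ⟶ (SimplexCategory.Truncated.inclusion n).op ⋙ genSimplicialα L α where
  app P := genLiftαApp L α P
  naturality {P Q} g := by
    rw [← cancel_mono ((genια L α).app ((SimplexCategory.Truncated.inclusion n).op.obj Q))]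
    rw [Category.assoc, Category.assoc, genLiftαApp_ι, Functor.comp_map,
      (genια L α).naturality ((SimplexCategory.Truncated.inclusion n).op.map g),
      ← Category.assoc, genLiftαApp_ι]
    exact α.naturality g

lemma genLiftα_comp :
    genLiftα L α ≫ Functor.whiskerLeft (SimplexCategory.Truncated.inclusion n).op (genια L α) = α := by
  ext P
  exact genLiftαApp_ι L α P

/-- If `L` is a left Kan extension with unit `α`, the simplicial subobject of `L` generated by
`α` is everything. -/
lemma genSubα_eq_top [L.IsLeftKanExtension α] (X : SimplexCategoryᵒᵖ) : genSubα L α X = ⊤ := by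
  let r : L ⟶ genSimplicialα L α := L.descOfIsLeftKanExtension α _ (genLiftα L α)
  have hr : α ≫ Functor.whiskerLeft _ r = genLiftα L α := L.descOfIsLeftKanExtension_fac α _ _
  have hrι : r ≫ genια L α = 𝟙 L := by
    apply L.hom_ext_of_isLeftKanExtension α
    rw [Functor.whiskerLeft_comp, ← Category.assoc, hr, genLiftα_comp]
    simp
  have h1 : r.app X ≫ (genSubα L α X).arrow = 𝟙 _ := by
    have := congrArg (fun t => t.app X) hrι
    simpa [genια] using this
  have : IsIso (genSubα L α X).arrow := by
    have : IsSplitEpi (genSubα L α X).arrow := ⟨⟨r.app X, h1⟩⟩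
    exact isIso_of_mono_of_isSplitEpi _
  exact Subobject.eq_top_of_isIso_arrow _

/-- If `L` is a left Kan extension with unit `α`, then `α` is an epimorphism in each degree. -/
lemma epi_app_of_isLeftKanExtension [L.IsLeftKanExtension α]
    (P : (SimplexCategory.Truncated n)ᵒᵖ) : Epi (α.app P) := by
  have htop := genSubα_eq_top L α ((SimplexCategory.Truncated.inclusion n).op.obj P)
  have hle : genSubα L α ((SimplexCategory.Truncated.inclusion n).op.obj P) ≤
      imageSubobject (α.app P) := by
    apply (isLUB_genSubα L α _).2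
    rintro _ ⟨⟨j, φ⟩, rfl⟩
    let φ' : (trObj n j) ⟶ P :=
      (SimplexCategory.Truncated.Hom.tr φ P.unop.2 (Nat.le_of_lt_succ j.2)).op
    have hnat : αcomp L α j ≫ L.map φ.op = V.map φ' ≫ α.app P := (α.naturality φ').symm
    change imageSubobject (αcomp L α j ≫ L.map φ.op) ≤ _
    rw [hnat]
    exact imageSubobject_le _ (V.map φ' ≫ factorThruImageSubobject _)
      (by rw [Category.assoc, imageSubobject_arrow_comp])
  rw [htop, top_le_iff] at hle
  have : IsIso (imageSubobject (α.app P)).arrow := by
    rw [Subobject.isIso_arrow_iff_eq_top]; exact hle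
  have : Epi (factorThruImageSubobject (α.app P) ≫ (imageSubobject (α.app P)).arrow) :=
    epi_comp _ _
  rwa [imageSubobject_arrow_comp] at this

end

end Groth.Agent.H34
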