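import Mathlib.AlgebraicTopology.SimplicialSet.KanComplex
import Groth.Agent.H34.MooreFiller
import Mathlib.Algebra.Group.PUnit

/-!
# Simplicial sets with a levelwise group structure satisfy the Kan condition
-/

set_option autoImplicit false
universe u

open CategoryTheory Simplicial Opposite

namespace Groth.Agent.H34

/-- A levelwise group structure on a simplicial set, compatible with faces and degeneracies. -/
class GroupStr (S : SSet.{u}) where
  grp : ∀ n : ℕ, Group (S _⦋n⦌)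
  δ_mul : ∀ (n : ℕ) (i : Fin (n + 2)) (a b : S _⦋n + 1⦌), S.δ i (a * b) = S.δ i a * S.δ i b
  σ_mul : ∀ (n : ℕ) (i : Fin (n + 1)) (a b : S _⦋n⦌), S.σ i (a * b) = S.σ i a * S.σ i b

attribute [instance_reducible, instance] GroupStr.grp

namespace GroupStr

variable (S : SSet.{u}) [gS : GroupStr S]

/-- The face maps, indexed by natural numbers (trivial outside the range). -/
noncomputable def dN (n i : ℕ) : S _⦋n + 1⦌ →* S _⦋n⦌ :=
  if h : i < n + 2 then MonoidHom.mk' (fun a => S.δ ⟨i, h⟩ a) (GroupStr.δ_mul n ⟨i, h⟩) else 1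

/-- The degeneracy maps, indexed by natural numbers (trivial outside the range). -/
noncomputable def sN (n i : ℕ) : S _⦋n⦌ →* S _⦋n + 1⦌ :=
  if h : i < n + 1 then MonoidHom.mk' (fun a => S.σ ⟨i, h⟩ a) (GroupStr.σ_mul n ⟨i, h⟩) else 1

lemma dN_apply (n i : ℕ) (h : i < n + 2) (a : S _⦋n + 1⦌) : dN S n i a = S.δ ⟨i, h⟩ a := by
  simp [dN, h]

lemma sN_apply (n i : ℕ) (h : i < n + 1) (a : S _⦋n⦌) : sN S n i a = S.σ ⟨i, h⟩ a := by
  simp [sN, h]

lemma I1 (m i j : ℕ) (hij : i ≤ j) (hj : j < m + 2) (a : S _⦋m + 2⦌) :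
    dN S m i (dN S (m + 1) (j + 1) a) = dN S m j (dN S (m + 1) i a) := by
  rw [dN_apply S (m + 1) (j + 1) (by omega), dN_apply S m i (by omega),
    dN_apply S (m + 1) i (by omega), dN_apply S m j (by omega)]
  exact SSet.δ_comp_δ_apply (S := S) (n := m) (i := ⟨i, by omega⟩) (j := ⟨j, by omega⟩)
    (by simpa using hij) a

lemma I2 (m i j : ℕ) (hij : i ≤ j) (hj : j + 1 < m + 2) (a : S _⦋m + 1⦌) :
    dN S (m + 1) i (sN S (m + 1) (j + 1) a) = sN S m j (dN S m i a) := by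
  rw [sN_apply S (m + 1) (j + 1) (by omega), dN_apply S (m + 1) i (by omega),
    dN_apply S m i (by omega), sN_apply S m j (by omega)]
  exact SSet.δ_comp_σ_of_le_apply (S := S) (n := m) (i := ⟨i, by omega⟩) (j := ⟨j, by omega⟩)
    (by simpa using hij) a

lemma I3 (n j : ℕ) (hj : j < n + 1) (a : S _⦋n⦌) : dN S n j (sN S n j a) = a := by
  rw [sN_apply S n j hj, dN_apply S n j (by omega)]
  exact SSet.δ_comp_σ_self_apply (S := S) (n := n) ⟨j, hj⟩ a

lemma I4 (n j : ℕ) (hj : j < n + 1) (a : S _⦋n⦌) : dN S n (j + 1) (sN S n j a) = a := by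
  rw [sN_apply S n j hj, dN_apply S n (j + 1) (by omega)]
  exact SSet.δ_comp_σ_succ_apply (S := S) (n := n) ⟨j, hj⟩ a

lemma I5 (m i j : ℕ) (hji : j < i) (hi : i < m + 2) (a : S _⦋m + 1⦌) :
    dN S (m + 1) (i + 1) (sN S (m + 1) j a) = sN S m j (dN S m i a) := by
  rw [sN_apply S (m + 1) j (by omega), dN_apply S (m + 1) (i + 1) (by omega),
    dN_apply S m i (by omega), sN_apply S m j (by omega)]
  exact SSet.δ_comp_σ_of_gt_apply (S := S) (n := m) (i := ⟨i, by omega⟩) (j := ⟨j, by omega⟩)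
    (by simpa using hji) a

end GroupStr

open GroupStr

section Relative

variable {S T : SSet.{u}} [GroupStr S] [GroupStr T] (p : S ⟶ T)
  (hp : ∀ (n : ℕ) (a b : S _⦋n⦌), p.app _ (a * b) = p.app _ a * p.app _ b)

/-- The levelwise group homomorphisms underlying `p`. -/
noncomputable def pN (n : ℕ) : S _⦋n⦌ →* T _⦋n⦌ := MonoidHom.mk' (fun a => p.app _ a) (hp n)

lemma pN_apply (n : ℕ) (a : S _⦋n⦌) : pN p hp n a = p.app _ a := rfl

include hp in
theorem exists_filler_aux {G0 : Type*} [Group G0] (n : ℕ)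
    (d0 : ℕ → S _⦋n⦌ →* G0) (s0 : ℕ → G0 →* S _⦋n⦌)
    (J1 : ∀ i j, i ≤ j → j < n + 1 → ∀ a, d0 i (dN S n (j + 1) a) = d0 j (dN S n i a))
    (J2 : ∀ i j, i ≤ j → j + 1 < n + 1 → ∀ a, dN S n i (sN S n (j + 1) a) = s0 j (d0 i a))
    (J5 : ∀ i j, j < i → i < n + 1 → ∀ a, dN S n (i + 1) (sN S n j a) = s0 j (d0 i a))
    (i : Fin (n + 2)) (x : ∀ j : Fin (n + 2), j ≠ i → S _⦋n⦌)
    (compat : ∀ (a b : ℕ) (_ : a ≤ b) (hb : b < n + 1)
      (ha' : (⟨a, by omega⟩ : Fin (n + 2)) ≠ i) (hb' : (⟨b + 1, by omega⟩ : Fin (n + 2)) ≠ i),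
      d0 a (x ⟨b + 1, by omega⟩ hb') = d0 b (x ⟨a, by omega⟩ ha'))
    (w : T _⦋n + 1⦌) (z : S _⦋n + 1⦌) (hz : p.app _ z = w)
    (hw : ∀ j hj, T.δ j w = p.app _ (x j hj)) :
    ∃ y : S _⦋n + 1⦌, p.app _ y = w ∧ ∀ j hj, S.δ j y = x j hj := by
  classical
  let x' : ℕ → S _⦋n⦌ := fun j =>
    if h : j < n + 2 then (if h' : (⟨j, h⟩ : Fin (n + 2)) ≠ i then x ⟨j, h⟩ h' else 1) else 1
  have hx' : ∀ (j : ℕ) (h : j < n + 2) (h' : (⟨j, h⟩ : Fin (n + 2)) ≠ i),
      x' j = x ⟨j, h⟩ h' := by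
    intro j h h'
    simp only [x', dif_pos h, dif_pos h']
  obtain ⟨y, hy1, hy2⟩ := exists_filler (n + 1) (dN S n) d0 (sN S n) s0 (dN T n) (sN T n)
    (pN p hp n) (pN p hp (n + 1)) J1 J2 (fun j hj a => GroupStr.I3 S n j hj a)
    (fun j hj a => GroupStr.I4 S n j hj a) J5
    (fun j hj y => by
      rw [pN_apply, pN_apply, dN_apply S n j (by omega), dN_apply T n j (by omega)]
      exact SSet.δ_naturality_apply p ⟨j, by omega⟩ y)
    (fun j hj a => by
      rw [pN_apply, pN_apply, sN_apply S n j (by omega), sN_apply T n j (by omega)]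
      exact SSet.σ_naturality_apply p ⟨j, by omega⟩ a)
    i.val (by omega) x'
    (fun a b hab hb ha' hb' => by
      have ha'' : (⟨a, by omega⟩ : Fin (n + 2)) ≠ i := fun h => ha' (by rw [← h])
      have hb'' : (⟨b + 1, by omega⟩ : Fin (n + 2)) ≠ i := fun h => hb' (by rw [← h])
      rw [hx' (b + 1) (by omega) hb'', hx' a (by omega) ha'']
      exact compat a b hab hb ha'' hb'')
    w
    (fun j hj hji => by
      have hj' : (⟨j, by omega⟩ : Fin (n + 2)) ≠ i := fun h => hji (by rw [← h])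
      rw [hx' j (by omega) hj', dN_apply T n j (by omega), pN_apply]
      exact hw ⟨j, by omega⟩ hj')
    z hz
  refine ⟨y, hy1, fun j hj => ?_⟩
  have h1 := hy2 j.val (by omega) (fun h => hj (Fin.ext h))
  rw [dN_apply S n j.val j.2, hx' j.val j.2 hj] at h1
  exact h1

include hp in
theorem exists_filler_zero (i : Fin 2) (x : ∀ j : Fin 2, j ≠ i → S _⦋0⦌)
    (w : T _⦋1⦌) (z : S _⦋1⦌) (hz : p.app _ z = w)
    (hw : ∀ j hj, T.δ j w = p.app _ (x j hj)) :
    ∃ y : S _⦋1⦌, p.app _ y = w ∧ ∀ j hj, S.δ j y = x j hj :=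
  exists_filler_aux p hp (G0 := PUnit.{1}) 0 (fun _ => 1) (fun _ => 1)
    (fun _ _ _ _ _ => Subsingleton.elim _ _) (fun i j _ h _ => by omega)
    (fun i j h1 h2 _ => by omega) i x (fun _ _ _ _ _ _ => Subsingleton.elim _ _) w z hz hw

include hp in
theorem exists_filler_succ (m : ℕ) (i : Fin (m + 3))
    (x : ∀ j : Fin (m + 3), j ≠ i → S _⦋m + 1⦌)
    (compat : ∀ (j k : Fin (m + 3)) (hj : j ≠ i) (hk : k ≠ i) (hjk : j < k),
      S.δ (k.pred (Fin.ne_zero_of_lt hjk)) (x j hj) =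
        S.δ (j.castPred (Fin.ne_last_of_lt hjk)) (x k hk))
    (w : T _⦋m + 2⦌) (z : S _⦋m + 2⦌) (hz : p.app _ z = w)
    (hw : ∀ j hj, T.δ j w = p.app _ (x j hj)) :
    ∃ y : S _⦋m + 2⦌, p.app _ y = w ∧ ∀ j hj, S.δ j y = x j hj :=
  exists_filler_aux p hp (m + 1) (dN S m) (sN S m) (GroupStr.I1 S m) (GroupStr.I2 S m)
    (GroupStr.I5 S m) i x
    (fun a b hab hb ha' hb' => by
      rw [dN_apply S m a (by omega), dN_apply S m b (by omega)]
      exact (compat ⟨a, by omega⟩ ⟨b + 1, by omega⟩ ha' hb'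
        (by simp only [Fin.mk_lt_mk]; omega)).symm)
    w z hz hw

include hp in
/-- A levelwise surjective homomorphism of simplicial groups is a Kan fibration. -/
theorem rlp_J_of_groupStr (hsurj : ∀ n : ℕ, Function.Surjective (p.app (op ⦋n⦌))) :
    SSet.modelCategoryQuillen.J.rlp p := by
  intro A B ι hι
  simp only [SSet.modelCategoryQuillen.J, MorphismProperty.iSup_iff] at hι
  obtain ⟨n, ⟨i⟩⟩ := hι
  refine ⟨fun {t b} sq => ?_⟩
  let x : ∀ j : Fin (n + 2), j ≠ i → S _⦋n⦌ :=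
    fun j hj => SSet.yonedaEquiv (SSet.horn.ι i j hj ≫ t)
  obtain ⟨z, hz⟩ := hsurj (n + 1) (SSet.yonedaEquiv b)
  have hw : ∀ j hj, T.δ j (SSet.yonedaEquiv b) = p.app _ (x j hj) := by
    intro j hj
    rw [← SSet.stdSimplex.yonedaEquiv_δ_comp, ← SSet.yonedaEquiv_comp]
    congr 1
    rw [Category.assoc, sq.w, SSet.horn.ι_ι_assoc]
  have hcompat := SSet.horn.IsCompatible.of_hom t
  obtain ⟨y, hy1, hy2⟩ : ∃ y : S _⦋n + 1⦌, p.app _ y = SSet.yonedaEquiv b ∧
      ∀ j hj, S.δ j y = x j hj := by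
    obtain _ | m := n
    · exact exists_filler_zero p hp i x _ z hz hw
    · refine exists_filler_succ p hp m i x ?_ _ z hz hw
      intro j k hj hk hjk
      have h1 := hcompat j k hj hk hjk
      have h2 := congrArg SSet.yonedaEquiv h1
      rwa [SSet.stdSimplex.yonedaEquiv_δ_comp, SSet.stdSimplex.yonedaEquiv_δ_comp] at h2
  refine ⟨⟨{ l := SSet.yonedaEquiv.symm y, fac_left := ?_, fac_right := ?_ }⟩⟩
  · apply SSet.horn.hom_ext'
    intro j hj
    rw [SSet.horn.ι_ι_assoc, SSet.stdSimplex.δ_comp_yonedaEquiv_symm, hy2 j hj]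
    exact Equiv.symm_apply_apply _ _
  · rw [SSet.yonedaEquiv_symm_comp, hy1, Equiv.symm_apply_apply]

end Relative

section Absolute

/-- The constant simplicial set on a point. -/
abbrev ptSSet : SSet.{u} := (Functor.const SimplexCategoryᵒᵖ).obj PUnit.{u + 1}

instance (n : ℕ) : Subsingleton (ptSSet.{u} _⦋n⦌) := inferInstanceAs (Subsingleton PUnit)

noncomputable instance : GroupStr ptSSet.{u} where
  grp _ := inferInstanceAs (Group PUnit)
  δ_mul _ _ _ _ := Subsingleton.elim _ _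
  σ_mul _ _ _ _ := Subsingleton.elim _ _

/-- The map to the point. -/
def toPt (S : SSet.{u}) : S ⟶ ptSSet.{u} where
  app _ := ↾fun _ => PUnit.unit
  naturality _ _ _ := rfl

/-- A simplicial set with a levelwise group structure is a Kan complex. -/
theorem kanComplex_of_groupStr (S : SSet.{u}) [GroupStr S] : SSet.KanComplex S := by
  rw [SSet.KanComplex.iff]
  intro n i f hf
  let x : ∀ j : Fin (n + 2), j ≠ i → S _⦋n⦌ := fun j hj => SSet.yonedaEquiv (f j hj)
  have hp : ∀ (k : ℕ) (a b : S _⦋k⦌), (toPt S).app _ (a * b) =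
      (toPt S).app _ a * (toPt S).app _ b := fun _ _ _ => Subsingleton.elim _ _
  obtain ⟨y, -, hy2⟩ : ∃ y : S _⦋n + 1⦌, (toPt S).app _ y = PUnit.unit ∧
      ∀ j hj, S.δ j y = x j hj := by
    obtain _ | m := n
    · exact exists_filler_zero (toPt S) hp i x _ 1 (Subsingleton.elim _ _)
        (fun _ _ => Subsingleton.elim _ _)
    · refine exists_filler_succ (toPt S) hp m i x ?_ _ 1 (Subsingleton.elim _ _)
        (fun _ _ => Subsingleton.elim _ _)
      intro j k hj hk hjk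
      have h1 := hf j k hj hk hjk
      have h2 := congrArg SSet.yonedaEquiv h1
      rwa [SSet.stdSimplex.yonedaEquiv_δ_comp, SSet.stdSimplex.yonedaEquiv_δ_comp] at h2
  refine ⟨SSet.yonedaEquiv.symm y, fun j hj => ?_⟩
  rw [SSet.stdSimplex.δ_comp_yonedaEquiv_symm, hy2 j hj]
  exact Equiv.symm_apply_apply _ _

end Absolute

end Groth.Agent.H34
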