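import Mathlib.AlgebraicTopology.MooreComplex
import Mathlib.AlgebraicTopology.SimplicialObject.Basic
import Mathlib.CategoryTheory.Abelian.Basic
import Mathlib.CategoryTheory.Subobject.Lattice
import Mathlib.CategoryTheory.Subobject.Limits
import Mathlib.Order.Bounds.Basic
import Mathlib.Data.Finite.Sigma
import Mathlib.Data.Set.Finite.Range
import Groth.Agent.H34.SubobjectImage

/-!
# The simplicial subobject generated in degrees `≤ n`
-/

set_option autoImplicit false
universe v u

open CategoryTheory CategoryTheory.Limits Opposite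

namespace Groth.Agent.H34

variable {A : Type u} [Category.{v} A] [Abelian A]

section

variable (U : SimplicialObject A) (n : ℕ)

/-- The family of images of the maps `U_i ⟶ U_X`, `i ≤ n`. -/
def genFamily (X : SimplexCategoryᵒᵖ) : Set (Subobject (U.obj X)) :=
  Set.range (fun φ : Σ i : Fin (n + 1), (X.unop ⟶ SimplexCategory.mk i) =>
    imageSubobject (U.map φ.2.op))

lemma genFamily_finite (X : SimplexCategoryᵒᵖ) : (genFamily U n X).Finite :=
  Set.finite_range _

/-- The subobject of `U_X` generated by the images of `U_i ⟶ U_X`, `i ≤ n`. -/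
noncomputable def genSub (X : SimplexCategoryᵒᵖ) : Subobject (U.obj X) :=
  (genFamily_finite U n X).toFinset.sup id

lemma isLUB_genSub (X : SimplexCategoryᵒᵖ) : IsLUB (genFamily U n X) (genSub U n X) := by
  have := Finset.isLUB_sup (s := (genFamily_finite U n X).toFinset) (f := id)
  simpa [genSub] using this

lemma genSub_factors_map {X : SimplexCategoryᵒᵖ} (i : Fin (n + 1))
    (φ : X.unop ⟶ SimplexCategory.mk i) : (genSub U n X).Factors (U.map φ.op) := by
  have hle : imageSubobject (U.map φ.op) ≤ genSub U n X :=
    (isLUB_genSub U n X).1 ⟨⟨i, φ⟩, rfl⟩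
  exact Subobject.factors_of_le _ hle
    ((Subobject.factors_iff _ _).mpr ⟨factorThruImageSubobject _, imageSubobject_arrow_comp _⟩)

lemma genSub_factors {X Y : SimplexCategoryᵒᵖ} (f : X ⟶ Y) :
    (genSub U n Y).Factors ((genSub U n X).arrow ≫ U.map f) := by
  have h1 : genSub U n X ≤ (Subobject.pullback (U.map f)).obj (genSub U n Y) := by
    apply (isLUB_genSub U n X).2
    rintro _ ⟨⟨i, φ⟩, rfl⟩
    have hF : ((Subobject.pullback (U.map f)).obj (genSub U n Y)).Factors (U.map φ.op) := by
      rw [pullback_factors_iff]
      have : U.map φ.op ≫ U.map f = U.map (f.unop ≫ φ).op := by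
        rw [op_comp, U.map_comp]
        rfl
      rw [this]
      exact genSub_factors_map U n i (f.unop ≫ φ)
    exact imageSubobject_le _ (Subobject.factorThru _ _ hF) (Subobject.factorThru_arrow _ _ hF)
  rw [← pullback_factors_iff]
  exact Subobject.factors_of_le _ h1 (Subobject.factors_self _)

lemma genSub_eq_top (X : SimplexCategoryᵒᵖ) (hX : X.unop.len ≤ n) : genSub U n X = ⊤ := by
  apply top_le_iff.mp
  have h := (isLUB_genSub U n X).1 ⟨⟨⟨X.unop.len, Nat.lt_succ_of_le hX⟩, 𝟙 _⟩, rfl⟩
  have h3 : imageSubobject (U.map (𝟙 X.unop).op) = ⊤ := by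
    rw [op_id, U.map_id]
    exact imageSubobject_eq_top_of_epi _
  rw [← h3]
  exact h

/-- The simplicial subobject generated in degrees `≤ n`. -/
noncomputable def genSimplicial : SimplicialObject A where
  obj X := (genSub U n X : A)
  map {X Y} f := (genSub U n Y).factorThru ((genSub U n X).arrow ≫ U.map f) (genSub_factors U n f)
  map_id X := by
    rw [← cancel_mono (genSub U n X).arrow]
    simp
  map_comp {X Y Z} f g := by
    rw [← cancel_mono (genSub U n Z).arrow]
    simp

/-- The inclusion of the simplicial subobject generated in degrees `≤ n`. -/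
noncomputable def genι : genSimplicial U n ⟶ U where
  app X := (genSub U n X).arrow
  naturality {X Y} f := by
    simp [genSimplicial]

@[simp] lemma genι_app (X : SimplexCategoryᵒᵖ) : (genι U n).app X = (genSub U n X).arrow := rfl

instance (X : SimplexCategoryᵒᵖ) : Mono ((genι U n).app X) :=
  inferInstanceAs (Mono (genSub U n X).arrow)

lemma isIso_genι_app (X : SimplexCategoryᵒᵖ) (hX : X.unop.len ≤ n) :
    IsIso ((genι U n).app X) := by
  change IsIso (genSub U n X).arrow
  rw [Subobject.isIso_arrow_iff_eq_top]
  exact genSub_eq_top U n X hX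

end

end Groth.Agent.H34
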