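import Groth.Prelude.Def_Smoothing
import Mathlib.RingTheory.Extension.Presentation.Basic
import Mathlib.RingTheory.MvPolynomial.Tower
import Mathlib.RingTheory.TensorProduct.Basic

/-!
# Base change of marked presentations (helper34)

`Smoothing.MarkedPresentation` base-changes along `R → R'`; Jacobian minors commute with the
coefficient map; `KillsTail` is stable.
-/

set_option autoImplicit false
universe u

namespace Groth.Agent.H34.SmoothingBC

open Smoothing MvPolynomial TensorProduct

variable {R : Type u} [CommRing R] {A : Type u} [CommRing A] [Algebra R A]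

/-- The underlying `Algebra.Presentation` of a marked presentation. -/
noncomputable def toPresentation (P : MarkedPresentation R A) :
    Algebra.Presentation R A (Fin P.n) (Fin P.m) where
  toGenerators := Algebra.Generators.ofAlgHom P.hom P.surj
  relation := P.rel
  span_range_relation_eq_ker := by
    rw [Algebra.Generators.ker_eq_ker_aeval_val, ← P.ker_eq]
    have h : (aeval (Algebra.Generators.ofAlgHom P.hom P.surj).val : _ →ₐ[R] A) = P.hom := by
      ext i; simp [Algebra.Generators.ofAlgHom]
    rw [h]
    rfl

lemma toPresentation_val (P : MarkedPresentation R A) (i : Fin P.n) :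
    (toPresentation P).val i = P.hom (X i) := rfl

variable (R' : Type u) [CommRing R'] [Algebra R R']

/-- The coefficient map `R[X] → R'[X]`. -/
noncomputable abbrev cmap (n : ℕ) : MvPolynomial (Fin n) R →+* MvPolynomial (Fin n) R' :=
  MvPolynomial.map (algebraMap R R')

/-- `aeval` at `1 ⊗ hom (X i)` of a base-changed polynomial. -/
lemma aeval_cmap (P : MarkedPresentation R A) (p : MvPolynomial (Fin P.n) R) :
    aeval (R := R') (fun i => (1 : R') ⊗ₜ[R] P.hom (X i)) (cmap R' P.n p) =
      (1 : R') ⊗ₜ[R] P.hom p := by
  rw [aeval_map_algebraMap]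
  have h := comp_aeval_apply (R := R) (f := fun i => P.hom (X i))
    (Algebra.TensorProduct.includeRight (R := R) (A := R') (B := A)) p
  simp only [Algebra.TensorProduct.includeRight_apply] at h
  rw [← h]
  congr 1
  exact (AlgHom.congr_fun (aeval_unique P.hom) p).symm

/-- Base change of a marked presentation. -/
noncomputable def baseChange (P : MarkedPresentation R A) : MarkedPresentation R' (R' ⊗[R] A) where
  n := P.n
  m := P.m
  c := P.c
  hcn := P.hcn
  hcm := P.hcm
  rel j := cmap R' P.n (P.rel j)
  hom := aeval (R := R') ((toPresentation P).baseChange R').val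
  surj := by
    have := ((toPresentation P).baseChange R').algebraMap_surjective
    intro x
    obtain ⟨y, hy⟩ := this x
    exact ⟨y, by rw [← hy, Algebra.Generators.algebraMap_apply]⟩
  ker_eq := by
    have := ((toPresentation P).baseChange R').span_range_relation_eq_ker
    rw [Algebra.Generators.ker_eq_ker_aeval_val] at this
    exact this.symm

lemma baseChange_hom_cmap (P : MarkedPresentation R A) (p : MvPolynomial (Fin P.n) R) :
    (baseChange R' P).hom (cmap R' P.n p) = (1 : R') ⊗ₜ[R] P.hom p :=
  aeval_cmap R' P p

lemma jacobianMinor_cmap {n m c : ℕ} (f : Fin m → MvPolynomial (Fin n) R) (rows : Fin c → Fin m)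
    (cols : Fin c → Fin n) :
    jacobianMinor (fun j => cmap R' n (f j)) rows cols = cmap R' n (jacobianMinor f rows cols) := by
  unfold jacobianMinor
  rw [RingHom.map_det]
  congr 1
  ext j k
  simp [pderiv_map]

lemma baseChange_hom_jacobianMinor (P : MarkedPresentation R A) (cols : Fin P.c → Fin P.n) :
    (baseChange R' P).hom (jacobianMinor (baseChange R' P).rel
        (Fin.castLE (baseChange R' P).hcm) cols) =
      (1 : R') ⊗ₜ[R] P.hom (jacobianMinor P.rel (Fin.castLE P.hcm) cols) := by
  have hJ := jacobianMinor_cmap R' P.rel (Fin.castLE P.hcm) cols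
  have h2 := baseChange_hom_cmap R' P (jacobianMinor P.rel (Fin.castLE P.hcm) cols)
  rw [← hJ] at h2
  exact h2

lemma killsTail_baseChange (P : MarkedPresentation R A) (a : A) (h : KillsTail P a) :
    KillsTail (baseChange R' P) ((1 : R') ⊗ₜ[R] a) := by
  intro a'' ha'' j hj
  obtain ⟨a', ha'⟩ := P.surj a
  have h1 := h a' ha' j hj
  have h2 := Ideal.mem_map_of_mem (cmap R' P.n) h1
  rw [Ideal.map_sup, Ideal.map_pow, Ideal.map_span, Ideal.map_span, map_mul, Set.image_image,
    ← Set.range_comp] at h2
  let b : MvPolynomial (Fin (baseChange R' P).n) R' := cmap R' P.n a'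
  have hb : (baseChange R' P).hom b = (1 : R') ⊗ₜ[R] a := by
    rw [← ha']; exact baseChange_hom_cmap R' P a'
  have h3 : a'' - b ∈ Ideal.span (Set.range (baseChange R' P).rel) := by
    rw [← (baseChange R' P).ker_eq, RingHom.mem_ker]
    change (baseChange R' P).hom (a'' - b) = 0
    rw [map_sub, ha'', hb, sub_self]
  have h4 : (a'' - b) * (baseChange R' P).rel j ∈
      Ideal.span (Set.range (baseChange R' P).rel) ^ 2 := by
    rw [pow_two]
    exact Ideal.mul_mem_mul h3 (Ideal.subset_span ⟨j, rfl⟩)
  have : a'' * (baseChange R' P).rel j =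
      b * (baseChange R' P).rel j + (a'' - b) * (baseChange R' P).rel j := by
    rw [← add_mul, add_sub_cancel]
  rw [this]
  refine Ideal.add_mem _ ?_ (Ideal.mem_sup_right h4)
  exact h2

end Groth.Agent.H34.SmoothingBC
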