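import Groth.Agent.H34.SpSeqPage
import Mathlib.Algebra.Homology.Refinements

/-!
# From the `E_∞`-terms to the cohomology, for weak Serre classes
-/

set_option autoImplicit false
universe v u

open CategoryTheory CategoryTheory.Limits SpSeq SpSeq.FilCx

namespace Groth.Agent.H34

variable {A : Type u} [Category.{v} A] [Abelian A]

section HomologyIso

variable {ι : Type*} {c : ComplexShape ι} (L : HomologicalComplex A c)

lemma imageSubobject_d_le_kernelSubobject_d (i j k : ι) :
    imageSubobject (L.d i j) ≤ kernelSubobject (L.d j k) :=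
  le_kernelSubobject _ _ (imageSubobject_arrow_comp_eq_zero (by simp))

/-- `Ker d / Im d` is the homology. -/
lemma nonempty_subquot_iso_homology (i j k : ι) (hi : c.prev j = i) (hk : c.next j = k) :
    Nonempty (subquot (kernelSubobject (L.d j k)) (imageSubobject (L.d i j))
      (imageSubobject_d_le_kernelSubobject_d L i j k) ≅ L.homology j) := by
  set Zk := kernelSubobject (L.d j k)
  set Bi := imageSubobject (L.d i j)
  have hBZ : Bi ≤ Zk := imageSubobject_d_le_kernelSubobject_d L i j k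
  have hZk : ∀ {T : A} (x : T ⟶ L.X j), Zk.Factors x ↔ x ≫ L.d j k = 0 :=
    fun x => kernelSubobject_factors_iff _ _
  -- the map on `Ker d`
  let θ : (Zk : A) ⟶ L.homology j :=
    L.liftCycles Zk.arrow k hk (kernelSubobject_arrow_comp _) ≫ L.homologyπ j
  have hθ : ∀ {T : A} (x : T ⟶ L.X j) (hx : Zk.Factors x),
      Zk.factorThru x hx ≫ θ = L.liftCycles x k hk ((hZk x).mp hx) ≫ L.homologyπ j := by
    intro T x hx
    simp only [θ, ← Category.assoc]
    congr 1
    rw [← cancel_mono (L.iCycles j), Category.assoc, HomologicalComplex.liftCycles_i,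
      HomologicalComplex.liftCycles_i, Subobject.factorThru_arrow]
  have hθ0 : Bi.ofLE Zk hBZ ≫ θ = 0 := by
    rw [← cancel_epi (factorThruImageSubobject (L.d i j))]
    have hf : Zk.Factors (L.d i j) := (hZk _).mpr (L.d_comp_d i j k)
    have e : factorThruImageSubobject (L.d i j) ≫ Bi.ofLE Zk hBZ = Zk.factorThru _ hf := by
      rw [← cancel_mono Zk.arrow, Category.assoc, Subobject.ofLE_arrow,
        imageSubobject_arrow_comp, Subobject.factorThru_arrow]
    rw [← Category.assoc, e, hθ, comp_zero]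
    have : L.liftCycles (L.d i j) k hk (L.d_comp_d i j k) = L.toCycles i j := by
      rw [← cancel_mono (L.iCycles j), HomologicalComplex.liftCycles_i,
        HomologicalComplex.toCycles_i]
    rw [this, HomologicalComplex.toCycles_comp_homologyπ]
  let θ' : subquot Zk Bi hBZ ⟶ L.homology j := subquotDesc Zk Bi hBZ θ hθ0
  have hθ' : ∀ {T : A} (x : T ⟶ L.X j) (hx : Zk.Factors x),
      subquotMk Zk Bi hBZ x hx ≫ θ' =
        L.liftCycles x k hk ((hZk x).mp hx) ≫ L.homologyπ j := by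
    intro T x hx
    have e1 : subquotMk Zk Bi hBZ x hx = Zk.factorThru x hx ≫ subquotπ Zk Bi hBZ := rfl
    rw [e1, Category.assoc, subquotπ_desc, hθ]
  have hmono : Mono θ' := by
    apply Preadditive.mono_of_cancel_zero
    intro T t ht
    obtain ⟨T', π, hπ, x, hx, hxt⟩ := exists_subquotMk Zk Bi hBZ t
    rw [← cancel_epi π, comp_zero, hxt, subquotMk_eq_zero_iff]
    have h0 : L.liftCycles x k hk ((hZk x).mp hx) ≫ L.homologyπ j = 0 := by
      rw [← hθ' x hx, ← hxt, Category.assoc, ht, comp_zero]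
    rw [L.liftCycles_comp_homologyπ_eq_zero_iff_up_to_refinements i j k hi hk] at h0
    obtain ⟨T'', π', hπ', w, hw⟩ := h0
    apply factors_of_epi_comp _ π'
    rw [hw]
    exact imageSubobject_factors_comp_self _ _
  have hepi : Epi θ' := by
    rw [epi_iff_surjective_up_to_refinements]
    intro T γ
    obtain ⟨T', π, hπ, z, hz, hγ⟩ := L.eq_liftCycles_homologyπ_up_to_refinements γ k hk
    refine ⟨T', π, hπ, subquotMk Zk Bi hBZ z ((hZk z).mpr hz), ?_⟩
    rw [hθ', hγ]
  have := isIso_of_mono_of_epi θ'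
  exact ⟨asIso θ'⟩

end HomologyIso

section Abut

variable (K : SpSeq.FilCx A) (n : ℤ)

/-- The cocycles in degree `n`, as a subobject. -/
noncomputable def Zk : Subobject (K.obj.X n) := kernelSubobject (K.obj.d n (n + 1))

/-- The coboundaries in degree `n`, as a subobject. -/
noncomputable def Bi : Subobject (K.obj.X n) := imageSubobject (K.obj.d (n - 1) n)

lemma Bi_le_Zk : Bi K n ≤ Zk K n := imageSubobject_d_le_kernelSubobject_d _ _ _ _

/-- The filtration `(F^p ∩ Ker d) + Im d` of the cocycles. -/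
noncomputable def Cfil (p : ℤ) : Subobject (K.obj.X n) := (K.filX p n ⊓ Zk K n) ⊔ Bi K n

lemma Bi_le_Cfil (p : ℤ) : Bi K n ≤ Cfil K n p := le_sup_right

lemma Cfil_le_Zk (p : ℤ) : Cfil K n p ≤ Zk K n := sup_le inf_le_right (Bi_le_Zk K n)

lemma Cfil_anti {p q : ℤ} (h : p ≤ q) : Cfil K n q ≤ Cfil K n p :=
  sup_le_sup_right (inf_le_inf_right _ (filX_le K h n)) _

lemma Cfil_eq_Zk (p : ℤ) (h : K.filX p n = ⊤) : Cfil K n p = Zk K n := by
  unfold Cfil
  rw [h, top_inf_eq]
  exact sup_eq_left.mpr (Bi_le_Zk K n)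

lemma Cfil_eq_Bi (p : ℤ) (h : K.filX p n = ⊥) : Cfil K n p = Bi K n := by
  unfold Cfil
  rw [h, bot_inf_eq, bot_sup_eq]

lemma ZTop_eq (p : ℤ) : K.ZTop p n = (K.filX p n ⊓ Zk K n) ⊔ K.filX (p + 1) n := rfl

lemma BBot_eq (p : ℤ) : K.BBot p n = (K.filX p n ⊓ Bi K n) ⊔ K.filX (p + 1) n := rfl

lemma BBot_le_ZTop (p : ℤ) : K.BBot p n ≤ K.ZTop p n := by
  rw [BBot_eq, ZTop_eq]
  exact sup_le_sup_right (inf_le_inf_left _ (Bi_le_Zk K n)) _

lemma inf_Cfil_le_BBot (p : ℤ) : (K.filX p n ⊓ Zk K n) ⊓ Cfil K n (p + 1) ≤ K.BBot p n := by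
  apply Subobject.le_of_factors
  set S := (K.filX p n ⊓ Zk K n) ⊓ Cfil K n (p + 1)
  have h1 : (K.filX p n).Factors S.arrow :=
    Subobject.factors_of_le _ inf_le_left (Subobject.inf_arrow_factors_left _ _)
  have h2 : (Cfil K n (p + 1)).Factors S.arrow := Subobject.inf_arrow_factors_right _ _
  unfold Cfil at h2
  obtain ⟨T', π, hπ, x₁, x₂, hx₁, hx₂, hsum⟩ := sup_factors_elim _ _ _ h2
  apply factors_of_epi_comp _ π
  rw [hsum, BBot_eq]
  have hx₁' : (K.filX (p + 1) n).Factors x₁ := Subobject.factors_of_le _ inf_le_left hx₁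
  apply Subobject.factors_add
  · exact Subobject.sup_factors_of_factors_right hx₁'
  · apply Subobject.sup_factors_of_factors_left
    rw [Subobject.inf_factors]
    refine ⟨?_, hx₂⟩
    have e : x₂ = π ≫ S.arrow - x₁ := by rw [hsum]; abel
    rw [e]
    exact factors_sub _ _ _ (Subobject.factors_of_factors_right _ h1)
      (filX_factors_mono K (by omega) _ _ hx₁')

lemma inf_BBot_le_Cfil (p : ℤ) : (K.filX p n ⊓ Zk K n) ⊓ K.BBot p n ≤ Cfil K n (p + 1) := by
  apply Subobject.le_of_factors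
  set S := (K.filX p n ⊓ Zk K n) ⊓ K.BBot p n
  have h1 : (Zk K n).Factors S.arrow :=
    Subobject.factors_of_le _ inf_le_right (Subobject.inf_arrow_factors_left _ _)
  have h2 : (K.BBot p n).Factors S.arrow := Subobject.inf_arrow_factors_right _ _
  rw [BBot_eq] at h2
  obtain ⟨T', π, hπ, x₁, x₂, hx₁, hx₂, hsum⟩ := sup_factors_elim _ _ _ h2
  apply factors_of_epi_comp _ π
  rw [hsum]
  have hx₁' : (Bi K n).Factors x₁ := Subobject.factors_of_le _ inf_le_right hx₁
  unfold Cfil
  apply Subobject.factors_add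
  · exact Subobject.sup_factors_of_factors_right hx₁'
  · apply Subobject.sup_factors_of_factors_left
    rw [Subobject.inf_factors]
    refine ⟨hx₂, ?_⟩
    have e : x₂ = π ≫ S.arrow - x₁ := by rw [hsum]; abel
    rw [e]
    exact factors_sub _ _ _ (Subobject.factors_of_factors_right _ h1)
      (Subobject.factors_of_le _ (Bi_le_Zk K n) hx₁')

lemma gr_iso (p : ℤ) : Nonempty (subquot (K.ZTop p n) (K.BBot p n) (BBot_le_ZTop K n p) ≅
    subquot (Cfil K n p) (Cfil K n (p + 1)) (Cfil_anti K n (by omega))) := by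
  obtain ⟨e₁⟩ := subquot_iso_of_lattice (K.filX p n ⊓ Zk K n)
    ((K.filX p n ⊓ Zk K n) ⊓ Cfil K n (p + 1)) (K.ZTop p n) (K.BBot p n) inf_le_left
    (BBot_le_ZTop K n p) (by rw [ZTop_eq]; exact le_sup_left) (inf_Cfil_le_BBot K n p)
    (le_inf inf_le_left (inf_BBot_le_Cfil K n p))
    (by
      rw [ZTop_eq]
      refine sup_le_sup_left ?_ _
      rw [BBot_eq]
      exact le_sup_right)
  obtain ⟨e₂⟩ := subquot_iso_of_lattice (K.filX p n ⊓ Zk K n)
    ((K.filX p n ⊓ Zk K n) ⊓ Cfil K n (p + 1)) (Cfil K n p) (Cfil K n (p + 1)) inf_le_left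
    (Cfil_anti K n (by omega)) le_sup_left inf_le_right le_rfl
    (sup_le_sup_left (Bi_le_Cfil K n (p + 1)) _)
  exact ⟨e₁.symm ≪≫ e₂⟩

variable {P : ObjectProperty A} (hP : IsWeakSerre P)

include hP

lemma P_subquot_congr {X : A} {Z Z' B B' : Subobject X} (hZ : Z = Z') (hB : B = B') (h : B ≤ Z)
    (h' : B' ≤ Z') (hp : P (subquot Z B h)) : P (subquot Z' B' h') := by
  subst hZ hB
  exact hp

lemma P_Cfil_of_gr (h : ∀ p : ℤ, P (subquot (K.ZTop p n) (K.BBot p n) (BBot_le_ZTop K n p)))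
    (b : ℤ) (hb : K.filX b n = ⊥) (k : ℕ) (p : ℤ) (hp : p + k = b) :
    P (subquot (Cfil K n p) (Bi K n) (Bi_le_Cfil K n p)) := by
  induction k generalizing p with
  | zero =>
    apply hP.of_isZero
    apply isZero_subquot_of_le
    obtain rfl : p = b := by simpa using hp
    exact le_of_eq (Cfil_eq_Bi K n p hb)
  | succ k ih =>
    have ih' := ih (p + 1) (by push_cast at hp; omega)
    obtain ⟨e⟩ := gr_iso K n p
    have hgr := hP.of_iso e (h p)
    obtain ⟨i, q, w, hi, hq, hex⟩ := subquot_ses (Cfil K n p) (Cfil K n (p + 1)) (Bi K n)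
      (Bi_le_Cfil K n (p + 1)) (Cfil_anti K n (by omega))
    exact hP.of_exact_mono_epi i q w hex ih' hgr

/-- If the filtration on `K^n` is finite and all `E_∞^{p,n}` are in `P`, then `H^n(K)` is in `P`. -/
theorem P_homology_of_P_gr (hfin : (K.XFil n).IsFinite)
    (h : ∀ p : ℤ, P (subquot (K.ZTop p n) (K.BBot p n) (BBot_le_ZTop K n p))) :
    P (K.obj.homology n) := by
  obtain ⟨⟨a, ha⟩, ⟨b, hb⟩⟩ := hfin
  have ha' : K.filX a n = ⊤ := ha
  have hb' : K.filX b n = ⊥ := hb
  -- use `p = min a b`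
  have hp1 : K.filX (min a b) n = ⊤ := filX_eq_top_of_le K ha' (min_le_left _ _)
  have hk : min a b + ((b - min a b).toNat : ℤ) = b := by
    have : min a b ≤ b := min_le_right _ _
    omega
  have h1 := P_Cfil_of_gr K n hP h b hb' (b - min a b).toNat (min a b) hk
  have h2 := P_subquot_congr hP (Cfil_eq_Zk K n _ hp1) rfl _ (Bi_le_Zk K n) h1
  obtain ⟨e⟩ := nonempty_subquot_iso_homology K.obj (n - 1) n (n + 1) (by simp) (by simp)
  exact hP.of_iso e h2

end Abut

end Groth.Agent.H34
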