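import Groth.Prelude.Def_SpSeq
import Groth.Agent.H34.SubobjectImage
import Mathlib.Algebra.Homology.ShortComplex.QuasiIso

/-!
# Lemmas on the terms of the spectral sequence of a filtered complex
-/

set_option autoImplicit false
universe v u

open CategoryTheory CategoryTheory.Limits

namespace Groth.Agent.H34

variable {A : Type u} [Category.{v} A] [Abelian A]

lemma isZero_subquot_of_le {X : A} (Z B : Subobject X) (h : B ≤ Z) (h' : Z ≤ B) :
    IsZero (SpSeq.subquot Z B h) := by
  have : IsIso (B.ofLE Z h) := ⟨⟨Z.ofLE B h', by simp, by simp⟩⟩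
  exact isZero_cokernel_of_epi _

lemma pullback_bot_eq_kernelSubobject {X Y : A} (f : X ⟶ Y) :
    (Subobject.pullback f).obj ⊥ = kernelSubobject f := by
  apply le_antisymm
  · have hF : ((Subobject.pullback f).obj ⊥).Factors ((Subobject.pullback f).obj ⊥).arrow :=
      Subobject.factors_self _
    rw [pullback_factors_iff, Subobject.bot_factors_iff_zero] at hF
    exact le_kernelSubobject _ _ hF
  · exact SpSeq.FilCx.kernelSubobject_le_pullback f ⊥

lemma isIso_cokernel_π_of_eq_bot {X : A} (S : Subobject X) (h : S = ⊥) :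
    IsIso (cokernel.π S.arrow) := by
  subst h
  exact cokernel.π_of_zero Subobject.bot_arrow

lemma imageSubobject_arrow_comp_of_eq_top {X Y : A} (S : Subobject X) (h : S = ⊤) (g : X ⟶ Y) :
    imageSubobject (S.arrow ≫ g) = imageSubobject g := by
  subst h
  exact imageSubobject_epi_comp _ _

section FilCx

variable (K : SpSeq.FilCx A)

lemma filX_eq_top_of_le {n a p : ℤ} (ha : K.filX a n = ⊤) (hp : p ≤ a) : K.filX p n = ⊤ := by
  have := K.filX_anti n hp
  simp only at this
  rw [ha] at this
  exact top_le_iff.mp this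

lemma filX_eq_bot_of_le {n b p : ℤ} (hb : K.filX b n = ⊥) (hp : b ≤ p) : K.filX p n = ⊥ := by
  have := K.filX_anti n hp
  simp only at this
  rw [hb] at this
  exact le_bot_iff.mp this

lemma isIso_arrow_f_of_filX_eq_top {p n : ℤ} (h : K.filX p n = ⊤) :
    IsIso ((K.fil p).arrow.f n) := by
  rw [Subobject.isIso_iff_mk_eq_top]
  exact h

lemma isIso_homologyMap_of_top {p n : ℤ}
    (h1 : K.filX p ((ComplexShape.up ℤ).prev n) = ⊤) (h2 : K.filX p n = ⊤)
    (h3 : K.filX p ((ComplexShape.up ℤ).next n) = ⊤) :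
    IsIso (HomologicalComplex.homologyMap (K.fil p).arrow n) := by
  have i1 := isIso_arrow_f_of_filX_eq_top K h1
  have i2 := isIso_arrow_f_of_filX_eq_top K h2
  have i3 := isIso_arrow_f_of_filX_eq_top K h3
  let φ := (HomologicalComplex.shortComplexFunctor A (ComplexShape.up ℤ) n).map (K.fil p).arrow
  have : IsIso φ.τ₁ := i1
  have : IsIso φ.τ₂ := i2
  have : IsIso φ.τ₃ := i3
  have : ShortComplex.QuasiIso φ := ShortComplex.quasiIso_of_epi_of_isIso_of_mono φ
  exact (ShortComplex.quasiIso_iff φ).mp this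

lemma filH_eq_top_of_top {p n : ℤ}
    (h1 : K.filX p ((ComplexShape.up ℤ).prev n) = ⊤) (h2 : K.filX p n = ⊤)
    (h3 : K.filX p ((ComplexShape.up ℤ).next n) = ⊤) : K.filH p n = ⊤ := by
  have := isIso_homologyMap_of_top K h1 h2 h3
  exact imageSubobject_eq_top_of_epi _

lemma filH_eq_bot_of_bot {p n : ℤ} (h : K.filX p n = ⊥) : K.filH p n = ⊥ := by
  have h0 : (K.fil p).arrow.f n = 0 := Subobject.mk_eq_bot_iff_zero.mp h
  have hz : IsZero ((K.fil p : CochainComplex A ℤ).X n) := IsZero.of_mono_eq_zero _ h0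
  have hH : IsZero ((K.fil p : CochainComplex A ℤ).homology n) :=
    ShortComplex.isZero_homology_of_isZero_X₂ _ hz
  have hm : HomologicalComplex.homologyMap (K.fil p).arrow n = 0 := hH.eq_of_src _ _
  apply le_bot_iff.mp
  exact imageSubobject_le _ 0 (by rw [zero_comp, hm])

end FilCx

end Groth.Agent.H34
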