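import Groth.Prelude.Def_SpSeq
import Groth.Agent.H34.GenElem
import Groth.Agent.H34.SpSeqLemmas
import Mathlib.Algebra.Homology.Refinements

/-!
# Element chases for the spectral sequence of a filtered complex
-/

set_option autoImplicit false
universe v u

open CategoryTheory CategoryTheory.Limits SpSeq SpSeq.FilCx

namespace Groth.Agent.H34

variable {A : Type u} [Category.{v} A] [Abelian A] (K : SpSeq.FilCx A)

lemma filX_factors_iff (p n : ℤ) {T : A} (y : T ⟶ K.obj.X n) :
    (K.filX p n).Factors y ↔ ∃ x : T ⟶ (K.step p).X n, x ≫ (K.fil p).arrow.f n = y :=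
  Iff.rfl

@[reassoc]
lemma stepLE_f_arrow {p q : ℤ} (h : p ≤ q) (n : ℤ) :
    (K.stepLE h).f n ≫ (K.fil p).arrow.f n = (K.fil q).arrow.f n := by
  rw [← HomologicalComplex.comp_f, Subobject.ofLE_arrow]

lemma filX_factors_of_le {p q : ℤ} (h : p ≤ q) (n : ℤ) {T : A} (y : T ⟶ (K.step q).X n) :
    (K.filX p n).Factors (y ≫ (K.fil q).arrow.f n) :=
  (filX_factors_iff K p n _).mpr ⟨y ≫ (K.stepLE h).f n, by rw [Category.assoc, stepLE_f_arrow]⟩

/-- A generalized element of `F^q K^m` whose image in `K^m` has differential zero is a cocycle of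
`F^q K`. -/
lemma step_cocycle_of (q m m' : ℤ) {T : A} (w : T ⟶ (K.step q).X m)
    (h : (w ≫ (K.fil q).arrow.f m) ≫ K.obj.d m m' = 0) : w ≫ (K.step q).d m m' = 0 := by
  rw [← cancel_mono ((K.fil q).arrow.f m'), Category.assoc, ← HomologicalComplex.Hom.comm,
    ← Category.assoc, h, zero_comp]

/-- Chase 3: if `H^{n+1}(F^q K) = 0` and `p + 1 ≤ q` then
`F^p ∩ d⁻¹(F^q) ≤ F^p ∩ Ker d + F^{p+1}`. -/
lemma Zs_le_ZTop (p q n : ℤ) (hq : p + 1 ≤ q) (h : IsZero ((K.step q).homology (n + 1))) :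
    K.filX p n ⊓ (Subobject.pullback (K.obj.d n (n + 1))).obj (K.filX q (n + 1)) ≤
      (K.filX p n ⊓ kernelSubobject (K.obj.d n (n + 1))) ⊔ K.filX (p + 1) n := by
  apply Subobject.le_of_factors
  set S := K.filX p n ⊓ (Subobject.pullback (K.obj.d n (n + 1))).obj (K.filX q (n + 1))
  have hx1 : (K.filX p n).Factors S.arrow := Subobject.inf_arrow_factors_left _ _
  have hx2 : (K.filX q (n + 1)).Factors (S.arrow ≫ K.obj.d n (n + 1)) :=
    (pullback_factors_iff _ _ _).mp (Subobject.inf_arrow_factors_right _ _)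
  obtain ⟨w, hw⟩ := (filX_factors_iff K q (n + 1) _).mp hx2
  have hwc : w ≫ (K.step q).d (n + 1) (n + 1 + 1) = 0 := by
    apply step_cocycle_of
    rw [hw, Category.assoc, HomologicalComplex.d_comp_d, comp_zero]
  have hex : (K.step q).ExactAt (n + 1) :=
    (HomologicalComplex.exactAt_iff_isZero_homology _ _).mpr h
  obtain ⟨T', π, hπ, y, hy⟩ := ((K.step q).exactAt_iff_exact_up_to_refinements n (n + 1) (n + 1 + 1)
    (by simp) (by simp)).mp hex w hwc
  apply factors_of_epi_comp _ π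
  have hdecomp : π ≫ S.arrow = (π ≫ S.arrow - y ≫ (K.fil q).arrow.f n) + y ≫ (K.fil q).arrow.f n := by
    abel
  rw [hdecomp]
  apply Subobject.factors_add
  · apply Subobject.sup_factors_of_factors_left
    rw [Subobject.inf_factors]
    constructor
    · exact factors_sub _ _ _ (Subobject.factors_of_factors_right _ hx1)
        (filX_factors_of_le K (by omega) n y)
    · rw [kernelSubobject_factors_iff, Preadditive.sub_comp, Category.assoc, Category.assoc, ← hw,
        ← Category.assoc, hy, Category.assoc, HomologicalComplex.Hom.comm, sub_self]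
  · apply Subobject.sup_factors_of_factors_right
    exact filX_factors_of_le K hq n y

lemma image_factors_of (q' n : ℤ) {T : A} (z : T ⟶ K.obj.X (n - 1))
    (hz : (K.filX q' (n - 1)).Factors z) :
    (imageSubobject ((K.filX q' (n - 1)).arrow ≫ K.obj.d (n - 1) n)).Factors
      (z ≫ K.obj.d (n - 1) n) := by
  rw [← Subobject.factorThru_arrow _ _ hz, Category.assoc]
  exact imageSubobject_factors_comp_self _ _

/-- Chase 1b: if `H^n(F^p K) = 0` and `q' ≤ p` then `F^p ∩ Ker d ≤ F^p ∩ d(F^{q'})`. -/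
lemma ker_le_Bs (p q' n : ℤ) (hq' : q' ≤ p) (h : IsZero ((K.step p).homology n)) :
    K.filX p n ⊓ kernelSubobject (K.obj.d n (n + 1)) ≤
      K.filX p n ⊓ imageSubobject ((K.filX q' (n - 1)).arrow ≫ K.obj.d (n - 1) n) := by
  apply Subobject.le_of_factors
  set S := K.filX p n ⊓ kernelSubobject (K.obj.d n (n + 1))
  have hx1 : (K.filX p n).Factors S.arrow := Subobject.inf_arrow_factors_left _ _
  have hx2 : S.arrow ≫ K.obj.d n (n + 1) = 0 :=
    (kernelSubobject_factors_iff _ _).mp (Subobject.inf_arrow_factors_right _ _)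
  obtain ⟨xp, hxp⟩ := (filX_factors_iff K p n _).mp hx1
  have hxc : xp ≫ (K.step p).d n (n + 1) = 0 := by
    apply step_cocycle_of
    rw [hxp, hx2]
  have hex : (K.step p).ExactAt n :=
    (HomologicalComplex.exactAt_iff_isZero_homology _ _).mpr h
  obtain ⟨T', π, hπ, y, hy⟩ := ((K.step p).exactAt_iff_exact_up_to_refinements (n - 1) n (n + 1)
    (by simp) (by simp)).mp hex xp hxc
  rw [Subobject.inf_factors]
  refine ⟨hx1, ?_⟩
  apply factors_of_epi_comp _ π
  have : π ≫ S.arrow = (y ≫ (K.fil p).arrow.f (n - 1)) ≫ K.obj.d (n - 1) n := by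
    rw [← hxp, ← Category.assoc, hy, Category.assoc, Category.assoc, HomologicalComplex.Hom.comm]
  rw [this]
  exact image_factors_of K q' n _ (filX_factors_of_le K hq' (n - 1) y)

/-- Chase 1: vanishing of `H^{n+1}(F^q K)` and `H^n(F^p K)` kills `E_1^{p, n-p}`-type quotients. -/
lemma Zs_le_Bs_of_isZero (p q q' n : ℤ) (hq : p + 1 ≤ q) (hq' : q' ≤ p)
    (h1 : IsZero ((K.step q).homology (n + 1))) (h2 : IsZero ((K.step p).homology n)) :
    (K.filX p n ⊓ (Subobject.pullback (K.obj.d n (n + 1))).obj (K.filX q (n + 1))) ⊔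
        K.filX (p + 1) n ≤
      (K.filX p n ⊓ imageSubobject ((K.filX q' (n - 1)).arrow ≫ K.obj.d (n - 1) n)) ⊔
        K.filX (p + 1) n :=
  sup_le ((Zs_le_ZTop K p q n hq h1).trans (sup_le_sup_right (ker_le_Bs K p q' n hq' h2) _))
    le_sup_right

/-- Chase 4: if `H^n(F^{q'} K) ⟶ H^n(K)` is a monomorphism and `q' ≤ p` then
`F^p ∩ Im d ≤ F^p ∩ d(F^{q'})`. -/
lemma im_le_Bs (p q' n : ℤ) (hq' : q' ≤ p)
    (h : Mono (HomologicalComplex.homologyMap (K.fil q').arrow n)) :
    K.filX p n ⊓ imageSubobject (K.obj.d (n - 1) n) ≤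
      K.filX p n ⊓ imageSubobject ((K.filX q' (n - 1)).arrow ≫ K.obj.d (n - 1) n) := by
  apply Subobject.le_of_factors
  set S := K.filX p n ⊓ imageSubobject (K.obj.d (n - 1) n)
  have hx1 : (K.filX p n).Factors S.arrow := Subobject.inf_arrow_factors_left _ _
  have hx2 : (imageSubobject (K.obj.d (n - 1) n)).Factors S.arrow :=
    Subobject.inf_arrow_factors_right _ _
  obtain ⟨T₁, π₁, hπ₁, z, hz⟩ := imageSubobject_factors_up_to_refinements _ _ hx2
  obtain ⟨xp, hxp⟩ := (filX_factors_iff K p n _).mp hx1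
  -- the element of `F^{q'} K^n`
  let xq := (π₁ ≫ xp) ≫ (K.stepLE hq').f n
  have hxq : xq ≫ (K.fil q').arrow.f n = z ≫ K.obj.d (n - 1) n := by
    simp only [xq, Category.assoc]
    rw [stepLE_f_arrow, hxp, hz]
  have hxc : xq ≫ (K.step q').d n (n + 1) = 0 := by
    apply step_cocycle_of
    rw [hxq, Category.assoc, HomologicalComplex.d_comp_d, comp_zero]
  obtain ⟨T', π, hπ, y, hy⟩ := (HomologicalComplex.mono_homologyMap_iff_up_to_refinements
    (K.fil q').arrow (n - 1) n (n + 1) (by simp) (by simp)).mp h xq hxc z hxq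
  rw [Subobject.inf_factors]
  refine ⟨hx1, ?_⟩
  have : Epi (π ≫ π₁) := epi_comp _ _
  apply factors_of_epi_comp _ (π ≫ π₁)
  have : (π ≫ π₁) ≫ S.arrow = (y ≫ (K.fil q').arrow.f (n - 1)) ≫ K.obj.d (n - 1) n := by
    rw [Category.assoc, hz, ← hxq, ← Category.assoc, hy, Category.assoc, Category.assoc,
      HomologicalComplex.Hom.comm]
  rw [this]
  exact image_factors_of K q' n _ (filX_factors_of_le K le_rfl (n - 1) y)

/-- Chase 2: if `H^{n+1}(F^q K) ⟶ H^{n+1}(K)` is a monomorphism and `H^n(F^q K) ⟶ H^n(F^p K)` is an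
epimorphism (with `p + 1 ≤ q`), then `E_1`-type quotients at `(p, n)` vanish. -/
lemma Zs_le_Bs_of_mono_epi (p q q' n : ℤ) (hpq : p ≤ q) (hq : p + 1 ≤ q) (hq' : q' ≤ p)
    (h1 : Mono (HomologicalComplex.homologyMap (K.fil q).arrow (n + 1)))
    (h2 : Epi (HomologicalComplex.homologyMap (K.stepLE hpq) n)) :
    (K.filX p n ⊓ (Subobject.pullback (K.obj.d n (n + 1))).obj (K.filX q (n + 1))) ⊔
        K.filX (p + 1) n ≤
      (K.filX p n ⊓ imageSubobject ((K.filX q' (n - 1)).arrow ≫ K.obj.d (n - 1) n)) ⊔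
        K.filX (p + 1) n := by
  refine sup_le ?_ le_sup_right
  apply Subobject.le_of_factors
  set S := K.filX p n ⊓ (Subobject.pullback (K.obj.d n (n + 1))).obj (K.filX q (n + 1))
  have hx1 : (K.filX p n).Factors S.arrow := Subobject.inf_arrow_factors_left _ _
  have hx2 : (K.filX q (n + 1)).Factors (S.arrow ≫ K.obj.d n (n + 1)) :=
    (pullback_factors_iff _ _ _).mp (Subobject.inf_arrow_factors_right _ _)
  obtain ⟨xp, hxp⟩ := (filX_factors_iff K p n _).mp hx1
  obtain ⟨w, hw⟩ := (filX_factors_iff K q (n + 1) _).mp hx2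
  have hwc : w ≫ (K.step q).d (n + 1) (n + 1 + 1) = 0 := by
    apply step_cocycle_of
    rw [hw, Category.assoc, HomologicalComplex.d_comp_d, comp_zero]
  obtain ⟨T₁, π₁, hπ₁, y, hy⟩ := (HomologicalComplex.mono_homologyMap_iff_up_to_refinements
    (K.fil q).arrow n (n + 1) (n + 1 + 1) (by simp) (by simp)).mp h1 w hwc S.arrow hw
  let x' : T₁ ⟶ (K.step p).X n := π₁ ≫ xp - y ≫ (K.stepLE hpq).f n
  have hx' : x' ≫ (K.fil p).arrow.f n = π₁ ≫ S.arrow - y ≫ (K.fil q).arrow.f n := by
    simp only [x', Preadditive.sub_comp, Category.assoc]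
    rw [stepLE_f_arrow, hxp]
  have hx'c : x' ≫ (K.step p).d n (n + 1) = 0 := by
    apply step_cocycle_of
    rw [hx', Preadditive.sub_comp, Category.assoc, Category.assoc, ← hw, ← Category.assoc, hy,
      Category.assoc, HomologicalComplex.Hom.comm, sub_self]
  obtain ⟨T₂, π₂, hπ₂, w', hw'c, y', hy'⟩ := (HomologicalComplex.epi_homologyMap_iff_up_to_refinements
    (K.stepLE hpq) (n - 1) n (n + 1) (by simp) (by simp)).mp h2 x' hx'c
  have : Epi (π₂ ≫ π₁) := epi_comp _ _
  apply factors_of_epi_comp _ (π₂ ≫ π₁)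
  have hdecomp : (π₂ ≫ π₁) ≫ S.arrow =
      (y' ≫ (K.step p).d (n - 1) n) ≫ (K.fil p).arrow.f n +
        (w' + π₂ ≫ y) ≫ (K.fil q).arrow.f n := by
    have e1 : π₂ ≫ π₁ ≫ S.arrow = π₂ ≫ x' ≫ (K.fil p).arrow.f n +
        π₂ ≫ y ≫ (K.fil q).arrow.f n := by
      rw [hx', Preadditive.comp_sub]
      abel
    rw [Category.assoc, e1, ← Category.assoc π₂ x', hy', Preadditive.add_comp, Category.assoc w',
      stepLE_f_arrow, Preadditive.add_comp, Category.assoc π₂ y]
    abel
  rw [hdecomp]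
  apply Subobject.factors_add
  · apply Subobject.sup_factors_of_factors_left
    rw [Subobject.inf_factors]
    refine ⟨filX_factors_of_le K le_rfl n _, ?_⟩
    rw [Category.assoc, ← HomologicalComplex.Hom.comm, ← Category.assoc]
    exact image_factors_of K q' n _ (filX_factors_of_le K hq' (n - 1) y')
  · apply Subobject.sup_factors_of_factors_right
    exact filX_factors_of_le K hq n _

end Groth.Agent.H34
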