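import Mathlib.Algebra.Homology.ExactSequence
import Mathlib.CategoryTheory.ObjectProperty.ClosedUnderIsomorphisms
import Mathlib.CategoryTheory.Abelian.Basic

/-!
# Weak Serre classes, in the five-term form

A class `P` of objects of an abelian category, closed under isomorphisms, containing a zero
object, and such that in any exact sequence `A₀ ⟶ A₁ ⟶ A₂ ⟶ A₃ ⟶ A₄` with the four outer terms in
`P` the middle term is in `P`.  Such a class is closed under kernels, cokernels and extensions.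
-/

set_option autoImplicit false
universe v u

open CategoryTheory CategoryTheory.Limits

namespace Groth.Agent.H34

variable {A : Type u} [Category.{v} A] [Abelian A]

lemma exact_mk₄ {X₀ X₁ X₂ X₃ X₄ : A} (f₀ : X₀ ⟶ X₁) (f₁ : X₁ ⟶ X₂) (f₂ : X₂ ⟶ X₃)
    (f₃ : X₃ ⟶ X₄) (w₀ : f₀ ≫ f₁ = 0) (w₁ : f₁ ≫ f₂ = 0) (w₂ : f₂ ≫ f₃ = 0)
    (e₀ : (ShortComplex.mk f₀ f₁ w₀).Exact) (e₁ : (ShortComplex.mk f₁ f₂ w₁).Exact)
    (e₂ : (ShortComplex.mk f₂ f₃ w₂).Exact) :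
    (ComposableArrows.mk₄ f₀ f₁ f₂ f₃).Exact :=
  ComposableArrows.exact_of_δ₀ (ComposableArrows.exact₂_mk _ w₀ e₀)
    (ComposableArrows.exact_of_δ₀ (ComposableArrows.exact₂_mk _ w₁ e₁)
      (ComposableArrows.exact₂_mk _ w₂ e₂))

/-- The hypotheses on a weak Serre class, in the five-term form. -/
structure IsWeakSerre (P : ObjectProperty A) : Prop where
  iso : P.IsClosedUnderIsomorphisms
  zero : ∃ Z : A, IsZero Z ∧ P Z
  five : ∀ S : ComposableArrows A 4, S.Exact → P (S.obj 0) → P (S.obj 1) → P (S.obj 3) →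
    P (S.obj 4) → P (S.obj 2)

namespace IsWeakSerre

variable {P : ObjectProperty A} (hP : IsWeakSerre P)

include hP

lemma of_iso {X Y : A} (e : X ≅ Y) (hX : P X) : P Y :=
  haveI := hP.iso
  P.prop_of_iso e hX

lemma of_isZero {X : A} (hX : IsZero X) : P X := by
  obtain ⟨Z, hZ, hPZ⟩ := hP.zero
  exact hP.of_iso (hZ.iso hX) hPZ

/-- Closure under kernels: `0 ⟶ X₁ ⟶ X₂ ⟶ X₃` exact. -/
lemma of_exact_mono {X₁ X₂ X₃ : A} (f : X₁ ⟶ X₂) (g : X₂ ⟶ X₃) (w : f ≫ g = 0)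
    (hex : (ShortComplex.mk f g w).Exact) [Mono f] (h₂ : P X₂) (h₃ : P X₃) : P X₁ := by
  obtain ⟨Z, hZ, hPZ⟩ := hP.zero
  have e := exact_mk₄ (0 : Z ⟶ Z) (0 : Z ⟶ X₁) f g zero_comp zero_comp w
    (ShortComplex.exact_of_isZero_X₂ _ hZ)
    ((ShortComplex.exact_iff_mono _ rfl).mpr inferInstance) hex
  exact hP.five _ e hPZ hPZ h₂ h₃

/-- Closure under cokernels: `X₁ ⟶ X₂ ⟶ X₃ ⟶ 0` exact. -/
lemma of_exact_epi {X₁ X₂ X₃ : A} (f : X₁ ⟶ X₂) (g : X₂ ⟶ X₃) (w : f ≫ g = 0)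
    (hex : (ShortComplex.mk f g w).Exact) [Epi g] (h₁ : P X₁) (h₂ : P X₂) : P X₃ := by
  obtain ⟨Z, hZ, hPZ⟩ := hP.zero
  have e := exact_mk₄ f g (0 : X₃ ⟶ Z) (0 : Z ⟶ Z) w comp_zero comp_zero hex
    ((ShortComplex.exact_iff_epi _ rfl).mpr inferInstance)
    (ShortComplex.exact_of_isZero_X₂ _ hZ)
  exact hP.five _ e h₁ h₂ hPZ hPZ

/-- Closure under extensions: `0 ⟶ X₁ ⟶ X₂ ⟶ X₃ ⟶ 0` exact. -/
lemma of_exact_mono_epi {X₁ X₂ X₃ : A} (f : X₁ ⟶ X₂) (g : X₂ ⟶ X₃) (w : f ≫ g = 0)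
    (hex : (ShortComplex.mk f g w).Exact) [Mono f] [Epi g] (h₁ : P X₁) (h₃ : P X₃) : P X₂ := by
  obtain ⟨Z, hZ, hPZ⟩ := hP.zero
  have e := exact_mk₄ (0 : Z ⟶ X₁) f g (0 : X₃ ⟶ Z) zero_comp w comp_zero
    ((ShortComplex.exact_iff_mono _ rfl).mpr inferInstance) hex
    ((ShortComplex.exact_iff_epi _ rfl).mpr inferInstance)
  exact hP.five _ e hPZ h₁ h₃ hPZ

end IsWeakSerre

end Groth.Agent.H34
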