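import Groth.Agent.H34.Subquot
import Groth.Agent.H34.WeakSerre
import Groth.Agent.H34.SpSeqChase

/-!
# Passing from one page of the spectral sequence of a filtered complex to the next

`E_{r+1}` is the homology of `E_r`, in the form needed for weak Serre classes: if all terms of
page `r` belong to a weak Serre class `P`, so do all terms of page `r + 1`.
-/

set_option autoImplicit false
universe v u

open CategoryTheory CategoryTheory.Limits SpSeq SpSeq.FilCx

namespace Groth.Agent.H34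

variable {A : Type u} [Category.{v} A] [Abelian A]

/-- A generalized element of `S₁ ⊔ S₂` is, after a refinement, a sum of elements of `S₁` and
`S₂` (as generalized elements of the ambient object). -/
lemma sup_factors_elim {X T : A} (S₁ S₂ : Subobject X) (z : T ⟶ X) (h : (S₁ ⊔ S₂).Factors z) :
    ∃ (T' : A) (π : T' ⟶ T) (_ : Epi π) (x₁ x₂ : T' ⟶ X),
      S₁.Factors x₁ ∧ S₂.Factors x₂ ∧ π ≫ z = x₁ + x₂ := by
  obtain ⟨T', π, hπ, z₁, z₂, hz⟩ := sup_factors_up_to_refinements S₁ S₂ z h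
  exact ⟨T', π, hπ, z₁ ≫ S₁.arrow, z₂ ≫ S₂.arrow, Subobject.factors_comp_arrow _,
    Subobject.factors_comp_arrow _, hz⟩

variable (K : SpSeq.FilCx A)

lemma filX_le {p q : ℤ} (h : p ≤ q) (n : ℤ) : K.filX q n ≤ K.filX p n := K.filX_anti n h

lemma filX_factors_mono {p q : ℤ} (h : p ≤ q) (n : ℤ) {T : A} (x : T ⟶ K.obj.X n)
    (hx : (K.filX q n).Factors x) : (K.filX p n).Factors x :=
  Subobject.factors_of_le _ (filX_le K h n) hx

/-- The differential preserves the filtration. -/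
lemma filX_d_factors (p n m : ℤ) {T : A} (x : T ⟶ K.obj.X n) (hx : (K.filX p n).Factors x) :
    (K.filX p m).Factors (x ≫ K.obj.d n m) := by
  obtain ⟨x', rfl⟩ := (filX_factors_iff K p n x).mp hx
  rw [Category.assoc, HomologicalComplex.Hom.comm, ← Category.assoc]
  exact (filX_factors_iff K p m _).mpr ⟨_, rfl⟩

/-- `F^p K^n ∩ d⁻¹(F^q K^{n+1})`. -/
noncomputable def Zt (p q n : ℤ) : Subobject (K.obj.X n) :=
  K.filX p n ⊓ (Subobject.pullback (K.obj.d n (n + 1))).obj (K.filX q (n + 1))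

/-- `F^p K^n ∩ d(F^q K^{n-1})`. -/
noncomputable def Bt (p q n : ℤ) : Subobject (K.obj.X n) :=
  K.filX p n ⊓ imageSubobject ((K.filX q (n - 1)).arrow ≫ K.obj.d (n - 1) n)

lemma ZSub_eq (r : ℕ) (p n : ℤ) : K.ZSub r p n = Zt K p (p + r) n ⊔ K.filX (p + 1) n := rfl

lemma BSub_eq (r : ℕ) (p n : ℤ) : K.BSub r p n = Bt K p (p - r + 1) n ⊔ K.filX (p + 1) n := rfl

lemma Zt_factors_iff (p q n : ℤ) {T : A} (x : T ⟶ K.obj.X n) :
    (Zt K p q n).Factors x ↔
      (K.filX p n).Factors x ∧ (K.filX q (n + 1)).Factors (x ≫ K.obj.d n (n + 1)) := by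
  unfold Zt
  rw [Subobject.inf_factors, pullback_factors_iff]

lemma Zt_le_left (p q n : ℤ) : Zt K p q n ≤ K.filX p n := inf_le_left

lemma Zt_anti_right (p n : ℤ) {q q' : ℤ} (h : q ≤ q') : Zt K p q' n ≤ Zt K p q n := by
  apply Subobject.le_of_factors
  rw [Zt_factors_iff]
  have h0 := (Zt_factors_iff K p q' n (Zt K p q' n).arrow).mp (Subobject.factors_self _)
  exact ⟨h0.1, filX_factors_mono K h _ _ h0.2⟩

lemma Zt_factors_of_cocycle (p q n : ℤ) {T : A} (x : T ⟶ K.obj.X n)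
    (hx : (K.filX p n).Factors x) (hd : x ≫ K.obj.d n (n + 1) = 0) : (Zt K p q n).Factors x := by
  rw [Zt_factors_iff]
  refine ⟨hx, ?_⟩
  rw [hd]
  exact Subobject.factors_zero

lemma Bt_le_left (p q n : ℤ) : Bt K p q n ≤ K.filX p n := inf_le_left

lemma Bt_factors_intro (p q n m : ℤ) (hm : m + 1 = n) {T : A} (w : T ⟶ K.obj.X m)
    (hw : (K.filX q m).Factors w) (hwd : (K.filX p n).Factors (w ≫ K.obj.d m n)) :
    (Bt K p q n).Factors (w ≫ K.obj.d m n) := by
  obtain rfl : m = n - 1 := by omega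
  unfold Bt
  rw [Subobject.inf_factors]
  exact ⟨hwd, image_factors_of K q n w hw⟩

lemma Bt_factors_elim (p q n m : ℤ) (hm : m + 1 = n) {T : A} (y : T ⟶ K.obj.X n)
    (hy : (Bt K p q n).Factors y) :
    (K.filX p n).Factors y ∧ ∃ (T' : A) (π : T' ⟶ T) (_ : Epi π) (w : T' ⟶ K.obj.X m),
      (K.filX q m).Factors w ∧ π ≫ y = w ≫ K.obj.d m n := by
  obtain rfl : m = n - 1 := by omega
  unfold Bt at hy
  rw [Subobject.inf_factors] at hy
  refine ⟨hy.1, ?_⟩
  obtain ⟨T', π, hπ, w, hw⟩ := imageSubobject_factors_up_to_refinements _ _ hy.2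
  refine ⟨T', π, hπ, w ≫ (K.filX q (n - 1)).arrow, Subobject.factors_comp_arrow _, ?_⟩
  rw [hw, Category.assoc]

/-- Elements of `Bt` are cocycles. -/
lemma Bt_d_eq_zero (p q n n' : ℤ) {T : A} (y : T ⟶ K.obj.X n) (hy : (Bt K p q n).Factors y) :
    y ≫ K.obj.d n n' = 0 := by
  obtain ⟨_, T', π, hπ, w, _, hw⟩ := Bt_factors_elim K p q n (n - 1) (by omega) y hy
  rw [← cancel_epi π, comp_zero, ← Category.assoc, hw, Category.assoc,
    HomologicalComplex.d_comp_d, comp_zero]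

lemma Bt_anti_right (p n : ℤ) {q q' : ℤ} (h : q ≤ q') : Bt K p q' n ≤ Bt K p q n := by
  apply Subobject.le_of_factors
  obtain ⟨h1, T', π, hπ, w, hw, hwd⟩ := Bt_factors_elim K p q' n (n - 1) (by omega)
    (Bt K p q' n).arrow (Subobject.factors_self _)
  apply factors_of_epi_comp _ π
  rw [hwd]
  apply Bt_factors_intro K p q n (n - 1) (by omega) w (filX_factors_mono K h _ _ hw)
  rw [← hwd]
  exact Subobject.factors_of_factors_right _ h1

lemma Bt_le_Zt (p q q' n : ℤ) : Bt K p q n ≤ Zt K p q' n := by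
  apply Subobject.le_of_factors
  have h0 : (Bt K p q n).Factors (Bt K p q n).arrow := Subobject.factors_self _
  exact Zt_factors_of_cocycle K p q' n _ (Subobject.factors_of_le _ (Bt_le_left K p q n) h0)
    (Bt_d_eq_zero K p q n (n + 1) _ h0)

lemma BSub_le_succ (r : ℕ) (p n : ℤ) : K.BSub r p n ≤ K.BSub (r + 1) p n := by
  rw [BSub_eq, BSub_eq]
  refine sup_le_sup_right (Bt_anti_right K p n ?_) _
  push_cast
  omega

lemma BSub_le_ZSub' (r r' : ℕ) (p n : ℤ) : K.BSub r p n ≤ K.ZSub r' p n := by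
  rw [BSub_eq, ZSub_eq]
  exact sup_le_sup_right (Bt_le_Zt K _ _ _ _) _

section Step

variable (r : ℕ) (p n : ℤ)

lemma Zt_d_factors (q q' : ℤ) {T : A} (x : T ⟶ K.obj.X n) (hx : (Zt K p q n).Factors x) :
    (Zt K q q' (n + 1)).Factors (x ≫ K.obj.d n (n + 1)) := by
  apply Zt_factors_of_cocycle
  · exact ((Zt_factors_iff K p q n x).mp hx).2
  · rw [Category.assoc, HomologicalComplex.d_comp_d, comp_zero]

lemma BSub_d_factors {T : A} (x : T ⟶ K.obj.X n) (hx : (Zt K p (p + r) n).Factors x)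
    (hb : (K.BSub r p n).Factors x) :
    (K.BSub r (p + r) (n + 1)).Factors (x ≫ K.obj.d n (n + 1)) := by
  rw [BSub_eq] at hb ⊢
  obtain ⟨T', π, hπ, x₁, x₂, hx₁, hx₂, hsum⟩ := sup_factors_elim _ _ x hb
  apply factors_of_epi_comp _ π
  have e : π ≫ x ≫ K.obj.d n (n + 1) = x₂ ≫ K.obj.d n (n + 1) := by
    rw [← Category.assoc, hsum, Preadditive.add_comp, Bt_d_eq_zero K _ _ n (n + 1) x₁ hx₁,
      zero_add]
  rw [e]
  apply Subobject.sup_factors_of_factors_left
  have hq : p + (r : ℤ) - r + 1 = p + 1 := by omega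
  rw [hq]
  apply Bt_factors_intro K (p + r) (p + 1) (n + 1) n rfl x₂ hx₂
  rw [← e]
  exact Subobject.factors_of_factors_right _ ((Zt_factors_iff K p (p + r) n x).mp hx).2

lemma ker_le_ZSub_succ :
    Zt K p (p + r) n ⊓ (Subobject.pullback (K.obj.d n (n + 1))).obj (K.BSub r (p + r) (n + 1)) ≤
      K.ZSub (r + 1) p n := by
  apply Subobject.le_of_factors
  set S := Zt K p (p + r) n ⊓
    (Subobject.pullback (K.obj.d n (n + 1))).obj (K.BSub r (p + r) (n + 1)) with hS
  have h1 : (Zt K p (p + r) n).Factors S.arrow := Subobject.inf_arrow_factors_left _ _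
  have h2 : (K.BSub r (p + r) (n + 1)).Factors (S.arrow ≫ K.obj.d n (n + 1)) :=
    (pullback_factors_iff _ _ _).mp (Subobject.inf_arrow_factors_right _ _)
  rw [BSub_eq] at h2
  have hq : p + (r : ℤ) - r + 1 = p + 1 := by omega
  rw [hq] at h2
  obtain ⟨T₁, π₁, hπ₁, y₁, y₂, hy₁, hy₂, hsum⟩ := sup_factors_elim _ _ _ h2
  obtain ⟨_, T₂, π₂, hπ₂, w, hw, hwd⟩ := Bt_factors_elim K (p + r) (p + 1) (n + 1) n rfl y₁ hy₁
  have : Epi (π₂ ≫ π₁) := epi_comp _ _
  apply factors_of_epi_comp _ (π₂ ≫ π₁)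
  rw [ZSub_eq]
  have hdecomp : (π₂ ≫ π₁) ≫ S.arrow = ((π₂ ≫ π₁) ≫ S.arrow - w) + w := by abel
  rw [hdecomp]
  apply Subobject.factors_add
  · apply Subobject.sup_factors_of_factors_left
    rw [Zt_factors_iff]
    constructor
    · apply factors_sub
      · exact Subobject.factors_of_factors_right _ ((Zt_factors_iff K p (p + r) n _).mp h1).1
      · exact filX_factors_mono K (by omega) _ _ hw
    · have e : ((π₂ ≫ π₁) ≫ S.arrow - w) ≫ K.obj.d n (n + 1) = π₂ ≫ y₂ := by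
        rw [Preadditive.sub_comp, Category.assoc, Category.assoc, hsum, Preadditive.comp_add, hwd]
        abel
      rw [e]
      have hq' : p + ((r + 1 : ℕ) : ℤ) = p + r + 1 := by push_cast; omega
      rw [hq']
      exact Subobject.factors_of_factors_right _ hy₂
  · apply Subobject.sup_factors_of_factors_right
    exact hw

lemma ZSub_succ_le :
    K.ZSub (r + 1) p n ≤
      (Zt K p (p + r) n ⊓
        (Subobject.pullback (K.obj.d n (n + 1))).obj (K.BSub r (p + r) (n + 1))) ⊔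
        K.BSub r p n := by
  rw [ZSub_eq]
  apply sup_le
  · refine le_trans ?_ le_sup_left
    apply le_inf
    · exact Zt_anti_right K p n (by push_cast; omega)
    · apply Subobject.le_of_factors
      rw [pullback_factors_iff, BSub_eq]
      apply Subobject.sup_factors_of_factors_right
      have h0 := ((Zt_factors_iff K p (p + ((r + 1 : ℕ) : ℤ)) n _).mp
        (Subobject.factors_self _)).2
      exact filX_factors_mono K (by push_cast; omega) _ _ h0
  · refine le_trans ?_ le_sup_right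
    rw [BSub_eq]
    exact le_sup_right

lemma exists_lift_of_BSub_succ {T : A} (y : T ⟶ K.obj.X (n + 1))
    (hy : (K.BSub (r + 1) (p + r) (n + 1)).Factors y) :
    ∃ (T' : A) (π : T' ⟶ T) (_ : Epi π) (x : T' ⟶ K.obj.X n),
      (Zt K p (p + r) n).Factors x ∧
        (K.BSub r (p + r) (n + 1)).Factors (π ≫ y - x ≫ K.obj.d n (n + 1)) := by
  rw [BSub_eq] at hy
  have hq : p + (r : ℤ) - ((r + 1 : ℕ) : ℤ) + 1 = p := by push_cast; omega
  rw [hq] at hy
  obtain ⟨T₁, π₁, hπ₁, y₁, y₂, hy₁, hy₂, hsum⟩ := sup_factors_elim _ _ y hy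
  obtain ⟨hy₁', T₂, π₂, hπ₂, w, hw, hwd⟩ := Bt_factors_elim K (p + r) p (n + 1) n rfl y₁ hy₁
  refine ⟨T₂, π₂ ≫ π₁, epi_comp _ _, w, ?_, ?_⟩
  · rw [Zt_factors_iff]
    refine ⟨hw, ?_⟩
    rw [← hwd]
    exact Subobject.factors_of_factors_right _ hy₁'
  · have e : (π₂ ≫ π₁) ≫ y - w ≫ K.obj.d n (n + 1) = π₂ ≫ y₂ := by
      rw [Category.assoc, hsum, Preadditive.comp_add, hwd]
      abel
    rw [e, BSub_eq]
    apply Subobject.sup_factors_of_factors_right
    exact Subobject.factors_of_factors_right _ hy₂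

lemma Zt_d_factors_BSub_succ {T : A} (x : T ⟶ K.obj.X n) (hx : (Zt K p (p + r) n).Factors x) :
    (K.BSub (r + 1) (p + r) (n + 1)).Factors (x ≫ K.obj.d n (n + 1)) := by
  rw [BSub_eq]
  apply Subobject.sup_factors_of_factors_left
  have hq : p + (r : ℤ) - ((r + 1 : ℕ) : ℤ) + 1 = p := by push_cast; omega
  rw [hq]
  have h0 := (Zt_factors_iff K p (p + r) n x).mp hx
  exact Bt_factors_intro K (p + r) p (n + 1) n rfl x h0.1 h0.2

/-- `E_r^{p,n}` presented as a quotient of `F^p ∩ d⁻¹ F^{p+r}`. -/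
lemma E'_iso : Nonempty (subquot (Zt K p (p + r) n) (Zt K p (p + r) n ⊓ K.BSub r p n)
    inf_le_left ≅ K.E r p n) := by
  change Nonempty (_ ≅ subquot (K.ZSub r p n) (K.BSub r p n) (K.BSub_le_ZSub r p n))
  refine subquot_iso_of_lattice _ _ _ _ _ _ ?_ inf_le_right le_rfl ?_
  · rw [ZSub_eq]
    exact le_sup_left
  · rw [ZSub_eq]
    refine sup_le_sup_left ?_ _
    rw [BSub_eq]
    exact le_sup_right

variable {P : ObjectProperty A} (hP : IsWeakSerre P)

include hP

/-- The kernel of `d_r`. -/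
lemma P_ker_part (h1 : P (K.E r p n)) (h2 : P (K.E r (p + r) (n + 1))) :
    P (subquot (K.ZSub (r + 1) p n) (K.BSub r p n) (BSub_le_ZSub' K r (r + 1) p n)) := by
  obtain ⟨e⟩ := E'_iso K r p n
  have hE' := hP.of_iso e.symm h1
  have hZ : (K.ZSub r (p + r) (n + 1)).Factors ((Zt K p (p + r) n).arrow ≫ K.obj.d n (n + 1)) := by
    rw [ZSub_eq]
    apply Subobject.sup_factors_of_factors_left
    exact Zt_d_factors K p n (p + r) _ _ (Subobject.factors_self _)
  have hB : (K.BSub r (p + r) (n + 1)).Factors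
      ((Zt K p (p + r) n ⊓ K.BSub r p n).arrow ≫ K.obj.d n (n + 1)) :=
    BSub_d_factors K r p n _ (Subobject.inf_arrow_factors_left _ _)
      (Subobject.inf_arrow_factors_right _ _)
  obtain ⟨ι, w, hι, hex⟩ := subquotMap_kernel_exact (K.obj.d n (n + 1)) (Zt K p (p + r) n)
    (Zt K p (p + r) n ⊓ K.BSub r p n) inf_le_left (K.ZSub r (p + r) (n + 1))
    (K.BSub r (p + r) (n + 1)) (K.BSub_le_ZSub r (p + r) (n + 1)) hZ hB
  have hK' := hP.of_exact_mono ι _ w hex hE' h2
  obtain ⟨e'⟩ := subquot_iso_of_lattice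
    (Zt K p (p + r) n ⊓ (Subobject.pullback (K.obj.d n (n + 1))).obj (K.BSub r (p + r) (n + 1)))
    (Zt K p (p + r) n ⊓ K.BSub r p n) (K.ZSub (r + 1) p n) (K.BSub r p n)
    (le_inf_pullback_of_factors _ _ _ inf_le_left _ hB) (BSub_le_ZSub' K r (r + 1) p n)
    (ker_le_ZSub_succ K r p n) inf_le_right (inf_le_inf_right _ inf_le_left)
    (ZSub_succ_le K r p n)
  exact hP.of_iso e' hK'

/-- The cokernel of `d_r`. -/
lemma P_coker_part (h1 : P (K.E r p n))
    (h2 : P (subquot (K.ZSub (r + 1) (p + r) (n + 1)) (K.BSub r (p + r) (n + 1))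
      (BSub_le_ZSub' K r (r + 1) (p + r) (n + 1)))) :
    P (K.E (r + 1) (p + r) (n + 1)) := by
  obtain ⟨e⟩ := E'_iso K r p n
  have hE' := hP.of_iso e.symm h1
  have hZ : (K.ZSub (r + 1) (p + r) (n + 1)).Factors
      ((Zt K p (p + r) n).arrow ≫ K.obj.d n (n + 1)) := by
    rw [ZSub_eq]
    apply Subobject.sup_factors_of_factors_left
    exact Zt_d_factors K p n (p + r) _ _ (Subobject.factors_self _)
  have hB : (K.BSub r (p + r) (n + 1)).Factors
      ((Zt K p (p + r) n ⊓ K.BSub r p n).arrow ≫ K.obj.d n (n + 1)) :=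
    BSub_d_factors K r p n _ (Subobject.inf_arrow_factors_left _ _)
      (Subobject.inf_arrow_factors_right _ _)
  have hZ' : (K.ZSub (r + 1) (p + r) (n + 1)).Factors
      ((K.ZSub (r + 1) (p + r) (n + 1)).arrow ≫ 𝟙 _) := factors_arrow_comp_id_of_le le_rfl
  have hB' : (K.BSub (r + 1) (p + r) (n + 1)).Factors
      ((K.BSub r (p + r) (n + 1)).arrow ≫ 𝟙 _) :=
    factors_arrow_comp_id_of_le (BSub_le_succ K r (p + r) (n + 1))
  have w := subquotMap_comp_eq_zero (K.obj.d n (n + 1)) (𝟙 _)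
    (Zt K p (p + r) n) (Zt K p (p + r) n ⊓ K.BSub r p n) inf_le_left
    (K.ZSub (r + 1) (p + r) (n + 1)) (K.BSub r (p + r) (n + 1))
    (BSub_le_ZSub' K r (r + 1) (p + r) (n + 1))
    (K.ZSub (r + 1) (p + r) (n + 1)) (K.BSub (r + 1) (p + r) (n + 1))
    (K.BSub_le_ZSub (r + 1) (p + r) (n + 1)) hZ hB hZ' hB' (by
      intro T x hx
      rw [Category.comp_id]
      exact Zt_d_factors_BSub_succ K r p n x hx)
  have hex := subquotMap_exact (K.obj.d n (n + 1)) (𝟙 _)
    (Zt K p (p + r) n) (Zt K p (p + r) n ⊓ K.BSub r p n) inf_le_left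
    (K.ZSub (r + 1) (p + r) (n + 1)) (K.BSub r (p + r) (n + 1))
    (BSub_le_ZSub' K r (r + 1) (p + r) (n + 1))
    (K.ZSub (r + 1) (p + r) (n + 1)) (K.BSub (r + 1) (p + r) (n + 1))
    (K.BSub_le_ZSub (r + 1) (p + r) (n + 1)) hZ hB hZ' hB' w (by
      intro T y _ hy
      rw [Category.comp_id] at hy
      exact exists_lift_of_BSub_succ K r p n y hy)
  refine @IsWeakSerre.of_exact_epi A _ _ P hP _ _ _ _ _ w hex ?_ hE' h2
  exact subquotMapId_epi _ _ _ _ _ _ le_rfl (BSub_le_succ K r (p + r) (n + 1)) le_sup_left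

lemma P_coker_part' (p' n' : ℤ) (hp : p' + r = p) (hn : n' + 1 = n) (h1 : P (K.E r p' n'))
    (h2 : P (subquot (K.ZSub (r + 1) p n) (K.BSub r p n) (BSub_le_ZSub' K r (r + 1) p n))) :
    P (K.E (r + 1) p n) := by
  subst hp hn
  exact P_coker_part K r p' n' hP h1 h2

/-- If all terms of page `r` are in `P`, so are all terms of page `r + 1`. -/
lemma P_next_page (h : ∀ p n : ℤ, P (K.E r p n)) (p n : ℤ) : P (K.E (r + 1) p n) :=
  P_coker_part' K r p n hP (p - r) (n - 1) (by omega) (by omega) (h _ _)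
    (P_ker_part K r p n hP (h _ _) (h _ _))

lemma P_page_of_le (h : ∀ p n : ℤ, P (K.E r p n)) (s : ℕ) (hs : r ≤ s) (p n : ℤ) :
    P (K.E s p n) := by
  induction s, hs using Nat.le_induction generalizing p n with
  | base => exact h p n
  | succ s _ ih => exact P_next_page K s hP ih p n

end Step

end Groth.Agent.H34
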