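import Groth.Agent.H34.ModStalk
import Mathlib.CategoryTheory.Sites.Point.Skyscraper
import Mathlib.Algebra.Category.Grp.FilteredColimits
import Mathlib.CategoryTheory.Limits.Types.Filtered

set_option autoImplicit false
universe u
open CategoryTheory CategoryTheory.Limits Opposite TopologicalSpace
open Groth.Agent.H45 Groth.Agent.H45.FinFree

namespace Groth.Agent.H34.ModFT

variable {C : Type u} [SmallCategory C] {J : GrothendieckTopology C} {O : Sheaf J CommRingCat.{u}}
variable (p : GrothendieckTopology.Point.{u} J)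

/-- The stalk functor to types. -/
noncomputable def stalkType : ModSite.Mod O ⥤ Type u :=
  SheafOfModules.toSheaf (ModSite.ringSh O) ⋙ p.sheafFiber (A := AddCommGrpCat.{u}) ⋙
    forget AddCommGrpCat.{u}

lemma stalkType_map {F G : ModSite.Mod O} (φ : F ⟶ G) (γ : ModSite.stalkAb p F) :
    (stalkType p).map φ γ = (ModSite.stalkMap p φ).hom γ := rfl

noncomputable instance {I : Type u} [SmallCategory I] [IsFiltered I] :
    PreservesColimitsOfShape I (stalkType (O := O) p) := by
  unfold stalkType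
  have : PreservesColimitsOfShape I (SheafOfModules.toSheaf.{u} (ModSite.ringSh O)) :=
    (preservesColimits_toSheaf O).preservesColimitsOfShape
  infer_instance

variable {I : Type u} [SmallCategory I] [IsFiltered I] (D : I ⥤ ModSite.Mod O) (c : Cocone D)
  (hc : IsColimit c)

include hc in
lemma stalk_colimit_exists_rep (γ : ModSite.stalkAb p c.pt) :
    ∃ (i : I) (γ' : ModSite.stalkAb p (D.obj i)), (ModSite.stalkMap p (c.ι.app i)).hom γ' = γ := by
  obtain ⟨i, γ', h⟩ := Types.jointly_surjective_of_isColimit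
    (isColimitOfPreserves (stalkType p) hc) γ
  exact ⟨i, γ', h⟩

include hc in
lemma stalk_colimit_eq_zero (i : I) (γ' : ModSite.stalkAb p (D.obj i))
    (h : (ModSite.stalkMap p (c.ι.app i)).hom γ' = 0) :
    ∃ (j : I) (f : i ⟶ j), (ModSite.stalkMap p (D.map f)).hom γ' = 0 := by
  have h0 : ((stalkType p).mapCocone c).ι.app i γ' = ((stalkType p).mapCocone c).ι.app i (0 : ModSite.stalkAb p (D.obj i)) := by
    change (ModSite.stalkMap p (c.ι.app i)).hom γ' = (ModSite.stalkMap p (c.ι.app i)).hom 0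
    rw [h, map_zero]
  obtain ⟨k, f, g, hfg⟩ := (Types.FilteredColimit.isColimit_eq_iff _
    (isColimitOfPreserves (stalkType p) hc)).1 h0
  refine ⟨k, f, ?_⟩
  have : (ModSite.stalkMap p (D.map f)).hom γ' = (ModSite.stalkMap p (D.map g)).hom 0 := hfg
  rw [this, map_zero]


section Local

omit p

/-- Sections functor: a monomorphism of sheaves of modules is injective on sections. -/
lemma injective_app_of_mono {F G : ModSite.Mod O} (φ : F ⟶ G) [Mono φ] (U : C) :
    Function.Injective (fun x : ((forg O).obj F).obj (op U) => ((forg O).map φ).app (op U) x) := by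
  have h1 : Mono ((forg O).map φ) := inferInstance
  have h2 : Mono ((PresheafOfModules.evaluation _ (op U)).map ((forg O).map φ)) := inferInstance
  exact (ModuleCat.mono_iff_injective _).1 h2

/-- Being an epimorphism is local. -/
theorem epi_of_locally_epi {G F : ModSite.Mod O} (φ : G ⟶ F)
    (h : ∀ W : C, ∃ S ∈ J W, ∀ ⦃V : C⦄ (f : V ⟶ W), S f → Epi ((ModSite.restr O V).map φ)) :
    Epi φ := by
  apply epi_of_locSurj
  intro X y
  obtain ⟨S, hS, H⟩ := h X
  have key : ∀ ⦃V : C⦄ (f : V ⟶ X), S f → ∃ R ∈ J V, ∀ ⦃Z : C⦄ (g : Z ⟶ V), R g →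
      ∃ x : ((forg O).obj G).obj (op Z), ((forg O).map φ).app (op Z) x =
        res ((forg O).obj F) (g ≫ f) y := by
    intro V f hf
    have := H f hf
    obtain ⟨T, hT, hT'⟩ := locSurj_of_epi ((ModSite.restr O V).map φ) (top V)
      (res ((forg O).obj F) f y)
    refine ⟨Sieve.overEquiv (top V) T, (GrothendieckTopology.mem_over_iff _ _).1 hT,
      fun Z g hg => ?_⟩
    have hg' : T.arrows (toTop (gtop g)) := by
      have h1 : T = (Sieve.overEquiv (top V)).symm (Sieve.overEquiv (top V) T) := by simp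
      rw [h1, Sieve.overEquiv_symm_iff]
      have h2 : (toTop (gtop g)).left = g := by simp
      rw [h2]
      exact hg
    obtain ⟨x, hx⟩ := hT' (toTop (gtop g)) hg'
    refine ⟨x, hx.trans ?_⟩
    refine (res_restr_toTop_gtop g F (res ((forg O).obj F) f y)).trans ?_
    exact (res_comp (P := (forg O).obj F) f g y).symm
  choose R hR hR' using key
  refine ⟨Sieve.bind S R, J.bind_covering hS hR, ?_⟩
  rintro Z _ ⟨Y, g, f, hf, hg, rfl⟩
  exact hR' f hf g hg

end Local


section More

omit p

/-- Epimorphy of a restriction passes to smaller objects. -/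
lemma epi_restr_of_hom {G F : ModSite.Mod O} (φ : G ⟶ F) {V X : C} (g : V ⟶ X)
    (h : Epi ((ModSite.restr O X).map φ)) : Epi ((ModSite.restr O V).map φ) := by
  have h4 : Epi ((ovm O g).map ((ModSite.restr O X).map φ)) := (ovm O g).map_epi _
  have nat := (restrOvmIso O g).hom.naturality φ
  have e3 : IsIso ((restrOvmIso O g).hom.app F) := inferInstance
  have e4 : Epi ((restrOvmIso O g).hom.app F) := @IsIso.epi_of_iso _ _ _ _ _ e3
  have h5 : Epi ((restrOvmIso O g).hom.app G ≫ (ModSite.restr O V).map φ) := by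
    rw [← nat]
    exact @epi_comp _ _ _ _ _ _ h4 _ e4
  exact epi_of_epi ((restrOvmIso O g).hom.app G) _

variable (p : GrothendieckTopology.Point.{u} J)

/-- If the germ of `s` is the image of a germ `γ` under the stalk map, then `s` is in the image
of `φ` near `p`. -/
lemma exists_local_preimage_of_germ_eq {G F : ModSite.Mod O}
    (φ : G ⟶ F) (U₀ : C) (y₀ : p.fiber.obj U₀) (s : ((forg O).obj F).obj (op U₀))
    (γ : ModSite.stalkAb p G) (hγ : (ModSite.stalkMap p φ).hom γ = ModSite.germ p F U₀ y₀ s) :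
    ∃ (V : C) (f : V ⟶ U₀) (y : p.fiber.obj V) (_ : p.fiber.map f y = y₀)
      (t : ((forg O).obj G).obj (op V)), ((forg O).map φ).app (op V) t = res _ f s := by
  obtain ⟨U₁, y₁, t₁, rfl⟩ := p.toPresheafFiber_jointly_surjective (P := (ModSite.toAb G).obj) γ
  have nat : (ModSite.stalkMap p φ).hom (ModSite.germ p G U₁ y₁ t₁) =
      ModSite.germ p F U₁ y₁ ((φ.val.app (op U₁)).hom t₁) :=
    p.toPresheafFiber_naturality_apply ((SheafOfModules.toSheaf (ModSite.ringSh O)).map φ).hom U₁ y₁ t₁
  have h1 : ModSite.germ p F U₁ y₁ ((φ.val.app (op U₁)).hom t₁) = ModSite.germ p F U₀ y₀ s :=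
    nat.symm.trans hγ
  let W := IsCofiltered.min (Functor.elementsMk p.fiber U₁ y₁) (Functor.elementsMk p.fiber U₀ y₀)
  let a := IsCofiltered.minToLeft (Functor.elementsMk p.fiber U₁ y₁) (Functor.elementsMk p.fiber U₀ y₀)
  let b := IsCofiltered.minToRight (Functor.elementsMk p.fiber U₁ y₁) (Functor.elementsMk p.fiber U₀ y₀)
  have hA : ModSite.germ p F U₁ y₁ ((φ.val.app (op U₁)).hom t₁) =
      ModSite.germ p F W.1 W.2 (((ModSite.toAb F).obj.map a.1.op).hom ((φ.val.app (op U₁)).hom t₁)) :=
    ((congrArg (fun t => ModSite.germ p F U₁ t ((φ.val.app (op U₁)).hom t₁)) a.2).symm).trans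
      (p.toPresheafFiber_w_apply a.1 W.2 (ModSite.toAb F).obj _).symm
  have hB : ModSite.germ p F U₀ y₀ s =
      ModSite.germ p F W.1 W.2 (((ModSite.toAb F).obj.map b.1.op).hom s) :=
    ((congrArg (fun t => ModSite.germ p F U₀ t s) b.2).symm).trans
      (p.toPresheafFiber_w_apply b.1 W.2 (ModSite.toAb F).obj _).symm
  rw [hA, hB] at h1
  obtain ⟨V, f', y, hy, hV⟩ := (p.toPresheafFiber_eq_iff' (P := (ModSite.toAb F).obj) W.1 W.2 _ _).1 h1
  refine ⟨V, f' ≫ b.1, y, ?_, res ((forg O).obj G) (f' ≫ a.1) t₁, ?_⟩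
  · rw [Functor.map_comp_apply, hy]; exact b.2
  · have h2 := res_naturality ((forg O).map φ) (f' ≫ a.1) (show ((forg O).obj G).obj (op U₁) from t₁)
    refine h2.trans ?_
    rw [res_comp, res_comp]
    exact hV

/-- Germ equality gives local equality. -/
lemma exists_res_eq_of_germ_eq (F : ModSite.Mod O) (U : C) (y : p.fiber.obj U)
    (s t : ((forg O).obj F).obj (op U)) (h : ModSite.germ p F U y s = ModSite.germ p F U y t) :
    ∃ (V : C) (f : V ⟶ U) (y' : p.fiber.obj V), p.fiber.map f y' = y ∧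
      res ((forg O).obj F) f s = res ((forg O).obj F) f t := by
  obtain ⟨V, f, y', hy, hV⟩ := (p.toPresheafFiber_eq_iff' (P := (ModSite.toAb F).obj) U y _ _).1 h
  exact ⟨V, f, y', hy, hV⟩

lemma stalkMap_germ {G F : ModSite.Mod O} (φ : G ⟶ F) (U : C) (y : p.fiber.obj U)
    (t : ((forg O).obj G).obj (op U)) :
    (ModSite.stalkMap p φ).hom (ModSite.germ p G U y t) =
      ModSite.germ p F U y (((forg O).map φ).app (op U) t) :=
  p.toPresheafFiber_naturality_apply ((SheafOfModules.toSheaf (ModSite.ringSh O)).map φ).hom U y t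

end More

end Groth.Agent.H34.ModFT
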