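import Groth.Prelude.Def_SpSeq
import Groth.Agent.H34.GenElem
import Groth.Agent.H34.SpSeqLemmas
import Mathlib.Algebra.Homology.ShortComplex.ExactFunctor
import Mathlib.CategoryTheory.Abelian.Refinements

/-!
# Subquotients and the maps between them

For subobjects `B ≤ Z` of `X`, the subquotient `SpSeq.subquot Z B h` is a cokernel.  We give an
element-style API: generalized elements of the subquotient are classes `subquotMk x` of
generalized elements `x : T ⟶ X` lying in `Z`, maps between subquotients are induced by maps of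
the ambient objects, and monomorphisms, epimorphisms and exactness are detected on elements up to
refinements.
-/

set_option autoImplicit false
universe v u

open CategoryTheory CategoryTheory.Limits SpSeq

namespace Groth.Agent.H34

variable {A : Type u} [Category.{v} A] [Abelian A]

section Basic

variable {X : A} (Z B : Subobject X) (h : B ≤ Z)

/-- The projection `Z ⟶ Z / B`. -/
noncomputable def subquotπ : (Z : A) ⟶ subquot Z B h := cokernel.π (B.ofLE Z h)

instance : Epi (subquotπ Z B h) := inferInstanceAs (Epi (cokernel.π (B.ofLE Z h)))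

lemma ofLE_subquotπ : B.ofLE Z h ≫ subquotπ Z B h = 0 := cokernel.condition _

/-- Maps out of the subquotient. -/
noncomputable def subquotDesc {W : A} (k : (Z : A) ⟶ W) (hk : B.ofLE Z h ≫ k = 0) :
    subquot Z B h ⟶ W := cokernel.desc _ k hk

lemma subquotπ_desc {W : A} (k : (Z : A) ⟶ W) (hk : B.ofLE Z h ≫ k = 0) :
    subquotπ Z B h ≫ subquotDesc Z B h k hk = k := cokernel.π_desc _ _ _

lemma subquotπ_eq_zero_lift {T : A} (z : T ⟶ (Z : A)) (hz : z ≫ subquotπ Z B h = 0) :
    ∃ b : T ⟶ (B : A), b ≫ B.ofLE Z h = z :=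
  ⟨Abelian.monoLift (B.ofLE Z h) z hz, Abelian.monoLift_comp _ _ _⟩

lemma comp_subquotπ_eq_zero_iff {T : A} (z : T ⟶ (Z : A)) :
    z ≫ subquotπ Z B h = 0 ↔ B.Factors (z ≫ Z.arrow) := by
  constructor
  · intro hz
    obtain ⟨b, e⟩ := subquotπ_eq_zero_lift Z B h z hz
    rw [← e, Category.assoc, Subobject.ofLE_arrow]
    exact Subobject.factors_comp_arrow _
  · intro hz
    have e : z = B.factorThru _ hz ≫ B.ofLE Z h := by
      rw [← cancel_mono Z.arrow, Category.assoc, Subobject.ofLE_arrow, Subobject.factorThru_arrow]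
    rw [e, Category.assoc, ofLE_subquotπ, comp_zero]

/-- The class in `Z / B` of a generalized element of `X` lying in `Z`. -/
noncomputable def subquotMk {T : A} (x : T ⟶ X) (hx : Z.Factors x) : T ⟶ subquot Z B h :=
  Z.factorThru x hx ≫ subquotπ Z B h

lemma subquotMk_eq_zero_iff {T : A} (x : T ⟶ X) (hx : Z.Factors x) :
    subquotMk Z B h x hx = 0 ↔ B.Factors x := by
  unfold subquotMk
  rw [comp_subquotπ_eq_zero_iff, Subobject.factorThru_arrow]

lemma comp_subquotMk {T T' : A} (π : T' ⟶ T) (x : T ⟶ X) (hx : Z.Factors x) :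
    π ≫ subquotMk Z B h x hx =
      subquotMk Z B h (π ≫ x) (Subobject.factors_of_factors_right π hx) := by
  unfold subquotMk
  rw [← Category.assoc]
  congr 1
  rw [← cancel_mono Z.arrow, Category.assoc, Subobject.factorThru_arrow,
    Subobject.factorThru_arrow]

lemma subquotMk_sub {T : A} (x y : T ⟶ X) (hx : Z.Factors x) (hy : Z.Factors y) :
    subquotMk Z B h x hx - subquotMk Z B h y hy =
      subquotMk Z B h (x - y) (factors_sub _ _ _ hx hy) := by
  unfold subquotMk
  rw [← Preadditive.sub_comp]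
  congr 1
  rw [← cancel_mono Z.arrow, Preadditive.sub_comp, Subobject.factorThru_arrow,
    Subobject.factorThru_arrow, Subobject.factorThru_arrow]

lemma subquotMk_eq_iff {T : A} (x y : T ⟶ X) (hx : Z.Factors x) (hy : Z.Factors y) :
    subquotMk Z B h x hx = subquotMk Z B h y hy ↔ B.Factors (x - y) := by
  rw [← sub_eq_zero, subquotMk_sub, subquotMk_eq_zero_iff]

/-- Every generalized element of `Z / B` is a class, after a refinement. -/
lemma exists_subquotMk {T : A} (t : T ⟶ subquot Z B h) :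
    ∃ (T' : A) (π : T' ⟶ T) (_ : Epi π) (x : T' ⟶ X) (hx : Z.Factors x),
      π ≫ t = subquotMk Z B h x hx := by
  obtain ⟨T', π, hπ, z, hz⟩ := surjective_up_to_refinements_of_epi (subquotπ Z B h) t
  refine ⟨T', π, hπ, z ≫ Z.arrow, Subobject.factors_comp_arrow _, ?_⟩
  rw [hz]
  unfold subquotMk
  congr 1
  rw [← cancel_mono Z.arrow, Subobject.factorThru_arrow]

end Basic

section Map

variable {X Y : A} (f : X ⟶ Y) (Z B : Subobject X) (h : B ≤ Z) (Z' B' : Subobject Y)
  (h' : B' ≤ Z')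

lemma factors_comp_of_factors {S : Subobject X} {S' : Subobject Y}
    (hS : S'.Factors (S.arrow ≫ f)) {T : A} (x : T ⟶ X) (hx : S.Factors x) :
    S'.Factors (x ≫ f) := by
  rw [← S.factorThru_arrow x hx, Category.assoc]
  exact Subobject.factors_of_factors_right _ hS

variable (hZ : Z'.Factors (Z.arrow ≫ f)) (hB : B'.Factors (B.arrow ≫ f))

/-- The map `Z / B ⟶ Z' / B'` induced by `f : X ⟶ Y` with `f(Z) ≤ Z'` and `f(B) ≤ B'`. -/
noncomputable def subquotMap : subquot Z B h ⟶ subquot Z' B' h' :=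
  subquotDesc Z B h (subquotMk Z' B' h' (Z.arrow ≫ f) hZ) (by
    rw [comp_subquotMk, subquotMk_eq_zero_iff, ← Category.assoc, Subobject.ofLE_arrow]
    exact hB)

lemma subquotMk_subquotMap {T : A} (x : T ⟶ X) (hx : Z.Factors x) :
    subquotMk Z B h x hx ≫ subquotMap f Z B h Z' B' h' hZ hB =
      subquotMk Z' B' h' (x ≫ f) (factors_comp_of_factors f hZ x hx) := by
  have e1 : subquotMk Z B h x hx = Z.factorThru x hx ≫ subquotπ Z B h := rfl
  rw [e1]
  unfold subquotMap
  rw [Category.assoc, subquotπ_desc, comp_subquotMk]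
  congr 1
  rw [← Category.assoc, Subobject.factorThru_arrow]

include hZ hB in
/-- Criterion for the induced map to be a monomorphism. -/
lemma subquotMap_mono
    (H : ∀ {T : A} (x : T ⟶ X), Z.Factors x → B'.Factors (x ≫ f) → B.Factors x) :
    Mono (subquotMap f Z B h Z' B' h' hZ hB) := by
  apply Preadditive.mono_of_cancel_zero
  intro T t ht
  obtain ⟨T', π, hπ, x, hx, hxt⟩ := exists_subquotMk Z B h t
  rw [← cancel_epi π, comp_zero, hxt, subquotMk_eq_zero_iff]
  apply H x hx
  rw [← subquotMk_eq_zero_iff Z' B' h' (x ≫ f) (factors_comp_of_factors f hZ x hx),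
    ← subquotMk_subquotMap f Z B h Z' B' h' hZ hB x hx, ← hxt, Category.assoc, ht, comp_zero]

include hZ hB in
/-- Criterion for the induced map to be an epimorphism. -/
lemma subquotMap_epi
    (H : ∀ {T : A} (y : T ⟶ Y), Z'.Factors y → ∃ (T' : A) (π : T' ⟶ T) (_ : Epi π)
      (x : T' ⟶ X), Z.Factors x ∧ B'.Factors (π ≫ y - x ≫ f)) :
    Epi (subquotMap f Z B h Z' B' h' hZ hB) := by
  rw [epi_iff_surjective_up_to_refinements]
  intro T t
  obtain ⟨T₁, π₁, hπ₁, y, hy, hyt⟩ := exists_subquotMk Z' B' h' t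
  obtain ⟨T₂, π₂, hπ₂, x, hx, hxy⟩ := H y hy
  refine ⟨T₂, π₂ ≫ π₁, epi_comp _ _, subquotMk Z B h x hx, ?_⟩
  rw [subquotMk_subquotMap, Category.assoc, hyt, comp_subquotMk, subquotMk_eq_iff]
  exact hxy

end Map

section Exact

variable {X Y W : A} (f : X ⟶ Y) (g : Y ⟶ W)
  (Z B : Subobject X) (h : B ≤ Z) (Z' B' : Subobject Y) (h' : B' ≤ Z')
  (Z'' B'' : Subobject W) (h'' : B'' ≤ Z'')
  (hZ : Z'.Factors (Z.arrow ≫ f)) (hB : B'.Factors (B.arrow ≫ f))
  (hZ' : Z''.Factors (Z'.arrow ≫ g)) (hB' : B''.Factors (B'.arrow ≫ g))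

include hZ hB hZ' hB' in
lemma subquotMap_comp_eq_zero
    (H0 : ∀ {T : A} (x : T ⟶ X), Z.Factors x → B''.Factors ((x ≫ f) ≫ g)) :
    subquotMap f Z B h Z' B' h' hZ hB ≫ subquotMap g Z' B' h' Z'' B'' h'' hZ' hB' = 0 := by
  rw [← cancel_epi (subquotπ Z B h), comp_zero]
  have e : subquotπ Z B h = subquotMk Z B h Z.arrow (Subobject.factors_self _) := by
    unfold subquotMk
    have : Z.factorThru Z.arrow (Subobject.factors_self _) = 𝟙 _ := by
      rw [← cancel_mono Z.arrow, Subobject.factorThru_arrow, Category.id_comp]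
    rw [this, Category.id_comp]
  rw [e, ← Category.assoc, subquotMk_subquotMap, subquotMk_subquotMap, subquotMk_eq_zero_iff]
  exact H0 _ (Subobject.factors_self _)

include hZ hB hZ' hB' in
/-- Criterion for exactness of a sequence of induced maps. -/
lemma subquotMap_exact
    (w : subquotMap f Z B h Z' B' h' hZ hB ≫ subquotMap g Z' B' h' Z'' B'' h'' hZ' hB' = 0)
    (H : ∀ {T : A} (y : T ⟶ Y), Z'.Factors y → B''.Factors (y ≫ g) →
      ∃ (T' : A) (π : T' ⟶ T) (_ : Epi π) (x : T' ⟶ X),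
        Z.Factors x ∧ B'.Factors (π ≫ y - x ≫ f)) :
    (ShortComplex.mk _ _ w).Exact := by
  rw [ShortComplex.exact_iff_exact_up_to_refinements]
  intro T t ht
  dsimp at t ht
  obtain ⟨T₁, π₁, hπ₁, y, hy, hyt⟩ := exists_subquotMk Z' B' h' t
  have hyg : B''.Factors (y ≫ g) := by
    rw [← subquotMk_eq_zero_iff Z'' B'' h'' (y ≫ g) (factors_comp_of_factors g hZ' y hy),
      ← subquotMk_subquotMap g Z' B' h' Z'' B'' h'' hZ' hB' y hy, ← hyt, Category.assoc, ht,
      comp_zero]
  obtain ⟨T₂, π₂, hπ₂, x, hx, hxy⟩ := H y hy hyg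
  refine ⟨T₂, π₂ ≫ π₁, epi_comp _ _, subquotMk Z B h x hx, ?_⟩
  dsimp
  rw [subquotMk_subquotMap, Category.assoc, hyt, comp_subquotMk, subquotMk_eq_iff]
  exact hxy

end Exact

section Lattice

variable {X : A} (Z B Z' B' : Subobject X) (h : B ≤ Z) (h' : B' ≤ Z')

lemma factors_arrow_comp_id_of_le {S S' : Subobject X} (hS : S ≤ S') :
    S'.Factors (S.arrow ≫ 𝟙 X) := by
  rw [Category.comp_id]
  exact Subobject.factors_of_le _ hS (Subobject.factors_self _)

/-- The comparison map `Z / B ⟶ Z' / B'` between subquotients of the same object, for `Z ≤ Z'`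
and `B ≤ B'`. -/
noncomputable def subquotMapId (hZ : Z ≤ Z') (hB : B ≤ B') : subquot Z B h ⟶ subquot Z' B' h' :=
  subquotMap (𝟙 X) Z B h Z' B' h' (factors_arrow_comp_id_of_le hZ)
    (factors_arrow_comp_id_of_le hB)

lemma subquotMapId_mono (hZ : Z ≤ Z') (hB : B ≤ B') (hm : Z ⊓ B' ≤ B) :
    Mono (subquotMapId Z B Z' B' h h' hZ hB) := by
  apply subquotMap_mono
  intro T x hx hx'
  rw [Category.comp_id] at hx'
  exact Subobject.factors_of_le _ hm ((Subobject.inf_factors _).mpr ⟨hx, hx'⟩)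

lemma subquotMapId_epi (hZ : Z ≤ Z') (hB : B ≤ B') (he : Z' ≤ Z ⊔ B') :
    Epi (subquotMapId Z B Z' B' h h' hZ hB) := by
  apply subquotMap_epi
  intro T y hy
  obtain ⟨T', π, hπ, z₁, z₂, hz⟩ :=
    sup_factors_up_to_refinements Z B' y (Subobject.factors_of_le _ he hy)
  refine ⟨T', π, hπ, z₁ ≫ Z.arrow, Subobject.factors_comp_arrow _, ?_⟩
  rw [hz, Category.comp_id, add_sub_cancel_left]
  exact Subobject.factors_comp_arrow _

lemma subquotMapId_isIso (hZ : Z ≤ Z') (hB : B ≤ B') (hm : Z ⊓ B' ≤ B) (he : Z' ≤ Z ⊔ B') :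
    IsIso (subquotMapId Z B Z' B' h h' hZ hB) := by
  have := subquotMapId_mono Z B Z' B' h h' hZ hB hm
  have := subquotMapId_epi Z B Z' B' h h' hZ hB he
  exact isIso_of_mono_of_epi _

/-- Second isomorphism theorem, in lattice form. -/
lemma subquot_iso_of_lattice (hZ : Z ≤ Z') (hB : B ≤ B') (hm : Z ⊓ B' ≤ B)
    (he : Z' ≤ Z ⊔ B') : Nonempty (subquot Z B h ≅ subquot Z' B' h') := by
  have := subquotMapId_isIso Z B Z' B' h h' hZ hB hm he
  exact ⟨asIso (subquotMapId Z B Z' B' h h' hZ hB)⟩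

end Lattice

section Kernel

variable {X Y : A} (f : X ⟶ Y) (Z B : Subobject X) (h : B ≤ Z) (Z' B' : Subobject Y)
  (h' : B' ≤ Z') (hZ : Z'.Factors (Z.arrow ≫ f)) (hB : B'.Factors (B.arrow ≫ f))

include h hB in
lemma le_inf_pullback_of_factors : B ≤ Z ⊓ (Subobject.pullback f).obj B' := by
  refine le_inf h ?_
  apply Subobject.le_of_factors
  rw [pullback_factors_iff]
  exact hB

/-- The kernel of the map `Z / B ⟶ Z' / B'` induced by `f` is `(Z ∩ f⁻¹ B') / B`. -/
lemma subquotMap_kernel_exact :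
    ∃ (ι : subquot (Z ⊓ (Subobject.pullback f).obj B') B
        (le_inf_pullback_of_factors f Z B h B' hB) ⟶ subquot Z B h)
      (w : ι ≫ subquotMap f Z B h Z' B' h' hZ hB = 0),
      Mono ι ∧ (ShortComplex.mk _ _ w).Exact := by
  have hK := le_inf_pullback_of_factors f Z B h B' hB
  let ι := subquotMapId (Z ⊓ (Subobject.pullback f).obj B') B Z B hK h inf_le_left le_rfl
  have hι : Mono ι := subquotMapId_mono _ _ _ _ _ _ _ _ inf_le_right
  have w : ι ≫ subquotMap f Z B h Z' B' h' hZ hB = 0 := by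
    apply subquotMap_comp_eq_zero
    intro T x hx
    rw [Subobject.inf_factors, pullback_factors_iff] at hx
    rw [Category.comp_id]
    exact hx.2
  refine ⟨ι, w, hι, ?_⟩
  apply subquotMap_exact
  intro T y hy hy'
  refine ⟨T, 𝟙 T, inferInstance, y, ?_, ?_⟩
  · rw [Subobject.inf_factors, pullback_factors_iff]
    exact ⟨hy, hy'⟩
  · rw [Category.id_comp, Category.comp_id, sub_self]
    exact Subobject.factors_zero

end Kernel

section SES

variable {X : A} (Z M B : Subobject X) (hBM : B ≤ M) (hMZ : M ≤ Z)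

/-- The short exact sequence `0 ⟶ M / B ⟶ Z / B ⟶ Z / M ⟶ 0`. -/
lemma subquot_ses :
    ∃ (i : subquot M B hBM ⟶ subquot Z B (hBM.trans hMZ))
      (q : subquot Z B (hBM.trans hMZ) ⟶ subquot Z M hMZ) (w : i ≫ q = 0),
      Mono i ∧ Epi q ∧ (ShortComplex.mk i q w).Exact := by
  have hi : Mono (subquotMapId M B Z B hBM (hBM.trans hMZ) hMZ le_rfl) :=
    subquotMapId_mono _ _ _ _ _ _ _ _ inf_le_right
  have hq : Epi (subquotMapId Z B Z M (hBM.trans hMZ) hMZ le_rfl hBM) :=
    subquotMapId_epi _ _ _ _ _ _ _ _ le_sup_left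
  have w : subquotMapId M B Z B hBM (hBM.trans hMZ) hMZ le_rfl ≫
      subquotMapId Z B Z M (hBM.trans hMZ) hMZ le_rfl hBM = 0 := by
    apply subquotMap_comp_eq_zero
    intro T x hx
    rw [Category.comp_id, Category.comp_id]
    exact hx
  refine ⟨_, _, w, hi, hq, ?_⟩
  apply subquotMap_exact
  intro T y _ hy
  rw [Category.comp_id] at hy
  refine ⟨T, 𝟙 T, inferInstance, y, hy, ?_⟩
  rw [Category.id_comp, Category.comp_id, sub_self]
  exact Subobject.factors_zero

end SES

end Groth.Agent.H34
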