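import Mathlib

set_option autoImplicit false

namespace Groth.Agent.H34.TStrH0

universe v u v' u'
open CategoryTheory CategoryTheory.Limits CategoryTheory.Pretriangulated CategoryTheory.Triangulated

variable {C : Type u} [Category.{v} C] [Preadditive C] [HasZeroObject C] [HasShift C ℤ]
  [∀ n : ℤ, (shiftFunctor C n).Additive] [Pretriangulated C] [IsTriangulated C]
  (t : TStructure C)

set_option backward.defeqAttrib.useBackward true in
/-- If the third vertex of a distinguished triangle is `≥ 0`, then `τ≥0 X ⟶ τ≥0 Y ⟶ Z` is part of a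
distinguished triangle. -/
lemma triGE (T : Triangle C) (hT : T ∈ distTriang C) [t.IsGE T.obj₃ 0] :
    ∃ (m₃ : (t.truncGE 0).obj T.obj₂ ⟶ T.obj₃), (t.truncGEπ 0).app T.obj₂ ≫ m₃ = T.mor₂ ∧
      Triangle.mk ((t.truncGE 0).map T.mor₁) m₃
        (T.mor₃ ≫ ((t.truncGEπ 0).app T.obj₁)⟦(1 : ℤ)⟧') ∈ distTriang C := by
  have hiso : IsIso ((t.truncLT 0).map T.mor₁) := t.isIso₁_truncLT_map_of_isGE T hT 0 inferInstance
  let φ := asIso ((t.truncLT 0).map T.mor₁)
  have hT' : Triangle.mk ((t.truncLTι 0).app T.obj₁ ≫ T.mor₁) ((t.truncGEπ 0).app T.obj₂)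
      ((t.truncGEδLT 0).app T.obj₂ ≫ φ.inv⟦(1 : ℤ)⟧') ∈ distTriang C := by
    refine isomorphic_distinguished _ (t.triangleLTGE_distinguished 0 T.obj₂) _ ?_
    refine Triangle.isoMk _ _ φ (Iso.refl _) (Iso.refl _) ?_ ?_ ?_
    · dsimp [φ]
      rw [Category.comp_id]
      exact ((t.truncLTι 0).naturality T.mor₁).symm
    · dsimp
      rw [Category.comp_id, Category.id_comp]
    · dsimp
      rw [Category.assoc, ← Functor.map_comp, Iso.inv_hom_id, CategoryTheory.Functor.map_id,
        Category.comp_id, Category.id_comp]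
  have H := someOctahedron rfl (t.triangleLTGE_distinguished 0 T.obj₁) hT hT'
  have hm₁ : H.m₁ = (t.truncGE 0).map T.mor₁ := by
    apply t.from_truncGE_obj_ext
    have := H.comm₁
    dsimp at this
    rw [this]
    exact ((t.truncGEπ 0).naturality T.mor₁)
  refine ⟨H.m₃, H.comm₃, ?_⟩
  have := H.mem
  rw [hm₁] at this
  exact this

set_option backward.defeqAttrib.useBackward true in
/-- If the first vertex of a distinguished triangle is `≤ 0`, then `X ⟶ τ≤0 Y ⟶ τ≤0 Z` is part of a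
distinguished triangle. -/
lemma triLE (T : Triangle C) (hT : T ∈ distTriang C) [t.IsLE T.obj₁ 0] :
    ∃ (m₁ : T.obj₁ ⟶ (t.truncLT 1).obj T.obj₂), m₁ ≫ (t.truncLTι 1).app T.obj₂ = T.mor₁ ∧
      Triangle.mk m₁ ((t.truncLT 1).map T.mor₂)
        ((t.truncLTι 1).app T.obj₃ ≫ T.mor₃) ∈ distTriang C := by
  have hiso : IsIso ((t.truncGE 1).map T.mor₂) :=
    t.isIso₂_truncGE_map_of_isLE T hT 0 1 (by lia) inferInstance
  let ψ := asIso ((t.truncGE 1).map T.mor₂)
  have hT' : Triangle.mk ((t.truncLTι 1).app T.obj₂) (T.mor₂ ≫ (t.truncGEπ 1).app T.obj₃)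
      (ψ.inv ≫ (t.truncGEδLT 1).app T.obj₂) ∈ distTriang C := by
    refine isomorphic_distinguished _ (t.triangleLTGE_distinguished 1 T.obj₂) _ ?_
    refine Triangle.isoMk _ _ (Iso.refl _) (Iso.refl _) ψ.symm ?_ ?_ ?_
    · dsimp
      rw [Category.comp_id, Category.id_comp]
    · dsimp [ψ]
      rw [Category.id_comp, IsIso.comp_inv_eq]
      exact ((t.truncGEπ 1).naturality T.mor₂)
    · dsimp
      rw [CategoryTheory.Functor.map_id, Category.comp_id]
  have H := someOctahedron' rfl hT (t.triangleLTGE_distinguished 1 T.obj₃) hT'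
  have hm₃ : H.m₃ = (t.truncLT 1).map T.mor₂ := by
    have : t.IsLE ((t.truncLT 1).obj T.obj₂) (1 - 1) := inferInstance
    apply t.to_truncLT_obj_ext
    have := H.comm₄
    rw [this]
    exact ((t.truncLTι 1).naturality T.mor₂).symm
  refine ⟨H.m₁, H.comm₁, ?_⟩
  have := H.mem
  rw [hm₃] at this
  exact this

end Groth.Agent.H34.TStrH0
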