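import Mathlib
import Groth.Agent.H34.TStrH0a

set_option autoImplicit false

namespace Groth.Agent.H34.TStrH0

universe v u v' u'
open CategoryTheory CategoryTheory.Limits CategoryTheory.Pretriangulated CategoryTheory.Triangulated

variable {C : Type u} [Category.{v} C] [Preadditive C] [HasZeroObject C] [HasShift C ℤ]
  [∀ n : ℤ, (shiftFunctor C n).Additive] [Pretriangulated C] [IsTriangulated C]
  (t : TStructure C) {H : Type u'} [Category.{v'} H] [Abelian H] [t.Heart H] (H0 : C ⥤ H)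

section GE

variable (e : H0 ⋙ t.ιHeart ≅ t.truncGE 0 ⋙ t.truncLT 1)

/-- `Hom_H(U, H0 W) → Hom_C(ιU, τ≥0 W)`. -/
noncomputable def θ {U : H} {W : C} (φ : U ⟶ H0.obj W) : t.ιHeart.obj U ⟶ (t.truncGE 0).obj W :=
  t.ιHeart.map φ ≫ e.hom.app W ≫ (t.truncLTι 1).app ((t.truncGE 0).obj W)

lemma θ_nat {U : H} {W W' : C} (φ : U ⟶ H0.obj W) (k : W ⟶ W') :
    θ t H0 e (φ ≫ H0.map k) = θ t H0 e φ ≫ (t.truncGE 0).map k := by
  unfold θ
  have h1 := e.hom.naturality k
  have h2 := (t.truncLTι 1).naturality ((t.truncGE 0).map k)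
  dsimp at h1 h2
  rw [Functor.map_comp, Category.assoc, Category.assoc, Category.assoc, ← h2, ← Category.assoc
    (e.hom.app W), ← h1, Category.assoc]

lemma θ_inj {U : H} {W : C} (φ : U ⟶ H0.obj W) (h : θ t H0 e φ = 0) : φ = 0 := by
  unfold θ at h
  have : t.IsLE (t.ιHeart.obj U) (1 - 1) := (inferInstance : t.IsLE (t.ιHeart.obj U) 0)
  have h1 : t.ιHeart.map φ ≫ e.hom.app W = 0 := by
    apply t.to_truncLT_obj_ext
    rw [Category.assoc, zero_comp]
    exact h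
  have h2 : t.ιHeart.map φ = 0 := by
    rw [← cancel_mono (e.hom.app W), zero_comp]
    exact h1
  apply t.ιHeart.map_injective
  rw [h2, Functor.map_zero]

lemma θ_surj {U : H} {W : C} (χ : t.ιHeart.obj U ⟶ (t.truncGE 0).obj W) :
    ∃ φ : U ⟶ H0.obj W, θ t H0 e φ = χ := by
  refine ⟨t.ιHeart.preimage (t.liftTruncLT χ 0 1 (by lia) ≫ e.inv.app W), ?_⟩
  unfold θ
  rw [Functor.map_preimage, Category.assoc, Iso.inv_hom_id_app_assoc]
  exact t.liftTruncLT_ι χ 0 1 (by lia)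

include e in
lemma preservesZero_of_iso : H0.PreservesZeroMorphisms := by
  refine ⟨fun X Y => ?_⟩
  apply t.ιHeart.map_injective
  have h1 := e.hom.naturality (0 : X ⟶ Y)
  have h2 : (t.truncGE 0 ⋙ t.truncLT 1).map (0 : X ⟶ Y) = 0 := Functor.map_zero _ _ _
  rw [h2, comp_zero] at h1
  rw [t.ιHeart.map_zero, ← cancel_mono (e.hom.app Y), zero_comp]
  exact h1

include e in
/-- Left exactness: if `Z ≥ 0` then `0 → H0 X → H0 Y → H0 Z` is exact. -/
theorem leftExact [H0.PreservesZeroMorphisms] (T : Triangle C) (hT : T ∈ distTriang C)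
    [t.IsGE T.obj₃ 0] :
    ((shortComplexOfDistTriangle T hT).map H0).Exact ∧ Mono (H0.map T.mor₁) := by
  obtain ⟨m₃, hm₃, hT'⟩ := triGE t T hT
  have hmono : Mono (H0.map T.mor₁) := by
    apply Preadditive.mono_of_cancel_zero
    intro U ψ hψ
    apply θ_inj t H0 e
    have h1 : θ t H0 e ψ ≫ (t.truncGE 0).map T.mor₁ = 0 := by
      rw [← θ_nat, hψ]
      unfold θ
      rw [Functor.map_zero, zero_comp]
    obtain ⟨ρ, hρ⟩ := Triangle.coyoneda_exact₂ _ (inv_rot_of_distTriang _ hT') (θ t H0 e ψ) h1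
    have hρ0 : ρ = 0 := by
      have : t.IsGE ((T.obj₃)⟦(-1 : ℤ)⟧) 1 := t.isGE_shift T.obj₃ 0 (-1) 1 (by lia)
      exact t.zero_of_isLE_of_isGE ρ 0 1 (by lia) inferInstance this
    rw [hρ, hρ0]
    exact zero_comp
  refine ⟨?_, hmono⟩
  have hex : ∀ {U : H} (k : U ⟶ H0.obj T.obj₂) (_ : k ≫ H0.map T.mor₂ = 0),
      ∃ l : U ⟶ H0.obj T.obj₁, l ≫ H0.map T.mor₁ = k := by
    intro U k hk'
    have h1 : θ t H0 e k ≫ m₃ = 0 := by
      have h2 : θ t H0 e k ≫ (t.truncGE 0).map T.mor₂ = 0 := by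
        rw [← θ_nat, hk']
        unfold θ
        rw [Functor.map_zero, zero_comp]
      have h3 : m₃ ≫ (t.truncGEπ 0).app T.obj₃ = (t.truncGE 0).map T.mor₂ := by
        apply t.from_truncGE_obj_ext
        rw [← Category.assoc, hm₃]
        exact ((t.truncGEπ 0).naturality T.mor₂)
      rw [← cancel_mono ((t.truncGEπ 0).app T.obj₃), Category.assoc, h3, h2, zero_comp]
    obtain ⟨χ, hχ⟩ := Triangle.coyoneda_exact₂ _ hT' (θ t H0 e k) h1
    obtain ⟨ψ, hψ⟩ := θ_surj t H0 e χ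
    refine ⟨ψ, ?_⟩
    have h4 : θ t H0 e (ψ ≫ H0.map T.mor₁ - k) = 0 := by
      unfold θ
      rw [Functor.map_sub, Preadditive.sub_comp, sub_eq_zero]
      have := θ_nat t H0 e ψ T.mor₁
      unfold θ at this
      rw [this]
      have h5 := hψ
      unfold θ at h5
      rw [h5]
      have h6 := hχ
      unfold θ at h6
      exact h6.symm
    exact sub_eq_zero.1 (θ_inj t H0 e _ h4)
  have hker : IsLimit (KernelFork.ofι ((shortComplexOfDistTriangle T hT).map H0).f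
      ((shortComplexOfDistTriangle T hT).map H0).zero) := by
    haveI : Mono ((shortComplexOfDistTriangle T hT).map H0).f := hmono
    exact KernelFork.IsLimit.ofι' _ _ (fun {U} k hk => ⟨(hex k hk).choose, (hex k hk).choose_spec⟩)
  exact ShortComplex.exact_of_f_is_kernel _ hker

end GE

section LE

variable (e' : H0 ⋙ t.ιHeart ≅ t.truncLT 1 ⋙ t.truncGE 0)

/-- `Hom_H(H0 W, V) → Hom_C(τ≤0 W, ιV)`. -/
noncomputable def θ' {W : C} {V : H} (φ : H0.obj W ⟶ V) : (t.truncLT 1).obj W ⟶ t.ιHeart.obj V :=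
  (t.truncGEπ 0).app ((t.truncLT 1).obj W) ≫ e'.inv.app W ≫ t.ιHeart.map φ

lemma θ'_nat {W W' : C} {V : H} (k : W ⟶ W') (φ : H0.obj W' ⟶ V) :
    θ' t H0 e' (H0.map k ≫ φ) = (t.truncLT 1).map k ≫ θ' t H0 e' φ := by
  unfold θ'
  have h1 := e'.inv.naturality k
  have h2 := (t.truncGEπ 0).naturality ((t.truncLT 1).map k)
  dsimp at h1 h2
  rw [Functor.map_comp, ← Category.assoc ((t.truncLT 1).map k), h2, Category.assoc,
    ← Category.assoc ((t.truncGE 0).map ((t.truncLT 1).map k)), h1, Category.assoc]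

lemma θ'_inj {W : C} {V : H} (φ : H0.obj W ⟶ V) (h : θ' t H0 e' φ = 0) : φ = 0 := by
  unfold θ' at h
  have h1 : e'.inv.app W ≫ t.ιHeart.map φ = 0 := by
    apply t.from_truncGE_obj_ext
    rw [comp_zero]
    exact h
  have h2 : t.ιHeart.map φ = 0 := by
    rw [← cancel_epi (e'.inv.app W), comp_zero]
    exact h1
  apply t.ιHeart.map_injective
  rw [h2, Functor.map_zero]

lemma θ'_surj {W : C} {V : H} (χ : (t.truncLT 1).obj W ⟶ t.ιHeart.obj V) :
    ∃ φ : H0.obj W ⟶ V, θ' t H0 e' φ = χ := by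
  refine ⟨t.ιHeart.preimage (e'.hom.app W ≫ t.descTruncGE χ 0), ?_⟩
  unfold θ'
  rw [Functor.map_preimage, Iso.inv_hom_id_app_assoc]
  exact t.π_descTruncGE χ 0

include e' in
/-- Right exactness: if `X ≤ 0` then `H0 X → H0 Y → H0 Z → 0` is exact. -/
theorem rightExact [H0.PreservesZeroMorphisms] (T : Triangle C) (hT : T ∈ distTriang C)
    [t.IsLE T.obj₁ 0] :
    ((shortComplexOfDistTriangle T hT).map H0).Exact ∧ Epi (H0.map T.mor₂) := by
  obtain ⟨m₁, hm₁, hT'⟩ := triLE t T hT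
  have hepi : Epi (H0.map T.mor₂) := by
    apply Preadditive.epi_of_cancel_zero
    intro V ψ hψ
    apply θ'_inj t H0 e'
    have h1 : (t.truncLT 1).map T.mor₂ ≫ θ' t H0 e' ψ = 0 := by
      rw [← θ'_nat, hψ]
      unfold θ'
      rw [Functor.map_zero, comp_zero, comp_zero]
    obtain ⟨ρ, hρ⟩ := Triangle.yoneda_exact₃ _ hT' (θ' t H0 e' ψ) h1
    have hρ0 : ρ = 0 := by
      have : t.IsLE ((T.obj₁)⟦(1 : ℤ)⟧) (-1) := t.isLE_shift T.obj₁ 0 1 (-1) (by lia)
      exact t.zero_of_isLE_of_isGE ρ (-1) 0 (by lia) this inferInstance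
    rw [hρ, hρ0]
    exact comp_zero
  refine ⟨?_, hepi⟩
  have hex : ∀ {V : H} (k : H0.obj T.obj₂ ⟶ V) (_ : H0.map T.mor₁ ≫ k = 0),
      ∃ l : H0.obj T.obj₃ ⟶ V, H0.map T.mor₂ ≫ l = k := by
    intro V k hk'
    have h1 : m₁ ≫ θ' t H0 e' k = 0 := by
      have h2 : (t.truncLT 1).map T.mor₁ ≫ θ' t H0 e' k = 0 := by
        rw [← θ'_nat, hk']
        unfold θ'
        rw [Functor.map_zero, comp_zero, comp_zero]
      have h3 : (t.truncLTι 1).app T.obj₁ ≫ m₁ = (t.truncLT 1).map T.mor₁ := by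
        have : t.IsLE ((t.truncLT 1).obj T.obj₁) (1 - 1) := inferInstance
        apply t.to_truncLT_obj_ext
        rw [Category.assoc, hm₁]
        exact ((t.truncLTι 1).naturality T.mor₁).symm
      have : IsIso ((t.truncLTι 1).app T.obj₁) :=
        (t.isLE_iff_isIso_truncLTι_app 0 1 (by lia) T.obj₁).1 inferInstance
      rw [← cancel_epi ((t.truncLTι 1).app T.obj₁), ← Category.assoc, h3, h2, comp_zero]
    obtain ⟨χ, hχ⟩ := Triangle.yoneda_exact₂ _ hT' (θ' t H0 e' k) h1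
    obtain ⟨ψ, hψ⟩ := θ'_surj t H0 e' χ
    refine ⟨ψ, ?_⟩
    have h4 : θ' t H0 e' (H0.map T.mor₂ ≫ ψ - k) = 0 := by
      have h5 := θ'_nat t H0 e' T.mor₂ ψ
      rw [hψ] at h5
      unfold θ' at h5 hχ ⊢
      rw [Functor.map_sub, Preadditive.comp_sub, Preadditive.comp_sub, sub_eq_zero, h5]
      exact hχ.symm
    exact sub_eq_zero.1 (θ'_inj t H0 e' _ h4)
  have hcoker : IsColimit (CokernelCofork.ofπ ((shortComplexOfDistTriangle T hT).map H0).g
      ((shortComplexOfDistTriangle T hT).map H0).zero) := by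
    haveI : Epi ((shortComplexOfDistTriangle T hT).map H0).g := hepi
    exact CokernelCofork.IsColimit.ofπ' _ _
      (fun {V} k hk => ⟨(hex k hk).choose, (hex k hk).choose_spec⟩)
  exact ShortComplex.exact_of_g_is_cokernel _ hcoker

end LE

end Groth.Agent.H34.TStrH0
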