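import Mathlib
import Groth.Agent.H34.TStrH0b

set_option autoImplicit false

namespace Groth.Agent.H34.TStrH0

universe v u v' u'
open CategoryTheory CategoryTheory.Limits CategoryTheory.Pretriangulated CategoryTheory.Triangulated

variable {C : Type u} [Category.{v} C] [Preadditive C] [HasZeroObject C] [HasShift C ℤ]
  [∀ n : ℤ, (shiftFunctor C n).Additive] [Pretriangulated C] [IsTriangulated C]
  (t : TStructure C) {H : Type u'} [Category.{v'} H] [Abelian H] [t.Heart H] (H0 : C ⥤ H)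

set_option backward.defeqAttrib.useBackward true in
/-- BBD 1.3.6: `H⁰ = τ≤0 τ≥0` is a homological functor. -/
theorem isHomological (e : H0 ⋙ t.ιHeart ≅ t.truncGE 0 ⋙ t.truncLT 1) : H0.IsHomological := by
  have hz : H0.PreservesZeroMorphisms := preservesZero_of_iso t H0 e
  let e' : H0 ⋙ t.ιHeart ≅ t.truncLT 1 ⋙ t.truncGE 0 := e ≪≫ (t.truncGELTIsoLTGE 0 1).symm
  refine ⟨fun T hT => ?_⟩
  obtain ⟨W, y, w, hT₁⟩ := distinguished_cocone_triangle ((t.truncLTι 1).app T.obj₁ ≫ T.mor₁)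
  have Oct := someOctahedron rfl (t.triangleLTGE_distinguished 1 T.obj₁) hT hT₁
  -- right exactness for T₁
  have hA : t.IsLE (Triangle.mk ((t.truncLTι 1).app T.obj₁ ≫ T.mor₁) y w).obj₁ 0 :=
    t.isLE_truncLT_obj T.obj₁ 1 0 (by lia)
  obtain ⟨hS₁, hepi⟩ := rightExact t H0 e' _ hT₁
  -- mono for m₃
  have hT₂ := rot_of_distTriang _ Oct.mem
  have hB : t.IsGE (Triangle.mk Oct.m₁ Oct.m₃
      (T.mor₃ ≫ ((t.truncGEπ 1).app T.obj₁)⟦(1 : ℤ)⟧')).rotate.obj₃ 0 :=
    t.isGE_shift ((t.truncGE 1).obj T.obj₁) 1 1 0 (by lia)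
  obtain ⟨-, hmono⟩ := leftExact t H0 e _ hT₂
  have hmono' : Mono (H0.map Oct.m₃) := hmono
  -- the iso
  have hiso : IsIso (H0.map ((t.truncLTι 1).app T.obj₁)) := by
    have h1 : IsIso (t.ιHeart.map (H0.map ((t.truncLTι 1).app T.obj₁))) := by
      have h2 := e.hom.naturality ((t.truncLTι 1).app T.obj₁)
      have h3 : IsIso ((t.truncGE 0 ⋙ t.truncLT 1).map ((t.truncLTι 1).app T.obj₁)) :=
        (inferInstance : IsIso ((t.truncLT 1).map ((t.truncGE 0).map ((t.truncLTι 1).app T.obj₁))))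
      have h4 : t.ιHeart.map (H0.map ((t.truncLTι 1).app T.obj₁)) =
          e.hom.app _ ≫ (t.truncGE 0 ⋙ t.truncLT 1).map ((t.truncLTι 1).app T.obj₁) ≫
            e.inv.app _ := by
        rw [← Category.assoc, ← h2, Category.assoc, Iso.hom_inv_id_app, Category.comp_id]
        rfl
      rw [h4]
      infer_instance
    exact isIso_of_fully_faithful t.ιHeart _
  let φ : (shortComplexOfDistTriangle _ hT₁).map H0 ⟶ (shortComplexOfDistTriangle T hT).map H0 :=
    { τ₁ := H0.map ((t.truncLTι 1).app T.obj₁)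
      τ₂ := 𝟙 _
      τ₃ := H0.map Oct.m₃
      comm₁₂ := by
        change H0.map ((t.truncLTι 1).app T.obj₁) ≫ H0.map T.mor₁ =
          H0.map ((t.truncLTι 1).app T.obj₁ ≫ T.mor₁) ≫ 𝟙 _
        rw [Category.comp_id, Functor.map_comp]
      comm₂₃ := by
        change 𝟙 _ ≫ H0.map T.mor₂ = H0.map y ≫ H0.map Oct.m₃
        rw [Category.id_comp, ← Functor.map_comp]
        congr 1
        exact Oct.comm₃.symm }
  have : Epi φ.τ₁ := by
    change Epi (H0.map ((t.truncLTι 1).app T.obj₁))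
    infer_instance
  have : IsIso φ.τ₂ := by
    change IsIso (𝟙 _)
    infer_instance
  have : Mono φ.τ₃ := hmono'
  exact (ShortComplex.exact_iff_of_epi_of_isIso_of_mono φ).1 hS₁

end Groth.Agent.H34.TStrH0
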