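import Mathlib.Algebra.Module.Torsion.Free
import Mathlib.Algebra.Module.Torsion.Pi
import Mathlib.Algebra.Module.LocalizedModule.Basic
import Mathlib.Algebra.Module.LocalizedModule.Int
import Mathlib.RingTheory.Localization.FractionRing
import Mathlib.RingTheory.Localization.Integer
import Mathlib.RingTheory.Localization.Finiteness
import Mathlib.LinearAlgebra.Dimension.Finite
import Mathlib.LinearAlgebra.FreeModule.Finite.Basic
import Mathlib.LinearAlgebra.Dimension.Free
import Mathlib.LinearAlgebra.Pi
import Mathlib.LinearAlgebra.Basis.VectorSpace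
import Mathlib.LinearAlgebra.Dual.Defs

set_option autoImplicit false
universe u v

namespace Groth.Agent.H34

open nonZeroDivisors

/-- Clearing denominators of a linear map from a finite module into a finite power of the
fraction field. -/
theorem exists_clear_denominators (R : Type u) [CommRing R] [IsDomain R] (M : Type v)
    [AddCommGroup M] [Module R M] [Module.Finite R M] {n : ℕ}
    (g : M →ₗ[R] (Fin n → FractionRing R)) :
    ∃ (d : R) (h : M →ₗ[R] (Fin n → R)), d ≠ 0 ∧
      ∀ m j, algebraMap R (FractionRing R) (h m j) = d • g m j := by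
  classical
  let K := FractionRing R
  obtain ⟨s, hs⟩ := (Module.Finite.fg_top (R := R) (M := M))
  let T : Finset K := (s ×ˢ (Finset.univ : Finset (Fin n))).image (fun p => g p.1 p.2)
  obtain ⟨d, hd⟩ := IsLocalization.exist_integer_multiples_of_finset R⁰ T
  let ι : (Fin n → R) →ₗ[R] (Fin n → K) := (Algebra.linearMap R K).compLeft (Fin n)
  have hι : Function.Injective ι := by
    intro x y hxy
    funext j
    have := congrFun hxy j
    exact IsFractionRing.injective R K this
  have hmem : ∀ m : M, ((d : R) • g) m ∈ LinearMap.range ι := by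
    intro m
    have hm : m ∈ Submodule.span R (s : Set M) := by rw [hs]; trivial
    induction hm using Submodule.span_induction with
    | mem x hx =>
      have : ∀ j : Fin n, ∃ r : R, algebraMap R K r = (d : R) • g x j := by
        intro j
        have hT : g x j ∈ T := Finset.mem_image.mpr ⟨(x, j), by simpa using hx, rfl⟩
        exact hd _ hT
      choose r hr using this
      refine ⟨r, ?_⟩
      funext j
      simp [ι, hr]
    | zero => simp
    | add x y _ _ hx hy =>
      rw [map_add]
      exact Submodule.add_mem _ hx hy
    | smul a x _ hx =>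
      rw [map_smul]
      exact Submodule.smul_mem _ a hx
  let h : M →ₗ[R] (Fin n → R) :=
    (LinearEquiv.ofInjective ι hι).symm.toLinearMap ∘ₗ
      LinearMap.codRestrict (LinearMap.range ι) ((d : R) • g) hmem
  refine ⟨d, h, nonZeroDivisors.ne_zero d.2, ?_⟩
  intro m j
  have h1 : ι (h m) = ((d : R) • g) m := by
    have := (LinearEquiv.ofInjective ι hι).apply_symm_apply
      (LinearMap.codRestrict (LinearMap.range ι) ((d : R) • g) hmem m)
    exact congrArg Subtype.val this
  have := congrFun h1 j
  simpa [ι] using this

/-- A finite torsion-free module over a domain embeds into a finite free module. -/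
theorem exists_injective_into_finite_free (R : Type u) [CommRing R] [IsDomain R] (M : Type v)
    [AddCommGroup M] [Module R M] [Module.Finite R M] [Module.IsTorsionFree R M] :
    ∃ (n : ℕ) (f : M →ₗ[R] (Fin n → R)), Function.Injective f := by
  classical
  let K := FractionRing R
  let f := LocalizedModule.mkLinearMap R⁰ M
  have hf : Function.Injective f := by
    rw [IsLocalizedModule.injective_iff_isRegular R⁰]
    intro c
    exact IsSMulRegular.of_ne_zero (nonZeroDivisors.ne_zero c.2)
  have : Module.Finite K (LocalizedModule R⁰ M) := Module.Finite.of_isLocalizedModule R⁰ f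
  let n := Module.finrank K (LocalizedModule R⁰ M)
  let b : Module.Basis (Fin n) K (LocalizedModule R⁰ M) := Module.finBasis K (LocalizedModule R⁰ M)
  let g : M →ₗ[R] (Fin n → K) := (b.equivFun.toLinearMap.restrictScalars R) ∘ₗ f
  have hg : Function.Injective g := b.equivFun.injective.comp hf
  obtain ⟨d, h, hd0, hh⟩ := exists_clear_denominators R M g
  refine ⟨n, h, ?_⟩
  intro x y hxy
  have h3 : algebraMap R K d ≠ 0 := by
    rw [Ne, IsFractionRing.to_map_eq_zero_iff]
    exact hd0
  apply hg
  funext j
  have h1 := hh x j
  have h2 := hh y j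
  rw [hxy, h2] at h1
  simp only [Algebra.smul_def] at h1
  exact (mul_left_cancel₀ h3 h1).symm

/-- A module which embeds into a torsion-free module is torsion-free. -/
theorem isTorsionFree_of_injective {R : Type u} [CommRing R] {M N : Type*} [AddCommGroup M]
    [Module R M] [AddCommGroup N] [Module R N] [Module.IsTorsionFree R N] (f : M →ₗ[R] N)
    (hf : Function.Injective f) : Module.IsTorsionFree R M :=
  Function.Injective.moduleIsTorsionFree f hf (map_smul f)

/-- A "dual frame up to a scalar" for a finite module over a domain. -/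
theorem exists_dual_frame (R : Type u) [CommRing R] [IsDomain R] (M : Type v)
    [AddCommGroup M] [Module R M] [Module.Finite R M] :
    ∃ (n : ℕ) (e : Fin n → M) (ψ : Fin n → Module.Dual R M) (c : R), c ≠ 0 ∧
      ∀ m : M, c • m = ∑ j, ψ j m • e j := by
  classical
  let K := FractionRing R
  let f := LocalizedModule.mkLinearMap R⁰ M
  have : Module.Finite K (LocalizedModule R⁰ M) := Module.Finite.of_isLocalizedModule R⁰ f
  let n := Module.finrank K (LocalizedModule R⁰ M)
  let b : Module.Basis (Fin n) K (LocalizedModule R⁰ M) := Module.finBasis K (LocalizedModule R⁰ M)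
  obtain ⟨s, hs⟩ := IsLocalizedModule.exist_integer_multiples_of_finite R⁰ f (fun j => b j)
  choose e he using hs
  let g : M →ₗ[R] (Fin n → K) := (b.equivFun.toLinearMap.restrictScalars R) ∘ₗ f
  obtain ⟨d, h, hd0, hh⟩ := exists_clear_denominators R M g
  let L : M →ₗ[R] M := (d * (s : R)) • LinearMap.id -
    ∑ j, (LinearMap.toSpanSingleton R M (e j)) ∘ₗ (LinearMap.proj j ∘ₗ h)
  have hL : ∀ m, f (L m) = 0 := by
    intro m
    have h1 : f m = ∑ j, b.equivFun (f m) j • b j := (b.sum_equivFun (f m)).symm
    have h2 : f (L m) = (d * (s : R)) • f m - ∑ j, h m j • f (e j) := by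
      simp [L, map_sub, map_sum, map_smul]
    rw [h2, sub_eq_zero]
    conv_lhs => rw [h1]
    rw [Finset.smul_sum]
    refine Finset.sum_congr rfl fun j _ => ?_
    rw [he j]
    have h3 := hh m j
    have h4 : h m j • ((s : R) • b j) = (algebraMap R K (h m j)) • ((s : R) • b j) := by
      rw [algebraMap_smul]
    rw [h4, h3]
    simp only [g, LinearMap.coe_comp, LinearMap.coe_restrictScalars, LinearEquiv.coe_coe,
      Function.comp_apply]
    rw [mul_smul, smul_assoc, smul_comm (s : R) (b.equivFun (f m) j) (b j)]
  obtain ⟨G, hG⟩ := (Module.Finite.fg_top (R := R) (M := M))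
  have ht : ∀ x : M, ∃ t : R⁰, t • L x = 0 := fun x =>
    (IsLocalizedModule.eq_zero_iff R⁰ f).mp (hL x)
  choose t ht using ht
  let c' : R⁰ := ∏ x ∈ G, t x
  have hc' : ∀ m : M, (c' : R) • L m = 0 := by
    intro m
    have hm : m ∈ Submodule.span R (G : Set M) := by rw [hG]; trivial
    induction hm using Submodule.span_induction with
    | mem x hx =>
      have hx' : x ∈ G := by simpa using hx
      have : (c' : R) = (∏ y ∈ G.erase x, (t y : R)) * (t x : R) := by
        simp only [c', Submonoid.coe_finsetProd]
        rw [← Finset.prod_erase_mul G _ hx']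
      rw [this, mul_smul]
      have h5 : (t x : R) • L x = 0 := ht x
      rw [h5, smul_zero]
    | zero => simp
    | add x y _ _ hx hy => rw [map_add, smul_add, hx, hy, add_zero]
    | smul a x _ hx => rw [map_smul, smul_comm, hx, smul_zero]
  refine ⟨n, e, fun j => (c' : R) • (LinearMap.proj j ∘ₗ h), (c' : R) * (d * (s : R)), ?_, ?_⟩
  · exact mul_ne_zero (nonZeroDivisors.ne_zero c'.2)
      (mul_ne_zero hd0 (nonZeroDivisors.ne_zero s.2))
  · intro m
    have h6 := hc' m
    simp only [L, LinearMap.sub_apply, LinearMap.smul_apply, LinearMap.id_apply,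
      LinearMap.sum_apply, LinearMap.comp_apply, LinearMap.proj_apply,
      LinearMap.toSpanSingleton_apply, smul_sub, sub_eq_zero] at h6
    rw [mul_smul, h6, Finset.smul_sum]
    refine Finset.sum_congr rfl fun j _ => ?_
    simp [mul_smul]

end Groth.Agent.H34
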