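import Mathlib

open CategoryTheory Limits HomologicalComplex

namespace Groth.Agent.H34.TotQis

universe v u
variable {A : Type u} [Category.{v} A] [Abelian A]

section QI

variable {X Y : CochainComplex A ℤ} (f : X ⟶ Y)

/-- Elementwise (up to refinements) acyclicity of the mapping cone of `f`. -/
def ElemQI : Prop :=
  ∀ (i j k l : ℤ) (_ : i + 1 = j) (_ : j + 1 = k) (_ : k + 1 = l) ⦃W : A⦄
    (x : W ⟶ X.X k) (y : W ⟶ Y.X j),
    x ≫ X.d k l = 0 → x ≫ f.f k + y ≫ Y.d j k = 0 →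
    ∃ (W' : A) (π : W' ⟶ W) (_ : Epi π) (x' : W' ⟶ X.X j) (y' : W' ⟶ Y.X i),
      π ≫ x = x' ≫ X.d j k ∧ π ≫ y = - x' ≫ f.f j + y' ≫ Y.d i j

lemma elemQI_of_quasiIso [QuasiIso f] : ElemQI f := by
  intro i j k l hij hjk hkl W x y hx hxy
  have hk : QuasiIsoAt f k := inferInstance
  have hj : QuasiIsoAt f j := inferInstance
  rw [quasiIsoAt_iff_isIso_homologyMap] at hk hj
  have hm : Mono (homologyMap f k) := inferInstance
  have he : Epi (homologyMap f j) := inferInstance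
  obtain ⟨W₁, π₁, hπ₁, x₁, hx₁⟩ :=
    (mono_homologyMap_iff_up_to_refinements f j k l (by simp [← hjk]) (by simp [← hkl])).1 hm
      x hx (-y) (by rw [Preadditive.neg_comp]; exact eq_neg_of_add_eq_zero_left hxy)
  have hy₂ : (π₁ ≫ y + x₁ ≫ f.f j) ≫ Y.d j k = 0 := by
    rw [Preadditive.add_comp, Category.assoc, Category.assoc, f.comm, ← Category.assoc x₁,
      ← hx₁, Category.assoc, ← Preadditive.comp_add, add_comm, hxy, comp_zero]
  obtain ⟨W₂, π₂, hπ₂, x₂, hx₂, y₁, h⟩ :=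
    (epi_homologyMap_iff_up_to_refinements f i j k (by simp [← hij]) (by simp [← hjk])).1 he
      _ hy₂
  refine ⟨W₂, π₂ ≫ π₁, epi_comp _ _, π₂ ≫ x₁ - x₂, y₁, ?_, ?_⟩
  · rw [Category.assoc, hx₁, Preadditive.sub_comp, hx₂, sub_zero, Category.assoc]
  · rw [Preadditive.comp_add] at h
    rw [Category.assoc, Preadditive.sub_comp, neg_sub, Category.assoc]
    rw [eq_sub_of_add_eq h]
    abel

lemma quasiIso_of_elemQI (h : ElemQI f) : QuasiIso f := by
  rw [quasiIso_iff]
  intro n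
  rw [quasiIsoAt_iff_isIso_homologyMap]
  have hm : Mono (homologyMap f n) := by
    rw [mono_homologyMap_iff_up_to_refinements f (n - 1) n (n + 1) (by simp) (by simp)]
    intro W x₂ hx₂ y₁ hy
    obtain ⟨W', π, hπ, x', y', h1, -⟩ := h (n - 1 - 1) (n - 1) n (n + 1) (by omega) (by omega) rfl
      x₂ (-y₁) hx₂ (by rw [hy, Preadditive.neg_comp, add_neg_cancel])
    exact ⟨W', π, hπ, x', h1⟩
  have he : Epi (homologyMap f n) := by
    rw [epi_homologyMap_iff_up_to_refinements f (n - 1) n (n + 1) (by simp) (by simp)]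
    intro W y₂ hy₂
    obtain ⟨W', π, hπ, x', y', h1, h2⟩ := h (n - 1) n (n + 1) (n + 1 + 1) (by omega) rfl rfl
      (0 : W ⟶ X.X (n + 1)) y₂ zero_comp (by rw [zero_comp, zero_add, hy₂])
    refine ⟨W', π, hπ, -x', ?_, y', ?_⟩
    · rw [Preadditive.neg_comp, ← h1, comp_zero, neg_zero]
    · rw [h2, Preadditive.neg_comp]
  exact isIso_of_mono_of_epi _

end QI


section Proj

open ComplexShape

variable (K L : HomologicalComplex₂ A (up ℤ) (up ℤ))
  [K.HasTotal (up ℤ)] [L.HasTotal (up ℤ)] (φ : K ⟶ L)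

/-- inclusion of a summand, with arithmetic hypothesis -/
noncomputable abbrev ι (p q n : ℤ) (h : p + q = n) : (K.X p).X q ⟶ (K.total (up ℤ)).X n :=
  K.ιTotal (up ℤ) p q n h

/-- projection onto a summand of the total complex -/
noncomputable def π (p q n : ℤ) (_ : p + q = n) : (K.total (up ℤ)).X n ⟶ (K.X p).X q :=
  K.totalDesc (fun p' q' _ => if hp : p' = p ∧ q' = q then eqToHom (by rw [hp.1, hp.2]) else 0)

@[reassoc (attr := simp)]
lemma ι_π_self (p q n : ℤ) (h : p + q = n) : ι K p q n h ≫ π K p q n h = 𝟙 _ := by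
  simp [ι, π]

@[reassoc]
lemma ι_π_ne (p q n : ℤ) (h : p + q = n) (p' q' : ℤ) (h' : p' + q' = n) (hne : p' ≠ p) :
    ι K p' q' n h' ≫ π K p q n h = 0 := by
  simp only [ι, π, HomologicalComplex₂.ι_totalDesc]
  rw [dif_neg]
  rintro ⟨h1, -⟩
  exact hne h1


@[reassoc]
lemma ι_d (p q n p' q' n' : ℤ) (h : p + q = n) (hp : p + 1 = p') (hq : q + 1 = q')
    (hn : n + 1 = n') :
    ι K p q n h ≫ (K.total (up ℤ)).d n n' =
      (K.d p p').f q ≫ ι K p' q n' (by omega) +
        p.negOnePow • ((K.X p).d q q' ≫ ι K p q' n' (by omega)) := by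
  rw [HomologicalComplex₂.total_d, Preadditive.comp_add, HomologicalComplex₂.ι_D₁,
    HomologicalComplex₂.ι_D₂, K.d₁_eq (up ℤ) (show (up ℤ).Rel p p' from hp) q n' (by simp; omega),
    K.d₂_eq (up ℤ) p (show (up ℤ).Rel q q' from hq) n' (by simp; omega)]
  simp


lemma d_π (p q₀ n p' q n' : ℤ) (h : p + q = n) (hp : p + 1 = p') (hq : q₀ + 1 = q)
    (hn : n + 1 = n') :
    (K.total (up ℤ)).d n n' ≫ π K p' q n' (by omega) =
      π K p q n h ≫ (K.d p p').f q +
        p'.negOnePow • (π K p' q₀ n (by omega) ≫ (K.X p').d q₀ q) := by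
  apply HomologicalComplex₂.total.hom_ext
  intro p₁ q₁ h₁
  have h₁' : p₁ + q₁ = n := h₁
  change ι K p₁ q₁ n h₁' ≫ _ = ι K p₁ q₁ n h₁' ≫ _
  rw [ι_d_assoc K p₁ q₁ n (p₁ + 1) (q₁ + 1) n' h₁' rfl rfl hn, Preadditive.add_comp,
    Preadditive.comp_add, Category.assoc, Linear.units_smul_comp, Category.assoc,
    Linear.comp_units_smul]
  by_cases hp₁ : p₁ = p
  · subst hp₁
    obtain rfl : q₁ = q := by omega
    subst hp
    rw [ι_π_self, ι_π_self_assoc, ι_π_ne K _ _ _ _ p₁ (q₁ + 1) (by omega) (by omega),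
      ι_π_ne_assoc K _ _ _ _ p₁ q₁ h₁' (by omega)]
    simp
  · by_cases hp₂ : p₁ = p'
    · subst hp₂
      obtain rfl : q₁ = q₀ := by omega
      subst hq
      rw [ι_π_self, ι_π_self_assoc, ι_π_ne K _ _ _ _ (p₁ + 1) q₁ (by omega) (by omega),
        ι_π_ne_assoc K _ _ _ _ p₁ q₁ h₁' hp₁]
      simp
    · rw [ι_π_ne K _ _ _ _ (p₁ + 1) q₁ (by omega) (by omega),
        ι_π_ne K _ _ _ _ p₁ (q₁ + 1) (by omega) hp₂,
        ι_π_ne_assoc K _ _ _ _ p₁ q₁ h₁' hp₁, ι_π_ne_assoc K _ _ _ _ p₁ q₁ h₁' hp₂]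
      simp


variable {K L} in
lemma map_π (p q n : ℤ) (h : p + q = n) :
    (HomologicalComplex₂.total.map φ (up ℤ)).f n ≫ π L p q n h =
      π K p q n h ≫ (φ.f p).f q := by
  apply HomologicalComplex₂.total.hom_ext
  intro p₁ q₁ h₁
  have h₁' : p₁ + q₁ = n := h₁
  change ι K p₁ q₁ n h₁' ≫ _ = ι K p₁ q₁ n h₁' ≫ _
  rw [HomologicalComplex₂.ιTotal_map_assoc]
  by_cases hp₁ : p₁ = p
  · subst hp₁
    obtain rfl : q₁ = q := by omega
    rw [ι_π_self_assoc]
    erw [ι_π_self]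
    simp
  · rw [ι_π_ne_assoc K _ _ _ _ p₁ q₁ h₁' hp₁]
    erw [ι_π_ne L _ _ _ _ p₁ q₁ h₁' hp₁]
    simp


lemma ι_π_ι (p q n : ℤ) (h : p + q = n) (p' q' : ℤ) (h' : p' + q' = n) (hp : p' = p) :
    ι K p' q' n h' ≫ π K p q n h ≫ ι K p q n h = ι K p' q' n h' := by
  subst hp
  obtain rfl : q' = q := by omega
  rw [ι_π_self_assoc]

lemma id_eq_sum (a b : ℤ) (hK : ∀ p q : ℤ, p < a ∨ q < b → IsZero ((K.X p).X q)) (n : ℤ) :
    𝟙 ((K.total (up ℤ)).X n) =
      ∑ q ∈ Finset.Icc b (n - a), π K (n - q) q n (by omega) ≫ ι K (n - q) q n (by omega) := by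
  apply HomologicalComplex₂.total.hom_ext
  intro p₁ q₁ h₁
  have h₁' : p₁ + q₁ = n := h₁
  change ι K p₁ q₁ n h₁' ≫ _ = ι K p₁ q₁ n h₁' ≫ _
  rw [Category.comp_id, Preadditive.comp_sum]
  by_cases hq : q₁ ∈ Finset.Icc b (n - a)
  · rw [Finset.sum_eq_single q₁]
    · exact (ι_π_ι K _ _ _ _ _ _ h₁' (by omega)).symm
    · intro q _ hne
      rw [ι_π_ne_assoc K _ _ _ _ p₁ q₁ h₁' (by omega), zero_comp]
    · intro h; exact absurd hq h
  · apply (hK p₁ q₁ _).eq_of_src
    rw [Finset.mem_Icc] at hq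
    omega

lemma eq_zero_of_comp_π (a b : ℤ) (hK : ∀ p q : ℤ, p < a ∨ q < b → IsZero ((K.X p).X q))
    (n : ℤ) {W : A} (x : W ⟶ (K.total (up ℤ)).X n)
    (hx : ∀ (p q : ℤ) (h : p + q = n), x ≫ π K p q n h = 0) : x = 0 := by
  rw [← Category.comp_id x, id_eq_sum K a b hK n, Preadditive.comp_sum]
  refine Finset.sum_eq_zero (fun q _ => ?_)
  rw [← Category.assoc, hx, zero_comp]


/-- `x` is supported in rows `≥ r` -/
def Supp (n r : ℤ) {W : A} (x : W ⟶ (K.total (up ℤ)).X n) : Prop :=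
  ∀ (p q : ℤ) (h : p + q = n), q < r → x ≫ π K p q n h = 0

variable {K L} in
/-- The rows of `φ` are quasi-isomorphisms, in elementwise form. -/
def RowQI : Prop :=
  ∀ (q i j k l : ℤ) (_ : i + 1 = j) (_ : j + 1 = k) (_ : k + 1 = l) ⦃W : A⦄
    (x : W ⟶ (K.X k).X q) (y : W ⟶ (L.X j).X q),
    x ≫ (K.d k l).f q = 0 → x ≫ (φ.f k).f q + y ≫ (L.d j k).f q = 0 →
    ∃ (W' : A) (π : W' ⟶ W) (_ : Epi π) (x' : W' ⟶ (K.X j).X q) (y' : W' ⟶ (L.X i).X q),
      π ≫ x = x' ≫ (K.d j k).f q ∧ π ≫ y = - x' ≫ (φ.f j).f q + y' ≫ (L.d i j).f q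

/-- composite `ι ≫ d ≫ π` on a row below the source row vanishes; on the same row it is `d_h`. -/
lemma ι_d_π_same (p q n p' n' : ℤ) (h : p + q = n) (hp : p + 1 = p') (hn : n + 1 = n') :
    ι K p q n h ≫ (K.total (up ℤ)).d n n' ≫ π K p' q n' (by omega) = (K.d p p').f q := by
  rw [ι_d_assoc K p q n p' (q + 1) n' h hp rfl hn, Preadditive.add_comp, Category.assoc,
    ι_π_self, Category.comp_id, Linear.units_smul_comp, Category.assoc,
    ι_π_ne K _ _ _ _ p (q + 1) (by omega) (by omega), comp_zero, smul_zero, add_zero]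

lemma ι_d_π_lt (p q n n' : ℤ) (h : p + q = n) (hn : n + 1 = n') (p₁ q₁ : ℤ) (h₁ : p₁ + q₁ = n')
    (hlt : q₁ < q) :
    ι K p q n h ≫ (K.total (up ℤ)).d n n' ≫ π K p₁ q₁ n' h₁ = 0 := by
  rw [ι_d_assoc K p q n (p + 1) (q + 1) n' h rfl rfl hn, Preadditive.add_comp, Category.assoc,
    ι_π_ne K _ _ _ _ (p + 1) q (by omega) (by omega), comp_zero, Linear.units_smul_comp,
    Category.assoc, ι_π_ne K _ _ _ _ p (q + 1) (by omega) (by omega), comp_zero, smul_zero,
    add_zero]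


variable {K L} in
lemma chase (hrow : RowQI φ) (a b : ℤ)
    (hK : ∀ p q : ℤ, p < a ∨ q < b → IsZero ((K.X p).X q))
    (hL : ∀ p q : ℤ, p < a ∨ q < b → IsZero ((L.X p).X q))
    (i j k l : ℤ) (hij : i + 1 = j) (hjk : j + 1 = k) (hkl : k + 1 = l) :
    ∀ (m : ℕ) (r : ℤ), k - a < r + m → ∀ ⦃W : A⦄ (x : W ⟶ (K.total (up ℤ)).X k)
      (y : W ⟶ (L.total (up ℤ)).X j), Supp K k r x → Supp L j r y →
      x ≫ (K.total (up ℤ)).d k l = 0 →
      x ≫ (HomologicalComplex₂.total.map φ (up ℤ)).f k + y ≫ (L.total (up ℤ)).d j k = 0 →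
      ∃ (W' : A) (π : W' ⟶ W) (_ : Epi π) (x' : W' ⟶ (K.total (up ℤ)).X j)
        (y' : W' ⟶ (L.total (up ℤ)).X i),
        π ≫ x = x' ≫ (K.total (up ℤ)).d j k ∧
        π ≫ y = - x' ≫ (HomologicalComplex₂.total.map φ (up ℤ)).f j +
          y' ≫ (L.total (up ℤ)).d i j := by
  intro m
  induction m with
  | zero =>
    intro r hr W x y hx hy _ _
    have hx0 : x = 0 := by
      apply eq_zero_of_comp_π K a b hK
      intro p q h
      by_cases hq : q < r
      · exact hx p q h hq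
      · exact (hK p q (Or.inl (by push_cast at hr; omega))).eq_of_tgt _ _
    have hy0 : y = 0 := by
      apply eq_zero_of_comp_π L a b hL
      intro p q h
      by_cases hq : q < r
      · exact hy p q h hq
      · exact (hL p q (Or.inl (by push_cast at hr; omega))).eq_of_tgt _ _
    subst hx0 hy0
    exact ⟨W, 𝟙 W, inferInstance, 0, 0, by simp, by simp⟩
  | succ m ih =>
    intro r hr W x y hx hy hxd hxy
    -- leading components
    have h1 : (x ≫ π K (k - r) r k (by omega)) ≫ (K.d (k - r) (l - r)).f r = 0 := by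
      have hz := hx (l - r) (r - 1) (by omega) (by omega)
      have := congrArg (fun t => t ≫ π K (l - r) r l (by omega)) hxd
      simp only [Category.assoc, zero_comp] at this
      rw [d_π K (k - r) (r - 1) k (l - r) r l (by omega) (by omega) (by omega) hkl,
        Preadditive.comp_add, Linear.comp_units_smul, reassoc_of% hz, zero_comp, smul_zero,
        add_zero] at this
      rw [Category.assoc]
      exact this
    have h2 : (x ≫ π K (k - r) r k (by omega)) ≫ (φ.f (k - r)).f r +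
        (y ≫ π L (j - r) r j (by omega)) ≫ (L.d (j - r) (k - r)).f r = 0 := by
      have hz := hy (k - r) (r - 1) (by omega) (by omega)
      have := congrArg (fun t => t ≫ π L (k - r) r k (by omega)) hxy
      simp only [Category.assoc, zero_comp, Preadditive.add_comp] at this
      rw [map_π φ, d_π L (j - r) (r - 1) j (k - r) r k (by omega) (by omega) (by omega) hjk,
        Preadditive.comp_add, Linear.comp_units_smul, reassoc_of% hz, zero_comp, smul_zero,
        add_zero] at this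
      rw [Category.assoc, Category.assoc]
      exact this
    obtain ⟨W₁, π₁, hπ₁, u, v, hu, hv⟩ := hrow r (i - r) (j - r) (k - r) (l - r) (by omega)
      (by omega) (by omega) _ _ h1 h2
    let X₁ : W₁ ⟶ (K.total (up ℤ)).X k :=
      π₁ ≫ x - (u ≫ ι K (j - r) r j (by omega)) ≫ (K.total (up ℤ)).d j k
    let Y₁ : W₁ ⟶ (L.total (up ℤ)).X j :=
      π₁ ≫ y + (u ≫ ι K (j - r) r j (by omega)) ≫ (HomologicalComplex₂.total.map φ (up ℤ)).f j -
        (v ≫ ι L (i - r) r i (by omega)) ≫ (L.total (up ℤ)).d i j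
    have hX₁ : Supp K k (r + 1) X₁ := by
      intro p q h hq
      dsimp only [X₁]
      rw [Preadditive.sub_comp, Category.assoc, Category.assoc, Category.assoc]
      by_cases hq' : q < r
      · rw [hx p q h hq', comp_zero, ι_d_π_lt K _ _ _ _ _ hjk p q h hq', comp_zero, sub_zero]
      · obtain rfl : q = r := by omega
        obtain rfl : p = k - q := by omega
        rw [ι_d_π_same K (j - q) q j (k - q) k (by omega) (by omega) hjk, hu, sub_self]
    have hY₁ : Supp L j (r + 1) Y₁ := by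
      intro p q h hq
      dsimp only [Y₁]
      rw [Preadditive.sub_comp, Preadditive.add_comp, Category.assoc, Category.assoc,
        Category.assoc, Category.assoc, Category.assoc, map_π φ]
      by_cases hq' : q < r
      · rw [hy p q h hq', comp_zero, ι_d_π_lt L _ _ _ _ _ hij p q h hq', comp_zero, sub_zero,
          ι_π_ne_assoc K _ _ _ _ (j - r) r (by omega) (by omega), zero_comp, comp_zero, add_zero]
      · obtain rfl : q = r := by omega
        obtain rfl : p = j - q := by omega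
        rw [ι_d_π_same L (i - q) q i (j - q) j (by omega) (by omega) hij, ι_π_self_assoc, hv]
        abel
    have hX₁d : X₁ ≫ (K.total (up ℤ)).d k l = 0 := by
      dsimp only [X₁]
      rw [Preadditive.sub_comp, Category.assoc, hxd, comp_zero, Category.assoc,
        HomologicalComplex.d_comp_d, comp_zero, sub_zero]
    have hXY₁ : X₁ ≫ (HomologicalComplex₂.total.map φ (up ℤ)).f k +
        Y₁ ≫ (L.total (up ℤ)).d j k = 0 := by
      dsimp only [X₁, Y₁]
      simp only [Preadditive.sub_comp, Preadditive.add_comp, Category.assoc,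
        HomologicalComplex.d_comp_d, comp_zero, sub_zero]
      rw [(HomologicalComplex₂.total.map φ (up ℤ)).comm j k]
      have : π₁ ≫ x ≫ (HomologicalComplex₂.total.map φ (up ℤ)).f k +
          π₁ ≫ y ≫ (L.total (up ℤ)).d j k = 0 := by
        rw [← Preadditive.comp_add, hxy, comp_zero]
      rw [← this]
      abel
    obtain ⟨W₂, π₂, hπ₂, x'', y'', hx'', hy''⟩ := ih (r + 1) (by push_cast at hr; omega) X₁ Y₁
      hX₁ hY₁ hX₁d hXY₁
    refine ⟨W₂, π₂ ≫ π₁, epi_comp _ _, x'' + π₂ ≫ u ≫ ι K (j - r) r j (by omega),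
      y'' + π₂ ≫ v ≫ ι L (i - r) r i (by omega), ?_, ?_⟩
    · dsimp only [X₁] at hx''
      rw [Preadditive.comp_sub] at hx''
      rw [Preadditive.add_comp, ← hx'']
      simp only [Category.assoc]
      abel
    · dsimp only [Y₁] at hy''
      rw [Preadditive.comp_sub, Preadditive.comp_add] at hy''
      rw [Preadditive.add_comp, Preadditive.add_comp, neg_add, add_add_add_comm, ← hy'']
      simp only [Category.assoc]
      abel


omit [K.HasTotal (up ℤ)] [L.HasTotal (up ℤ)] in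
variable {K L} in
lemma rowQI_of_quasiIso [QuasiIso φ] : RowQI φ := by
  intro q i j k l hij hjk hkl W x y hx hxy
  have : QuasiIso (((HomologicalComplex.eval A (up ℤ) q).mapHomologicalComplex (up ℤ)).map φ) :=
    inferInstance
  exact elemQI_of_quasiIso
    (((HomologicalComplex.eval A (up ℤ) q).mapHomologicalComplex (up ℤ)).map φ)
    i j k l hij hjk hkl x y hx hxy

variable {K L} in
lemma elemQI_total (hrow : RowQI φ) (a b : ℤ)
    (hK : ∀ p q : ℤ, p < a ∨ q < b → IsZero ((K.X p).X q))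
    (hL : ∀ p q : ℤ, p < a ∨ q < b → IsZero ((L.X p).X q)) :
    ElemQI (HomologicalComplex₂.total.map φ (up ℤ)) := by
  intro i j k l hij hjk hkl W x y hx hxy
  refine chase φ hrow a b hK hL i j k l hij hjk hkl (k - a - b + 1).toNat b ?_ x y ?_ ?_ hx hxy
  · have := Int.self_le_toNat (k - a - b + 1)
    omega
  · intro p q h hq
    exact (hK p q (Or.inr hq)).eq_of_tgt _ _
  · intro p q h hq
    exact (hL p q (Or.inr hq)).eq_of_tgt _ _

variable {K L} in
theorem quasiIso_total_map [QuasiIso φ] (a b : ℤ)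
    (hK : ∀ p q : ℤ, p < a ∨ q < b → IsZero ((K.X p).X q))
    (hL : ∀ p q : ℤ, p < a ∨ q < b → IsZero ((L.X p).X q)) :
    QuasiIso (HomologicalComplex₂.total.map φ (up ℤ)) :=
  quasiIso_of_elemQI _ (elemQI_total φ (rowQI_of_quasiIso φ) a b hK hL)

end Proj

end Groth.Agent.H34.TotQis
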