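import Mathlib

set_option autoImplicit false
universe w v u

namespace Groth.Agent.H34.Unif

open Submodule

/-- Module-theoretic uniformity: if `M` has the extension property for maps into itself along
injective linear maps from modules in its own universe, and every idempotent endomorphism of `M` is `0` or `1`,
then any two nonzero submodules meet nontrivially. -/
theorem inf_ne_bot {R : Type u} [Ring R] {M : Type v} [AddCommGroup M] [Module R M]
    (hext : ∀ (X : Type v) [AddCommGroup X] [Module R X] (f : X →ₗ[R] M)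
      (_ : Function.Injective f) (g : X →ₗ[R] M), ∃ φ : M →ₗ[R] M, ∀ x, φ (f x) = g x)
    (hidem : ∀ φ : M →ₗ[R] M, (∀ m, φ (φ m) = φ m) → φ = 0 ∨ φ = LinearMap.id)
    (N₁ N₂ : Submodule R M) (h₁ : N₁ ≠ ⊥) (h₂ : N₂ ≠ ⊥) : N₁ ⊓ N₂ ≠ ⊥ := by
  intro h12
  have hd : Disjoint N₂ N₁ := by
    rw [disjoint_iff, inf_comm]; exact h12
  -- Zorn 1
  obtain ⟨B, hN₂B, hBmax⟩ := zorn_le_nonempty₀ {B : Submodule R M | Disjoint B N₁}
    (fun c hc hchain y hy => ⟨sSup c, by
      show Disjoint (sSup c) N₁
      rw [DirectedOn.disjoint_sSup_left hchain.directedOn]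
      intro b hb
      exact hc hb, fun z hz => le_sSup hz⟩) N₂ hd
  have hBd : Disjoint B N₁ := hBmax.1
  -- Zorn 2
  obtain ⟨A, hN₁A, hAmax⟩ := zorn_le_nonempty₀ {A : Submodule R M | Disjoint A B}
    (fun c hc hchain y hy => ⟨sSup c, by
      show Disjoint (sSup c) B
      rw [DirectedOn.disjoint_sSup_left hchain.directedOn]
      intro b hb
      exact hc hb, fun z hz => le_sSup hz⟩) N₁ hBd.symm
  have hAd : Disjoint A B := hAmax.1
  -- the projection
  let f : (A × B) →ₗ[R] M := LinearMap.coprod A.subtype B.subtype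
  have hf : Function.Injective f := by
    rw [← LinearMap.ker_eq_bot, LinearMap.ker_eq_bot']
    rintro ⟨a, b⟩ hab
    have hab' : (a : M) + (b : M) = 0 := by simpa [f] using hab
    have ha : (a : M) ∈ B := by
      have : (a : M) = -(b : M) := eq_neg_of_add_eq_zero_left hab'
      rw [this]; exact B.neg_mem b.2
    have ha0 : (a : M) = 0 := by
      have := (Submodule.disjoint_def.1 hAd) (a : M) a.2 ha
      exact this
    have hb0 : (b : M) = 0 := by rw [ha0, zero_add] at hab'; exact hab'
    ext
    · simpa using ha0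
    · simpa using hb0
  obtain ⟨φ, hφ⟩ := hext (A × B) f hf (A.subtype ∘ₗ LinearMap.fst R A B)
  have hφA : ∀ a ∈ A, φ a = a := by
    intro a ha
    have := hφ (⟨a, ha⟩, 0)
    simpa [f] using this
  have hφB : ∀ b ∈ B, φ b = 0 := by
    intro b hb
    have := hφ (0, ⟨b, hb⟩)
    simpa [f] using this
  -- comap φ B ≤ B
  have hcomap : ∀ m, φ m ∈ B → m ∈ B := by
    have hle : B ≤ Submodule.comap φ B := by
      intro b hb
      show φ b ∈ B
      rw [hφB b hb]; exact B.zero_mem
    have hdis : Disjoint (Submodule.comap φ B) N₁ := by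
      rw [Submodule.disjoint_def]
      intro x hx hx1
      have hx' : φ x ∈ B := hx
      rw [hφA x (hN₁A hx1)] at hx'
      exact (Submodule.disjoint_def.1 hBd) x hx' hx1
    have := hBmax.2 hdis hle
    intro m hm
    exact this hm
  have hrange : ∀ m, φ m ∈ A := by
    have hle : A ≤ LinearMap.range φ := by
      intro a ha
      exact ⟨a, hφA a ha⟩
    have hdis : Disjoint (LinearMap.range φ) B := by
      rw [Submodule.disjoint_def]
      rintro x ⟨m, rfl⟩ hx
      exact hφB m (hcomap m hx)
    have := hAmax.2 hdis hle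
    intro m
    exact this ⟨m, rfl⟩
  have hid : ∀ m, φ (φ m) = φ m := fun m => hφA _ (hrange m)
  rcases hidem φ hid with h0 | h1
  · apply h₁
    rw [Submodule.eq_bot_iff]
    intro n hn
    have := hφA n (hN₁A hn)
    rw [h0] at this
    simpa using this.symm
  · apply h₂
    rw [Submodule.eq_bot_iff]
    intro n hn
    have := hφB n (hN₂B hn)
    rw [h1] at this
    simpa using this

end Groth.Agent.H34.Unif
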