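import Mathlib
import Groth.Agent.H34.Unif1

set_option autoImplicit false
universe w v u

open CategoryTheory CategoryTheory.Limits

namespace Groth.Agent.H34.Unif

/-- hind ⇒ idempotents trivial -/
theorem idem_trivial {C : Type u} [Category.{v} C] [Abelian C] (E : C)
    (hind : ∀ (A B : C), Nonempty (E ≅ A ⊞ B) → IsZero A ∨ IsZero B)
    (e : E ⟶ E) (he : e ≫ e = e) : e = 0 ∨ e = 𝟙 E := by
  obtain ⟨Y, i, r, hir, hri⟩ := IsIdempotentComplete.idempotents_split E e he
  have he' : (𝟙 E - e) ≫ (𝟙 E - e) = 𝟙 E - e := by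
    simp [Preadditive.sub_comp, Preadditive.comp_sub, he]
  obtain ⟨Y', i', r', hir', hri'⟩ := IsIdempotentComplete.idempotents_split E (𝟙 E - e) he'
  have hmi : Mono i := mono_of_mono_fac hir
  have hmi' : Mono i' := mono_of_mono_fac hir'
  have her : Epi r := epi_of_epi_fac hir
  have her' : Epi r' := epi_of_epi_fac hir'
  have h1 : i ≫ r' = 0 := by
    rw [← cancel_mono i', Category.assoc, hri', zero_comp, Preadditive.comp_sub, Category.comp_id,
      ← hri, ← Category.assoc, hir, Category.id_comp, sub_self]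
  have h2 : i' ≫ r = 0 := by
    have : i' ≫ e = 0 := by
      rw [← cancel_epi r', ← Category.assoc, hri', comp_zero, Preadditive.sub_comp, Category.id_comp,
        he, sub_self]
    rw [← cancel_mono i, Category.assoc, hri, zero_comp, this]
  have iso : E ≅ Y ⊞ Y' :=
    { hom := biprod.lift r r'
      inv := biprod.desc i i'
      hom_inv_id := by
        rw [biprod.lift_desc, hri, hri']; abel
      inv_hom_id := by
        ext <;> simp [hir, hir', h1, h2] }
  rcases hind Y Y' ⟨iso⟩ with hY | hY'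
  · left
    rw [← hri, hY.eq_of_tgt r 0, zero_comp]
  · right
    have : 𝟙 E - e = 0 := by rw [← hri', hY'.eq_of_tgt r' 0, zero_comp]
    exact (sub_eq_zero.1 this).symm

end Groth.Agent.H34.Unif

namespace Groth.Agent.H34.Unif

/-- Uniformity through a full, faithful, injective-preserving, left exact embedding into modules. -/
theorem pullback_ne_zero_of_embedding {C : Type u} [Category.{v} C] [Abelian C]
    {R : Type w} [Ring R] (Φ : C ⥤ ModuleCat.{w} R) [Φ.Full] [Φ.Faithful]
    [Φ.PreservesInjectiveObjects] [PreservesFiniteLimits Φ]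
    (E : C) [Injective E] (hidem : ∀ e : E ⟶ E, e ≫ e = e → e = 0 ∨ e = 𝟙 E)
    {I₁ I₂ : C} (ι₁ : I₁ ⟶ E) (ι₂ : I₂ ⟶ E) [Mono ι₁] [Mono ι₂] (h₁ : ι₁ ≠ 0) (h₂ : ι₂ ≠ 0) :
    pullback.fst ι₁ ι₂ ≫ ι₁ ≠ 0 := by
  intro hP
  have : Φ.PreservesZeroMorphisms := inferInstance
  have hne : ∀ {X : C} (f : X ⟶ E), f ≠ 0 → LinearMap.range (Φ.map f).hom ≠ ⊥ := by
    intro X f hf hr
    apply hf
    apply Φ.map_injective
    rw [Φ.map_zero]
    ext x
    have : (Φ.map f).hom x ∈ LinearMap.range (Φ.map f).hom := ⟨x, rfl⟩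
    rw [hr] at this
    simpa using this
  have hU := inf_ne_bot (R := R) (M := Φ.obj E) ?_ ?_ _ _ (hne ι₁ h₁) (hne ι₂ h₂)
  · apply hU
    rw [Submodule.eq_bot_iff]
    rintro x ⟨⟨a, ha⟩, ⟨b, hb⟩⟩
    have hpb := IsPullback.map Φ (IsPullback.of_hasPullback ι₁ ι₂)
    let fa : ModuleCat.of R R ⟶ Φ.obj I₁ := ModuleCat.ofHom (LinearMap.toSpanSingleton R _ a)
    let fb : ModuleCat.of R R ⟶ Φ.obj I₂ := ModuleCat.ofHom (LinearMap.toSpanSingleton R _ b)
    have hab : fa ≫ Φ.map ι₁ = fb ≫ Φ.map ι₂ := by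
      ext
      simp [fa, fb, ha, hb]
    have hl := hpb.lift_fst fa fb hab
    have : a = (Φ.map (pullback.fst ι₁ ι₂)).hom ((hpb.lift fa fb hab).hom (1 : R)) := by
      have h3 : ((hpb.lift fa fb hab) ≫ Φ.map (pullback.fst ι₁ ι₂)).hom (1 : R) = fa.hom (1 : R) := by
        rw [hl]
      have h4 : fa.hom (1 : R) = a := by simp [fa]
      rw [← h4, ← h3]
      rfl
    rw [← ha, this]
    have h0 : Φ.map (pullback.fst ι₁ ι₂) ≫ Φ.map ι₁ = 0 := by
      rw [← Φ.map_comp, hP, Φ.map_zero]
    have := congrArg (fun t => t.hom ((hpb.lift fa fb hab).hom (1 : R))) h0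
    simpa using this
  · intro X _ _ f hf g
    let f' : ModuleCat.of R X ⟶ Φ.obj E := ModuleCat.ofHom f
    let g' : ModuleCat.of R X ⟶ Φ.obj E := ModuleCat.ofHom g
    have : Mono f' := (ModuleCat.mono_iff_injective _).2 hf
    refine ⟨(Injective.factorThru g' f').hom, fun x => ?_⟩
    have h5 := Injective.comp_factorThru g' f'
    have h6 : (f' ≫ Injective.factorThru g' f').hom x = g'.hom x := by rw [h5]
    exact h6
  · intro φ hφ
    obtain ⟨e, he⟩ := Φ.map_surjective (ModuleCat.ofHom φ)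
    have hee : e ≫ e = e := by
      apply Φ.map_injective
      rw [Φ.map_comp, he]
      ext m
      simpa using hφ m
    rcases hidem e hee with h | h
    · left
      have : ModuleCat.ofHom φ = 0 := by rw [← he, h, Φ.map_zero]
      have := congrArg ModuleCat.Hom.hom this
      simpa using this
    · right
      have : ModuleCat.ofHom φ = 𝟙 _ := by rw [← he, h, Φ.map_id]
      have := congrArg ModuleCat.Hom.hom this
      simpa using this

end Groth.Agent.H34.Unif
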